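import Mathlib
import Cfsg.Agent.S0002

/-!
Basic lemmas about conjugates of subgroups, complements of normal subgroups, and their transfer to
quotients and subgroups (helper13). Used for Schur–Zassenhaus conjugacy, Hall's theorems and coprime action.
-/

set_option autoImplicit false

namespace Cfsg.Agent.Lib.Helper13

open scoped Pointwise

universe u

variable {G : Type*} [Group G]

theorem mem_cj {g x : G} {H : Subgroup G} : x ∈ MulAut.conj g • H ↔ g⁻¹ * x * g ∈ H := by
  rw [Subgroup.mem_pointwise_smul_iff_inv_smul_mem]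
  simp only [MulAut.smul_def, MulAut.conj_inv_apply]

theorem cj_mul (a b : G) (H : Subgroup G) :
    MulAut.conj (a * b) • H = MulAut.conj a • (MulAut.conj b • H) := by
  rw [map_mul, mul_smul]

theorem cj_one (H : Subgroup G) : MulAut.conj (1 : G) • H = H := by
  rw [map_one, one_smul]

theorem card_cj (g : G) (H : Subgroup G) : Nat.card ↥(MulAut.conj g • H) = Nat.card H := by
  rw [Subgroup.pointwise_smul_def]
  exact Subgroup.card_map_of_injective (MulAut.conj g).injective

theorem cj_normal (g : G) (N : Subgroup G) [N.Normal] : MulAut.conj g • N = N :=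
  Subgroup.Normal.conj_smul_eq_self g N

/-- image of a conjugate under a homomorphism -/
theorem map_cj {G' : Type*} [Group G'] (f : G →* G') (g : G) (H : Subgroup G) :
    (MulAut.conj g • H).map f = MulAut.conj (f g) • H.map f := by
  ext y
  constructor
  · rintro ⟨x, hx, rfl⟩
    rw [SetLike.mem_coe, mem_cj] at hx
    rw [mem_cj]
    exact ⟨g⁻¹ * x * g, hx, by simp⟩
  · intro hy
    rw [mem_cj] at hy
    obtain ⟨x, hx, hxy⟩ := hy
    refine ⟨g * x * g⁻¹, ?_, ?_⟩
    · rw [SetLike.mem_coe, mem_cj]
      have : g⁻¹ * (g * x * g⁻¹) * g = x := by group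
      rw [this]; exact hx
    · rw [map_mul, map_mul, hxy, map_inv]; group

/-- A normal subgroup `N` and a subgroup `H` with trivial intersection and join `⊤` are complements. -/
theorem isComplement'_of_normal {N H : Subgroup G} [N.Normal] (h1 : N ⊓ H = ⊥) (h2 : N ⊔ H = ⊤) :
    N.IsComplement' H := by
  apply Subgroup.isComplement'_of_disjoint_and_mul_eq_univ (disjoint_iff.mpr h1)
  rw [← Subgroup.normal_mul, h2, Subgroup.coe_top]

theorem isComplement'_iff_of_normal {N H : Subgroup G} [N.Normal] :
    N.IsComplement' H ↔ N ⊓ H = ⊥ ∧ N ⊔ H = ⊤ :=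
  ⟨fun h => ⟨h.disjoint.eq_bot, h.sup_eq_top⟩, fun h => isComplement'_of_normal h.1 h.2⟩

/-- A conjugate of a complement of a normal subgroup is again a complement. -/
theorem isComplement'_cj {N H : Subgroup G} [N.Normal] (h : N.IsComplement' H) (g : G) :
    N.IsComplement' (MulAut.conj g • H) := by
  rw [isComplement'_iff_of_normal] at h ⊢
  constructor
  · have := congrArg (fun X => MulAut.conj g • X) h.1
    simp only [Subgroup.smul_inf, Subgroup.smul_bot, cj_normal] at this
    exact this
  · have := congrArg (fun X => MulAut.conj g • X) h.2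
    simp only [Subgroup.smul_sup, cj_normal] at this
    rw [this]

/-- The conjugating element can be chosen in the normal subgroup. -/
theorem exists_mem_cj_of_exists {N H K : Subgroup G} [N.Normal] (hH : N.IsComplement' H)
    (h : ∃ g : G, MulAut.conj g • H = K) : ∃ n ∈ N, MulAut.conj n • H = K := by
  obtain ⟨g, hg⟩ := h
  have : g ∈ N ⊔ H := by rw [hH.sup_eq_top]; trivial
  obtain ⟨n, hn, h', hh', rfl⟩ := Subgroup.mem_sup_of_normal_left.mp this
  refine ⟨n, hn, ?_⟩
  rw [cj_mul, Subgroup.conj_smul_eq_self_of_mem hh'] at hg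
  exact hg

/-- Complements pass to quotients by a normal subgroup contained in `N`. -/
theorem isComplement'_map_of_le_left {N H M : Subgroup G} [N.Normal] [M.Normal] (hMN : M ≤ N)
    (h : N.IsComplement' H) :
    haveI : (N.map (QuotientGroup.mk' M)).Normal :=
      Subgroup.Normal.map inferInstance _ (QuotientGroup.mk'_surjective M)
    (N.map (QuotientGroup.mk' M)).IsComplement' (H.map (QuotientGroup.mk' M)) := by
  have : (N.map (QuotientGroup.mk' M)).Normal :=
    Subgroup.Normal.map inferInstance _ (QuotientGroup.mk'_surjective M)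
  rw [isComplement'_iff_of_normal] at h
  apply isComplement'_of_normal
  · rw [eq_bot_iff]
    rintro x ⟨⟨n, hn, rfl⟩, ⟨k, hk, hnk⟩⟩
    rw [Subgroup.mem_bot]
    have h1 : n⁻¹ * k ∈ M := by
      have : (QuotientGroup.mk' M) k = (QuotientGroup.mk' M) n := hnk
      rw [eq_comm] at this
      exact QuotientGroup.eq.mp this
    have hkN : k ∈ N := by
      have : k = n * (n⁻¹ * k) := by group
      rw [this]; exact N.mul_mem hn (hMN h1)
    have : k ∈ N ⊓ H := ⟨hkN, hk⟩
    rw [h.1, Subgroup.mem_bot] at this
    rw [← hnk, this, map_one]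
  · rw [← Subgroup.map_sup, h.2, Subgroup.map_top_of_surjective _ (QuotientGroup.mk'_surjective M)]

/-- Complements pass to quotients by a normal subgroup contained in `H`. -/
theorem isComplement'_map_of_le_right {N H M : Subgroup G} [N.Normal] [M.Normal] (hMH : M ≤ H)
    (h : N.IsComplement' H) :
    haveI : (N.map (QuotientGroup.mk' M)).Normal :=
      Subgroup.Normal.map inferInstance _ (QuotientGroup.mk'_surjective M)
    (N.map (QuotientGroup.mk' M)).IsComplement' (H.map (QuotientGroup.mk' M)) := by
  have : (N.map (QuotientGroup.mk' M)).Normal :=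
    Subgroup.Normal.map inferInstance _ (QuotientGroup.mk'_surjective M)
  rw [isComplement'_iff_of_normal] at h
  apply isComplement'_of_normal
  · rw [eq_bot_iff]
    rintro x ⟨⟨n, hn, rfl⟩, ⟨k, hk, hnk⟩⟩
    rw [Subgroup.mem_bot]
    have h1 : n⁻¹ * k ∈ M := by
      have : (QuotientGroup.mk' M) k = (QuotientGroup.mk' M) n := hnk
      rw [eq_comm] at this
      exact QuotientGroup.eq.mp this
    have hnH : n ∈ H := by
      have : n = k * (n⁻¹ * k)⁻¹ := by group
      rw [this]; exact H.mul_mem hk (H.inv_mem (hMH h1))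
    have : n ∈ N ⊓ H := ⟨hn, hnH⟩
    rw [h.1, Subgroup.mem_bot] at this
    rw [this, map_one]
  · rw [← Subgroup.map_sup, h.2, Subgroup.map_top_of_surjective _ (QuotientGroup.mk'_surjective M)]

/-- Complements relative to a subgroup `L`: transfer to the group `↥L`. -/
theorem isComplement'_subgroupOf {M H L : Subgroup G} [M.Normal] (hML : M ≤ L) (hHL : H ≤ L)
    (h1 : M ⊓ H = ⊥) (h2 : M ⊔ H = L) :
    (M.subgroupOf L).IsComplement' (H.subgroupOf L) := by
  apply isComplement'_of_normal
  · rw [eq_bot_iff]
    rintro ⟨x, hxL⟩ ⟨hxM, hxH⟩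
    have : x ∈ M ⊓ H := ⟨hxM, hxH⟩
    rw [h1, Subgroup.mem_bot] at this
    rw [Subgroup.mem_bot]
    exact Subtype.ext this
  · rw [← Subgroup.subgroupOf_sup hML hHL, h2, Subgroup.subgroupOf_self]

end Cfsg.Agent.Lib.Helper13
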