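import Mathlib
import Cfsg.Agent.Lib.Helper13.SZBasic

/-!
Schur–Zassenhaus conjugacy when the normal Hall subgroup is solvable (helper13).
-/

set_option autoImplicit false

namespace Cfsg.Agent.Lib.Helper13

open scoped Pointwise

universe u

/-- Solvability passes to a smaller subgroup. -/
theorem isSolvable_of_le {G : Type*} [Group G] {M N : Subgroup G} (h : M ≤ N) (hN : Group.IsSolvable N) :
    Group.IsSolvable M :=
  Group.isSolvable_of_isSolvable_injective (Subgroup.inclusion_injective h)

theorem isSolvable_subgroupOf {G : Type*} [Group G] {M : Subgroup G} (L : Subgroup G)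
    (hM : Group.IsSolvable M) : Group.IsSolvable (M.subgroupOf L) := by
  let f : M.subgroupOf L →* M :=
    { toFun := fun x => ⟨(x : L), x.2⟩
      map_one' := rfl
      map_mul' := fun _ _ => rfl }
  have hf : Function.Injective f := by
    intro a b hab
    apply Subtype.ext
    apply Subtype.ext
    exact congrArg (fun z : M => (z : G)) hab
  exact Group.isSolvable_of_isSolvable_injective hf

theorem card_subgroupOf_of_le {G : Type*} [Group G] {M L : Subgroup G} (h : M ≤ L) :
    Nat.card (M.subgroupOf L) = Nat.card M :=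
  Nat.card_congr (Subgroup.subgroupOfEquivOfLe h).toEquiv

theorem card_lt_of_lt {G : Type*} [Group G] [Finite G] {M N : Subgroup G} (h : M < N) :
    Nat.card M < Nat.card N :=
  Set.ncard_lt_ncard (s := (M : Set G)) (t := (N : Set G)) (by exact_mod_cast h) (Set.toFinite _)

theorem commutator_lt_of_isSolvable {G : Type*} [Group G] {N : Subgroup G} (hs : Group.IsSolvable N)
    (hN : N ≠ ⊥) : ⁅N, N⁆ < N := by
  have : Nontrivial N := (Subgroup.nontrivial_iff_ne_bot N).mpr hN
  have h := Group.IsSolvable.commutator_lt_top_of_nontrivial (G := N)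
  have e : ⁅N, N⁆ = (commutator N).map N.subtype := (Subgroup.map_subtype_commutator N).symm
  rw [e]
  calc (commutator N).map N.subtype < (⊤ : Subgroup N).map N.subtype :=
        (Subgroup.map_lt_map_iff_of_injective N.subtype_injective).mpr h
    _ = N := by rw [← MonoidHom.range_eq_map, Subgroup.range_subtype]

/-- Schur–Zassenhaus conjugacy, solvable normal subgroup: auxiliary induction on `|N|`. -/
theorem sz_conj_solvable_aux (n : ℕ) : ∀ (G : Type u) [Group G] [Finite G] (N H K : Subgroup G) [N.Normal],
    Nat.card N = n → Group.IsSolvable N → (Nat.card N).Coprime (Nat.card H) →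
    N.IsComplement' H → N.IsComplement' K → ∃ g : G, MulAut.conj g • H = K := by
  induction n using Nat.strong_induction_on with
  | _ n ih =>
  intro G _ _ N H K _ hn hsolv hcop hH hK
  have hidx : N.index = Nat.card H := hH.symm.index_eq_card
  by_cases hab : ⁅N, N⁆ = ⊥
  · -- abelian case
    have hcomm : IsMulCommutative N := by
      rw [Subgroup.commutator_eq_bot_iff_le_centralizer] at hab
      exact ⟨⟨fun a b => Subtype.ext ((Subgroup.mem_centralizer_iff.mp (hab a.2) b b.2).symm)⟩⟩
    obtain ⟨a, _, ha⟩ := Cfsg.Agent.S0002.result N (by rw [hidx]; exact hcop) H K hH hK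
    exact ⟨a, ha⟩
  · set M : Subgroup G := ⁅N, N⁆ with hM
    have hMn : M.Normal := inferInstance
    have hNbot : N ≠ ⊥ := by
      rintro h
      apply hab
      rw [hM, h]
      exact Subgroup.commutator_bot_left ⊥
    have hMN : M < N := commutator_lt_of_isSolvable hsolv hNbot
    -- the quotient by M
    let π : G →* G ⧸ M := QuotientGroup.mk' M
    have hπ : Function.Surjective π := QuotientGroup.mk'_surjective M
    have hNbar : (N.map π).Normal := Subgroup.Normal.map inferInstance _ hπ
    have hHbar : (N.map π).IsComplement' (H.map π) := isComplement'_map_of_le_left hMN.le hH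
    have hKbar : (N.map π).IsComplement' (K.map π) := isComplement'_map_of_le_left hMN.le hK
    have hcommbar : IsMulCommutative (N.map π) := by
      have : ⁅N.map π, N.map π⁆ = ⊥ := by
        rw [← Subgroup.map_commutator, ← hM, Subgroup.map_eq_bot_iff, QuotientGroup.ker_mk']
      rw [Subgroup.commutator_eq_bot_iff_le_centralizer] at this
      exact ⟨⟨fun a b => Subtype.ext ((Subgroup.mem_centralizer_iff.mp (this a.2) b b.2).symm)⟩⟩
    have hcopbar : (Nat.card (N.map π)).Coprime (N.map π).index := by
      rw [hHbar.symm.index_eq_card]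
      exact Nat.Coprime.of_dvd (Subgroup.card_map_dvd N π) (Subgroup.card_map_dvd H π) hcop
    obtain ⟨abar, _, habar⟩ :=
      Cfsg.Agent.S0002.result (N.map π) hcopbar (H.map π) (K.map π) hHbar hKbar
    obtain ⟨a, rfl⟩ := hπ abar
    set H' : Subgroup G := MulAut.conj a • H with hH'
    have hH'c : N.IsComplement' H' := isComplement'_cj hH a
    -- H' ⊔ M = K ⊔ M
    have hsup : H' ⊔ M = K ⊔ M := by
      have h1 : (H'.map π).comap π = (K.map π).comap π := by
        rw [hH', map_cj, habar]
      rw [Subgroup.comap_map_eq, Subgroup.comap_map_eq, QuotientGroup.ker_mk'] at h1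
      exact h1
    obtain ⟨L, hL⟩ : ∃ L : Subgroup G, L = K ⊔ M := ⟨_, rfl⟩
    have hML : M ≤ L := hL ▸ le_sup_right
    have hKL : K ≤ L := hL ▸ le_sup_left
    have hH'L : H' ≤ L := by rw [hL, ← hsup]; exact le_sup_left
    -- complements of M in L
    have hMH' : M ⊓ H' = ⊥ := by
      rw [eq_bot_iff]
      exact (inf_le_inf_right _ hMN.le).trans hH'c.disjoint.eq_bot.le
    have hMK : M ⊓ K = ⊥ := by
      rw [eq_bot_iff]
      exact (inf_le_inf_right _ hMN.le).trans hK.disjoint.eq_bot.le
    have c1 : (M.subgroupOf L).IsComplement' (H'.subgroupOf L) :=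
      isComplement'_subgroupOf hML hH'L hMH' (by rw [sup_comm, hsup, hL])
    have c2 : (M.subgroupOf L).IsComplement' (K.subgroupOf L) :=
      isComplement'_subgroupOf hML hKL hMK (by rw [sup_comm, hL])
    have hcardM : Nat.card (M.subgroupOf L) = Nat.card M := card_subgroupOf_of_le hML
    have hMlt : Nat.card (M.subgroupOf L) < n := by
      rw [hcardM, ← hn]
      exact card_lt_of_lt hMN
    have hsolvM : Group.IsSolvable (M.subgroupOf L) :=
      isSolvable_subgroupOf L (isSolvable_of_le hMN.le hsolv)
    have hcopM : (Nat.card (M.subgroupOf L)).Coprime (Nat.card (H'.subgroupOf L)) := by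
      rw [hcardM, card_subgroupOf_of_le hH'L, hH', card_cj]
      exact Nat.Coprime.of_dvd_left (Subgroup.card_dvd_of_le hMN.le) hcop
    obtain ⟨l, hl⟩ := ih _ hMlt (↥L) (M.subgroupOf L) (H'.subgroupOf L) (K.subgroupOf L) rfl hsolvM hcopM c1 c2
    rw [Subgroup.conj_smul_subgroupOf hH'L, Subgroup.subgroupOf_inj] at hl
    have hl1 : MulAut.conj (l : G) • H' ≤ L := Subgroup.conj_smul_le_of_le hH'L l
    rw [inf_eq_left.mpr hl1, inf_eq_left.mpr hKL] at hl
    refine ⟨(l : G) * a, ?_⟩
    rw [cj_mul]
    exact hl

/-- **Schur–Zassenhaus conjugacy**, solvable normal Hall subgroup. -/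
theorem sz_conj_of_solvable_left {G : Type u} [Group G] [Finite G] (N H K : Subgroup G) [N.Normal]
    (hsolv : Group.IsSolvable N) (hcop : (Nat.card N).Coprime (Nat.card H))
    (hH : N.IsComplement' H) (hK : N.IsComplement' K) : ∃ g : G, MulAut.conj g • H = K :=
  sz_conj_solvable_aux _ G N H K rfl hsolv hcop hH hK

end Cfsg.Agent.Lib.Helper13
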