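import Mathlib
import Cfsg.Agent.Lib.Helper13.SZConjA
import Cfsg.Agent.Lib.Helper10.SolvableNormal

/-!
Schur–Zassenhaus conjugacy when the complement (equivalently the quotient) is solvable (helper13).
-/

set_option autoImplicit false

namespace Cfsg.Agent.Lib.Helper13

open scoped Pointwise

universe u

theorem cj_eq_self_iff_mem_normalizer {G : Type*} [Group G] {g : G} {P : Subgroup G} :
    MulAut.conj g • P = P ↔ g ∈ Subgroup.normalizer (P : Set G) := by
  rw [← Subgroup.inv_mem_iff, Subgroup.mem_normalizer_iff]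
  constructor
  · intro h x
    rw [inv_inv]
    conv_lhs => rw [← h]
    rw [mem_cj]
  · intro h
    ext x
    rw [mem_cj]
    have := h x
    rw [inv_inv] at this
    exact this.symm

theorem cj_le_cj {G : Type*} [Group G] {g : G} {P Q : Subgroup G} (h : P ≤ Q) :
    MulAut.conj g • P ≤ MulAut.conj g • Q :=
  Subgroup.pointwise_smul_le_pointwise_smul_iff.mpr h

/-- the normalizer of a conjugate -/
theorem cj_le_normalizer_cj {G : Type*} [Group G] {g : G} {P H : Subgroup G}
    (h : H ≤ Subgroup.normalizer (P : Set G)) :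
    MulAut.conj g • H ≤ Subgroup.normalizer ((MulAut.conj g • P : Subgroup G) : Set G) := by
  intro x hx
  rw [mem_cj] at hx
  have h1 := h hx
  rw [← cj_eq_self_iff_mem_normalizer] at h1 ⊢
  have : x = g * (g⁻¹ * x * g) * g⁻¹ := by group
  rw [this, cj_mul, cj_mul, ← cj_mul g⁻¹ g, inv_mul_cancel, cj_one, h1]

/-- Complements of a normal subgroup restrict to a subgroup containing the complement. -/
theorem isComplement'_subgroupOf' {G : Type*} [Group G] {N H L : Subgroup G} [N.Normal] (hHL : H ≤ L)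
    (hc : N.IsComplement' H) : (N.subgroupOf L).IsComplement' (H.subgroupOf L) := by
  rw [isComplement'_iff_of_normal] at hc
  apply isComplement'_of_normal
  · rw [eq_bot_iff]
    rintro ⟨x, hxL⟩ ⟨hxM, hxH⟩
    have : x ∈ N ⊓ H := ⟨hxM, hxH⟩
    rw [hc.1, Subgroup.mem_bot] at this
    rw [Subgroup.mem_bot]
    exact Subtype.ext this
  · rw [eq_top_iff]
    rintro ⟨x, hxL⟩ _
    have hx : x ∈ N ⊔ H := by rw [hc.2]; trivial
    obtain ⟨n, hn, h, hh, rfl⟩ := Subgroup.mem_sup_of_normal_left.mp hx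
    have hnL : n ∈ L := by
      have : n = (n * h) * h⁻¹ := by group
      rw [this]; exact L.mul_mem hxL (L.inv_mem (hHL hh))
    have : (⟨n * h, hxL⟩ : L) = ⟨n, hnL⟩ * ⟨h, hHL hh⟩ := rfl
    rw [this]
    exact Subgroup.mul_mem_sup (Subgroup.mem_subgroupOf.mpr hn) (Subgroup.mem_subgroupOf.mpr hh)

theorem card_subgroupOf_dvd {G : Type*} [Group G] (N L : Subgroup G) :
    Nat.card (N.subgroupOf L) ∣ Nat.card N := by
  let f : N.subgroupOf L →* N :=
    { toFun := fun x => ⟨(x : L), x.2⟩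
      map_one' := rfl
      map_mul' := fun _ _ => rfl }
  have hf : Function.Injective f := by
    intro a b hab
    apply Subtype.ext
    apply Subtype.ext
    exact congrArg (fun z : N => (z : G)) hab
  exact Subgroup.card_dvd_of_injective f hf

theorem isSolvable_map {G G' : Type*} [Group G] [Group G'] (f : G →* G') {H : Subgroup G}
    (hH : Group.IsSolvable H) : Group.IsSolvable (H.map f) :=
  Group.isSolvable_of_surjective (f.subgroupMap_surjective H)

theorem isSolvable_cj {G : Type*} [Group G] (g : G) {H : Subgroup G}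
    (hH : Group.IsSolvable H) : Group.IsSolvable ↥(MulAut.conj g • H) := by
  rw [Subgroup.pointwise_smul_def]
  exact isSolvable_map _ hH

/-- Sylow conjugacy inside a subgroup `L`. -/
theorem sylow_conj_in_subgroup {G : Type*} [Group G] [Finite G] {p : ℕ} [Fact p.Prime]
    (L P Q : Subgroup G) (hPL : P ≤ L) (hQL : Q ≤ L) (hP : IsPGroup p P) (hQ : IsPGroup p Q)
    (hPi : ¬ p ∣ (P.subgroupOf L).index) (hQi : ¬ p ∣ (Q.subgroupOf L).index) :
    ∃ l ∈ L, MulAut.conj l • P = Q := by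
  have hP' : IsPGroup p (P.subgroupOf L) := hP.comap_subtype
  have hQ' : IsPGroup p (Q.subgroupOf L) := hQ.comap_subtype
  obtain ⟨l, hl⟩ := MulAction.exists_smul_eq L (hP'.toSylow hPi) (hQ'.toSylow hQi)
  refine ⟨l, l.2, ?_⟩
  have h1 := congrArg (fun S : Sylow p L => (S : Subgroup L)) hl
  simp only [Sylow.coe_subgroup_smul, IsPGroup.toSylow_coe] at h1
  rw [Subgroup.conj_smul_subgroupOf hPL, Subgroup.subgroupOf_inj] at h1
  have hl1 : MulAut.conj (l : G) • P ≤ L := Subgroup.conj_smul_le_of_le hPL l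
  rw [inf_eq_left.mpr hl1, inf_eq_left.mpr hQL] at h1
  exact h1

/-- Schur–Zassenhaus conjugacy, solvable complement: auxiliary induction on `|G|`. -/
theorem sz_conj_solvable_right_aux (n : ℕ) :
    ∀ (G : Type u) [Group G] [Finite G] (N H K : Subgroup G) [N.Normal],
    Nat.card G = n → Group.IsSolvable H → (Nat.card N).Coprime (Nat.card H) →
    N.IsComplement' H → N.IsComplement' K → ∃ g : G, MulAut.conj g • H = K := by
  induction n using Nat.strong_induction_on with
  | _ n ih =>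
  intro G _ _ N H K _ hn hsolv hcop hH hK
  have hH' := isComplement'_iff_of_normal.mp hH
  have hK' := isComplement'_iff_of_normal.mp hK
  by_cases hHbot : H = ⊥
  · -- trivial case
    refine ⟨1, ?_⟩
    rw [cj_one, hHbot]
    have hNtop : N = ⊤ := by rw [← hH'.2, hHbot, sup_bot_eq]
    have := hK'.1
    rw [hNtop, top_inf_eq] at this
    exact this.symm
  -- a nontrivial normal p-subgroup of H
  have htopne : (⊤ : Subgroup H) ≠ ⊥ := by
    intro h
    apply hHbot
    rw [eq_bot_iff]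
    intro x hx
    have : (⟨x, hx⟩ : H) ∈ (⊤ : Subgroup H) := trivial
    rw [h, Subgroup.mem_bot] at this
    rw [Subgroup.mem_bot]
    exact congrArg Subtype.val this
  obtain ⟨V, p, hVn, hVne, hp, hVp⟩ :=
    Cfsg.Agent.Lib.Helper10.exists_normal_prime_exponent (⊤ : Subgroup H) htopne inferInstance
  have : Fact p.Prime := ⟨hp⟩
  obtain ⟨P, hPdef⟩ : ∃ P : Subgroup G, P = V.map H.subtype := ⟨_, rfl⟩
  have hPH : P ≤ H := hPdef ▸ Subgroup.map_subtype_le V
  have hPne : P ≠ ⊥ := by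
    rw [hPdef]
    intro h
    exact hVne ((Subgroup.map_eq_bot_iff_of_injective _ H.subtype_injective).mp h)
  have hVpg : IsPGroup p V := fun x => ⟨1, by simpa using hVp x⟩
  have hPpg : IsPGroup p P := hPdef ▸ hVpg.map _
  have hHnormP : H ≤ Subgroup.normalizer (P : Set G) := by
    intro h hh
    rw [Subgroup.mem_normalizer_iff]
    intro x
    rw [hPdef]
    constructor
    · rintro ⟨v, hv, rfl⟩
      refine ⟨⟨h, hh⟩ * v * ⟨h, hh⟩⁻¹, hVn.conj_mem v hv ⟨h, hh⟩, rfl⟩
    · rintro ⟨v, hv, hvx⟩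
      refine ⟨⟨h, hh⟩⁻¹ * v * ⟨h, hh⟩, ?_, ?_⟩
      · have := hVn.conj_mem v hv (⟨h, hh⟩⁻¹)
        simpa using this
      · have : (H.subtype v : G) = h * x * h⁻¹ := hvx
        show h⁻¹ * (H.subtype v : G) * h = x
        rw [this]; group
  -- p does not divide |N|
  have hpH : p ∣ Nat.card H := by
    have h1 : p ∣ Nat.card P := by
      rcases hPpg.card_eq_or_dvd with h | h
      · exact absurd (Subgroup.card_eq_one.mp h) hPne
      · exact h
    exact h1.trans (Subgroup.card_dvd_of_le hPH)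
  have hpN : ¬ p ∣ Nat.card N := by
    intro h
    have := Nat.eq_one_of_dvd_coprimes hcop h hpH
    exact hp.one_lt.ne' this
  -- M₂ = N ⊔ P is normal
  obtain ⟨M₂, hM₂⟩ : ∃ M₂ : Subgroup G, M₂ = N ⊔ P := ⟨_, rfl⟩
  have hNM₂ : N ≤ M₂ := hM₂ ▸ le_sup_left
  have hPM₂ : P ≤ M₂ := hM₂ ▸ le_sup_right
  have hM₂n : M₂.Normal := by
    rw [← Subgroup.normalizer_eq_top_iff, eq_top_iff, ← hH'.2]
    apply sup_le
    · exact hNM₂.trans Subgroup.le_normalizer
    · refine hHnormP.trans ?_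
      have h1 := Subgroup.normalizer_le_normalizer_sup_normal (H := P) (K := N)
      rw [sup_comm, ← hM₂] at h1
      exact h1
  -- P₂ = K ⊓ M₂
  obtain ⟨P₂, hP₂⟩ : ∃ P₂ : Subgroup G, P₂ = K ⊓ M₂ := ⟨_, rfl⟩
  have hP₂K : P₂ ≤ K := hP₂ ▸ inf_le_left
  have hP₂M₂ : P₂ ≤ M₂ := hP₂ ▸ inf_le_right
  have hNP : N ⊓ P = ⊥ := by
    rw [eq_bot_iff]; exact (inf_le_inf_left _ hPH).trans hH'.1.le
  have hNP₂ : N ⊓ P₂ = ⊥ := by
    rw [eq_bot_iff]; exact (inf_le_inf_left _ hP₂K).trans hK'.1.le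
  have hNP₂sup : N ⊔ P₂ = M₂ := by
    apply le_antisymm (sup_le hNM₂ hP₂M₂)
    intro x hx
    have hx' : x ∈ N ⊔ K := by rw [hK'.2]; trivial
    obtain ⟨n, hn, k, hk, rfl⟩ := Subgroup.mem_sup_of_normal_left.mp hx'
    have hkM₂ : k ∈ M₂ := by
      have : k = n⁻¹ * (n * k) := by group
      rw [this]; exact M₂.mul_mem (M₂.inv_mem (hNM₂ hn)) hx
    exact Subgroup.mul_mem_sup hn (hP₂ ▸ ⟨hk, hkM₂⟩)
  have c1 : (N.subgroupOf M₂).IsComplement' (P.subgroupOf M₂) :=
    isComplement'_subgroupOf hNM₂ hPM₂ hNP hM₂.symm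
  have c2 : (N.subgroupOf M₂).IsComplement' (P₂.subgroupOf M₂) :=
    isComplement'_subgroupOf hNM₂ hP₂M₂ hNP₂ hNP₂sup
  have hcardP₂ : Nat.card P₂ = Nat.card P := by
    have h1 := c1.card_mul_card
    have h2 := c2.card_mul_card
    rw [card_subgroupOf_of_le hNM₂, card_subgroupOf_of_le hPM₂] at h1
    rw [card_subgroupOf_of_le hNM₂, card_subgroupOf_of_le hP₂M₂] at h2
    have hpos : 0 < Nat.card N := Nat.card_pos
    exact Nat.eq_of_mul_eq_mul_left hpos (h2.trans h1.symm)
  have hP₂pg : IsPGroup p P₂ := by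
    obtain ⟨k, hk⟩ := IsPGroup.iff_card.mp hPpg
    exact IsPGroup.of_card (hcardP₂.trans hk)
  have hPi : ¬ p ∣ (P.subgroupOf M₂).index := by
    rw [c1.index_eq_card, card_subgroupOf_of_le hNM₂]; exact hpN
  have hP₂i : ¬ p ∣ (P₂.subgroupOf M₂).index := by
    rw [c2.index_eq_card, card_subgroupOf_of_le hNM₂]; exact hpN
  obtain ⟨m, _, hmP⟩ := sylow_conj_in_subgroup M₂ P P₂ hPM₂ hP₂M₂ hPpg hP₂pg hPi hP₂i
  -- replace H by H₂
  obtain ⟨H₂, hH₂⟩ : ∃ H₂ : Subgroup G, H₂ = MulAut.conj m • H := ⟨_, rfl⟩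
  have hH₂c : N.IsComplement' H₂ := hH₂ ▸ isComplement'_cj hH m
  have hH₂solv : Group.IsSolvable H₂ := hH₂ ▸ isSolvable_cj m hsolv
  have hcardH₂ : Nat.card H₂ = Nat.card H := by rw [hH₂, card_cj]
  have hP₂H₂ : P₂ ≤ H₂ := by rw [← hmP, hH₂]; exact cj_le_cj hPH
  have hH₂normP₂ : H₂ ≤ Subgroup.normalizer (P₂ : Set G) := by
    rw [← hmP, hH₂]; exact cj_le_normalizer_cj hHnormP
  have hKnormP₂ : K ≤ Subgroup.normalizer (P₂ : Set G) := by
    intro k hk
    rw [← cj_eq_self_iff_mem_normalizer, hP₂, Subgroup.smul_inf, cj_normal k M₂,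
      Subgroup.conj_smul_eq_self_of_mem hk]
  -- it suffices to conjugate H₂ to K
  suffices h : ∃ g : G, MulAut.conj g • H₂ = K by
    obtain ⟨g, hg⟩ := h
    refine ⟨g * m, ?_⟩
    rw [cj_mul, ← hH₂]; exact hg
  have hP₂ne : P₂ ≠ ⊥ := by
    intro h
    have : Nat.card P = 1 := by rw [← hcardP₂, h]; exact Subgroup.card_bot
    exact hPne (Subgroup.card_eq_one.mp this)
  by_cases hL₂ : Subgroup.normalizer (P₂ : Set G) = ⊤
  · -- P₂ is normal: pass to the quotient
    have hP₂n : P₂.Normal := Subgroup.normalizer_eq_top_iff.mp hL₂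
    let π : G →* G ⧸ P₂ := QuotientGroup.mk' P₂
    have hπ : Function.Surjective π := QuotientGroup.mk'_surjective P₂
    have hNbar : (N.map π).Normal := Subgroup.Normal.map inferInstance _ hπ
    have hHbar : (N.map π).IsComplement' (H₂.map π) := isComplement'_map_of_le_right hP₂H₂ hH₂c
    have hKbar : (N.map π).IsComplement' (K.map π) := isComplement'_map_of_le_right hP₂K hK
    have hcardQ : Nat.card (G ⧸ P₂) < n := by
      have h1 := P₂.card_mul_index
      rw [Subgroup.index] at h1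
      have h2 : 1 < Nat.card P₂ := by
        rw [Subgroup.one_lt_card_iff_ne_bot]; exact hP₂ne
      have h3 : 0 < Nat.card (G ⧸ P₂) := Nat.card_pos
      rw [← hn, ← h1]
      nlinarith
    have hcopbar : (Nat.card (N.map π)).Coprime (Nat.card (H₂.map π)) :=
      Nat.Coprime.of_dvd (Subgroup.card_map_dvd N π) (Subgroup.card_map_dvd H₂ π) (hcardH₂ ▸ hcop)
    obtain ⟨gbar, hgbar⟩ := ih _ hcardQ (G ⧸ P₂) (N.map π) (H₂.map π) (K.map π) rfl
      (isSolvable_map π hH₂solv) hcopbar hHbar hKbar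
    obtain ⟨g, rfl⟩ := hπ gbar
    refine ⟨g, ?_⟩
    have h1 : ((MulAut.conj g • H₂).map π).comap π = (K.map π).comap π := by
      rw [map_cj, hgbar]
    rw [Subgroup.comap_map_eq, Subgroup.comap_map_eq, QuotientGroup.ker_mk'] at h1
    have h2 : P₂ ≤ MulAut.conj g • H₂ := by
      have := cj_le_cj (g := g) hP₂H₂
      rwa [cj_normal] at this
    rw [sup_eq_left.mpr h2, sup_eq_left.mpr hP₂K] at h1
    exact h1
  · -- proper normalizer: induct inside it
    obtain ⟨L₂, hL₂def⟩ : ∃ L₂ : Subgroup G, L₂ = Subgroup.normalizer (P₂ : Set G) := ⟨_, rfl⟩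
    have hH₂L₂ : H₂ ≤ L₂ := hL₂def ▸ hH₂normP₂
    have hKL₂ : K ≤ L₂ := hL₂def ▸ hKnormP₂
    have hL₂lt : L₂ < ⊤ := lt_top_iff_ne_top.mpr (hL₂def ▸ hL₂)
    have hcardL₂ : Nat.card L₂ < n := by
      rw [← hn, ← Subgroup.card_top (G := G)]
      exact card_lt_of_lt hL₂lt
    have c3 : (N.subgroupOf L₂).IsComplement' (H₂.subgroupOf L₂) := isComplement'_subgroupOf' hH₂L₂ hH₂c
    have c4 : (N.subgroupOf L₂).IsComplement' (K.subgroupOf L₂) := isComplement'_subgroupOf' hKL₂ hK
    have hcop' : (Nat.card (N.subgroupOf L₂)).Coprime (Nat.card (H₂.subgroupOf L₂)) := by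
      rw [card_subgroupOf_of_le hH₂L₂, hcardH₂]
      exact Nat.Coprime.of_dvd_left (card_subgroupOf_dvd N L₂) hcop
    obtain ⟨l, hl⟩ := ih _ hcardL₂ (↥L₂) (N.subgroupOf L₂) (H₂.subgroupOf L₂) (K.subgroupOf L₂) rfl
      (isSolvable_subgroupOf L₂ hH₂solv) hcop' c3 c4
    rw [Subgroup.conj_smul_subgroupOf hH₂L₂, Subgroup.subgroupOf_inj] at hl
    have hl1 : MulAut.conj (l : G) • H₂ ≤ L₂ := Subgroup.conj_smul_le_of_le hH₂L₂ l
    rw [inf_eq_left.mpr hl1, inf_eq_left.mpr hKL₂] at hl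
    exact ⟨l, hl⟩

/-- **Schur–Zassenhaus conjugacy**, solvable complement. -/
theorem sz_conj_of_solvable_right {G : Type u} [Group G] [Finite G] (N H K : Subgroup G) [N.Normal]
    (hsolv : Group.IsSolvable H) (hcop : (Nat.card N).Coprime (Nat.card H))
    (hH : N.IsComplement' H) (hK : N.IsComplement' K) : ∃ g : G, MulAut.conj g • H = K :=
  sz_conj_solvable_right_aux _ G N H K rfl hsolv hcop hH hK

/-- **Schur–Zassenhaus conjugacy**: complements of a normal Hall subgroup are conjugate (by an element of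
the normal subgroup), provided the normal subgroup or the complement is solvable. -/
theorem sz_conj {G : Type u} [Group G] [Finite G] (N H K : Subgroup G) [N.Normal]
    (hsolv : Group.IsSolvable N ∨ Group.IsSolvable H) (hcop : (Nat.card N).Coprime (Nat.card H))
    (hH : N.IsComplement' H) (hK : N.IsComplement' K) : ∃ n ∈ N, MulAut.conj n • H = K := by
  apply exists_mem_cj_of_exists hH
  rcases hsolv with h | h
  · exact sz_conj_of_solvable_left N H K h hcop hH hK
  · exact sz_conj_of_solvable_right N H K h hcop hH hK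

end Cfsg.Agent.Lib.Helper13
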