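import Mathlib
import Cfsg.Agent.Lib.Helper13.SZConjB

/-!
Relative Schur–Zassenhaus conjugacy and basic coprime action (helper13).
-/

set_option autoImplicit false

namespace Cfsg.Agent.Lib.Helper13

open scoped Pointwise
open scoped commutatorElement

universe u

/-- Relative complement transfer: `M` normalized by `L`. -/
theorem isComplement'_subgroupOf_of_le_normalizer {G : Type*} [Group G] {M H L : Subgroup G}
    (hML : M ≤ L) (hHL : H ≤ L) (hnorm : L ≤ Subgroup.normalizer (M : Set G))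
    (h1 : M ⊓ H = ⊥) (h2 : M ⊔ H = L) :
    (M.subgroupOf L).IsComplement' (H.subgroupOf L) := by
  have : (M.subgroupOf L).Normal := (Subgroup.normal_subgroupOf_iff_le_normalizer hML).mpr hnorm
  apply isComplement'_of_normal
  · rw [eq_bot_iff]
    rintro ⟨x, hxL⟩ ⟨hxM, hxH⟩
    have : x ∈ M ⊓ H := ⟨hxM, hxH⟩
    rw [h1, Subgroup.mem_bot] at this
    rw [Subgroup.mem_bot]
    exact Subtype.ext this
  · rw [← Subgroup.subgroupOf_sup hML hHL, h2, Subgroup.subgroupOf_self]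

/-- **Relative Schur–Zassenhaus conjugacy**: if `A` normalizes `N`, orders are coprime, `N` or `A` is solvable, and
`B ≤ N ⊔ A` has the same order as `A`, then `B` is conjugate to `A` by an element of `N`. -/
theorem rel_sz_conj {G : Type u} [Group G] [Finite G] (N A B : Subgroup G)
    (hAN : A ≤ Subgroup.normalizer (N : Set G)) (hB : B ≤ N ⊔ A) (hcard : Nat.card B = Nat.card A)
    (hcop : (Nat.card N).Coprime (Nat.card A)) (hsolv : Group.IsSolvable N ∨ Group.IsSolvable A) :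
    ∃ n ∈ N, MulAut.conj n • A = B := by
  obtain ⟨L, hL⟩ : ∃ L : Subgroup G, L = N ⊔ A := ⟨_, rfl⟩
  have hNL : N ≤ L := hL ▸ le_sup_left
  have hAL : A ≤ L := hL ▸ le_sup_right
  have hBL : B ≤ L := hL ▸ hB
  have hnorm : L ≤ Subgroup.normalizer (N : Set G) := hL ▸ sup_le Subgroup.le_normalizer hAN
  have hNn : (N.subgroupOf L).Normal := (Subgroup.normal_subgroupOf_iff_le_normalizer hNL).mpr hnorm
  have hNA : N ⊓ A = ⊥ := (Subgroup.disjoint_of_coprime_natCard hcop).eq_bot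
  have hNB : N ⊓ B = ⊥ := (Subgroup.disjoint_of_coprime_natCard (hcard ▸ hcop)).eq_bot
  have c1 : (N.subgroupOf L).IsComplement' (A.subgroupOf L) :=
    isComplement'_subgroupOf_of_le_normalizer hNL hAL hnorm hNA hL.symm
  have c2 : (N.subgroupOf L).IsComplement' (B.subgroupOf L) := by
    apply Subgroup.isComplement'_of_card_mul_and_disjoint
    · rw [← c1.card_mul_card, card_subgroupOf_of_le hAL, card_subgroupOf_of_le hBL, hcard]
    · rw [disjoint_iff, eq_bot_iff]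
      rintro ⟨x, hxL⟩ ⟨hxM, hxH⟩
      have : x ∈ N ⊓ B := ⟨hxM, hxH⟩
      rw [hNB, Subgroup.mem_bot] at this
      rw [Subgroup.mem_bot]
      exact Subtype.ext this
  have hsolv' : Group.IsSolvable (N.subgroupOf L) ∨ Group.IsSolvable (A.subgroupOf L) := by
    rcases hsolv with h | h
    · exact Or.inl (isSolvable_subgroupOf L h)
    · exact Or.inr (isSolvable_subgroupOf L h)
  have hcop' : (Nat.card (N.subgroupOf L)).Coprime (Nat.card (A.subgroupOf L)) := by
    rw [card_subgroupOf_of_le hNL, card_subgroupOf_of_le hAL]; exact hcop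
  obtain ⟨n, hn, hnA⟩ := sz_conj (N.subgroupOf L) (A.subgroupOf L) (B.subgroupOf L) hsolv' hcop' c1 c2
  refine ⟨n, Subgroup.mem_subgroupOf.mp hn, ?_⟩
  rw [Subgroup.conj_smul_subgroupOf hAL, Subgroup.subgroupOf_inj] at hnA
  have hl1 : MulAut.conj (n : G) • A ≤ L := Subgroup.conj_smul_le_of_le hAL n
  rw [inf_eq_left.mpr hl1, inf_eq_left.mpr hBL] at hnA
  exact hnA

/-- An element of `K` normalizing `A` centralizes `A`, when `A` normalizes `K` and `K ⊓ A = ⊥`. -/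
theorem mem_centralizer_of_mem_normalizer {G : Type*} [Group G] (A K : Subgroup G)
    (hAK : A ≤ Subgroup.normalizer (K : Set G)) (hKA : K ⊓ A = ⊥) (c : G) (hcK : c ∈ K)
    (hcA : c ∈ Subgroup.normalizer (A : Set G)) : c ∈ Subgroup.centralizer (A : Set G) := by
  rw [Subgroup.mem_centralizer_iff]
  intro a ha
  have h1 : c * a * c⁻¹ * a⁻¹ ∈ A :=
    A.mul_mem ((Subgroup.mem_normalizer_iff.mp hcA a).mp ha) (A.inv_mem ha)
  have h2 : c * a * c⁻¹ * a⁻¹ ∈ K := by
    have h3 : a * c⁻¹ * a⁻¹ ∈ K :=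
      (Subgroup.mem_normalizer_iff.mp (hAK ha) c⁻¹).mp (K.inv_mem hcK)
    have : c * a * c⁻¹ * a⁻¹ = c * (a * c⁻¹ * a⁻¹) := by group
    rw [this]; exact K.mul_mem hcK h3
  have : c * a * c⁻¹ * a⁻¹ ∈ K ⊓ A := ⟨h2, h1⟩
  rw [hKA, Subgroup.mem_bot] at this
  calc a * c = (c * a * c⁻¹ * a⁻¹)⁻¹ * (c * a) := by group
    _ = c * a := by rw [this]; group

/-- **Fixed points in invariant cosets** under coprime action. -/
theorem coprime_fixed_point_in_coset {G : Type u} [Group G] [Finite G] (A K : Subgroup G)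
    (hAK : A ≤ Subgroup.normalizer (K : Set G))
    (hcop : (Nat.card A).Coprime (Nat.card K)) (hsolv : Group.IsSolvable A ∨ Group.IsSolvable K)
    (N : Subgroup G) (hNK : N ≤ K) (hNnormal : K ≤ Subgroup.normalizer (N : Set G))
    (hNA : A ≤ Subgroup.normalizer (N : Set G))
    (k : G) (hk : k ∈ K) (hfix : ∀ a ∈ A, a * k * a⁻¹ * k⁻¹ ∈ N) :
    ∃ c ∈ K ⊓ Subgroup.centralizer (A : Set G), k⁻¹ * c ∈ N := by
  have hcopN : (Nat.card N).Coprime (Nat.card A) :=
    (Nat.Coprime.of_dvd_right (Subgroup.card_dvd_of_le hNK) hcop).symm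
  have hsolv' : Group.IsSolvable N ∨ Group.IsSolvable A := by
    rcases hsolv with h | h
    · exact Or.inr h
    · exact Or.inl (isSolvable_of_le hNK h)
  have hB : MulAut.conj k • A ≤ N ⊔ A := by
    intro x hx
    rw [mem_cj] at hx
    -- x = k a k⁻¹ with a = k⁻¹ x k
    set a := k⁻¹ * x * k with ha
    have h1 : (a * k * a⁻¹ * k⁻¹)⁻¹ ∈ N := N.inv_mem (hfix a hx)
    have : x = (a * k * a⁻¹ * k⁻¹)⁻¹ * a := by rw [ha]; group
    rw [this]
    exact Subgroup.mul_mem_sup h1 hx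
  obtain ⟨n, hn, hnA⟩ := rel_sz_conj N A (MulAut.conj k • A) hNA hB (card_cj k A) hcopN hsolv'
  -- c = n⁻¹ k normalizes A
  have hKA : K ⊓ A = ⊥ := (Subgroup.disjoint_of_coprime_natCard hcop.symm).eq_bot
  have hcnorm : n⁻¹ * k ∈ Subgroup.normalizer (A : Set G) := by
    rw [← cj_eq_self_iff_mem_normalizer, cj_mul, ← hnA, ← cj_mul, inv_mul_cancel, cj_one]
  have hcK : n⁻¹ * k ∈ K := K.mul_mem (K.inv_mem (hNK hn)) hk
  refine ⟨n⁻¹ * k, ⟨hcK, mem_centralizer_of_mem_normalizer A K hAK hKA _ hcK hcnorm⟩, ?_⟩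
  have h1 : k⁻¹ * n⁻¹ * k⁻¹⁻¹ ∈ N :=
    (Subgroup.mem_normalizer_iff.mp (hNnormal (K.inv_mem hk)) n⁻¹).mp (N.inv_mem hn)
  have : k⁻¹ * (n⁻¹ * k) = k⁻¹ * n⁻¹ * k⁻¹⁻¹ := by group
  rw [this]; exact h1

/-- `K` and `A` normalize `⁅K, A⁆`. -/
theorem le_normalizer_commutator {G : Type*} [Group G] (K A : Subgroup G) :
    K ⊔ A ≤ Subgroup.normalizer ((⁅K, A⁆ : Subgroup G) : Set G) := by
  have h : (⁅K, A⁆.subgroupOf (K ⊔ A)).Normal := inferInstance
  have hle : ⁅K, A⁆ ≤ K ⊔ A := by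
    rw [Subgroup.commutator_le]
    intro k hk a ha
    have hk' : k ∈ K ⊔ A := Subgroup.mem_sup_left hk
    have ha' : a ∈ K ⊔ A := Subgroup.mem_sup_right ha
    exact (K ⊔ A).mul_mem ((K ⊔ A).mul_mem ((K ⊔ A).mul_mem hk' ha') ((K ⊔ A).inv_mem hk'))
      ((K ⊔ A).inv_mem ha')
  exact (Subgroup.normal_subgroupOf_iff_le_normalizer hle).mp h

theorem commutator_le_of_le_normalizer {G : Type*} [Group G] (K A : Subgroup G)
    (hAK : A ≤ Subgroup.normalizer (K : Set G)) : ⁅K, A⁆ ≤ K := by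
  rw [Subgroup.commutator_le]
  intro k hk a ha
  have h3 : a * k⁻¹ * a⁻¹ ∈ K :=
    (Subgroup.mem_normalizer_iff.mp (hAK ha) k⁻¹).mp (K.inv_mem hk)
  have : ⁅k, a⁆ = k * (a * k⁻¹ * a⁻¹) := by rw [commutatorElement_def]; group
  rw [this]; exact K.mul_mem hk h3

/-- **Coprime action**: `K = [K, A] C_K(A)`. -/
theorem coprime_commutator_sup_centralizer {G : Type u} [Group G] [Finite G] (A K : Subgroup G)
    (hAK : A ≤ Subgroup.normalizer (K : Set G))
    (hcop : (Nat.card A).Coprime (Nat.card K)) (hsolv : Group.IsSolvable A ∨ Group.IsSolvable K) :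
    ⁅K, A⁆ ⊔ (K ⊓ Subgroup.centralizer (A : Set G)) = K := by
  have hNK : ⁅K, A⁆ ≤ K := commutator_le_of_le_normalizer K A hAK
  apply le_antisymm (sup_le hNK inf_le_left)
  intro k hk
  have hnorm := le_normalizer_commutator K A
  obtain ⟨c, hc, hkc⟩ := coprime_fixed_point_in_coset A K hAK hcop hsolv ⁅K, A⁆ hNK
    (le_sup_left.trans hnorm) (le_sup_right.trans hnorm) k hk (by
      intro a ha
      have : a * k * a⁻¹ * k⁻¹ = ⁅a, k⁆ := rfl
      rw [this, Subgroup.commutator_comm]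
      exact Subgroup.commutator_mem_commutator ha hk)
  -- k = c * (k⁻¹ c)⁻¹
  have hk_eq : k = c * (k⁻¹ * c)⁻¹ := by group
  rw [hk_eq]
  -- c * n' with n' ∈ N; N normal in K so c n' = (c n' c⁻¹) c
  have hn' : (k⁻¹ * c)⁻¹ ∈ ⁅K, A⁆ := Subgroup.inv_mem _ hkc
  have hcK : c ∈ K := hc.1
  have hconj : c * (k⁻¹ * c)⁻¹ * c⁻¹ ∈ ⁅K, A⁆ :=
    (Subgroup.mem_normalizer_iff.mp ((le_sup_left.trans hnorm) hcK) _).mp hn'
  have : c * (k⁻¹ * c)⁻¹ = (c * (k⁻¹ * c)⁻¹ * c⁻¹) * c := by group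
  rw [this]
  exact Subgroup.mul_mem_sup hconj hc

/-- **Coprime action**: `[K, A, A] = [K, A]`. -/
theorem coprime_commutator_stable {G : Type u} [Group G] [Finite G] (A K : Subgroup G)
    (hAK : A ≤ Subgroup.normalizer (K : Set G))
    (hcop : (Nat.card A).Coprime (Nat.card K)) (hsolv : Group.IsSolvable A ∨ Group.IsSolvable K) :
    ⁅⁅K, A⁆, A⁆ = ⁅K, A⁆ := by
  have hNK : ⁅K, A⁆ ≤ K := commutator_le_of_le_normalizer K A hAK
  apply le_antisymm (Subgroup.commutator_mono hNK le_rfl)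
  rw [Subgroup.commutator_le]
  intro k hk a ha
  have hk' : k ∈ ⁅K, A⁆ ⊔ (K ⊓ Subgroup.centralizer (A : Set G)) := by
    rw [coprime_commutator_sup_centralizer A K hAK hcop hsolv]; exact hk
  -- ⁅K,A⁆ is normal in K, so k = n * c
  have hnorm := le_normalizer_commutator K A
  have hNn : (⁅K, A⁆.subgroupOf K).Normal :=
    (Subgroup.normal_subgroupOf_iff_le_normalizer hNK).mpr (le_sup_left.trans hnorm)
  -- decompose using closure induction is painful; use the relative normal product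
  have hdecomp : ∃ n ∈ ⁅K, A⁆, ∃ c ∈ K ⊓ Subgroup.centralizer (A : Set G), k = n * c := by
    have hsup : (⁅K, A⁆.subgroupOf K) ⊔ ((K ⊓ Subgroup.centralizer (A : Set G)).subgroupOf K) = ⊤ := by
      rw [← Subgroup.subgroupOf_sup hNK inf_le_left,
        coprime_commutator_sup_centralizer A K hAK hcop hsolv, Subgroup.subgroupOf_self]
    have hkmem : (⟨k, hk⟩ : K) ∈ (⁅K, A⁆.subgroupOf K) ⊔
        ((K ⊓ Subgroup.centralizer (A : Set G)).subgroupOf K) := by rw [hsup]; trivial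
    obtain ⟨n, hn, c, hc, hnc⟩ := Subgroup.mem_sup_of_normal_left.mp hkmem
    exact ⟨n, Subgroup.mem_subgroupOf.mp hn, c, Subgroup.mem_subgroupOf.mp hc,
      (congrArg Subtype.val hnc).symm⟩
  obtain ⟨n, hn, c, hc, rfl⟩ := hdecomp
  have hca : a * c = c * a := Subgroup.mem_centralizer_iff.mp hc.2 a ha
  have : ⁅n * c, a⁆ = ⁅n, a⁆ := by
    simp only [commutatorElement_def]
    calc n * c * a * (n * c)⁻¹ * a⁻¹ = n * (c * a) * c⁻¹ * n⁻¹ * a⁻¹ := by group
      _ = n * (a * c) * c⁻¹ * n⁻¹ * a⁻¹ := by rw [hca]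
      _ = n * a * n⁻¹ * a⁻¹ := by group
  rw [this]
  exact Subgroup.commutator_mem_commutator hn ha

end Cfsg.Agent.Lib.Helper13
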