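import Mathlib
import Cfsg.Agent.Lib.Helper20.Wielandt
import Cfsg.Agent.Lib.Helper13.SZConjB

set_option autoImplicit false
open Cfsg
open scoped Pointwise

universe u

namespace Cfsg.Agent.Lib.Helper13

section RelSubnormal

variable {G : Type*} [Group G]

/-- restriction of relative subnormality to a smaller overgroup -/
theorem relSubn_of_le {S L H : Subgroup G} (hLH : L ≤ H)
    (h : (S.subgroupOf H).IsSubnormal) : (S.subgroupOf L).IsSubnormal := by
  have := h.comap (Subgroup.inclusion hLH)
  rwa [Subgroup.comap_inclusion_subgroupOf] at this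

/-- transitivity of relative subnormality -/
theorem relSubn_trans {S K H : Subgroup G} (hSK : S ≤ K) (hKH : K ≤ H)
    (h1 : (S.subgroupOf K).IsSubnormal) (h2 : (K.subgroupOf H).IsSubnormal) :
    (S.subgroupOf H).IsSubnormal := by
  have hle : S.subgroupOf H ≤ K.subgroupOf H := by
    intro x hx
    exact hSK hx
  refine Subgroup.IsSubnormal.trans hle ?_ h2
  have := h1.comap (Subgroup.subgroupOfEquivOfLe hKH).toMonoidHom
  convert this using 1
  ext x
  simp only [Subgroup.mem_subgroupOf, Subgroup.mem_comap]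
  rfl

/-- the conjugation hom `↥(g • H) →* ↥H`, `x ↦ g⁻¹ x g` -/
def cjBack (g : G) (H : Subgroup G) : ↥(MulAut.conj g • H) →* ↥H where
  toFun x := ⟨g⁻¹ * x * g, mem_cj.mp x.2⟩
  map_one' := by ext; simp
  map_mul' x y := by ext; simp only [Subgroup.coe_mul]; group

/-- conjugation preserves relative subnormality -/
theorem relSubn_cj {S H : Subgroup G} (g : G) (h : (S.subgroupOf H).IsSubnormal) :
    ((MulAut.conj g • S).subgroupOf (MulAut.conj g • H)).IsSubnormal := by
  have := h.comap (cjBack g H)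
  convert this using 1
  ext x
  simp only [Subgroup.mem_subgroupOf, Subgroup.mem_comap]
  rw [mem_cj]
  rfl

/-- relative version of Wielandt's join theorem -/
theorem relSubn_sup [Finite G] {A B H : Subgroup G} (hA : A ≤ H) (hB : B ≤ H)
    (h1 : (A.subgroupOf H).IsSubnormal) (h2 : (B.subgroupOf H).IsSubnormal) :
    ((A ⊔ B).subgroupOf H).IsSubnormal := by
  rw [Subgroup.subgroupOf_sup hA hB]
  exact Cfsg.Agent.Lib.Helper20.sup_isSubnormal _ _ h1 h2

theorem relSubn_of_le_normalizer {S H : Subgroup G} (hSH : S ≤ H)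
    (hn : H ≤ Subgroup.normalizer (S : Set G)) : (S.subgroupOf H).IsSubnormal :=
  ((Subgroup.normal_subgroupOf_iff_le_normalizer hSH).mpr hn).isSubnormal

theorem isSubnormal_of_relSubn {S H : Subgroup G} (hSH : S ≤ H) (h1 : (S.subgroupOf H).IsSubnormal)
    (h2 : H.IsSubnormal) : S.IsSubnormal := Subgroup.IsSubnormal.trans hSH h1 h2

end RelSubnormal

/-- **Wielandt's zipper lemma.** -/
theorem zipper {G : Type u} [Group G] [Finite G] (S : Subgroup G) :
    (∀ H : Subgroup G, S ≤ H → H ≠ ⊤ → (S.subgroupOf H).IsSubnormal) → ¬ S.IsSubnormal →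
    ∀ M K : Subgroup G, IsCoatom M → IsCoatom K → S ≤ M → S ≤ K → M = K := by
  induction S using WellFoundedGT.induction with
  | ind S ih =>
  intro hprop hns
  have hN : Subgroup.normalizer (S : Set G) ≠ ⊤ := by
    intro h
    exact hns ((Subgroup.normalizer_eq_top_iff.mp h).isSubnormal)
  obtain ⟨M₀, hM₀, hNM₀⟩ : ∃ M₀, IsCoatom M₀ ∧ Subgroup.normalizer (S : Set G) ≤ M₀ :=
    (eq_top_or_exists_le_coatom _).resolve_left hN
  have key : ∀ K, IsCoatom K → S ≤ K → K = M₀ := by
    intro K hK hSK
    have hsn := hprop K hSK hK.1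
    rcases Cfsg.Agent.Lib.Helper20.exists_conj_ne_le_normalizer (S.subgroupOf K) hsn with
      hn | ⟨g, hg1, hg2⟩
    · have h1 : K ≤ Subgroup.normalizer (S : Set G) :=
        (Subgroup.normal_subgroupOf_iff_le_normalizer hSK).mp hn
      have h2 : K ≤ M₀ := h1.trans hNM₀
      rcases hK.le_iff.mp h2 with h | h
      · exact absurd h hM₀.1
      · exact h.symm
    · obtain ⟨x, hx⟩ : ∃ x : G, x = (g : G) := ⟨_, rfl⟩
      have hxK : x ∈ K := hx ▸ g.2
      have e1 : (MulAut.conj g • S.subgroupOf K).map K.subtype = MulAut.conj x • S := by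
        rw [map_cj, Subgroup.map_subgroupOf_eq_of_le hSK, hx]; rfl
      have hne : MulAut.conj x • S ≠ S := by
        intro h
        apply hg1
        apply Subgroup.map_injective K.subtype_injective
        rw [e1, h, Subgroup.map_subgroupOf_eq_of_le hSK]
      have hle : MulAut.conj x • S ≤ Subgroup.normalizer (S : Set G) := by
        rw [← e1]
        refine (Subgroup.map_mono hg2).trans ?_
        refine (Subgroup.le_normalizer_map _).trans ?_
        rw [Subgroup.map_subgroupOf_eq_of_le hSK]
      obtain ⟨T, hT⟩ : ∃ T, T = S ⊔ MulAut.conj x • S := ⟨_, rfl⟩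
      have hST : S ≤ T := hT ▸ le_sup_left
      have hxST : MulAut.conj x • S ≤ T := hT ▸ le_sup_right
      have hxSK : MulAut.conj x • S ≤ K := by
        have := cj_le_cj (g := x) hSK
        rwa [Subgroup.conj_smul_eq_self_of_mem hxK] at this
      have hTK : T ≤ K := hT ▸ sup_le hSK hxSK
      have hTN : T ≤ Subgroup.normalizer (S : Set G) := hT ▸ sup_le Subgroup.le_normalizer hle
      have hSltT : S < T := by
        refine lt_of_le_of_ne hST ?_
        intro h
        apply hne
        apply Subgroup.eq_of_le_of_card_ge (h ▸ hxST)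
        rw [card_cj]
      have hTns : ¬ T.IsSubnormal := fun h =>
        hns (isSubnormal_of_relSubn hST (relSubn_of_le_normalizer hST hTN) h)
      have hTprop : ∀ H, T ≤ H → H ≠ ⊤ → (T.subgroupOf H).IsSubnormal := by
        intro H hTH hH
        have hSH := hST.trans hTH
        have hxSH := hxST.trans hTH
        rw [hT]
        apply relSubn_sup hSH hxSH (hprop H hSH hH)
        have h1 : S ≤ MulAut.conj x⁻¹ • H := by
          have := cj_le_cj (g := x⁻¹) hxSH
          rwa [← cj_mul, inv_mul_cancel, cj_one] at this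
        have h2 : MulAut.conj x⁻¹ • H ≠ ⊤ := by
          intro h
          apply hH
          rw [← Subgroup.card_eq_iff_eq_top] at h ⊢
          rwa [card_cj] at h
        have h3 := relSubn_cj x (hprop _ h1 h2)
        rwa [← cj_mul, mul_inv_cancel, cj_one] at h3
      exact (ih T hSltT hTprop hTns M₀ K hM₀ hK (hTN.trans hNM₀) hTK).symm
  intro M K hM hK hSM hSK
  rw [key M hM hSM, key K hK hSK]

/-- **Wielandt's subnormality criterion.** -/
theorem wielandt_aux (n : ℕ) : ∀ (G : Type u) [Group G] [Finite G], Nat.card G = n →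
    ∀ A : Subgroup G, (∀ g : G, (A.subgroupOf (A ⊔ MulAut.conj g • A)).IsSubnormal) →
      A.IsSubnormal := by
  induction n using Nat.strong_induction_on with
  | _ n ih =>
  intro G _ _ hcard A h
  by_contra hns
  have hprop : ∀ H : Subgroup G, A ≤ H → H ≠ ⊤ → (A.subgroupOf H).IsSubnormal := by
    intro H hAH hH
    have hlt : Nat.card H < n := by
      rw [← hcard, ← Subgroup.card_top (G := G)]
      exact card_lt_of_lt (lt_top_iff_ne_top.mpr hH)
    apply ih (Nat.card H) hlt H rfl (A.subgroupOf H)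
    intro g
    have hmap : (A.subgroupOf H ⊔ MulAut.conj g • A.subgroupOf H).map H.subtype
        = A ⊔ MulAut.conj (g : G) • A := by
      rw [Subgroup.map_sup, map_cj, Subgroup.map_subgroupOf_eq_of_le hAH]; rfl
    obtain ⟨φ, hφ⟩ : ∃ φ : ↥(A.subgroupOf H ⊔ MulAut.conj g • A.subgroupOf H) →*
        ↥(A ⊔ MulAut.conj (g : G) • A), ∀ y, ((φ y : G)) = ((y : H) : G) :=
      ⟨{ toFun := fun y => ⟨((y : H) : G), by rw [← hmap]; exact ⟨y, y.2, rfl⟩⟩
         map_one' := rfl
         map_mul' := fun _ _ => rfl }, fun _ => rfl⟩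
    have := (h (g : G)).comap φ
    convert this using 1
    ext y
    simp only [Subgroup.mem_subgroupOf, Subgroup.mem_comap, hφ]
  have hzip := zipper A hprop hns
  have hAtop : A ≠ ⊤ := fun h => hns (h ▸ Subgroup.IsSubnormal.top)
  obtain ⟨M, hM, hAM⟩ := (eq_top_or_exists_le_coatom A).resolve_left hAtop
  have hconj : ∀ x : G, MulAut.conj x • A ≤ M := by
    intro x
    obtain ⟨J, hJ⟩ : ∃ J, J = A ⊔ MulAut.conj x • A := ⟨_, rfl⟩
    have hAJ : A ≤ J := hJ ▸ le_sup_left
    have hxJ : MulAut.conj x • A ≤ J := hJ ▸ le_sup_right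
    have hx := h x
    rw [← hJ] at hx
    rcases eq_top_or_exists_le_coatom J with hJt | ⟨M', hM', hJM'⟩
    · exfalso
      apply hns
      exact isSubnormal_of_relSubn hAJ hx (hJt ▸ Subgroup.IsSubnormal.top)
    · have := hzip M M' hM hM' hAM (hAJ.trans hJM')
      rw [this]
      exact hxJ.trans hJM'
  have hNC : Subgroup.normalClosure (A : Set G) ≤ M := by
    rw [Subgroup.normalClosure]
    rw [Subgroup.closure_le]
    intro y hy
    rw [Group.mem_conjugatesOfSet_iff] at hy
    obtain ⟨a, ha, hay⟩ := hy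
    obtain ⟨c, rfl⟩ := isConj_iff.mp hay
    apply hconj c
    rw [mem_cj]
    have : c⁻¹ * (c * a * c⁻¹) * c = a := by group
    rw [this]
    exact ha
  have hNCtop : Subgroup.normalClosure (A : Set G) ≠ ⊤ := by
    intro h
    rw [h, top_le_iff] at hNC
    exact hM.1 hNC
  apply hns
  exact isSubnormal_of_relSubn Subgroup.le_normalClosure
    (hprop _ Subgroup.le_normalClosure hNCtop)
    (Subgroup.normalClosure_normal.isSubnormal)

theorem wielandt_criterion {G : Type u} [Group G] [Finite G] (A : Subgroup G)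
    (h : ∀ g : G, (A.subgroupOf (A ⊔ MulAut.conj g • A)).IsSubnormal) : A.IsSubnormal :=
  wielandt_aux _ G rfl A h

end Cfsg.Agent.Lib.Helper13
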