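import Mathlib
import Cfsg.Agent.S0058
import Cfsg.Agent.Lib.Helper2.Cores

/-!
# Rank three arguments for coprime action (helper13)

`exists_common_fix`: an elementary abelian `p`-group `E₀` of order `p³` acts coprimely on `N₁`, `N₂`,
neither contained in `D`.  Then some `b ∈ E₀ \ 1` has `C_{N₁}(b) ⊄ D` and `C_{N₂}(b) ⊄ D`.
-/

set_option autoImplicit false
set_option linter.style.haveILetI false

universe u

namespace Cfsg.Agent.Lib.Helper13

open Subgroup

/-- In an elementary abelian `p`-group every nontrivial cyclic subgroup has a complement. -/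
theorem exists_compl_zpowers {E : Type*} [CommGroup E] [Finite E] (p : ℕ) [hp : Fact p.Prime]
    (hexp : ∀ x : E, x ^ p = 1) (a : E) (ha : a ≠ 1) :
    ∃ E' : Subgroup E, a ∉ E' ∧ E' ⊔ zpowers a = ⊤ := by
  obtain ⟨E', -, hmax⟩ := (Set.toFinite {E' : Subgroup E | a ∉ E'}).exists_le_maximal
    (a := ⊥) (by simpa using ha)
  have haE' : a ∉ E' := hmax.1
  refine ⟨E', haE', ?_⟩
  rw [eq_top_iff]
  intro x _
  by_contra hx
  have hxE' : x ∉ E' := fun h => hx (Subgroup.mem_sup_left h)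
  have hamem : a ∈ E' ⊔ zpowers x := by
    by_contra h
    have h1 : E' ⊔ zpowers x ≤ E' := hmax.2 h le_sup_left
    exact hxE' (h1 (Subgroup.mem_sup_right (Subgroup.mem_zpowers x)))
  obtain ⟨e, he, y, hy, hae⟩ := Subgroup.mem_sup.mp hamem
  obtain ⟨j, rfl⟩ := Subgroup.mem_zpowers_iff.mp hy
  have hpj : ¬ (p : ℤ) ∣ j := by
    rintro ⟨t, rfl⟩
    apply haE'
    have : x ^ ((p : ℤ) * t) = 1 := by rw [zpow_mul, zpow_natCast, hexp, one_zpow]
    rw [← hae, this, mul_one]; exact he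
  have hgcd : Int.gcd j p = 1 := by
    have h1 : Int.gcd j p ∣ p := Int.natCast_dvd_natCast.mp (Int.gcd_dvd_right j p)
    rcases (Nat.dvd_prime hp.out).mp h1 with h | h
    · exact h
    · exfalso
      apply hpj
      have := Int.gcd_dvd_left j p
      rw [h] at this
      exact this
  have hbez := Int.gcd_eq_gcd_ab j p
  rw [hgcd] at hbez
  have hx1 : x = (x ^ j) ^ (Int.gcdA j p) := by
    have h2 : x ^ (1 : ℤ) = x ^ (j * Int.gcdA j p + (p : ℤ) * Int.gcdB j p) := by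
      rw [← hbez]; rfl
    rw [zpow_one, zpow_add, zpow_mul, zpow_mul, zpow_natCast, hexp, one_zpow, mul_one] at h2
    exact h2
  have hxj : x ^ j = e⁻¹ * a := by rw [← hae]; group
  apply hx
  rw [hx1, hxj]
  apply Subgroup.zpow_mem
  exact Subgroup.mul_mem _ (Subgroup.mem_sup_left (E'.inv_mem he))
    (Subgroup.mem_sup_right (Subgroup.mem_zpowers a))

theorem card_dvd_of_isCyclic_exp {E : Type*} [Group E] [Finite E] (p : ℕ) (hc : IsCyclic E)
    (hexp : ∀ x : E, x ^ p = 1) : Nat.card E ∣ p := by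
  obtain ⟨g, hg⟩ := hc.exists_generator
  rw [← orderOf_eq_card_of_forall_mem_zpowers hg]
  exact orderOf_dvd_of_pow_eq_one (hexp g)

section internal

variable {X : Type u} [Group X] [Finite X]

theorem isMulCommutative_of_forall {A : Subgroup X} (h : ∀ x ∈ A, ∀ y ∈ A, x * y = y * x) :
    IsMulCommutative A :=
  ⟨⟨fun a b => Subtype.ext (h a a.2 b b.2)⟩⟩

/-- generation by centralizers, in the form: some nonidentity element has `C_N(a) ⊄ D`. -/
theorem exists_fix_not_le (A N D : Subgroup X) (hAab : ∀ x ∈ A, ∀ y ∈ A, x * y = y * x)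
    (hA : ¬ IsCyclic A) (hAN : A ≤ normalizer (N : Set X))
    (hcop : (Nat.card A).Coprime (Nat.card N)) (hND : ¬ N ≤ D) :
    ∃ a ∈ A, a ≠ 1 ∧ ¬ (N ⊓ centralizer {a} ≤ D) := by
  haveI := isMulCommutative_of_forall hAab
  have h := Cfsg.Agent.S0058.result A N hA hAN hcop
  by_contra hcon
  push Not at hcon
  apply hND
  rw [← h]
  apply iSup_le
  intro a
  apply iSup_le
  rintro ⟨haA, ha1⟩
  exact hcon a haA ha1

/-- **Rank lemma.**  If `E₀` is elementary abelian of order `p³` acting coprimely on `N ⊄ D`, some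
noncyclic subgroup `E₁ ≤ E₀` has `C_N(E₁) ⊄ D`. -/
theorem exists_noncyclic_fix (p : ℕ) [hp : Fact p.Prime] (E₀ N D : Subgroup X)
    (hab : ∀ x ∈ E₀, ∀ y ∈ E₀, x * y = y * x) (hexp : ∀ x ∈ E₀, x ^ p = 1)
    (hcard : Nat.card E₀ = p ^ 3) (hEN : E₀ ≤ normalizer (N : Set X))
    (hcop : (Nat.card E₀).Coprime (Nat.card N)) (hND : ¬ N ≤ D) :
    ∃ E₁ : Subgroup X, E₁ ≤ E₀ ∧ ¬ IsCyclic E₁ ∧ ¬ (N ⊓ centralizer (E₁ : Set X) ≤ D) := by
  have hp1 := hp.out.one_lt
  have hE₀nc : ¬ IsCyclic E₀ := by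
    intro hc
    have h1 := card_dvd_of_isCyclic_exp p hc (fun x => Subtype.ext (by simpa using hexp x x.2))
    rw [hcard] at h1
    have h2 : p ^ 3 ≤ p := Nat.le_of_dvd hp.out.pos h1
    have h3 : p ^ 1 < p ^ 3 := Nat.pow_lt_pow_right hp1 (by norm_num)
    rw [pow_one] at h3
    omega
  obtain ⟨a₁, ha₁E, ha₁1, ha₁⟩ := exists_fix_not_le E₀ N D hab hE₀nc hEN hcop hND
  -- a complement of `⟨a₁⟩` in `E₀`
  haveI := isMulCommutative_of_forall hab
  letI : CommGroup E₀ := { (inferInstance : Group E₀) with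
    mul_comm := fun a b => Subtype.ext (hab a a.2 b b.2) }
  obtain ⟨F, haF, hFsup⟩ := exists_compl_zpowers (E := E₀) p
    (fun x => Subtype.ext (by simpa using hexp x x.2)) ⟨a₁, ha₁E⟩
    (fun h => ha₁1 (congrArg Subtype.val h))
  obtain ⟨E', hE'def⟩ : ∃ E' : Subgroup X, E' = F.map E₀.subtype := ⟨_, rfl⟩
  have hE'E₀ : E' ≤ E₀ := by rw [hE'def]; exact Subgroup.map_subtype_le F
  have ha₁E' : a₁ ∉ E' := by
    rw [hE'def]
    rintro ⟨f, hf, hfa⟩
    apply haF
    have : f = ⟨a₁, ha₁E⟩ := Subtype.ext hfa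
    rw [← this]; exact hf
  have hcardz : Nat.card (zpowers (⟨a₁, ha₁E⟩ : E₀)) ∣ p := by
    rw [Nat.card_zpowers]
    apply orderOf_dvd_of_pow_eq_one
    exact Subtype.ext (by simpa using hexp a₁ ha₁E)
  have hE'nc : ¬ IsCyclic E' := by
    intro hc
    have hFc : IsCyclic F := by
      have e : F ≃* E' := by
        rw [hE'def]
        exact F.equivMapOfInjective E₀.subtype E₀.subtype_injective
      exact isCyclic_of_surjective e.symm e.symm.surjective
    have h1 : Nat.card F ∣ p :=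
      card_dvd_of_isCyclic_exp p hFc (fun x => Subtype.ext (Subtype.ext (by
        have := hexp x.1 x.1.2
        simpa using this)))
    have h2 : Nat.card (F ⊔ zpowers (⟨a₁, ha₁E⟩ : E₀) : Subgroup E₀) ∣
        Nat.card F * Nat.card (zpowers (⟨a₁, ha₁E⟩ : E₀)) :=
      Helper2.card_sup_dvd_of_normal F _
    rw [hFsup, Subgroup.card_top, hcard] at h2
    have h3 : p ^ 3 ∣ p * p := h2.trans (Nat.mul_dvd_mul h1 hcardz)
    have h4 : p ^ 3 ≤ p * p := Nat.le_of_dvd (Nat.mul_pos hp.out.pos hp.out.pos) h3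
    have h5 : p ^ 2 < p ^ 3 := Nat.pow_lt_pow_right hp1 (by norm_num)
    nlinarith
  -- `N' = C_N(a₁)`
  obtain ⟨N', hN'def⟩ : ∃ N' : Subgroup X, N' = N ⊓ centralizer {a₁} := ⟨_, rfl⟩
  have hcent : E₀ ≤ normalizer ((centralizer {a₁} : Subgroup X) : Set X) := by
    intro x hx
    apply Subgroup.le_normalizer
    rw [Subgroup.mem_centralizer_iff]
    intro y hy
    rw [Set.mem_singleton_iff] at hy
    rw [hy]
    exact hab a₁ ha₁E x hx
  have hE'N' : E' ≤ normalizer (N' : Set X) := by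
    intro x hx
    rw [hN'def]
    have h1 := hEN (hE'E₀ hx)
    have h2 := hcent (hE'E₀ hx)
    rw [Subgroup.mem_normalizer_iff] at h1 h2 ⊢
    intro y
    rw [Subgroup.mem_inf, Subgroup.mem_inf, ← h1 y, ← h2 y]
  have hcop' : (Nat.card E').Coprime (Nat.card N') := by
    apply Nat.Coprime.coprime_dvd_left (Subgroup.card_dvd_of_le hE'E₀)
    apply Nat.Coprime.coprime_dvd_right _ hcop
    rw [hN'def]
    exact Subgroup.card_dvd_of_le inf_le_left
  obtain ⟨a₂, ha₂E', ha₂1, ha₂⟩ := exists_fix_not_le E' N' D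
    (fun x hx y hy => hab x (hE'E₀ hx) y (hE'E₀ hy)) hE'nc hE'N' hcop' (hN'def ▸ ha₁)
  obtain ⟨E₁, hE₁def⟩ : ∃ E₁ : Subgroup X, E₁ = Subgroup.closure {a₁, a₂} := ⟨_, rfl⟩
  have hE₁E₀ : E₁ ≤ E₀ := by
    rw [hE₁def, Subgroup.closure_le]
    rintro x (rfl | rfl)
    · exact ha₁E
    · exact hE'E₀ ha₂E'
  refine ⟨E₁, hE₁E₀, ?_, ?_⟩
  · intro hc
    have h1 : Nat.card E₁ ∣ p := card_dvd_of_isCyclic_exp p hc
      (fun x => Subtype.ext (by simpa using hexp x (hE₁E₀ x.2)))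
    -- `⟨a₁⟩ = E₁`
    have h2 : zpowers a₁ ≤ E₁ := by
      rw [Subgroup.zpowers_le, hE₁def]
      exact Subgroup.subset_closure (by simp)
    have h3 : Nat.card (zpowers a₁) = p := by
      rw [Nat.card_zpowers]
      have : orderOf a₁ ∣ p := orderOf_dvd_of_pow_eq_one (hexp a₁ ha₁E)
      rcases (Nat.dvd_prime hp.out).mp this with h | h
      · exact absurd (orderOf_eq_one_iff.mp h) ha₁1
      · exact h
    have h4 : zpowers a₁ = E₁ := by
      apply Subgroup.eq_of_le_of_card_ge h2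
      rw [h3]; exact Nat.le_of_dvd hp.out.pos h1
    have h5 : a₂ ∈ zpowers a₁ := by
      rw [h4, hE₁def]; exact Subgroup.subset_closure (by simp)
    -- then `a₁ ∈ ⟨a₂⟩ ≤ E'`
    have h6 : zpowers a₂ ≤ zpowers a₁ := by rw [Subgroup.zpowers_le]; exact h5
    have h7 : Nat.card (zpowers a₂) = p := by
      rw [Nat.card_zpowers]
      have : orderOf a₂ ∣ p := orderOf_dvd_of_pow_eq_one (hexp a₂ (hE'E₀ ha₂E'))
      rcases (Nat.dvd_prime hp.out).mp this with h | h
      · exact absurd (orderOf_eq_one_iff.mp h) ha₂1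
      · exact h
    have h8 : zpowers a₂ = zpowers a₁ := by
      apply Subgroup.eq_of_le_of_card_ge h6
      rw [h3, h7]
    apply ha₁E'
    have : a₁ ∈ zpowers a₂ := by rw [h8]; exact Subgroup.mem_zpowers a₁
    exact (Subgroup.zpowers_le.mpr ha₂E') this
  · intro hle
    apply ha₂
    refine le_trans ?_ hle
    rw [hN'def]
    intro x hx
    refine ⟨hx.1.1, ?_⟩
    rw [hE₁def]
    have hcl : Subgroup.closure ({a₁, a₂} : Set X) ≤ centralizer {x} := by
      rw [Subgroup.closure_le]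
      rintro y (rfl | rfl)
      · rw [SetLike.mem_coe, Subgroup.mem_centralizer_iff]
        intro z hz
        rw [Set.mem_singleton_iff] at hz
        rw [hz]
        exact (Subgroup.mem_centralizer_iff.mp hx.1.2 _ rfl).symm
      · rw [SetLike.mem_coe, Subgroup.mem_centralizer_iff]
        intro z hz
        rw [Set.mem_singleton_iff] at hz
        rw [hz]
        exact (Subgroup.mem_centralizer_iff.mp hx.2 _ rfl).symm
    show x ∈ centralizer ((Subgroup.closure ({a₁, a₂} : Set X) : Subgroup X) : Set X)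
    rw [Subgroup.mem_centralizer_iff]
    intro y hy
    exact (Subgroup.mem_centralizer_iff.mp (hcl hy) x rfl).symm

/-- **Common fixed points.** -/
theorem exists_common_fix (p : ℕ) [hp : Fact p.Prime] (E₀ N₁ N₂ D : Subgroup X)
    (hab : ∀ x ∈ E₀, ∀ y ∈ E₀, x * y = y * x) (hexp : ∀ x ∈ E₀, x ^ p = 1)
    (hcard : Nat.card E₀ = p ^ 3) (hEN₁ : E₀ ≤ normalizer (N₁ : Set X))
    (hEN₂ : E₀ ≤ normalizer (N₂ : Set X))
    (hcop₁ : (Nat.card E₀).Coprime (Nat.card N₁)) (hcop₂ : (Nat.card E₀).Coprime (Nat.card N₂))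
    (hN₁D : ¬ N₁ ≤ D) (hN₂D : ¬ N₂ ≤ D) :
    ∃ b ∈ E₀, b ≠ 1 ∧ ¬ (N₁ ⊓ centralizer {b} ≤ D) ∧ ¬ (N₂ ⊓ centralizer {b} ≤ D) := by
  obtain ⟨E₁, hE₁E₀, hE₁nc, hE₁⟩ := exists_noncyclic_fix p E₀ N₁ D hab hexp hcard hEN₁ hcop₁ hN₁D
  obtain ⟨b, hbE₁, hb1, hb⟩ := exists_fix_not_le E₁ N₂ D
    (fun x hx y hy => hab x (hE₁E₀ hx) y (hE₁E₀ hy)) hE₁nc (hE₁E₀.trans hEN₂)
    (Nat.Coprime.coprime_dvd_left (Subgroup.card_dvd_of_le hE₁E₀) hcop₂) hN₂D
  refine ⟨b, hE₁E₀ hbE₁, hb1, ?_, hb⟩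
  intro hle
  apply hE₁
  refine le_trans ?_ hle
  refine inf_le_inf_left _ ?_
  apply Subgroup.centralizer_le
  intro y hy
  rw [Set.mem_singleton_iff] at hy
  rw [hy]; exact hbE₁

end internal

end Cfsg.Agent.Lib.Helper13
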