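import Mathlib
import Cfsg.Prelude.Def_Transfer
import Cfsg.Agent.Lib.Helper11.FrobeniusF
import Cfsg.Agent.Lib.Helper2.HallNormal

set_option autoImplicit false

universe u

namespace Cfsg.Agent.Lib.Helper13

/-- `G` has a normal `p`-complement: a normal subgroup of order prime to `p` and `p`-power index. -/
def NPC (p : ℕ) (G : Type*) [Group G] : Prop :=
  ∃ N : Subgroup G, N.Normal ∧ (Nat.card N).Coprime p ∧ ∃ k : ℕ, N.index = p ^ k

section

variable {G : Type*} [Group G] [Finite G] {p : ℕ} [hp : Fact p.Prime]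

theorem npc_iff : Cfsg.HasNormalPComplement p G ↔ NPC p G := by
  constructor
  · rintro ⟨P, N, hN, hc⟩
    refine ⟨N, hN, ?_, ?_⟩
    · have h1 : (P : Subgroup G).index = Nat.card N := hc.index_eq_card
      have h2 : ¬ p ∣ Nat.card N := h1 ▸ P.not_dvd_index
      exact ((Nat.Prime.coprime_iff_not_dvd hp.out).mpr h2).symm
    · obtain ⟨k, hk⟩ := IsPGroup.iff_card.mp P.2
      exact ⟨k, by rw [← hk]; exact hc.symm.index_eq_card⟩
  · rintro ⟨N, hN, hcop, k, hk⟩
    have h2 : ¬ p ∣ Nat.card N := (Nat.Prime.coprime_iff_not_dvd hp.out).mp hcop.symm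
    exact ⟨default, N, hN,
      Cfsg.Agent.Lib.Helper11.isComplement'_sylow_of_coprime_of_index default N h2 k hk⟩

omit [Finite G] in
theorem NPC.of_injective {K : Type*} [Group K] [Finite K] (f : K →* G) (hf : Function.Injective f)
    (h : NPC p G) : NPC p K := by
  obtain ⟨N, hN, hcop, k, hk⟩ := h
  refine ⟨N.comap f, hN.comap f, ?_, ?_⟩
  · have h1 : Nat.card (N.comap f) = Nat.card ((N.comap f).map f) :=
      (Subgroup.card_map_of_injective hf).symm
    rw [h1, Subgroup.map_comap_eq]
    exact Nat.Coprime.coprime_dvd_left (Subgroup.card_dvd_of_le inf_le_right) hcop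
  · have h1 : (N.comap f).index ∣ N.index := by
      rw [Subgroup.index_comap]
      exact Subgroup.relIndex_dvd_index_of_normal N f.range
    rw [hk] at h1
    obtain ⟨j, -, hj⟩ := (Nat.dvd_prime_pow hp.out).mp h1
    exact ⟨j, hj⟩

theorem NPC.of_surjective {K : Type*} [Group K] (f : G →* K) (hf : Function.Surjective f)
    (h : NPC p G) : NPC p K := by
  obtain ⟨N, hN, hcop, k, hk⟩ := h
  refine ⟨N.map f, hN.map f hf, ?_, ?_⟩
  · exact Nat.Coprime.coprime_dvd_left (Subgroup.card_map_dvd N f) hcop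
  · have h1 : (N.map f).index ∣ N.index := Subgroup.index_map_dvd N hf
    rw [hk] at h1
    obtain ⟨j, -, hj⟩ := (Nat.dvd_prime_pow hp.out).mp h1
    exact ⟨j, hj⟩

theorem NPC.subgroup (h : NPC p G) (M : Subgroup G) : NPC p M :=
  NPC.of_injective M.subtype M.subtype_injective h

theorem NPC.of_equiv {K : Type*} [Group K] (e : G ≃* K) (h : NPC p G) : NPC p K :=
  NPC.of_surjective e.toMonoidHom e.surjective h

theorem NPC.of_isPGroup (h : IsPGroup p G) : NPC p G := by
  refine ⟨⊥, inferInstance, by simp, ?_⟩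
  obtain ⟨k, hk⟩ := IsPGroup.iff_card.mp h
  exact ⟨k, by rw [Subgroup.index_bot, hk]⟩

theorem NPC.of_coprime (h : (Nat.card G).Coprime p) : NPC p G :=
  ⟨⊤, inferInstance, by rw [Subgroup.card_top]; exact h, 0, by simp⟩

/-- lift a normal `p`-complement through a quotient by a normal `p'`-subgroup. -/
theorem NPC.of_quotient (K₀ : Subgroup G) [K₀.Normal] (hK : (Nat.card K₀).Coprime p)
    (h : NPC p (G ⧸ K₀)) : NPC p G := by
  obtain ⟨N, hN, hcop, k, hk⟩ := h
  refine ⟨N.comap (QuotientGroup.mk' K₀), hN.comap _, ?_, k, ?_⟩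
  · have h1 : Nat.card (N.comap (QuotientGroup.mk' K₀)) = Nat.card N * Nat.card K₀ := by
      have h1 := Subgroup.card_mul_index (N.comap (QuotientGroup.mk' K₀))
      have h2 := Subgroup.card_mul_index N
      have h3 := Subgroup.card_eq_card_quotient_mul_card_subgroup K₀
      have h4 : (N.comap (QuotientGroup.mk' K₀)).index = N.index :=
        Subgroup.index_comap_of_surjective N (QuotientGroup.mk'_surjective K₀)
      have hpos : 0 < N.index := Nat.pos_of_ne_zero Subgroup.index_ne_zero_of_finite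
      rw [h4] at h1
      have h5 : Nat.card (N.comap (QuotientGroup.mk' K₀)) * N.index
          = (Nat.card N * Nat.card K₀) * N.index := by
        rw [h1, h3, ← h2]; ring
      exact Nat.eq_of_mul_eq_mul_right hpos h5
    rw [h1]
    exact Nat.Coprime.mul_left hcop hK
  · rw [Subgroup.index_comap_of_surjective N (QuotientGroup.mk'_surjective K₀), hk]

end

end Cfsg.Agent.Lib.Helper13
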