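import Mathlib
import Cfsg.Prelude.Def_Transfer
import Cfsg.Agent.Lib.Helper13.NPC
import Cfsg.Agent.Lib.Helper17.ThompsonMap
import Cfsg.Agent.Lib.Helper17.SylowConj

set_option autoImplicit false

/-!
# Transport of the hypotheses of Thompson's normal `p`-complement theorem
-/

universe u

namespace Cfsg.Agent.Lib.Helper13

open Subgroup

/-- The hypothesis of Thompson's normal `p`-complement theorem for the `p`-subgroup `P`. -/
def ThHyp (p : ℕ) (G : Type u) [Group G] (P : Subgroup G) : Prop :=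
  NPC p ↥(Subgroup.normalizer (Cfsg.thompsonSubgroupOf p P : Set G)) ∧
  NPC p ↥(Subgroup.centralizer ((P ⊓ Subgroup.centralizer (P : Set G) : Subgroup G) : Set G))

section basic

variable {G : Type*} [Group G] [Finite G] {p : ℕ} [hp : Fact p.Prime]

theorem NPC.of_le {A B : Subgroup G} (h : B ≤ A) (hA : NPC p ↥A) : NPC p ↥B :=
  NPC.of_injective (Subgroup.inclusion h) (Subgroup.inclusion_injective h) hA

theorem NPC.map {H : Type*} [Group H] (f : G →* H) (A : Subgroup G) (hA : NPC p ↥A) :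
    NPC p ↥(A.map f) :=
  NPC.of_surjective (f.subgroupMap A) (f.subgroupMap_surjective A) hA

theorem NPC.of_top (h : NPC p ↥(⊤ : Subgroup G)) : NPC p G :=
  NPC.of_equiv Subgroup.topEquiv h

theorem NPC.to_top (h : NPC p G) : NPC p ↥(⊤ : Subgroup G) :=
  NPC.of_equiv Subgroup.topEquiv.symm h

/-- `NPC` descends along a surjection to subgroups of the normalizer of a subgroup. -/
theorem NPC.of_comap_normalizer {H : Type*} [Group H] (f : G →* H) (hf : Function.Surjective f)
    (X M : Subgroup H) (hM : M ≤ normalizer (X : Set H))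
    (h : NPC p ↥(normalizer ((X.comap f : Subgroup G) : Set G))) : NPC p ↥M := by
  have h1 : M.comap f ≤ normalizer ((X.comap f : Subgroup G) : Set G) := by
    rw [← Subgroup.comap_normalizer_eq_of_surjective X hf]
    exact Subgroup.comap_mono hM
  have h2 := NPC.map f _ (NPC.of_le h1 h)
  rwa [Subgroup.map_comap_eq_self_of_surjective hf] at h2

theorem isPGroup_of_forall_coprime_eq_one
    (h : ∀ g : G, (orderOf g).Coprime p → g = 1) : IsPGroup p G := by
  intro g
  have hpos : 0 < orderOf g := orderOf_pos g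
  obtain ⟨k, m, hm, hkm⟩ := Nat.exists_eq_pow_mul_and_not_dvd hpos.ne' p hp.out.ne_one
  refine ⟨k, ?_⟩
  have hmpos : 0 < m := by
    rcases Nat.eq_zero_or_pos m with h0 | h0
    · rw [h0, mul_zero] at hkm; omega
    · exact h0
  have h1 : orderOf (g ^ p ^ k) = m := by
    rw [orderOf_pow' g (pow_ne_zero k hp.out.ne_zero), hkm]
    rw [Nat.gcd_eq_right (Dvd.intro _ rfl)]
    exact Nat.mul_div_cancel_left m (pow_pos hp.out.pos k)
  apply h
  rw [h1]
  exact ((Nat.Prime.coprime_iff_not_dvd hp.out).mpr hm).symm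

omit [Finite G] hp in
theorem eq_one_of_isPGroup_of_coprime {H : Subgroup G} (hH : IsPGroup p H) {g : G} (hg : g ∈ H)
    (hc : (orderOf g).Coprime p) : g = 1 := by
  obtain ⟨k, hk⟩ := hH ⟨g, hg⟩
  have h1 : g ^ p ^ k = 1 := by
    have := congrArg Subtype.val hk
    simpa using this
  have h2 : orderOf g ∣ p ^ k := orderOf_dvd_of_pow_eq_one h1
  have h3 : orderOf g = 1 := Nat.Coprime.eq_one_of_dvd (hc.pow_right k) h2
  exact orderOf_eq_one_iff.mp h3

end basic


section inj

variable {G H : Type u} [Group G] [Finite G] [Group H] [Finite H] {p : ℕ} [hp : Fact p.Prime]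

/-- The hypothesis passes to a group embedded in `G`. -/
theorem ThHyp.of_injective (f : H →* G) (hf : Function.Injective f) (R₀ : Subgroup H)
    (h : ThHyp p G (R₀.map f)) : ThHyp p H R₀ := by
  obtain ⟨h1, h2⟩ := h
  constructor
  · have hJ : Cfsg.thompsonSubgroupOf p (R₀.map f) = (Cfsg.thompsonSubgroupOf p R₀).map f :=
      Helper17.thompsonSubgroupOf_map_of_injOn f (fun x _ hx => hf (by rw [hx, map_one]))
    rw [hJ] at h1
    have h3 : (normalizer (Cfsg.thompsonSubgroupOf p R₀ : Set H)).map f ≤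
        normalizer (((Cfsg.thompsonSubgroupOf p R₀).map f : Subgroup G) : Set G) :=
      Subgroup.le_normalizer_map f
    have h4 := NPC.of_le h3 h1
    exact NPC.of_equiv (Subgroup.equivMapOfInjective _ f hf).symm h4
  · have h3 : (centralizer ((R₀ ⊓ centralizer (R₀ : Set H) : Subgroup H) : Set H)).map f ≤
        centralizer (((R₀.map f) ⊓ centralizer ((R₀.map f : Subgroup G) : Set G) : Subgroup G)
          : Set G) := by
      rintro _ ⟨x, hx, rfl⟩
      rw [Subgroup.mem_centralizer_iff]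
      intro z hz
      obtain ⟨hz1, hz2⟩ := Subgroup.mem_inf.mp hz
      obtain ⟨z', hz', rfl⟩ := Subgroup.mem_map.mp hz1
      have hz'c : z' ∈ centralizer (R₀ : Set H) := by
        rw [Subgroup.mem_centralizer_iff]
        intro r hr
        apply hf
        rw [map_mul, map_mul]
        exact (Subgroup.mem_centralizer_iff.mp hz2) _ (Subgroup.mem_map_of_mem f hr)
      have := (Subgroup.mem_centralizer_iff.mp hx) z' (Subgroup.mem_inf.mpr ⟨hz', hz'c⟩)
      rw [← map_mul, ← map_mul, this]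
    have h4 := NPC.of_le h3 h2
    exact NPC.of_equiv (Subgroup.equivMapOfInjective _ f hf).symm h4

/-- The hypothesis passes to subgroups. -/
theorem ThHyp.subgroup (M : Subgroup G) (R₀ : Subgroup M) (h : ThHyp p G (R₀.map M.subtype)) :
    ThHyp p M R₀ :=
  ThHyp.of_injective M.subtype M.subtype_injective R₀ h

/-- The hypothesis is invariant under conjugation. -/
theorem ThHyp.conj (g : G) (P : Subgroup G) (h : ThHyp p G P) :
    ThHyp p G (P.map (MulAut.conj g).toMonoidHom) := by
  apply ThHyp.of_injective (MulAut.conj g⁻¹).toMonoidHom (MulAut.conj g⁻¹).injective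
  have : (P.map (MulAut.conj g).toMonoidHom).map (MulAut.conj g⁻¹).toMonoidHom = P := by
    ext x
    simp only [Subgroup.mem_map, MulEquiv.coe_toMonoidHom, MulAut.conj_apply, inv_inv,
      exists_exists_and_eq_and]
    constructor
    · rintro ⟨a, ha, rfl⟩
      have : g⁻¹ * (g * a * g⁻¹) * g = a := by group
      rwa [this]
    · intro hx
      exact ⟨x, hx, by group⟩
  rw [this]
  exact h

end inj

section nontriv

variable {G : Type u} [Group G] [Finite G] {p : ℕ} [hp : Fact p.Prime]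

theorem thompsonSubgroupOf_ne_bot (U : Subgroup G) (hU : IsPGroup p U) (hne : U ≠ ⊥) :
    Cfsg.thompsonSubgroupOf p U ≠ ⊥ := by
  have hdvd : p ∣ Nat.card U := by
    obtain ⟨k, hk⟩ := IsPGroup.iff_card.mp hU
    rcases Nat.eq_zero_or_pos k with h0 | h0
    · exfalso
      apply hne
      rw [h0, pow_zero] at hk
      exact Subgroup.card_eq_one.mp hk
    · rw [hk]
      exact dvd_pow_self p h0.ne'
  obtain ⟨x, hx⟩ := exists_prime_orderOf_dvd_card' p hdvd
  have hx1 : (x : G) ^ p = 1 := by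
    have : x ^ p = 1 := by rw [← hx]; exact pow_orderOf_eq_one x
    have := congrArg Subtype.val this
    simpa using this
  have hxo : orderOf (x : G) = p := by rw [Subgroup.orderOf_coe, hx]
  obtain ⟨A, hA⟩ := Helper17.exists_mem_maxEAIn p U
  have h1 : Nat.card (zpowers (x : G)) ≤ Nat.card A :=
    hA.2.2 _ (by rw [Subgroup.zpowers_le]; exact x.2) (Helper17.ea_zpowers hx1)
  rw [Nat.card_zpowers, hxo] at h1
  intro hbot
  have h2 : A ≤ ⊥ := hbot ▸ Helper17.le_thompsonSubgroupOf_of_mem_maxEAIn hA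
  have h3 : A = ⊥ := le_bot_iff.mp h2
  rw [h3, Subgroup.card_bot] at h1
  have := hp.out.two_le
  omega

theorem inf_centralizer_ne_bot_of_isPGroup (U : Subgroup G) (hU : IsPGroup p U) (hne : U ≠ ⊥) :
    U ⊓ centralizer (U : Set G) ≠ ⊥ := by
  have : Nontrivial U := (Subgroup.nontrivial_iff_ne_bot U).mpr hne
  have := hU.center_nontrivial
  obtain ⟨z, hz⟩ := exists_ne (1 : Subgroup.center U)
  intro hbot
  apply hz
  have h1 : ((z : U) : G) ∈ U ⊓ centralizer (U : Set G) := by
    refine Subgroup.mem_inf.mpr ⟨(z : U).2, ?_⟩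
    rw [Subgroup.mem_centralizer_iff]
    intro u hu
    have := (Subgroup.mem_center_iff.mp z.2) ⟨u, hu⟩
    exact congrArg Subtype.val this
  rw [hbot, Subgroup.mem_bot] at h1
  apply Subtype.ext
  apply Subtype.ext
  exact h1

end nontriv


section pprime

variable {G : Type u} [Group G] [Finite G] {p : ℕ} [hp : Fact p.Prime]

omit [Finite G] hp in
theorem injOn_of_coprime (K₀ : Subgroup G) [K₀.Normal] (hK₀ : (Nat.card K₀).Coprime p)
    (X : Subgroup G) (hX : IsPGroup p X) :
    ∀ x ∈ X, QuotientGroup.mk' K₀ x = 1 → x = 1 := by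
  intro x hx h1
  have hxK : x ∈ K₀ := by
    rwa [← QuotientGroup.ker_mk' K₀, MonoidHom.mem_ker]
  apply eq_one_of_isPGroup_of_coprime hX hx
  exact Nat.Coprime.coprime_dvd_left (Subgroup.orderOf_dvd_natCard K₀ hxK) hK₀

theorem mem_normalizer_of_conj_mem (X : Subgroup G) (g : G) (h : ∀ x ∈ X, g * x * g⁻¹ ∈ X) :
    g ∈ normalizer (X : Set G) := by
  rw [Subgroup.mem_normalizer_iff_map_conj_eq]
  apply Subgroup.eq_of_le_of_card_ge
  · rintro _ ⟨x, hx, rfl⟩
    exact h x hx
  · rw [Subgroup.card_map_of_injective (MulAut.conj g).injective]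

omit hp in
theorem relIndex_sup_of_coprime (K₀ : Subgroup G) [K₀.Normal] (hK₀ : (Nat.card K₀).Coprime p)
    (X : Subgroup G) (hX : IsPGroup p X) : X.relIndex (X ⊔ K₀) = Nat.card K₀ := by
  have hinf : K₀ ⊓ X = ⊥ := by
    rw [eq_bot_iff]
    intro x hx
    obtain ⟨hx1, hx2⟩ := Subgroup.mem_inf.mp hx
    rw [Subgroup.mem_bot]
    apply eq_one_of_isPGroup_of_coprime hX hx2
    exact Nat.Coprime.coprime_dvd_left (Subgroup.orderOf_dvd_natCard K₀ hx1) hK₀
  have h1 := Subgroup.relIndex_mul_relIndex (⊥ : Subgroup G) K₀ (X ⊔ K₀) bot_le le_sup_right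
  have h2 := Subgroup.relIndex_mul_relIndex (⊥ : Subgroup G) X (X ⊔ K₀) bot_le le_sup_left
  have h3 : K₀.relIndex (X ⊔ K₀) = K₀.relIndex X := Subgroup.relIndex_sup_right X K₀
  have h4 : K₀.relIndex X = Nat.card X := by
    rw [← Subgroup.inf_relIndex_right, hinf, Subgroup.relIndex_bot_left]
  rw [Subgroup.relIndex_bot_left] at h1 h2
  rw [h3, h4] at h1
  have hpos : 0 < Nat.card X := Nat.card_pos
  have h5 : Nat.card X * X.relIndex (X ⊔ K₀) = Nat.card X * Nat.card K₀ := by
    rw [h2, ← h1, mul_comm]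
  exact Nat.eq_of_mul_eq_mul_left hpos h5

theorem normalizer_map_le_of_coprime (K₀ : Subgroup G) [K₀.Normal]
    (hK₀ : (Nat.card K₀).Coprime p) (X : Subgroup G) (hX : IsPGroup p X) :
    normalizer ((X.map (QuotientGroup.mk' K₀) : Subgroup (G ⧸ K₀)) : Set (G ⧸ K₀)) ≤
      (normalizer (X : Set G)).map (QuotientGroup.mk' K₀) := by
  intro gbar hgbar
  obtain ⟨g, rfl⟩ := QuotientGroup.mk'_surjective K₀ gbar
  have hidx : ¬ p ∣ X.relIndex (X ⊔ K₀) := by
    rw [relIndex_sup_of_coprime K₀ hK₀ X hX]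
    exact (Nat.Prime.coprime_iff_not_dvd hp.out).mp hK₀.symm
  have hB : IsPGroup p (X.map (MulAut.conj g).toMonoidHom) := hX.map _
  have hBW : X.map (MulAut.conj g).toMonoidHom ≤ X ⊔ K₀ := by
    rintro _ ⟨x, hx, rfl⟩
    have h1 : QuotientGroup.mk' K₀ (g * x * g⁻¹) ∈ X.map (QuotientGroup.mk' K₀) := by
      rw [map_mul, map_mul, map_inv]
      exact (Subgroup.mem_normalizer_iff.mp hgbar _).mp (Subgroup.mem_map_of_mem _ hx)
    have h2 : g * x * g⁻¹ ∈ (X.map (QuotientGroup.mk' K₀)).comap (QuotientGroup.mk' K₀) := h1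
    rw [Subgroup.comap_map_eq, QuotientGroup.ker_mk'] at h2
    exact h2
  obtain ⟨k, hkW, hk⟩ := Helper17.exists_conj_le_of_not_dvd_relIndex (X ⊔ K₀) X _ hX hidx hB hBW
  have hn : k * g ∈ normalizer (X : Set G) := by
    apply mem_normalizer_of_conj_mem
    intro x hx
    have := hk (g * x * g⁻¹) (Subgroup.mem_map.mpr ⟨x, hx, rfl⟩)
    have e : k * g * x * (k * g)⁻¹ = k * (g * x * g⁻¹) * k⁻¹ := by group
    rw [e]; exact this
  obtain ⟨x₀, hx₀, k₀, hk₀, rfl⟩ := Subgroup.mem_sup_of_normal_right.mp hkW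
  refine Subgroup.mem_map.mpr ⟨x₀⁻¹ * (x₀ * k₀ * g), ?_, ?_⟩
  · exact Subgroup.mul_mem _ (Subgroup.le_normalizer (X.inv_mem hx₀)) hn
  · have h1 : QuotientGroup.mk' K₀ k₀ = 1 := by
      rw [← MonoidHom.mem_ker, QuotientGroup.ker_mk']; exact hk₀
    rw [map_mul, map_mul, map_mul, map_inv, h1, mul_one, inv_mul_cancel_left]

theorem centralizer_map_le_of_coprime (K₀ : Subgroup G) [K₀.Normal]
    (hK₀ : (Nat.card K₀).Coprime p) (X : Subgroup G) (hX : IsPGroup p X) :
    centralizer ((X.map (QuotientGroup.mk' K₀) : Subgroup (G ⧸ K₀)) : Set (G ⧸ K₀)) ≤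
      (centralizer (X : Set G)).map (QuotientGroup.mk' K₀) := by
  intro gbar hgbar
  have h1 := normalizer_map_le_of_coprime K₀ hK₀ X hX (Subgroup.centralizer_le_normalizer _ hgbar)
  obtain ⟨n, hn, rfl⟩ := Subgroup.mem_map.mp h1
  refine Subgroup.mem_map.mpr ⟨n, ?_, rfl⟩
  rw [Subgroup.mem_centralizer_iff]
  intro x hx
  have h2 : n * x * n⁻¹ ∈ X := (Subgroup.mem_normalizer_iff.mp hn x).mp hx
  have h3 : QuotientGroup.mk' K₀ (n * x * n⁻¹ * x⁻¹) = 1 := by
    have := (Subgroup.mem_centralizer_iff.mp hgbar) _ (Subgroup.mem_map_of_mem _ hx)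
    rw [map_mul, map_mul, map_mul, map_inv, map_inv, ← this]
    group
  have h4 := injOn_of_coprime K₀ hK₀ X hX _ (X.mul_mem h2 (X.inv_mem hx)) h3
  have h5 : n * x = x * n := by
    have : n * x * n⁻¹ * x⁻¹ * (x * n) = n * x := by group
    rw [← this, h4, one_mul]
  exact h5.symm

/-- The hypothesis passes to the quotient by a normal `p'`-subgroup. -/
theorem ThHyp.quotient_of_coprime (K₀ : Subgroup G) [K₀.Normal]
    (hK₀ : (Nat.card K₀).Coprime p) (P : Subgroup G) (hP : IsPGroup p P) (h : ThHyp p G P) :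
    ThHyp p (G ⧸ K₀) (P.map (QuotientGroup.mk' K₀)) := by
  have hinj := injOn_of_coprime K₀ hK₀ P hP
  have hJ : Cfsg.thompsonSubgroupOf p (P.map (QuotientGroup.mk' K₀)) =
      (Cfsg.thompsonSubgroupOf p P).map (QuotientGroup.mk' K₀) :=
    Helper17.thompsonSubgroupOf_map_of_injOn _ hinj
  have hZ : (P.map (QuotientGroup.mk' K₀)) ⊓
      centralizer ((P.map (QuotientGroup.mk' K₀) : Subgroup (G ⧸ K₀)) : Set (G ⧸ K₀)) =
      (P ⊓ centralizer (P : Set G)).map (QuotientGroup.mk' K₀) := by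
    ext y
    constructor
    · intro hy
      obtain ⟨hy1, hy2⟩ := Subgroup.mem_inf.mp hy
      obtain ⟨x, hx, rfl⟩ := Subgroup.mem_map.mp hy1
      refine Subgroup.mem_map.mpr ⟨x, Subgroup.mem_inf.mpr ⟨hx, ?_⟩, rfl⟩
      rw [Subgroup.mem_centralizer_iff]
      intro r hr
      apply Helper17.eq_of_map_eq_of_injOn _ hinj (P.mul_mem hr hx) (P.mul_mem hx hr)
      rw [map_mul, map_mul]
      exact (Subgroup.mem_centralizer_iff.mp hy2) _ (Subgroup.mem_map_of_mem _ hr)
    · rintro ⟨x, hx, rfl⟩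
      obtain ⟨hx1, hx2⟩ := Subgroup.mem_inf.mp hx
      refine Subgroup.mem_inf.mpr ⟨Subgroup.mem_map_of_mem _ hx1, ?_⟩
      rw [Subgroup.mem_centralizer_iff]
      rintro _ ⟨r, hr, rfl⟩
      rw [← map_mul, ← map_mul, (Subgroup.mem_centralizer_iff.mp hx2) r hr]
  constructor
  · rw [hJ]
    exact NPC.of_le (normalizer_map_le_of_coprime K₀ hK₀ _
      (hP.to_le (Helper17.thompsonSubgroupOf_le_self P))) (NPC.map _ _ h.1)
  · rw [hZ]
    exact NPC.of_le (centralizer_map_le_of_coprime K₀ hK₀ _ (hP.to_le inf_le_left))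
      (NPC.map _ _ h.2)

end pprime


section pquot

variable {G : Type u} [Group G] [Finite G] {p : ℕ} [hp : Fact p.Prime]

/-- The hypothesis passes to the quotient by a normal `p`-subgroup `Q ≤ P`, provided the
normalizers of the subgroups strictly between have normal `p`-complements. -/
theorem ThHyp.quotient_of_normalizers (Q : Subgroup G) [Q.Normal] (P : Subgroup G) (hQP : Q ≤ P)
    (hP : IsPGroup p P)
    (h : ∀ K : Subgroup G, Q ≤ K → K ≤ P → P ≤ normalizer (K : Set G) → K ≠ Q →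
      NPC p ↥(normalizer (K : Set G)))
    (hne : P.map (QuotientGroup.mk' Q) ≠ ⊥) :
    ThHyp p (G ⧸ Q) (P.map (QuotientGroup.mk' Q)) := by
  have hsurj := QuotientGroup.mk'_surjective Q
  have hPbar : IsPGroup p (P.map (QuotientGroup.mk' Q)) := hP.map _
  have hcm : (P.map (QuotientGroup.mk' Q)).comap (QuotientGroup.mk' Q) = P := by
    rw [Subgroup.comap_map_eq, QuotientGroup.ker_mk', sup_eq_left.mpr hQP]
  -- general step
  have key : ∀ X : Subgroup (G ⧸ Q), X ≤ P.map (QuotientGroup.mk' Q) → X ≠ ⊥ →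
      P.map (QuotientGroup.mk' Q) ≤ normalizer (X : Set (G ⧸ Q)) →
      NPC p ↥(normalizer ((X.comap (QuotientGroup.mk' Q) : Subgroup G) : Set G)) := by
    intro X hXP hX hPX
    apply h
    · intro q hq
      rw [Subgroup.mem_comap]
      have : QuotientGroup.mk' Q q = 1 := by
        rw [← MonoidHom.mem_ker, QuotientGroup.ker_mk']; exact hq
      rw [this]; exact X.one_mem
    · rw [← hcm]; exact Subgroup.comap_mono hXP
    · rw [← Subgroup.comap_normalizer_eq_of_surjective X hsurj, ← hcm]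
      exact Subgroup.comap_mono hPX
    · intro hKQ
      apply hX
      rw [← Subgroup.map_comap_eq_self_of_surjective hsurj X, hKQ, eq_bot_iff]
      rintro _ ⟨q, hq, rfl⟩
      rw [Subgroup.mem_bot, ← MonoidHom.mem_ker, QuotientGroup.ker_mk']; exact hq
  constructor
  · apply NPC.of_comap_normalizer (QuotientGroup.mk' Q) hsurj _ _ le_rfl
    apply key
    · exact Helper17.thompsonSubgroupOf_le_self _
    · exact thompsonSubgroupOf_ne_bot _ hPbar hne
    · exact Subgroup.le_normalizer.trans (Helper17.normalizer_le_normalizer_thompsonSubgroupOf _)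
  · apply NPC.of_comap_normalizer (QuotientGroup.mk' Q) hsurj _ _
      (Subgroup.centralizer_le_normalizer _)
    apply key
    · exact inf_le_left
    · exact inf_centralizer_ne_bot_of_isPGroup _ hPbar hne
    · intro y hy
      apply mem_normalizer_of_conj_mem
      intro z hz
      obtain ⟨hz1, hz2⟩ := Subgroup.mem_inf.mp hz
      have : y * z * y⁻¹ = z := by
        rw [(Subgroup.mem_centralizer_iff.mp hz2) y hy, mul_inv_cancel_right]
      rw [this]; exact hz

end pquot

end Cfsg.Agent.Lib.Helper13
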