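import Mathlib
import Cfsg.Agent.Lib.Helper13.Coprime

/-!
Glauberman's lemma (internal form) and consequences for coprime action (helper13).
-/

set_option autoImplicit false

namespace Cfsg.Agent.Lib.Helper13

open scoped Pointwise

universe u v

theorem le_normalizer_inf {G : Type*} [Group G] {A X Y : Subgroup G}
    (hX : A ≤ Subgroup.normalizer (X : Set G)) (hY : A ≤ Subgroup.normalizer (Y : Set G)) :
    A ≤ Subgroup.normalizer ((X ⊓ Y : Subgroup G) : Set G) := by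
  intro a ha
  rw [Subgroup.mem_normalizer_iff]
  intro h
  rw [Subgroup.mem_inf, Subgroup.mem_inf, ← Subgroup.mem_normalizer_iff.mp (hX ha) h,
    ← Subgroup.mem_normalizer_iff.mp (hY ha) h]

theorem exists_mul_of_mem_sup_of_le_normalizer {G : Type*} [Group G] {K A : Subgroup G}
    (hAK : A ≤ Subgroup.normalizer (K : Set G)) {g : G} (hg : g ∈ K ⊔ A) :
    ∃ k ∈ K, ∃ a ∈ A, k * a = g := by
  have h : g ∈ ((K ⊔ A : Subgroup G) : Set G) := hg
  rw [Subgroup.coe_mul_of_right_le_normalizer_left K A hAK] at h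
  exact Set.mem_mul.mp h

/-- **Glauberman's lemma, existence**. `A` normalizes `K` with coprime orders (one of them solvable);
`S` is a nonempty set, invariant under `K` and `A`, on which `K` is transitive. Then `A` fixes a
point of `S`. -/
theorem glauberman_exists {G : Type u} [Group G] [Finite G] {Ω : Type v} [MulAction G Ω]
    (A K : Subgroup G) (hAK : A ≤ Subgroup.normalizer (K : Set G))
    (hcop : (Nat.card A).Coprime (Nat.card K)) (hsolv : Group.IsSolvable A ∨ Group.IsSolvable K)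
    (S : Set Ω) (hS : S.Nonempty) (htrans : ∀ x ∈ S, ∀ y ∈ S, ∃ k ∈ K, k • x = y)
    (hK : ∀ k ∈ K, ∀ x ∈ S, k • x ∈ S) (hA : ∀ a ∈ A, ∀ x ∈ S, a • x ∈ S) :
    ∃ x ∈ S, ∀ a ∈ A, a • x = x := by
  obtain ⟨ω, hω⟩ := hS
  obtain ⟨Γ, hΓ⟩ : ∃ Γ : Subgroup G, Γ = K ⊔ A := ⟨_, rfl⟩
  obtain ⟨M, hM⟩ : ∃ M : Subgroup G, M = MulAction.stabilizer G ω ⊓ Γ := ⟨_, rfl⟩
  have hKΓ : K ≤ Γ := hΓ ▸ le_sup_left
  have hAΓ : A ≤ Γ := hΓ ▸ le_sup_right
  have hMΓ : M ≤ Γ := hM ▸ inf_le_right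
  have hMstab : M ≤ MulAction.stabilizer G ω := hM ▸ inf_le_left
  have hnorm : Γ ≤ Subgroup.normalizer (K : Set G) := hΓ ▸ sup_le Subgroup.le_normalizer hAK
  have hKn : (K.subgroupOf Γ).Normal :=
    (Subgroup.normal_subgroupOf_iff_le_normalizer hKΓ).mpr hnorm
  have hKA : K ⊓ A = ⊥ := (Subgroup.disjoint_of_coprime_natCard hcop.symm).eq_bot
  have c1 : (K.subgroupOf Γ).IsComplement' (A.subgroupOf Γ) :=
    isComplement'_subgroupOf_of_le_normalizer hKΓ hAΓ hnorm hKA hΓ.symm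
  have hΓS : ∀ g ∈ Γ, ∀ x ∈ S, g • x ∈ S := by
    intro g hg x hx
    rw [hΓ] at hg
    obtain ⟨k, hk, a, ha, rfl⟩ := exists_mul_of_mem_sup_of_le_normalizer hAK hg
    rw [mul_smul]
    exact hK k hk _ (hA a ha x hx)
  -- φ : M → Γ ⧸ K
  let φ : M →* (Γ ⧸ K.subgroupOf Γ) :=
    (QuotientGroup.mk' (K.subgroupOf Γ)).comp (Subgroup.inclusion hMΓ)
  have hφsurj : Function.Surjective φ := by
    intro q
    obtain ⟨⟨g, hg⟩, rfl⟩ := QuotientGroup.mk'_surjective _ q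
    obtain ⟨k, hk, hkg⟩ := htrans ω hω (g • ω) (hΓS g hg ω hω)
    have hm : k⁻¹ * g ∈ M := by
      rw [hM]
      refine ⟨(?_ : k⁻¹ * g ∈ MulAction.stabilizer G ω), Γ.mul_mem (Γ.inv_mem (hKΓ hk)) hg⟩
      rw [MulAction.mem_stabilizer_iff, mul_smul, ← hkg, inv_smul_smul]
    refine ⟨⟨k⁻¹ * g, hm⟩, ?_⟩
    have h1 : (QuotientGroup.mk' (K.subgroupOf Γ)) ⟨k, hKΓ hk⟩ = 1 := by
      rw [QuotientGroup.mk'_apply, QuotientGroup.eq_one_iff]
      exact Subgroup.mem_subgroupOf.mpr hk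
    have h2 : (⟨k⁻¹ * g, hMΓ hm⟩ : Γ) = (⟨k, hKΓ hk⟩ : Γ)⁻¹ * ⟨g, hg⟩ := rfl
    show (QuotientGroup.mk' (K.subgroupOf Γ)) ⟨k⁻¹ * g, hMΓ hm⟩ = _
    rw [h2, map_mul, map_inv, h1, inv_one, one_mul]
  have hker : ∀ m : M, m ∈ φ.ker ↔ (m : G) ∈ K := by
    intro m
    rw [MonoidHom.mem_ker]
    show (QuotientGroup.mk' (K.subgroupOf Γ)) (Subgroup.inclusion hMΓ m) = 1 ↔ _
    rw [QuotientGroup.mk'_apply, QuotientGroup.eq_one_iff, Subgroup.mem_subgroupOf]
    rfl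
  have hkercard : Nat.card φ.ker ∣ Nat.card K := by
    have h1 : (φ.ker).map M.subtype ≤ K := by
      rintro _ ⟨m, hm, rfl⟩
      exact (hker m).mp hm
    have h2 := Subgroup.card_dvd_of_le h1
    rwa [Subgroup.card_map_of_injective M.subtype_injective] at h2
  have hindex : φ.ker.index = Nat.card A := by
    rw [Subgroup.index_ker, MonoidHom.range_eq_top.mpr hφsurj, Subgroup.card_top,
      ← Subgroup.index_eq_card, c1.symm.index_eq_card, card_subgroupOf_of_le hAΓ]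
  have hcop' : (Nat.card φ.ker).Coprime φ.ker.index := by
    rw [hindex]
    exact (Nat.Coprime.of_dvd_right hkercard hcop).symm
  obtain ⟨B', hB'⟩ := Subgroup.exists_right_complement'_of_coprime hcop'
  have hB'card : Nat.card B' = Nat.card A := by
    rw [← hindex, hB'.symm.index_eq_card]
  obtain ⟨B, hB⟩ : ∃ B : Subgroup G, B = B'.map M.subtype := ⟨_, rfl⟩
  have hBM : B ≤ M := by
    rw [hB]
    rintro _ ⟨m, _, rfl⟩
    exact m.2
  have hBcard : Nat.card B = Nat.card A := by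
    rw [hB, Subgroup.card_map_of_injective M.subtype_injective, hB'card]
  have hsolv' : Group.IsSolvable K ∨ Group.IsSolvable A := hsolv.symm
  obtain ⟨n, hn, hnA⟩ := rel_sz_conj K A B hAK (hΓ ▸ hBM.trans hMΓ) hBcard hcop.symm hsolv'
  refine ⟨n⁻¹ • ω, hK _ (K.inv_mem hn) ω hω, ?_⟩
  intro a ha
  have h1 : n * a * n⁻¹ ∈ B := by
    rw [← hnA, mem_cj]
    have : n⁻¹ * (n * a * n⁻¹) * n = a := by group
    rw [this]; exact ha
  have h2 : (n * a * n⁻¹) • ω = ω := MulAction.mem_stabilizer_iff.mp (hMstab (hBM h1))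
  calc a • n⁻¹ • ω = n⁻¹ • (n * a * n⁻¹) • ω := by
        rw [← mul_smul, ← mul_smul]; congr 1; group
    _ = n⁻¹ • ω := by rw [h2]

/-- **Glauberman's lemma, conjugacy**: two `A`-fixed points in the same `K`-orbit are conjugate
under `C_K(A)`. -/
theorem glauberman_conj {G : Type u} [Group G] [Finite G] {Ω : Type v} [MulAction G Ω]
    (A K : Subgroup G) (hAK : A ≤ Subgroup.normalizer (K : Set G))
    (hcop : (Nat.card A).Coprime (Nat.card K)) (hsolv : Group.IsSolvable A ∨ Group.IsSolvable K)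
    (x y : Ω) (hx : ∀ a ∈ A, a • x = x) (hy : ∀ a ∈ A, a • y = y) (hxy : ∃ k ∈ K, k • x = y) :
    ∃ c ∈ K ⊓ Subgroup.centralizer (A : Set G), c • x = y := by
  obtain ⟨k, hk, rfl⟩ := hxy
  obtain ⟨N, hN⟩ : ∃ N : Subgroup G, N = MulAction.stabilizer G x ⊓ K := ⟨_, rfl⟩
  have hNK : N ≤ K := hN ▸ inf_le_right
  have hAstab : A ≤ MulAction.stabilizer G x := fun a ha => MulAction.mem_stabilizer_iff.mpr (hx a ha)
  have hAN : A ≤ Subgroup.normalizer (N : Set G) := by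
    rw [hN]
    exact le_normalizer_inf (hAstab.trans Subgroup.le_normalizer) hAK
  have hB : MulAut.conj k⁻¹ • A ≤ N ⊔ A := by
    intro b hb
    rw [mem_cj] at hb
    obtain ⟨a, ha⟩ : ∃ a, a = k⁻¹⁻¹ * b * k⁻¹ := ⟨_, rfl⟩
    rw [← ha] at hb
    have hb_eq : b = (k⁻¹ * (a * k * a⁻¹)) * a := by rw [ha]; group
    have h1 : a * k * a⁻¹ ∈ K := (Subgroup.mem_normalizer_iff.mp (hAK hb) k).mp hk
    have h2 : k⁻¹ * (a * k * a⁻¹) ∈ N := by
      rw [hN]
      refine ⟨(?_ : k⁻¹ * (a * k * a⁻¹) ∈ MulAction.stabilizer G x), K.mul_mem (K.inv_mem hk) h1⟩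
      rw [MulAction.mem_stabilizer_iff]
      have ha_inv : a⁻¹ • x = x := by
        rw [inv_smul_eq_iff, hx a hb]
      rw [mul_smul, mul_smul, mul_smul, ha_inv, hy a hb, inv_smul_smul]
    rw [hb_eq]
    exact Subgroup.mul_mem_sup h2 hb
  have hcopN : (Nat.card N).Coprime (Nat.card A) :=
    (Nat.Coprime.of_dvd_right (Subgroup.card_dvd_of_le hNK) hcop).symm
  have hsolv' : Group.IsSolvable N ∨ Group.IsSolvable A := by
    rcases hsolv with h | h
    · exact Or.inr h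
    · exact Or.inl (isSolvable_of_le hNK h)
  obtain ⟨n, hn, hnA⟩ := rel_sz_conj N A (MulAut.conj k⁻¹ • A) hAN hB (card_cj k⁻¹ A) hcopN hsolv'
  have hKA : K ⊓ A = ⊥ := (Subgroup.disjoint_of_coprime_natCard hcop.symm).eq_bot
  have hcnorm : k * n ∈ Subgroup.normalizer (A : Set G) := by
    rw [← cj_eq_self_iff_mem_normalizer, cj_mul, hnA, ← cj_mul, mul_inv_cancel, cj_one]
  have hcK : k * n ∈ K := K.mul_mem hk (hNK hn)
  refine ⟨k * n, ⟨hcK, mem_centralizer_of_mem_normalizer A K hAK hKA _ hcK hcnorm⟩, ?_⟩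
  have hnx : n • x = x := by
    have : n ∈ MulAction.stabilizer G x := by rw [hN] at hn; exact hn.1
    exact MulAction.mem_stabilizer_iff.mp this
  rw [mul_smul, hnx]

end Cfsg.Agent.Lib.Helper13
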