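import Mathlib
import Cfsg.Agent.Lib.Helper13.Glauberman

/-!
Invariant Sylow subgroups under coprime action (helper13).
-/

set_option autoImplicit false

namespace Cfsg.Agent.Lib.Helper13

open scoped Pointwise

universe u

theorem cj_le_of_mem_normalizer {G : Type*} [Group G] {K P : Subgroup G} {g : G}
    (hg : g ∈ Subgroup.normalizer (K : Set G)) (hP : P ≤ K) : MulAut.conj g • P ≤ K := by
  intro x hx
  rw [mem_cj] at hx
  have h1 := (Subgroup.mem_normalizer_iff.mp hg (g⁻¹ * x * g)).mp (hP hx)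
  have : g * (g⁻¹ * x * g) * g⁻¹ = x := by group
  rwa [this] at h1

/-- Conjugating (the image of) a Sylow subgroup of `K` by an element normalizing `K` gives
(the image of) a Sylow subgroup of `K`. -/
theorem exists_sylow_map_eq_cj {G : Type u} [Group G] [Finite G] (K : Subgroup G) (p : ℕ)
    [Fact p.Prime] (P : Sylow p K) {g : G} (hg : g ∈ Subgroup.normalizer (K : Set G)) :
    ∃ Q : Sylow p K, (Q : Subgroup K).map K.subtype = MulAut.conj g • (P : Subgroup K).map K.subtype := by
  have hle : MulAut.conj g • (P : Subgroup K).map K.subtype ≤ K :=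
    cj_le_of_mem_normalizer hg (Subgroup.map_subtype_le _)
  have hcard : Nat.card ((MulAut.conj g • (P : Subgroup K).map K.subtype).subgroupOf K) =
      p ^ (Nat.card K).factorization p := by
    rw [card_subgroupOf_of_le hle, card_cj, Subgroup.card_map_of_injective K.subtype_injective,
      P.card_eq_multiplicity]
  refine ⟨Sylow.ofCard _ hcard, ?_⟩
  rw [Sylow.coe_ofCard, Subgroup.map_subgroupOf_eq_of_le hle]

/-- **Coprime action**: an `A`-invariant Sylow `p`-subgroup of `K` exists. -/
theorem exists_invariant_sylow {G : Type u} [Group G] [Finite G] (A K : Subgroup G)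
    (hAK : A ≤ Subgroup.normalizer (K : Set G))
    (hcop : (Nat.card A).Coprime (Nat.card K)) (hsolv : Group.IsSolvable A ∨ Group.IsSolvable K)
    (p : ℕ) [Fact p.Prime] :
    ∃ P : Sylow p K, A ≤ Subgroup.normalizer ((P : Subgroup K).map K.subtype : Set G) := by
  let _ : MulAction G (Subgroup G) := MulAction.compHom (Subgroup G) (MulAut.conj : G →* MulAut G)
  have hsmul : ∀ (g : G) (P : Subgroup G), g • P = MulAut.conj g • P := fun _ _ => rfl
  obtain ⟨P, ⟨P', rfl⟩, hP⟩ := glauberman_exists A K hAK hcop hsolv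
    {P : Subgroup G | ∃ P' : Sylow p K, (P' : Subgroup K).map K.subtype = P}
    ⟨_, ⟨default, rfl⟩⟩
    (by
      rintro _ ⟨P', rfl⟩ _ ⟨Q', rfl⟩
      obtain ⟨k, hk⟩ := MulAction.exists_smul_eq K P' Q'
      refine ⟨k, k.2, ?_⟩
      rw [hsmul, ← hk, Sylow.coe_subgroup_smul, map_cj]
      rfl)
    (by
      rintro k hk _ ⟨P', rfl⟩
      obtain ⟨Q, hQ⟩ := exists_sylow_map_eq_cj K p P' (Subgroup.le_normalizer hk)
      exact ⟨Q, hQ⟩)
    (by
      rintro a ha _ ⟨P', rfl⟩
      obtain ⟨Q, hQ⟩ := exists_sylow_map_eq_cj K p P' (hAK ha)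
      exact ⟨Q, hQ⟩)
  refine ⟨P', fun a ha => ?_⟩
  rw [← cj_eq_self_iff_mem_normalizer]
  exact hP a ha

/-- **Coprime action**: two `A`-invariant Sylow `p`-subgroups of `K` are conjugate under `C_K(A)`. -/
theorem invariant_sylow_conj {G : Type u} [Group G] [Finite G] (A K : Subgroup G)
    (hAK : A ≤ Subgroup.normalizer (K : Set G))
    (hcop : (Nat.card A).Coprime (Nat.card K)) (hsolv : Group.IsSolvable A ∨ Group.IsSolvable K)
    (p : ℕ) [Fact p.Prime] (P Q : Sylow p K)
    (hP : A ≤ Subgroup.normalizer ((P : Subgroup K).map K.subtype : Set G))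
    (hQ : A ≤ Subgroup.normalizer ((Q : Subgroup K).map K.subtype : Set G)) :
    ∃ c : K, (c : G) ∈ Subgroup.centralizer (A : Set G) ∧ MulAut.conj c • P = Q := by
  let _ : MulAction G (Subgroup G) := MulAction.compHom (Subgroup G) (MulAut.conj : G →* MulAut G)
  have hsmul : ∀ (g : G) (P : Subgroup G), g • P = MulAut.conj g • P := fun _ _ => rfl
  obtain ⟨k, hk⟩ := MulAction.exists_smul_eq K P Q
  have hmap : ∀ (k : K) , (MulAut.conj k • (P : Subgroup K)).map K.subtype =
      MulAut.conj (k : G) • (P : Subgroup K).map K.subtype := fun k => map_cj K.subtype k _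
  obtain ⟨c, ⟨hcK, hcA⟩, hc⟩ := glauberman_conj A K hAK hcop hsolv
    ((P : Subgroup K).map K.subtype) ((Q : Subgroup K).map K.subtype)
    (fun a ha => by rw [hsmul]; exact cj_eq_self_iff_mem_normalizer.mpr (hP ha))
    (fun a ha => by rw [hsmul]; exact cj_eq_self_iff_mem_normalizer.mpr (hQ ha))
    ⟨k, k.2, by
      rw [hsmul, ← hmap, ← hk]
      rfl⟩
  refine ⟨⟨c, hcK⟩, hcA, ?_⟩
  apply Sylow.ext
  rw [Sylow.pointwise_smul_def]
  apply Subgroup.map_injective K.subtype_injective
  rw [hmap]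
  exact hc

end Cfsg.Agent.Lib.Helper13
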