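import Mathlib

set_option autoImplicit false

namespace Cfsg.Agent.Lib.Helper13

/-- **Quadratic action lemma (ring form)**.  In a ring of odd prime characteristic `p`, let `X` be
a unit with `(X - 1)² = 0` and `Y` a unit with `Y ^ m = 1`, `m` prime to `p`.  If `Y` commutes with
`X⁻¹ Y X` and with `X Y X⁻¹`, then `Y` commutes with `X`. -/
theorem quad_commute {R : Type*} [Ring R] (p : ℕ) (hp : p.Prime) (hp2 : p ≠ 2) (hpR : (p : R) = 0)
    (X X' Y Y' : R) (hX : X * X' = 1) (hX' : X' * X = 1) (hY : Y * Y' = 1) (hY' : Y' * Y = 1)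
    (hN : (X - 1) * (X - 1) = 0) (m : ℕ) (hm : m.Coprime p) (hYm : Y ^ m = 1)
    (h1 : Y * (X' * Y * X) = (X' * Y * X) * Y) (h2 : Y * (X * Y * X') = (X * Y * X') * Y) :
    Y * X = X * Y := by
  obtain ⟨N, hNdef⟩ : ∃ N : R, N = X - 1 := ⟨_, rfl⟩
  have hXN : X = 1 + N := by rw [hNdef]; noncomm_ring
  have hNN : N * N = 0 := by rw [hNdef]; exact hN
  have hX'N : X' = 1 - N := by
    have h3 : X * (1 - N) = 1 := by
      rw [hXN]
      have : (1 + N) * (1 - N) = 1 - N * N := by noncomm_ring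
      rw [this, hNN, sub_zero]
    calc X' = X' * (X * (1 - N)) := by rw [h3, mul_one]
      _ = (X' * X) * (1 - N) := by rw [mul_assoc]
      _ = 1 - N := by rw [hX', one_mul]
  -- torsion facts
  have hodd : Odd p := hp.eq_two_or_odd'.resolve_left hp2
  obtain ⟨c, hc⟩ := hodd
  have htwo : ∀ Z : R, 2 • Z = 0 → Z = 0 := by
    intro Z hZ
    have h3 : (p : R) * Z = 0 := by rw [hpR, zero_mul]
    rw [hc] at h3
    push_cast at h3
    have h4 : (2 * (c : R) + 1) * Z = (c : R) * (2 • Z) + Z := by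
      rw [two_nsmul]; noncomm_ring
    rw [h4, hZ, mul_zero, zero_add] at h3
    exact h3
  -- the key relation
  have hE1 : Y * Y * N - 2 • (Y * N * Y) + N * Y * Y = 0 := by
    apply htwo
    rw [hXN, hX'N] at h1 h2
    have e1 : Y * ((1 - N) * Y * (1 + N)) - (1 - N) * Y * (1 + N) * Y
        - (Y * ((1 + N) * Y * (1 - N)) - (1 + N) * Y * (1 - N) * Y)
        = 2 • (Y * Y * N - 2 • (Y * N * Y) + N * Y * Y) := by
      noncomm_ring
    rw [← e1, h1, h2, sub_self, sub_self, sub_zero]
  obtain ⟨D, hD⟩ : ∃ D : R, D = Y * N * Y' - N := ⟨_, rfl⟩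
  have hYN : Y * N = (N + D) * Y := by
    rw [hD]
    have : (N + (Y * N * Y' - N)) * Y = Y * N * (Y' * Y) := by noncomm_ring
    rw [this, hY', mul_one]
  have hYD : Y * D = D * Y := by
    -- Y D Y' - D = (Y²N - 2YNY + NY²) Y'²
    have h3 : (Y * D - D * Y) = (Y * Y * N - 2 • (Y * N * Y) + N * Y * Y) * Y' := by
      rw [hD]
      have : (Y * Y * N - 2 • (Y * N * Y) + N * Y * Y) * Y'
          = Y * Y * N * Y' - 2 • (Y * N * (Y * Y')) + N * Y * (Y * Y') := by noncomm_ring
      rw [this, hY]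
      have : Y * (Y * N * Y' - N) - (Y * N * Y' - N) * Y
          = Y * Y * N * Y' - Y * N - Y * N * (Y' * Y) + N * Y := by noncomm_ring
      rw [this, hY']
      noncomm_ring
    rw [hE1, zero_mul, sub_eq_zero] at h3
    exact h3
  have hpow : ∀ k : ℕ, Y ^ k * N = (N + k • D) * Y ^ k := by
    intro k
    induction k with
    | zero => simp
    | succ k ih =>
      have hYkD : Y * (k • D) = (k • D) * Y := by
        rw [mul_smul_comm, smul_mul_assoc, hYD]
      calc Y ^ (k + 1) * N = Y * (Y ^ k * N) := by rw [pow_succ', mul_assoc]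
        _ = Y * ((N + k • D) * Y ^ k) := by rw [ih]
        _ = (Y * N + Y * (k • D)) * Y ^ k := by noncomm_ring
        _ = ((N + D) * Y + (k • D) * Y) * Y ^ k := by rw [hYN, hYkD]
        _ = (N + (k + 1) • D) * Y ^ (k + 1) := by
            rw [pow_succ', add_smul, one_smul]; noncomm_ring
  have hmD : m • D = 0 := by
    have := hpow m
    rw [hYm, one_mul, mul_one] at this
    have h3 : N + m • D = N + 0 := by rw [add_zero]; exact this.symm
    exact add_left_cancel h3
  have hD0 : D = 0 := by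
    have hcop : IsCoprime (m : ℤ) (p : ℤ) := Nat.isCoprime_iff_coprime.mpr hm
    obtain ⟨a, b, hab⟩ := hcop
    have h3 : ((a * m + b * p : ℤ) : R) * D = D := by rw [hab]; simp
    push_cast at h3
    rw [hpR, mul_zero, add_zero, mul_assoc] at h3
    have h4 : (m : R) * D = 0 := by rw [← nsmul_eq_mul]; exact hmD
    rw [h4, mul_zero] at h3
    exact h3.symm
  rw [hD0, add_zero] at hYN
  rw [hXN]
  have : Y * (1 + N) = Y + Y * N := by noncomm_ring
  rw [this, hYN]; noncomm_ring

end Cfsg.Agent.Lib.Helper13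

namespace Cfsg.Agent.Lib.Helper13

open scoped IsMulCommutative commutatorElement

section ConjRep

variable {G : Type*} [Group G] (V : Subgroup G) [hVn : V.Normal] [hVc : IsMulCommutative V]

/-- The conjugation representation of `G` on the additive group of a normal abelian subgroup. -/
def conjRep : G →* AddMonoid.End (Additive V) where
  toFun g := MonoidHom.toAdditive (MulAut.conjNormal g : MulAut V).toMonoidHom
  map_one' := by
    ext v
    show ((MulAut.conjNormal (1 : G) : MulAut V) (Additive.toMul v) : G) = (Additive.toMul v : V)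
    rw [map_one]; rfl
  map_mul' g h := by
    ext v
    show ((MulAut.conjNormal (g * h) : MulAut V) (Additive.toMul v) : G) =
      ((MulAut.conjNormal g : MulAut V) ((MulAut.conjNormal h : MulAut V) (Additive.toMul v)) : G)
    rw [map_mul]; rfl

theorem conjRep_apply (g : G) (v : V) :
    conjRep V g (Additive.ofMul v) = Additive.ofMul (⟨g * v * g⁻¹, hVn.conj_mem v v.2 g⟩ : V) := by
  show Additive.ofMul ((MulAut.conjNormal g : MulAut V) v) = _
  apply congrArg Additive.ofMul
  apply Subtype.ext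
  rw [MulAut.conjNormal_apply]

theorem conjRep_eq_one_iff (g : G) : conjRep V g = 1 ↔ g ∈ Subgroup.centralizer (V : Set G) := by
  constructor
  · intro h
    rw [Subgroup.mem_centralizer_iff]
    intro v hv
    have h1 : conjRep V g (Additive.ofMul (⟨v, hv⟩ : V)) = Additive.ofMul (⟨v, hv⟩ : V) := by
      rw [h]; rfl
    rw [conjRep_apply] at h1
    have h2 : g * v * g⁻¹ = v := congrArg (fun w : Additive V => ((Additive.toMul w : V) : G)) h1
    calc v * g = (g * v * g⁻¹)⁻¹⁻¹ * g := by rw [inv_inv, h2]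
      _ = g * v := by group
  · intro h
    rw [Subgroup.mem_centralizer_iff] at h
    ext w
    obtain ⟨v, rfl⟩ : ∃ v : V, Additive.ofMul v = w := ⟨Additive.toMul w, rfl⟩
    rw [conjRep_apply]
    show g * v * g⁻¹ = v
    rw [← h v v.2, mul_inv_cancel_right]

theorem conjRep_eq_of_mem_centralizer {a b : G} (h : a⁻¹ * b ∈ Subgroup.centralizer (V : Set G)) :
    conjRep V a = conjRep V b := by
  have h1 := (conjRep_eq_one_iff V _).mpr h
  have h2 : conjRep V b = conjRep V a * conjRep V (a⁻¹ * b) := by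
    rw [← map_mul, mul_inv_cancel_left]
  rw [h2, h1, mul_one]

theorem mem_centralizer_of_conjRep_eq {a b : G} (h : conjRep V a = conjRep V b) :
    a⁻¹ * b ∈ Subgroup.centralizer (V : Set G) := by
  rw [← conjRep_eq_one_iff, map_mul, ← h, ← map_mul, inv_mul_cancel, map_one]

theorem conjRep_sub_one_apply (g : G) (v : V) :
    (conjRep V g - 1) (Additive.ofMul v) =
      Additive.ofMul ((⟨g * v * g⁻¹, hVn.conj_mem v v.2 g⟩ : V) * v⁻¹) := by
  show conjRep V g (Additive.ofMul v) - Additive.ofMul v = _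
  rw [conjRep_apply, ← ofMul_div, div_eq_mul_inv]

/-- **Quadratic action lemma (group form)**: let `V` be a normal elementary abelian `p`-subgroup
(`p` odd), `x` an element acting quadratically on `V`, and `y` an element whose image in
`G / C_G(V)` has order prime to `p` and commutes with its conjugates by `x` and `x⁻¹`.
Then `x` and `y` commute modulo `C_G(V)`. -/
theorem quad_centralize (p : ℕ) (hp : p.Prime) (hp2 : p ≠ 2) (hVp : ∀ a ∈ V, a ^ p = 1) (x y : G)
    (hquad : ∀ v ∈ V, ⁅⁅v, x⁆, x⁆ = 1) (m : ℕ) (hm : m.Coprime p)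
    (hym : y ^ m ∈ Subgroup.centralizer (V : Set G))
    (h1 : (y * (x⁻¹ * y * x))⁻¹ * ((x⁻¹ * y * x) * y) ∈ Subgroup.centralizer (V : Set G))
    (h2 : (y * (x * y * x⁻¹))⁻¹ * ((x * y * x⁻¹) * y) ∈ Subgroup.centralizer (V : Set G)) :
    (y * x)⁻¹ * (x * y) ∈ Subgroup.centralizer (V : Set G) := by
  apply mem_centralizer_of_conjRep_eq
  rw [map_mul, map_mul]
  apply quad_commute p hp hp2 _ (conjRep V x) (conjRep V x⁻¹) (conjRep V y) (conjRep V y⁻¹)
    _ _ _ _ _ m hm
  · rw [← map_pow]; exact (conjRep_eq_one_iff V _).mpr hym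
  · have := conjRep_eq_of_mem_centralizer V h1
    simpa only [map_mul] using this
  · have := conjRep_eq_of_mem_centralizer V h2
    simpa only [map_mul, inv_inv] using this
  · refine DFunLike.ext _ _ (fun w => ?_)
    obtain ⟨v, rfl⟩ : ∃ v : V, Additive.ofMul v = w := ⟨Additive.toMul w, rfl⟩
    show ((p : AddMonoid.End (Additive V))) (Additive.ofMul v) = 0
    rw [AddMonoid.End.natCast_apply, ← ofMul_pow]
    have : v ^ p = 1 := Subtype.ext (by simpa using hVp v v.2)
    rw [this]; rfl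
  · rw [← map_mul, mul_inv_cancel, map_one]
  · rw [← map_mul, inv_mul_cancel, map_one]
  · rw [← map_mul, mul_inv_cancel, map_one]
  · rw [← map_mul, inv_mul_cancel, map_one]
  · refine DFunLike.ext _ _ (fun w => ?_)
    obtain ⟨v, rfl⟩ : ∃ v : V, Additive.ofMul v = w := ⟨Additive.toMul w, rfl⟩
    show (conjRep V x - 1) ((conjRep V x - 1) (Additive.ofMul v)) = 0
    rw [conjRep_sub_one_apply, conjRep_sub_one_apply]
    show Additive.ofMul _ = Additive.ofMul (1 : V)
    apply congrArg Additive.ofMul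
    apply Subtype.ext
    simp only [Subgroup.coe_mul, Subgroup.coe_inv, Subgroup.coe_one]
    have hq := hquad v v.2
    rw [commutatorElement_eq_one_iff_commute] at hq
    have hq' : x * ⁅(v : G), x⁆ = ⁅(v : G), x⁆ * x := hq.eq.symm
    have hu : x * (v : G) * x⁻¹ * (v : G)⁻¹ = (⁅(v : G), x⁆)⁻¹ := by
      rw [commutatorElement_def]; group
    rw [hu]
    have : x * (⁅(v : G), x⁆)⁻¹ * x⁻¹ = (⁅(v : G), x⁆)⁻¹ := by
      have h3 : x * (⁅(v : G), x⁆)⁻¹ = (⁅(v : G), x⁆)⁻¹ * x := by
        calc x * (⁅(v : G), x⁆)⁻¹ = (⁅(v : G), x⁆)⁻¹ * (⁅(v : G), x⁆ * x) * (⁅(v : G), x⁆)⁻¹ := by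
              group
          _ = (⁅(v : G), x⁆)⁻¹ * (x * ⁅(v : G), x⁆) * (⁅(v : G), x⁆)⁻¹ := by rw [hq']
          _ = (⁅(v : G), x⁆)⁻¹ * x := by group
      rw [h3, mul_inv_cancel_right]
    rw [this, mul_inv_cancel]

end ConjRep

end Cfsg.Agent.Lib.Helper13
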