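import Mathlib
import Cfsg.Prelude.Def_Transfer
import Cfsg.Agent.Lib.Helper13.NPC
import Cfsg.Agent.Lib.Helper13.ThompsonTransfer
import Cfsg.Agent.Lib.Helper13.QuadRing
import Cfsg.Agent.Lib.Helper13.CoprimeSylow
import Cfsg.Agent.Lib.Helper11.Burnside
import Cfsg.Agent.Lib.Helper17.NormalHall
import Cfsg.Agent.Lib.Helper17.ThompsonFusion
import Cfsg.Agent.Lib.Helper15.SylowIn
import Cfsg.Agent.Lib.Lead.ThompsonRepl
import Cfsg.Agent.S0055
import Cfsg.Agent.S0072

set_option autoImplicit false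

/-!
# Thompson's normal `p`-complement theorem: the minimal counterexample
-/

universe u

namespace Cfsg.Agent.Lib.Helper13

open Subgroup
open scoped commutatorElement

section pieces

variable {G : Type u} [Group G] [Finite G] {p : ℕ} [hp : Fact p.Prime]

omit hp in
/-- A normal subgroup with a normal `p`-complement is a `p`-group when `O_{p'}(G) = 1`. -/
theorem isPGroup_of_normal_of_npc (C : Subgroup G) [hCn : C.Normal] (hC : NPC p ↥C)
    (hOp' : ∀ K : Subgroup G, K.Normal → (Nat.card K).Coprime p → K = ⊥) : IsPGroup p ↥C := by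
  obtain ⟨N, hN, hcop, k, hk⟩ := hC
  have hKn : (N.map C.subtype).Normal := by
    constructor
    rintro _ ⟨n, hn, rfl⟩ g
    have hmem : g * (n : G) * g⁻¹ ∈ C := hCn.conj_mem _ n.2 g
    have hord : orderOf (⟨g * (n : G) * g⁻¹, hmem⟩ : C) = orderOf n := by
      rw [← Subgroup.orderOf_coe, ← Subgroup.orderOf_coe]
      show orderOf (g * (n : G) * g⁻¹) = orderOf (n : G)
      exact orderOf_injective (MulAut.conj g).toMonoidHom (MulAut.conj g).injective (n : G)
    have h1 : (⟨g * (n : G) * g⁻¹, hmem⟩ : C) ∈ N := by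
      apply Helper17.mem_of_coprime_index N
      rw [hord, hk]
      apply Nat.Coprime.pow_right
      exact Nat.Coprime.coprime_dvd_left (Subgroup.orderOf_dvd_natCard N hn) hcop
    exact Subgroup.mem_map.mpr ⟨_, h1, rfl⟩
  have hKc : (Nat.card (N.map C.subtype)).Coprime p := by
    rw [Subgroup.card_map_of_injective C.subtype_injective]; exact hcop
  have hK := hOp' _ hKn hKc
  have hNbot : N = ⊥ := (Subgroup.map_eq_bot_iff_of_injective N C.subtype_injective).mp hK
  rw [hNbot, Subgroup.index_bot] at hk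
  exact IsPGroup.of_card hk

theorem normalizer_le_normalizer_zsub (S : Subgroup G) :
    normalizer (S : Set G) ≤ normalizer ((S ⊓ centralizer (S : Set G) : Subgroup G) : Set G) := by
  intro y hy
  apply mem_normalizer_of_conj_mem
  intro z hz
  obtain ⟨hz1, hz2⟩ := Subgroup.mem_inf.mp hz
  refine Subgroup.mem_inf.mpr ⟨(Subgroup.mem_normalizer_iff.mp hy z).mp hz1, ?_⟩
  rw [Subgroup.mem_centralizer_iff]
  intro s hs
  have hs' : y⁻¹ * s * y ∈ S := by
    have := (Subgroup.mem_normalizer_iff.mp (Subgroup.inv_mem _ hy) s).mp hs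
    simpa using this
  have h1 := (Subgroup.mem_centralizer_iff.mp hz2) _ hs'
  calc s * (y * z * y⁻¹) = y * ((y⁻¹ * s * y) * z) * y⁻¹ := by group
    _ = y * (z * (y⁻¹ * s * y)) * y⁻¹ := by rw [h1]
    _ = y * z * y⁻¹ * s := by group

/-- A `p'`-element normalizing an abelian `p`-group and centralizing its elements of order
dividing `p` centralizes it. -/
theorem mem_centralizer_of_centralizes_omega (A : Subgroup G) [IsMulCommutative A]
    (hA : IsPGroup p A) (g : G) (hg : g ∈ normalizer (A : Set G))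
    (hcop : (orderOf g).Coprime p) (hc : ∀ a ∈ A, a ^ p = 1 → a * g = g * a) :
    g ∈ centralizer (A : Set G) := by
  have hAV : zpowers g ≤ normalizer (A : Set G) := by
    rw [Subgroup.zpowers_le]; exact hg
  have hcop' : (Nat.card (zpowers g)).Coprime (Nat.card A) := by
    obtain ⟨j, hj⟩ := IsPGroup.iff_card.mp hA
    rw [Nat.card_zpowers, hj]
    exact Nat.Coprime.pow_right j hcop
  obtain ⟨h1, h2⟩ := Cfsg.Agent.S0055.result (zpowers g) A hAV hcop'
  obtain ⟨W, hWdef⟩ : ∃ W : Subgroup G, W = ⁅A, zpowers g⁆ := ⟨_, rfl⟩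
  rw [← hWdef] at h1 h2
  have hW : W = ⊥ := by
    by_contra hne
    have hWA : W ≤ A := by
      rw [← h2]; exact le_sup_right
    have hWp : IsPGroup p ↥W := hA.to_le hWA
    have hdvd : p ∣ Nat.card ↥W := by
      obtain ⟨k, hk⟩ := IsPGroup.iff_card.mp hWp
      rcases Nat.eq_zero_or_pos k with h0 | h0
      · exfalso
        apply hne
        rw [h0, pow_zero] at hk
        exact Subgroup.card_eq_one.mp hk
      · rw [hk]
        exact dvd_pow_self p h0.ne'
    obtain ⟨w, hw⟩ := exists_prime_orderOf_dvd_card' p hdvd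
    have hw1 : (w : G) ^ p = 1 := by
      have : w ^ p = 1 := by rw [← hw]; exact pow_orderOf_eq_one w
      have := congrArg Subtype.val this
      simpa using this
    have hwc : (w : G) ∈ centralizer ((zpowers g : Subgroup G) : Set G) := by
      rw [Subgroup.mem_centralizer_iff]
      rintro _ ⟨k, rfl⟩
      have hcm : Commute (w : G) g := hc _ (hWA w.2) hw1
      exact (hcm.zpow_right k).eq.symm
    have hmem : (w : G) ∈ (A ⊓ centralizer ((zpowers g : Subgroup G) : Set G)) ⊓ W :=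
      Subgroup.mem_inf.mpr ⟨Subgroup.mem_inf.mpr ⟨hWA w.2, hwc⟩, w.2⟩
    rw [h1, Subgroup.mem_bot] at hmem
    have hw2 : w = 1 := Subtype.ext hmem
    rw [hw2, orderOf_one] at hw
    exact hp.out.one_lt.ne hw
  rw [hW, sup_bot_eq] at h2
  have h3 : A ≤ centralizer ((zpowers g : Subgroup G) : Set G) := inf_eq_left.mp h2
  rw [Subgroup.mem_centralizer_iff]
  intro a ha
  exact ((Subgroup.mem_centralizer_iff.mp (h3 ha)) g (Subgroup.mem_zpowers g)).symm


/-- Step 3b: `C_G(Q) ≤ Q`. -/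
theorem centralizer_le_of_config (Q : Subgroup G) [hQn : Q.Normal]
    (hOp : ∀ R : Subgroup G, R.Normal → IsPGroup p R → R ≤ Q)
    (hOp' : ∀ K : Subgroup G, K.Normal → (Nat.card K).Coprime p → K = ⊥)
    (hquot : NPC p (G ⧸ Q)) : centralizer (Q : Set G) ≤ Q := by
  obtain ⟨Nb, hNbn, hcop, k, hk⟩ := hquot
  obtain ⟨L, hLdef⟩ : ∃ L : Subgroup G, L = Nb.comap (QuotientGroup.mk' Q) := ⟨_, rfl⟩
  have hLn : L.Normal := by rw [hLdef]; exact hNbn.comap _
  have hLidx : L.index = p ^ k := by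
    rw [hLdef, Subgroup.index_comap_of_surjective Nb (QuotientGroup.mk'_surjective Q), hk]
  -- `p`-elements of `L` lie in `Q`
  have hLp : ∀ x ∈ L, (∃ j : ℕ, x ^ p ^ j = 1) → x ∈ Q := by
    intro x hx ⟨j, hj⟩
    have hx' : QuotientGroup.mk' Q x ∈ Nb := by rw [hLdef] at hx; exact hx
    have h1 : orderOf (QuotientGroup.mk' Q x) ∣ Nat.card Nb := Subgroup.orderOf_dvd_natCard Nb hx'
    have h2 : orderOf (QuotientGroup.mk' Q x) ∣ p ^ j := by
      apply orderOf_dvd_of_pow_eq_one
      rw [← map_pow, hj, map_one]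
    have h3 : orderOf (QuotientGroup.mk' Q x) = 1 :=
      Nat.Coprime.eq_one_of_dvd ((Nat.Coprime.coprime_dvd_left h1 hcop).pow_right j) h2
    have h4 : QuotientGroup.mk' Q x = 1 := orderOf_eq_one_iff.mp h3
    rwa [← MonoidHom.mem_ker, QuotientGroup.ker_mk'] at h4
  -- `p'`-elements lie in `L`
  have hLp' : ∀ g : G, (orderOf g).Coprime p → g ∈ L := by
    intro g hg
    apply Helper17.mem_of_coprime_index L
    rw [hLidx]
    exact Nat.Coprime.pow_right k hg
  obtain ⟨D, hDdef⟩ : ∃ D : Subgroup G, D = centralizer (Q : Set G) ⊓ L := ⟨_, rfl⟩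
  have hDn : D.Normal := by rw [hDdef]; infer_instance
  have hDL : D ≤ L := by rw [hDdef]; exact inf_le_right
  have hDC : D ≤ centralizer (Q : Set G) := by rw [hDdef]; exact inf_le_left
  have hDnpc : NPC p ↥D := by
    rw [← npc_iff]
    obtain ⟨S⟩ : Nonempty (Sylow p ↥D) := inferInstance
    apply Helper11.hasNormalPComplement_of_normalizer_le_centralizer S
    intro d _
    rw [Subgroup.mem_centralizer_iff]
    intro s hs
    have hsQ : (s : G) ∈ Q := by
      apply hLp _ (hDL s.2)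
      obtain ⟨j, hj⟩ := S.isPGroup' ⟨s, hs⟩
      refine ⟨j, ?_⟩
      have := congrArg Subtype.val (congrArg Subtype.val hj)
      simpa using this
    apply Subtype.ext
    show (s : G) * (d : G) = (d : G) * (s : G)
    exact (Subgroup.mem_centralizer_iff.mp (hDC d.2)) _ hsQ
  have hDp : IsPGroup p ↥D := isPGroup_of_normal_of_npc D hDnpc hOp'
  have hCp : IsPGroup p ↥(centralizer (Q : Set G)) := by
    apply isPGroup_of_forall_coprime_eq_one
    intro g hg
    rw [← Subgroup.orderOf_coe] at hg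
    have h1 : (g : G) ∈ D := by
      rw [hDdef]
      exact Subgroup.mem_inf.mpr ⟨g.2, hLp' _ hg⟩
    exact Subtype.ext (eq_one_of_isPGroup_of_coprime hDp h1 hg)
  exact hOp _ inferInstance hCp


omit [Finite G] hp in
/-- Step 4: a proper subgroup containing `P` with a normal `p`-complement equals `P`. -/
theorem eq_sylow_of_le_of_npc (P : Sylow p G) (Q : Subgroup G) [hQn : Q.Normal]
    (hQP : Q ≤ P) (hcent : centralizer (Q : Set G) ≤ Q)
    (M : Subgroup G) (hPM : (P : Subgroup G) ≤ M) (hM : NPC p ↥M) : M = P := by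
  obtain ⟨N, hN, hcop, k, hk⟩ := hM
  have hQp : IsPGroup p Q := P.isPGroup'.to_le hQP
  have hKc : N.map M.subtype ≤ centralizer (Q : Set G) := by
    rintro _ ⟨n, hn, rfl⟩
    rw [Subgroup.mem_centralizer_iff]
    intro q hq
    have hqM : q ∈ M := hPM (hQP hq)
    have hc1 : (n : G) * q * (n : G)⁻¹ * q⁻¹ ∈ Q :=
      Q.mul_mem (hQn.conj_mem q hq n) (Q.inv_mem hq)
    have hc2 : n * ((⟨q, hqM⟩ : M) * n⁻¹ * (⟨q, hqM⟩ : M)⁻¹) ∈ N :=
      N.mul_mem hn (hN.conj_mem _ (N.inv_mem hn) _)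
    have hc3 : (n : G) * q * (n : G)⁻¹ * q⁻¹ = 1 := by
      apply eq_one_of_isPGroup_of_coprime hQp hc1
      have h1 := Subgroup.orderOf_dvd_natCard N hc2
      rw [← Subgroup.orderOf_coe] at h1
      have e : ((n * ((⟨q, hqM⟩ : M) * n⁻¹ * (⟨q, hqM⟩ : M)⁻¹) : M) : G)
          = (n : G) * q * (n : G)⁻¹ * q⁻¹ := by
        simp [mul_assoc]
      rw [e] at h1
      exact Nat.Coprime.coprime_dvd_left h1 hcop
    have : (n : G) * q * (n : G)⁻¹ * q⁻¹ * (q * (n : G)) = (n : G) * q := by group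
    show q * (n : G) = (n : G) * q
    rw [← this, hc3, one_mul]
  have hKQ : N.map M.subtype ≤ Q := hKc.trans hcent
  have hNbot : N = ⊥ := by
    rw [eq_bot_iff]
    intro n hn
    rw [Subgroup.mem_bot]
    have h1 : (n : G) ∈ Q := hKQ (Subgroup.mem_map.mpr ⟨n, hn, rfl⟩)
    have h2 : (orderOf (n : G)).Coprime p := by
      rw [Subgroup.orderOf_coe]
      exact Nat.Coprime.coprime_dvd_left (Subgroup.orderOf_dvd_natCard N hn) hcop
    exact Subtype.ext (eq_one_of_isPGroup_of_coprime hQp h1 h2)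
  rw [hNbot, Subgroup.index_bot] at hk
  have hMp : IsPGroup p ↥M := IsPGroup.of_card hk
  exact P.is_maximal' hMp hPM

/-- Step 5: a normal subgroup `T ≥ Q` with `T/Q` an abelian `p'`-group and `G = TP`. -/
theorem exists_T (P : Sylow p G) (Q : Subgroup G) [hQn : Q.Normal] (hQP : Q ≤ P)
    (hquot : NPC p (G ⧸ Q)) (hG : ¬ NPC p G)
    (hmax : ∀ M : Subgroup G, (P : Subgroup G) ≤ M → M ≠ ⊤ → M = P) :
    ∃ T : Subgroup G, T.Normal ∧ Q ≤ T ∧ T ⊔ P = ⊤ ∧
      (∀ a ∈ T, ∀ b ∈ T, (b * a)⁻¹ * (a * b) ∈ Q) ∧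
      ∃ m : ℕ, m.Coprime p ∧ ∀ y ∈ T, y ^ m ∈ Q := by
  obtain ⟨Nb, hNbn, hcop, k, hk⟩ := hquot
  have hQp : IsPGroup p Q := P.isPGroup'.to_le hQP
  have hsurj := QuotientGroup.mk'_surjective Q
  have hker : ∀ g : G, QuotientGroup.mk' Q g = 1 ↔ g ∈ Q := by
    intro g
    rw [← MonoidHom.mem_ker, QuotientGroup.ker_mk']
  have hNbne : Nb ≠ ⊥ := by
    intro hbot
    apply hG
    apply NPC.of_isPGroup
    rw [hbot, Subgroup.index_bot] at hk
    obtain ⟨j, hj⟩ := IsPGroup.iff_card.mp hQp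
    have h1 := Subgroup.card_eq_card_quotient_mul_card_subgroup Q
    rw [hk, hj, ← pow_add] at h1
    exact IsPGroup.of_card h1
  have hcard : Nat.card Nb ≠ 1 := fun h => hNbne (Subgroup.card_eq_one.mp h)
  obtain ⟨q, hq, hqd⟩ := Nat.exists_prime_and_dvd hcard
  have : Fact q.Prime := ⟨hq⟩
  have hqp : ¬ p ∣ q := by
    intro hpq
    have h1 : p ∣ Nat.card Nb := hpq.trans hqd
    exact (Nat.Prime.coprime_iff_not_dvd hp.out).mp hcop.symm h1
  obtain ⟨Pb, hPbdef⟩ : ∃ Pb : Subgroup (G ⧸ Q), Pb = (P : Subgroup G).map (QuotientGroup.mk' Q) :=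
    ⟨_, rfl⟩
  have hPb : IsPGroup p Pb := by rw [hPbdef]; exact P.isPGroup'.map _
  have hAK : Pb ≤ normalizer (Nb : Set (G ⧸ Q)) := by
    rw [Subgroup.normalizer_eq_top]; exact le_top
  have hcop2 : (Nat.card Pb).Coprime (Nat.card Nb) := by
    obtain ⟨j, hj⟩ := IsPGroup.iff_card.mp hPb
    rw [hj]
    exact (Nat.Coprime.pow_right j hcop).symm
  have hsolv : Group.IsSolvable ↥Pb := by
    have := hPb.isNilpotent
    infer_instance
  obtain ⟨S₀, hS₀⟩ := exists_invariant_sylow Pb Nb hAK hcop2 (Or.inl hsolv) q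
  obtain ⟨Sb, hSbdef⟩ : ∃ Sb : Subgroup (G ⧸ Q), Sb = (S₀ : Subgroup Nb).map Nb.subtype :=
    ⟨_, rfl⟩
  rw [← hSbdef] at hS₀
  have hSbq : IsPGroup q Sb := by rw [hSbdef]; exact S₀.isPGroup'.map _
  have hSbNb : Sb ≤ Nb := by rw [hSbdef]; exact Subgroup.map_subtype_le _
  have hSbne : Sb ≠ ⊥ := by
    rw [hSbdef]
    intro h
    have h1 := (Subgroup.map_eq_bot_iff_of_injective _ Nb.subtype_injective).mp h
    exact S₀.ne_bot_of_dvd_card hqd h1
  obtain ⟨Tb, hTbdef⟩ : ∃ Tb : Subgroup (G ⧸ Q), Tb = Sb ⊓ centralizer (Sb : Set (G ⧸ Q)) :=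
    ⟨_, rfl⟩
  have hTbne : Tb ≠ ⊥ := by rw [hTbdef]; exact inf_centralizer_ne_bot_of_isPGroup Sb hSbq hSbne
  have hPbTb : Pb ≤ normalizer (Tb : Set (G ⧸ Q)) := by
    rw [hTbdef]; exact hS₀.trans (normalizer_le_normalizer_zsub Sb)
  have hTbSb : Tb ≤ Sb := by rw [hTbdef]; exact inf_le_left
  obtain ⟨T, hTdef⟩ : ∃ T : Subgroup G, T = Tb.comap (QuotientGroup.mk' Q) := ⟨_, rfl⟩
  have hmemT : ∀ g : G, g ∈ T ↔ QuotientGroup.mk' Q g ∈ Tb := by
    intro g; rw [hTdef, Subgroup.mem_comap]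
  have hQT : Q ≤ T := by
    intro g hg
    rw [hmemT, (hker g).mpr hg]
    exact Tb.one_mem
  have hPT : (P : Subgroup G) ≤ normalizer (T : Set G) := by
    rw [hTdef, ← Subgroup.comap_normalizer_eq_of_surjective Tb hsurj]
    refine le_trans ?_ (Subgroup.comap_mono hPbTb)
    rw [hPbdef]
    exact Subgroup.le_comap_map _ _
  have hsup : T ⊔ P = ⊤ := by
    by_contra hne
    have h1 := hmax (T ⊔ P) le_sup_right hne
    have hTP : T ≤ P := by rw [← h1]; exact le_sup_left
    obtain ⟨⟨zb, hzb⟩, hzb1⟩ := (Subgroup.ne_bot_iff_exists_ne_one).mp hTbne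
    obtain ⟨z, rfl⟩ := hsurj zb
    apply hzb1
    apply Subtype.ext
    show QuotientGroup.mk' Q z = 1
    have hzP : QuotientGroup.mk' Q z ∈ Pb := by
      rw [hPbdef]
      exact Subgroup.mem_map_of_mem _ (hTP ((hmemT z).mpr hzb))
    apply eq_one_of_isPGroup_of_coprime hPb hzP
    obtain ⟨j, hj⟩ := IsPGroup.iff_card.mp hSbq
    have h2 : orderOf (QuotientGroup.mk' Q z) ∣ q ^ j := by
      rw [← hj]
      exact Subgroup.orderOf_dvd_natCard Sb (hTbSb hzb)
    apply Nat.Coprime.coprime_dvd_left h2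
    apply Nat.Coprime.pow_left
    exact ((Nat.Prime.coprime_iff_not_dvd hp.out).mpr hqp).symm
  have hTn : T.Normal := by
    rw [← Subgroup.normalizer_eq_top_iff, eq_top_iff, ← hsup]
    exact sup_le Subgroup.le_normalizer hPT
  refine ⟨T, hTn, hQT, hsup, ?_, Nat.card Nb, hcop, ?_⟩
  · intro a ha b hb
    rw [hmemT] at ha hb
    rw [hTdef] at *
    have hb' : QuotientGroup.mk' Q b ∈ centralizer (Sb : Set (G ⧸ Q)) := by
      rw [hTbdef] at hb; exact (Subgroup.mem_inf.mp hb).2
    have h1 := (Subgroup.mem_centralizer_iff.mp hb') _ (hTbSb ha)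
    rw [← hker, map_mul, map_inv, map_mul, map_mul, h1, inv_mul_cancel]
  · intro y hy
    rw [hmemT] at hy
    rw [← hker, map_pow]
    have h1 := Subgroup.orderOf_dvd_natCard Nb (hSbNb (hTbSb hy))
    exact orderOf_dvd_iff_pow_eq_one.mp h1


omit [Finite G] hp in
/-- Step 6: elements of `P` centralizing `T/Q` lie in `Q`. -/
theorem mem_of_commutes_mod (P : Sylow p G) (Q T : Subgroup G) [hQn : Q.Normal] [hTn : T.Normal]
    (hQP : Q ≤ P) (hOp : ∀ R : Subgroup G, R.Normal → IsPGroup p R → R ≤ Q)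
    (hsup : T ⊔ P = ⊤) (x : G) (hx : x ∈ (P : Subgroup G))
    (hxT : ∀ y ∈ T, (y * x)⁻¹ * (x * y) ∈ Q) : x ∈ Q := by
  have hker : ∀ g : G, QuotientGroup.mk' Q g = 1 ↔ g ∈ Q := by
    intro g
    rw [← MonoidHom.mem_ker, QuotientGroup.ker_mk']
  have hTbn : (T.map (QuotientGroup.mk' Q)).Normal :=
    hTn.map _ (QuotientGroup.mk'_surjective Q)
  obtain ⟨C₁, hC₁def⟩ : ∃ C₁ : Subgroup G, C₁ =
      (centralizer ((T.map (QuotientGroup.mk' Q) : Subgroup (G ⧸ Q)) : Set (G ⧸ Q))).comap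
        (QuotientGroup.mk' Q) := ⟨_, rfl⟩
  have hC₁n : C₁.Normal := by
    rw [hC₁def]
    exact Subgroup.Normal.comap inferInstance _
  have hmemC₁ : ∀ g : G, g ∈ C₁ ↔ ∀ y ∈ T,
      QuotientGroup.mk' Q y * QuotientGroup.mk' Q g = QuotientGroup.mk' Q g * QuotientGroup.mk' Q y := by
    intro g
    rw [hC₁def, Subgroup.mem_comap, Subgroup.mem_centralizer_iff]
    constructor
    · intro h y hy
      exact h _ (Subgroup.mem_map_of_mem _ hy)
    · rintro h _ ⟨y, hy, rfl⟩
      exact h y hy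
  have hP₁n : ((P : Subgroup G) ⊓ C₁).Normal := by
    constructor
    intro w hw g
    obtain ⟨hwP, hwC⟩ := Subgroup.mem_inf.mp hw
    have hg : g ∈ T ⊔ (P : Subgroup G) := by rw [hsup]; exact Subgroup.mem_top g
    obtain ⟨t, ht, u, hu, rfl⟩ := Subgroup.mem_sup_of_normal_left.mp hg
    have hw'P : u * w * u⁻¹ ∈ (P : Subgroup G) :=
      Subgroup.mul_mem _ (Subgroup.mul_mem _ hu hwP) (Subgroup.inv_mem _ hu)
    have hw'C : u * w * u⁻¹ ∈ C₁ := hC₁n.conj_mem w hwC u
    have hc : t * (u * w * u⁻¹) * t⁻¹ * (u * w * u⁻¹)⁻¹ ∈ Q := by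
      rw [← hker, map_mul, map_mul, map_mul, map_inv, map_inv, (hmemC₁ _).mp hw'C t ht]
      group
    have e : t * u * w * (t * u)⁻¹ =
        t * (u * w * u⁻¹) * t⁻¹ * (u * w * u⁻¹)⁻¹ * (u * w * u⁻¹) := by group
    refine Subgroup.mem_inf.mpr ⟨?_, hC₁n.conj_mem w hwC _⟩
    rw [e]
    exact Subgroup.mul_mem _ (hQP hc) hw'P
  have hP₁p : IsPGroup p ↥((P : Subgroup G) ⊓ C₁) := P.isPGroup'.to_le inf_le_left
  apply hOp _ hP₁n hP₁p
  refine Subgroup.mem_inf.mpr ⟨hx, ?_⟩
  rw [hmemC₁]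
  intro y hy
  have h1 := (hker _).mpr (hxT y hy)
  rw [map_mul, map_inv, inv_mul_eq_one] at h1
  rw [← map_mul, ← map_mul, h1]

/-- `Ω₁(Z(Q))`: the elements of order dividing `p` in the centre of `Q`. -/
def omegaZ (p : ℕ) (Q : Subgroup G) : Subgroup G where
  carrier := {z | z ∈ Q ⊓ centralizer (Q : Set G) ∧ z ^ p = 1}
  one_mem' := ⟨Subgroup.one_mem _, one_pow p⟩
  mul_mem' := by
    rintro a b ⟨ha, hap⟩ ⟨hb, hbp⟩
    refine ⟨Subgroup.mul_mem _ ha hb, ?_⟩
    have hcomm : Commute a b :=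
      ((Subgroup.mem_centralizer_iff.mp (Subgroup.mem_inf.mp hb).2) a (Subgroup.mem_inf.mp ha).1)
    rw [hcomm.mul_pow, hap, hbp, one_mul]
  inv_mem' := by
    rintro a ⟨ha, hap⟩
    exact ⟨Subgroup.inv_mem _ ha, by rw [inv_pow, hap, inv_one]⟩

omit [Finite G] hp in
theorem mem_omegaZ (Q : Subgroup G) (z : G) :
    z ∈ omegaZ p Q ↔ z ∈ Q ⊓ centralizer (Q : Set G) ∧ z ^ p = 1 := Iff.rfl

omit [Finite G] hp in
theorem omegaZ_normal (Q : Subgroup G) [hQn : Q.Normal] : (omegaZ p Q).Normal := by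
  constructor
  intro z hz g
  rw [mem_omegaZ] at hz ⊢
  have hn : (Q ⊓ centralizer (Q : Set G)).Normal := inferInstance
  refine ⟨hn.conj_mem z hz.1 g, ?_⟩
  rw [conj_pow, hz.2, mul_one, mul_inv_cancel]

omit [Finite G] hp in
theorem omegaZ_comm (Q : Subgroup G) : IsMulCommutative (omegaZ p Q) := by
  refine ⟨⟨fun a b => ?_⟩⟩
  apply Subtype.ext
  have ha := ((mem_omegaZ Q _).mp a.2).1
  have hb := ((mem_omegaZ Q _).mp b.2).1
  exact ((Subgroup.mem_centralizer_iff.mp (Subgroup.mem_inf.mp hb).2) a (Subgroup.mem_inf.mp ha).1)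

omit [Finite G] hp in
theorem le_centralizer_omegaZ (Q : Subgroup G) : Q ≤ centralizer ((omegaZ p Q : Subgroup G) : Set G) := by
  intro q hq
  rw [Subgroup.mem_centralizer_iff]
  intro z hz
  have hz' := ((mem_omegaZ Q _).mp hz).1
  exact ((Subgroup.mem_centralizer_iff.mp (Subgroup.mem_inf.mp hz').2) q hq).symm

/-- Step 7: `C_G(Ω₁(Z(Q))) ≤ Q`. -/
theorem centralizer_omegaZ_le (P : Sylow p G) (Q : Subgroup G) [hQn : Q.Normal] (hQP : Q ≤ P)
    (hOp : ∀ R : Subgroup G, R.Normal → IsPGroup p R → R ≤ Q)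
    (hOp' : ∀ K : Subgroup G, K.Normal → (Nat.card K).Coprime p → K = ⊥)
    (hcent : centralizer (Q : Set G) ≤ Q)
    (hZ : NPC p ↥(centralizer (((P : Subgroup G) ⊓ centralizer ((P : Subgroup G) : Set G)
      : Subgroup G) : Set G))) :
    centralizer ((omegaZ p Q : Subgroup G) : Set G) ≤ Q := by
  have hQp : IsPGroup p Q := P.isPGroup'.to_le hQP
  have hZPQ : (P : Subgroup G) ⊓ centralizer ((P : Subgroup G) : Set G) ≤
      Q ⊓ centralizer (Q : Set G) := by
    intro z hz
    have h1 : z ∈ centralizer (Q : Set G) :=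
      Subgroup.centralizer_le (by exact_mod_cast hQP) (Subgroup.mem_inf.mp hz).2
    exact Subgroup.mem_inf.mpr ⟨hcent h1, h1⟩
  have hC₂npc : NPC p ↥(centralizer ((Q ⊓ centralizer (Q : Set G) : Subgroup G) : Set G)) :=
    NPC.of_le (Subgroup.centralizer_le (by exact_mod_cast hZPQ)) hZ
  have hZQn : (Q ⊓ centralizer (Q : Set G)).Normal := inferInstance
  have hC₂p := isPGroup_of_normal_of_npc _ hC₂npc hOp'
  have hZQc : IsMulCommutative ↥(Q ⊓ centralizer (Q : Set G)) := by
    refine ⟨⟨fun a b => ?_⟩⟩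
    apply Subtype.ext
    exact ((Subgroup.mem_centralizer_iff.mp (Subgroup.mem_inf.mp b.2).2) a
      (Subgroup.mem_inf.mp a.2).1)
  have hZQp : IsPGroup p ↥(Q ⊓ centralizer (Q : Set G)) := hQp.to_le inf_le_left
  have hVn : (omegaZ p Q).Normal := omegaZ_normal Q
  have hCVp : IsPGroup p ↥(centralizer ((omegaZ p Q : Subgroup G) : Set G)) := by
    apply isPGroup_of_forall_coprime_eq_one
    intro g hg
    rw [← Subgroup.orderOf_coe] at hg
    have h1 : (g : G) ∈ centralizer ((Q ⊓ centralizer (Q : Set G) : Subgroup G) : Set G) := by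
      apply mem_centralizer_of_centralizes_omega _ hZQp (g : G) _ hg
      · intro a ha hap
        exact (Subgroup.mem_centralizer_iff.mp g.2) a ((mem_omegaZ Q a).mpr ⟨ha, hap⟩)
      · rw [Subgroup.normalizer_eq_top]; exact Subgroup.mem_top _
    exact Subtype.ext (eq_one_of_isPGroup_of_coprime hC₂p h1 hg)
  exact hOp _ inferInstance hCVp


/-- The final contradiction in the minimal counterexample. -/
theorem thompson_final (hp2 : p ≠ 2) (P : Sylow p G) (Q : Subgroup G) [hQn : Q.Normal]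
    (hQP : Q ≤ P)
    (hOp : ∀ R : Subgroup G, R.Normal → IsPGroup p R → R ≤ Q)
    (hOp' : ∀ K : Subgroup G, K.Normal → (Nat.card K).Coprime p → K = ⊥)
    (hquot : NPC p (G ⧸ Q))
    (hmaxNPC : ∀ M : Subgroup G, (P : Subgroup G) ≤ M → M ≠ ⊤ → NPC p ↥M)
    (hTh : ThHyp p G (P : Subgroup G)) (hG : ¬ NPC p G) : False := by
  have hcent := centralizer_le_of_config Q hOp hOp' hquot
  have hmax : ∀ M : Subgroup G, (P : Subgroup G) ≤ M → M ≠ ⊤ → M = P :=
    fun M h1 h2 => eq_sylow_of_le_of_npc P Q hQP hcent M h1 (hmaxNPC M h1 h2)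
  obtain ⟨T, hTn, hQT, hsup, hTcomm, m, hm, hTm⟩ := exists_T P Q hQP hquot hG hmax
  obtain ⟨V, hVdef⟩ : ∃ V : Subgroup G, V = omegaZ p Q := ⟨_, rfl⟩
  have hVn : V.Normal := by rw [hVdef]; exact omegaZ_normal Q
  have hVc : IsMulCommutative V := by rw [hVdef]; exact omegaZ_comm Q
  have hVp : ∀ a ∈ V, a ^ p = 1 := by
    intro a ha; rw [hVdef] at ha; exact ((mem_omegaZ Q a).mp ha).2
  have hQCV : Q ≤ centralizer (V : Set G) := by rw [hVdef]; exact le_centralizer_omegaZ Q
  have hCVQ : centralizer (V : Set G) ≤ Q := by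
    rw [hVdef]; exact centralizer_omegaZ_le P Q hQP hOp hOp' hcent hTh.2
  have hVQ : V ≤ Q := by
    intro v hv; rw [hVdef] at hv
    exact (Subgroup.mem_inf.mp ((mem_omegaZ Q v).mp hv).1).1
  have hVea : Cfsg.IsElementaryAbelian p V := ⟨hVc, hVp⟩
  obtain ⟨PS, hPSdef⟩ : ∃ PS : Subgroup G, PS = (P : Subgroup G) := ⟨_, rfl⟩
  rw [← hPSdef] at hQP hsup hTh
  -- Claim 8
  obtain ⟨A, hA, hAQ⟩ : ∃ A ∈ Helper17.maxEAIn p PS, ¬ A ≤ Q := by
    by_contra hno
    push Not at hno
    have hJQ : Cfsg.thompsonSubgroupOf p PS ≤ Q := by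
      rw [Helper17.thompsonSubgroupOf_eq_sSup]
      exact sSup_le hno
    have hJeq := Helper17.thompsonSubgroupOf_eq_of_le hQP hJQ
    have h1 : normalizer (Q : Set G) ≤ normalizer (Cfsg.thompsonSubgroupOf p Q : Set G) :=
      Helper17.normalizer_le_normalizer_thompsonSubgroupOf Q
    rw [Subgroup.normalizer_eq_top, hJeq] at h1
    have h2 : normalizer (Cfsg.thompsonSubgroupOf p PS : Set G) = ⊤ := top_le_iff.mp h1
    have h3 := hTh.1
    rw [h2] at h3
    exact hG (NPC.of_top h3)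
  -- Claim 9
  have hVPS : V ≤ PS := hVQ.trans hQP
  have hV'ea : Cfsg.IsElementaryAbelian p (V.subgroupOf PS) := Helper17.ea_subgroupOf PS hVea
  have hA' := Helper17.subgroupOf_mem_maxEA_of_mem_maxEAIn PS hA
  obtain ⟨As, hAsdef⟩ : ∃ As : Subgroup PS, As = ⁅V.subgroupOf PS, A.subgroupOf PS⁆ ⊔
      (A.subgroupOf PS ⊓ centralizer ((⁅V.subgroupOf PS, A.subgroupOf PS⁆ : Subgroup PS) : Set PS)) :=
    ⟨_, rfl⟩
  have hrepl := Cfsg.Agent.Lib.Lead.ThompsonRepl.thompson_replacement (V.subgroupOf PS) hV'ea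
    (A.subgroupOf PS) hA'
  rw [← hAsdef] at hrepl
  obtain ⟨-, hquad', hne'⟩ := hrepl
  have hcomm_ne : ⁅V.subgroupOf PS, A.subgroupOf PS⁆ ≠ ⊥ := by
    intro h
    apply hAQ
    intro a ha
    apply hCVQ
    rw [Subgroup.mem_centralizer_iff]
    intro v hv
    have h1 : ⁅(⟨v, hVPS hv⟩ : PS), (⟨a, hA.1 ha⟩ : PS)⁆ ∈
        ⁅V.subgroupOf PS, A.subgroupOf PS⁆ :=
      Subgroup.commutator_mem_commutator (Subgroup.mem_subgroupOf.mpr hv)
        (Subgroup.mem_subgroupOf.mpr ha)
    rw [h, Subgroup.mem_bot] at h1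
    have h2 := commutatorElement_eq_one_iff_mul_comm.mp h1
    exact congrArg Subtype.val h2
  have hne2 := hne' hcomm_ne
  obtain ⟨v', hv', x', hx', hvx⟩ : ∃ v' ∈ V.subgroupOf PS, ∃ x' ∈ As, ⁅v', x'⁆ ≠ 1 := by
    by_contra hall
    push Not at hall
    apply hne2
    rw [eq_bot_iff, Subgroup.commutator_le]
    intro a ha b hb
    rw [Subgroup.mem_bot]
    exact hall a ha b hb
  have hxV : (x' : G) ∉ centralizer (V : Set G) := by
    intro hx
    apply hvx
    rw [commutatorElement_eq_one_iff_mul_comm]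
    apply Subtype.ext
    exact (Subgroup.mem_centralizer_iff.mp hx) v' (Subgroup.mem_subgroupOf.mp hv')
  have hquad : ∀ v ∈ V, ⁅⁅v, (x' : G)⁆, (x' : G)⁆ = 1 := by
    intro v hv
    have h1 : ⁅⁅(⟨v, hVPS hv⟩ : PS), x'⁆, x'⁆ ∈ ⁅⁅V.subgroupOf PS, As⁆, As⁆ :=
      Subgroup.commutator_mem_commutator
        (Subgroup.commutator_mem_commutator (Subgroup.mem_subgroupOf.mpr hv) hx') hx'
    rw [hquad', Subgroup.mem_bot] at h1
    have := congrArg Subtype.val h1
    simpa [commutatorElement_def] using this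
  -- Claim 10
  have hxQ : (x' : G) ∈ Q := by
    apply mem_of_commutes_mod P Q T (hPSdef ▸ hQP) hOp (hPSdef ▸ hsup) (x' : G) (hPSdef ▸ x'.2)
    intro y hy
    apply hCVQ
    have hTinv : (x' : G)⁻¹ * y * (x' : G) ∈ T := by
      have := hTn.conj_mem y hy (x' : G)⁻¹
      simpa using this
    have hTconj : (x' : G) * y * (x' : G)⁻¹ ∈ T := hTn.conj_mem y hy (x' : G)
    exact quad_centralize V p hp.out hp2 hVp (x' : G) y hquad m hm (hQCV (hTm y hy))
      (hQCV (hTcomm _ hTinv _ hy)) (hQCV (hTcomm _ hTconj _ hy))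
  exact hxV (hQCV hxQ)

end pieces


section induction

variable {p : ℕ} [hp : Fact p.Prime]

/-- In a finite group, the order of a `p`-subgroup of `M` is bounded by the `p`-part of `|M|`. -/
theorem card_le_pow_factorization {G : Type u} [Group G] [Finite G] (M S : Subgroup G)
    (hS : IsPGroup p S) (hSM : S ≤ M) : Nat.card S ≤ p ^ (Nat.card M).factorization p :=
  Nat.le_of_dvd (pow_pos hp.out.pos _) (Helper15.card_le_of_isPGroup_le M S hS hSM)

theorem thompson_aux (hp2 : p ≠ 2) : ∀ n : ℕ, ∀ (G : Type u) [Group G] [Finite G],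
    Nat.card G = n → ∀ P : Sylow p G, ThHyp p G (P : Subgroup G) → NPC p G := by
  intro n
  induction n using Nat.strong_induction_on with
  | _ n ih =>
  intro G _ _ hn P₀ hP₀
  by_contra hG
  -- all Sylow subgroups satisfy the hypothesis
  have hall : ∀ P : Sylow p G, ThHyp p G (P : Subgroup G) := by
    intro P
    obtain ⟨g, hg⟩ := MulAction.exists_smul_eq G P₀ P
    rw [← hg, Helper17.coe_smul_sylow_eq_map]
    exact ThHyp.conj g _ hP₀
  -- (D)
  have hOp' : ∀ K : Subgroup G, K.Normal → (Nat.card K).Coprime p → K = ⊥ := by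
    intro K hK hcop
    by_contra hne
    have h1 : Nat.card (G ⧸ K) < n := by
      have h2 := Subgroup.card_eq_card_quotient_mul_card_subgroup K
      have h3 : 1 < Nat.card K := by
        rcases Nat.lt_or_ge 1 (Nat.card K) with h | h
        · exact h
        · exfalso
          apply hne
          have hpos : 0 < Nat.card K := Nat.card_pos
          exact Subgroup.card_eq_one.mp (by omega)
      have hpos : 0 < Nat.card (G ⧸ K) := Nat.card_pos
      rw [← hn, h2]
      nlinarith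
    have h2 := ih _ h1 (G ⧸ K) rfl (P₀.mapSurjective (QuotientGroup.mk'_surjective K))
      (by rw [Sylow.coe_mapSurjective]
          exact ThHyp.quotient_of_coprime K hcop P₀ P₀.isPGroup' hP₀)
    exact hG (NPC.of_quotient K hcop h2)
  -- (A)
  have hex : ∃ Q : Subgroup G, IsPGroup p Q ∧ Q ≠ ⊥ ∧ ¬ NPC p ↥(normalizer (Q : Set G)) := by
    by_contra hno
    push Not at hno
    apply hG
    rw [← npc_iff, Cfsg.Agent.S0072.result p]
    intro Q hQ hne
    rw [npc_iff]
    exact hno Q hQ hne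
  obtain ⟨Q, hQmem, hQmax⟩ := Set.exists_max_image
    {Q : Subgroup G | IsPGroup p Q ∧ Q ≠ ⊥ ∧ ¬ NPC p ↥(normalizer (Q : Set G))}
    (fun Q => (Nat.card (normalizer (Q : Set G))).factorization p * (n + 1) + Nat.card Q)
    (Set.toFinite _) hex
  obtain ⟨hQp, hQne, hQnpc⟩ := hQmem
  have hcardle : ∀ H : Subgroup G, Nat.card H ≤ n := by
    intro H; rw [← hn]; exact Subgroup.card_le_card_group H
  have hM1 : ∀ Q' : Subgroup G, IsPGroup p Q' → Q' ≠ ⊥ → ¬ NPC p ↥(normalizer (Q' : Set G)) →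
      (Nat.card (normalizer (Q' : Set G))).factorization p ≤
        (Nat.card (normalizer (Q : Set G))).factorization p := by
    intro Q' h1 h2 h3
    have h4 := hQmax Q' ⟨h1, h2, h3⟩
    beta_reduce at h4
    by_contra hlt
    push Not at hlt
    have h5 : ((Nat.card (normalizer (Q : Set G))).factorization p + 1) * (n + 1) ≤
        (Nat.card (normalizer (Q' : Set G))).factorization p * (n + 1) :=
      Nat.mul_le_mul_right _ hlt
    rw [Nat.add_mul] at h5
    have h6 := hcardle Q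
    omega
  have hM2 : ∀ Q' : Subgroup G, IsPGroup p Q' → Q' ≠ ⊥ → ¬ NPC p ↥(normalizer (Q' : Set G)) →
      (Nat.card (normalizer (Q : Set G))).factorization p ≤
        (Nat.card (normalizer (Q' : Set G))).factorization p → Nat.card Q' ≤ Nat.card Q := by
    intro Q' h1 h2 h3 hle
    have h4 := hQmax Q' ⟨h1, h2, h3⟩
    beta_reduce at h4
    have h5 : (Nat.card (normalizer (Q : Set G))).factorization p * (n + 1) ≤
        (Nat.card (normalizer (Q' : Set G))).factorization p * (n + 1) :=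
      Nat.mul_le_mul_right _ hle
    omega
  -- Claim 1
  have hQn : Q.Normal := by
    rw [← Subgroup.normalizer_eq_top_iff]
    by_contra hN
    obtain ⟨N, hNdef⟩ : ∃ N : Subgroup G, N = normalizer (Q : Set G) := ⟨_, rfl⟩
    rw [← hNdef] at hN hQnpc
    have hQN : Q ≤ N := by rw [hNdef]; exact Subgroup.le_normalizer
    obtain ⟨R₀, hR₀⟩ := (hQp.comap_subtype (K := N) : IsPGroup p (Q.subgroupOf N)).exists_le_sylow
    obtain ⟨R, hRdef⟩ : ∃ R : Subgroup G, R = (R₀ : Subgroup N).map N.subtype := ⟨_, rfl⟩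
    have hRp : IsPGroup p R := by rw [hRdef]; exact R₀.isPGroup'.map _
    have hRN : R ≤ N := by rw [hRdef]; exact Subgroup.map_subtype_le _
    have hQR : Q ≤ R := by
      intro x hx
      rw [hRdef]
      exact Subgroup.mem_map.mpr ⟨⟨x, hQN hx⟩, hR₀ (Subgroup.mem_subgroupOf.mpr hx), rfl⟩
    have hRne : R ≠ ⊥ := by
      intro h; apply hQne; rw [eq_bot_iff, ← h]; exact hQR
    have hRcard : Nat.card R = p ^ (Nat.card N).factorization p := by
      rw [hRdef, Subgroup.card_map_of_injective N.subtype_injective]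
      exact R₀.card_eq_multiplicity
    obtain ⟨P, hRP⟩ := hRp.exists_le_sylow
    -- normalizers of nontrivial p-subgroups containing a bigger p-group have NPC
    have hbig : ∀ X : Subgroup G, IsPGroup p X → X ≠ ⊥ → ∀ S : Subgroup G, IsPGroup p S →
        S ≤ normalizer (X : Set G) → Nat.card R < Nat.card S →
        NPC p ↥(normalizer (X : Set G)) := by
      intro X hX hXne S hS hSX hlt
      by_contra hnpc
      have h1 := hM1 X hX hXne hnpc
      rw [← hNdef] at h1
      have h2 := card_le_pow_factorization (normalizer (X : Set G)) S hS hSX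
      have h3 : p ^ (Nat.card (normalizer (X : Set G))).factorization p ≤
          p ^ (Nat.card N).factorization p := Nat.pow_le_pow_right hp.out.pos h1
      rw [← hRcard] at h3
      omega
    have hThR : ThHyp p G R := by
      by_cases hRPeq : R = (P : Subgroup G)
      · rw [hRPeq]; exact hall P
      · have hlt : R < (P : Subgroup G) := lt_of_le_of_ne hRP hRPeq
        have hlt2 := Helper15.lt_inf_normalizer_of_lt (P : Subgroup G) R P.isPGroup' hlt
        have hSp : IsPGroup p ↥((P : Subgroup G) ⊓ normalizer (R : Set G)) :=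
          P.isPGroup'.to_le inf_le_left
        have hcardlt : Nat.card R < Nat.card ↥((P : Subgroup G) ⊓ normalizer (R : Set G)) := by
          by_contra hge
          push Not at hge
          exact hlt2.ne (Subgroup.eq_of_le_of_card_ge hlt2.le hge)
        constructor
        · exact hbig _ (hRp.to_le (Helper17.thompsonSubgroupOf_le_self R))
            (thompsonSubgroupOf_ne_bot R hRp hRne) _ hSp
            (inf_le_right.trans (Helper17.normalizer_le_normalizer_thompsonSubgroupOf R)) hcardlt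
        · refine NPC.of_le (Subgroup.centralizer_le_normalizer _) ?_
          exact hbig _ (hRp.to_le inf_le_left) (inf_centralizer_ne_bot_of_isPGroup R hRp hRne) _ hSp
            (inf_le_right.trans (normalizer_le_normalizer_zsub R)) hcardlt
    have hThN : ThHyp p ↥N (R₀ : Subgroup N) := by
      apply ThHyp.subgroup N
      rw [← hRdef]; exact hThR
    have hNlt : Nat.card N < n := by
      rw [← hn]
      rcases lt_or_eq_of_le (Subgroup.card_le_card_group N) with h | h
      · exact h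
      · exact absurd ((Subgroup.card_eq_iff_eq_top N).mp h) hN
    exact hQnpc (ih _ hNlt ↥N rfl R₀ hThN)
  have hNtop : normalizer (Q : Set G) = ⊤ := Subgroup.normalizer_eq_top Q
  obtain ⟨P, hQP⟩ := hQp.exists_le_sylow
  have hTh := hall P
  -- Claim 3a
  have hOp : ∀ R : Subgroup G, R.Normal → IsPGroup p R → R ≤ Q := by
    intro R hRn hRp
    have hRQp : IsPGroup p ↥(R ⊔ Q) := IsPGroup.to_sup_of_normal_right hRp hQp
    have hRQn : (R ⊔ Q).Normal := inferInstance
    have hRQne : R ⊔ Q ≠ ⊥ := by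
      intro h; apply hQne; rw [eq_bot_iff, ← h]; exact le_sup_right
    have hNtop' : normalizer ((R ⊔ Q : Subgroup G) : Set G) = ⊤ := Subgroup.normalizer_eq_top _
    have h1 : Nat.card ↥(R ⊔ Q) ≤ Nat.card Q := by
      apply hM2 _ hRQp hRQne
      · rw [hNtop']; rw [hNtop] at hQnpc; exact hQnpc
      · rw [hNtop', hNtop]
    have h2 : Q = R ⊔ Q := Subgroup.eq_of_le_of_card_ge le_sup_right h1
    rw [h2]; exact le_sup_left
  -- Claim 2
  have hPcard : Nat.card (P : Subgroup G) = p ^ (Nat.card G).factorization p :=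
    P.card_eq_multiplicity
  have hquot : NPC p (G ⧸ Q) := by
    by_cases hPbar : (P : Subgroup G).map (QuotientGroup.mk' Q) = ⊥
    · apply NPC.of_coprime
      have h1 : (P : Subgroup G) ≤ Q := by
        rw [← QuotientGroup.ker_mk' Q]
        exact (Subgroup.map_eq_bot_iff _).mp hPbar
      have h2 : Q = (P : Subgroup G) := le_antisymm hQP h1
      have h3 : ¬ p ∣ Q.index := by rw [h2]; exact P.not_dvd_index
      rw [← Subgroup.index_eq_card]
      exact ((Nat.Prime.coprime_iff_not_dvd hp.out).mpr h3).symm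
    · have hlt : Nat.card (G ⧸ Q) < n := by
        have h2 := Subgroup.card_eq_card_quotient_mul_card_subgroup Q
        have h3 : 1 < Nat.card Q := by
          rcases Nat.lt_or_ge 1 (Nat.card Q) with h | h
          · exact h
          · exfalso
            apply hQne
            have hpos : 0 < Nat.card Q := Nat.card_pos
            exact Subgroup.card_eq_one.mp (by omega)
        have hpos : 0 < Nat.card (G ⧸ Q) := Nat.card_pos
        rw [← hn, h2]
        nlinarith
      refine ih _ hlt (G ⧸ Q) rfl (P.mapSurjective (QuotientGroup.mk'_surjective Q)) ?_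
      rw [Sylow.coe_mapSurjective]
      apply ThHyp.quotient_of_normalizers Q (P : Subgroup G) hQP P.isPGroup' _ hPbar
      intro K hQK hKP hPK hKQ
      by_contra hnpc
      have hKp : IsPGroup p K := P.isPGroup'.to_le hKP
      have hKne : K ≠ ⊥ := by
        intro h; apply hQne; rw [eq_bot_iff, ← h]; exact hQK
      have h1 : Nat.card K ≤ Nat.card Q := by
        apply hM2 K hKp hKne hnpc
        rw [hNtop, Subgroup.card_top]
        have h2 := card_le_pow_factorization (normalizer (K : Set G)) (P : Subgroup G)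
          P.isPGroup' hPK
        rw [hPcard] at h2
        exact (Nat.pow_le_pow_iff_right hp.out.one_lt).mp h2
      exact hKQ (Subgroup.eq_of_le_of_card_ge hQK h1).symm
  -- subgroups containing `P`
  have hmaxNPC : ∀ M : Subgroup G, (P : Subgroup G) ≤ M → M ≠ ⊤ → NPC p ↥M := by
    intro M hPM hM
    have hMlt : Nat.card M < n := by
      rw [← hn]
      rcases lt_or_eq_of_le (Subgroup.card_le_card_group M) with h | h
      · exact h
      · exact absurd ((Subgroup.card_eq_iff_eq_top M).mp h) hM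
    refine ih _ hMlt ↥M rfl (P.subtype hPM) ?_
    apply ThHyp.subgroup M
    rw [Sylow.coe_subtype, Subgroup.map_subgroupOf_eq_of_le hPM]
    exact hTh
  exact thompson_final hp2 P Q hQP hOp hOp' hquot hmaxNPC hTh hG

end induction

end Cfsg.Agent.Lib.Helper13
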