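import Mathlib
import Cfsg.Agent.Lib.Helper13.CoprimeSylow

/-!
Invariant p-subgroups lie in invariant Sylow subgroups (helper13).
-/

set_option autoImplicit false

namespace Cfsg.Agent.Lib.Helper13

open scoped Pointwise

universe u

/-- **Coprime action**: an `A`-invariant `p`-subgroup of `K` lies in an `A`-invariant Sylow `p`-subgroup. -/
theorem invariant_psubgroup_le_invariant_sylow {G : Type u} [Group G] [Finite G] (A K : Subgroup G)
    (hAK : A ≤ Subgroup.normalizer (K : Set G))
    (hcop : (Nat.card A).Coprime (Nat.card K)) (hsolv : Group.IsSolvable A ∨ Group.IsSolvable K)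
    (p : ℕ) [Fact p.Prime] (U : Subgroup G) (hUK : U ≤ K) (hU : IsPGroup p U)
    (hUA : A ≤ Subgroup.normalizer (U : Set G)) :
    ∃ P : Sylow p K, U ≤ (P : Subgroup K).map K.subtype ∧
      A ≤ Subgroup.normalizer ((P : Subgroup K).map K.subtype : Set G) := by
  have hp := (Fact.out : p.Prime)
  obtain ⟨V, hUV, hVmax⟩ := (Set.toFinite {V : Subgroup G | V ≤ K ∧ IsPGroup p V ∧
      A ≤ Subgroup.normalizer (V : Set G)}).exists_le_maximal (a := U) ⟨hUK, hU, hUA⟩
  obtain ⟨⟨hVK, hVp, hVA⟩, hVmax'⟩ := hVmax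
  have hcard : Nat.card V = p ^ (Nat.card K).factorization p := by
    by_contra hne
    obtain ⟨n, hn⟩ := IsPGroup.iff_card.mp hVp
    have hKpos : Nat.card K ≠ 0 := Nat.card_pos.ne'
    have hdvd : p ^ n ∣ Nat.card K := hn ▸ Subgroup.card_dvd_of_le hVK
    have hle : n ≤ (Nat.card K).factorization p := (hp.pow_dvd_iff_le_factorization hKpos).mp hdvd
    have hlt : n < (Nat.card K).factorization p :=
      lt_of_le_of_ne hle (fun h => hne (by rw [hn, h]))
    have hdvd' : p ^ (n + 1) ∣ Nat.card K := (hp.pow_dvd_iff_le_factorization hKpos).mpr hlt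
    have hH : Nat.card (V.subgroupOf K) = p ^ n := by rw [card_subgroupOf_of_le hVK, hn]
    have h1 := Sylow.prime_pow_dvd_card_normalizer hdvd' hH
    obtain ⟨N, hN⟩ : ∃ N : Subgroup G, N = Subgroup.normalizer (V : Set G) ⊓ K := ⟨_, rfl⟩
    have hNK : N ≤ K := hN ▸ inf_le_right
    have hNV : N ≤ Subgroup.normalizer (V : Set G) := hN ▸ inf_le_left
    have hNcard : Nat.card (Subgroup.normalizer ((V.subgroupOf K : Subgroup K) : Set K)) =
        Nat.card N := by
      rw [← Subgroup.subgroupOf_normalizer_eq hVK, ← Subgroup.inf_subgroupOf_right, ← hN,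
        card_subgroupOf_of_le hNK]
    rw [hNcard] at h1
    have hAN : A ≤ Subgroup.normalizer (N : Set G) := by
      rw [hN]; exact le_normalizer_inf (hVA.trans Subgroup.le_normalizer) hAK
    have hcopN : (Nat.card A).Coprime (Nat.card N) :=
      Nat.Coprime.of_dvd_right (Subgroup.card_dvd_of_le hNK) hcop
    have hsolvN : Group.IsSolvable A ∨ Group.IsSolvable N := by
      rcases hsolv with h | h
      · exact Or.inl h
      · exact Or.inr (isSolvable_of_le hNK h)
    obtain ⟨T', hT'⟩ := exists_invariant_sylow A N hAN hcopN hsolvN p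
    obtain ⟨T, hT⟩ : ∃ T : Subgroup G, T = (T' : Subgroup N).map N.subtype := ⟨_, rfl⟩
    have hTN : T ≤ N := hT ▸ Subgroup.map_subtype_le _
    have hTp : IsPGroup p T := hT ▸ T'.isPGroup'.map _
    have hTcard : Nat.card T = p ^ (Nat.card N).factorization p := by
      rw [hT, Subgroup.card_map_of_injective N.subtype_injective, T'.card_eq_multiplicity]
    have hVN : V ≤ N := hN ▸ le_inf Subgroup.le_normalizer hVK
    have hNpos : Nat.card N ≠ 0 := Nat.card_pos.ne'
    have hVT : V ≤ T := by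
      have h2 : IsPGroup p (T ⊔ V : Subgroup G) :=
        IsPGroup.to_sup_of_normal_right' hTp hVp (hTN.trans hNV)
      have h3 : T ⊔ V ≤ N := sup_le hTN hVN
      obtain ⟨m, hm⟩ := IsPGroup.iff_card.mp h2
      have h4 : p ^ m ∣ Nat.card N := hm ▸ Subgroup.card_dvd_of_le h3
      have hmle : m ≤ (Nat.card N).factorization p := (hp.pow_dvd_iff_le_factorization hNpos).mp h4
      have h5 : Nat.card (T ⊔ V : Subgroup G) ≤ Nat.card T := by
        rw [hm, hTcard]; exact Nat.pow_le_pow_right hp.pos hmle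
      have h6 := Subgroup.eq_of_le_of_card_ge (le_sup_left : T ≤ T ⊔ V) h5
      rw [h6]; exact le_sup_right
    have hTV : T ≤ V := hVmax' ⟨hTN.trans hNK, hTp, hT ▸ hT'⟩ hVT
    have hTVeq : T = V := le_antisymm hTV hVT
    have h7 : n + 1 ≤ (Nat.card N).factorization p := (hp.pow_dvd_iff_le_factorization hNpos).mp h1
    rw [← hTVeq, hTcard] at hn
    have := Nat.pow_right_injective hp.two_le hn
    omega
  refine ⟨Sylow.ofCard (V.subgroupOf K) (by rw [card_subgroupOf_of_le hVK, hcard]), ?_, ?_⟩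
  · rw [Sylow.coe_ofCard, Subgroup.map_subgroupOf_eq_of_le hVK]; exact hUV
  · rw [Sylow.coe_ofCard, Subgroup.map_subgroupOf_eq_of_le hVK]; exact hVA

end Cfsg.Agent.Lib.Helper13
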