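import Mathlib
import Cfsg.Agent.Lib.Helper13.Coprime

/-!
Thompson's `P × Q` lemma (helper13).
-/

set_option autoImplicit false

namespace Cfsg.Agent.Lib.Helper13

open scoped Pointwise
open scoped commutatorElement

universe u

theorem cj_commutator {G : Type*} [Group G] (g : G) (H K : Subgroup G) :
    MulAut.conj g • ⁅H, K⁆ = ⁅MulAut.conj g • H, MulAut.conj g • K⁆ := by
  exact Subgroup.map_commutator H K (MulAut.conj g).toMonoidHom

/-- If `A` normalizes `H` and `K` then it normalizes `⁅H, K⁆`. -/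
theorem le_normalizer_commutator_of_le {G : Type*} [Group G] {A H K : Subgroup G}
    (hH : A ≤ Subgroup.normalizer (H : Set G)) (hK : A ≤ Subgroup.normalizer (K : Set G)) :
    A ≤ Subgroup.normalizer ((⁅H, K⁆ : Subgroup G) : Set G) := by
  intro a ha
  rw [← cj_eq_self_iff_mem_normalizer, cj_commutator,
    cj_eq_self_iff_mem_normalizer.mpr (hH ha), cj_eq_self_iff_mem_normalizer.mpr (hK ha)]

/-- If `Γ` is nilpotent, `U, P ≤ Γ` and `⁅U, P⁆ = U` then `U = ⊥`. -/
theorem eq_bot_of_commutator_eq_self {G : Type*} [Group G] (Γ U P : Subgroup G)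
    (hΓ : Group.IsNilpotent Γ) (hU : U ≤ Γ) (hP : P ≤ Γ) (h : ⁅U, P⁆ = U) : U = ⊥ := by
  obtain ⟨n, hn⟩ := (Subgroup.isNilpotent_iff_lowerCentralSeries Γ).mp hΓ
  have key : ∀ k, U ≤ Γ.lowerCentralSeries k := by
    intro k
    induction k with
    | zero => exact hU
    | succ k ih =>
      rw [Subgroup.lowerCentralSeries_succ]
      calc U = ⁅U, P⁆ := h.symm
        _ ≤ ⁅Γ.lowerCentralSeries k, Γ⁆ := Subgroup.commutator_mono ih hP
  have := key n
  rwa [hn, le_bot_iff] at this

/-- **Thompson's `P × Q` lemma**. -/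
theorem thompson_PQ {G : Type u} [Group G] [Finite G] (p : ℕ) [Fact p.Prime]
    (P Q : Subgroup G) (hP : IsPGroup p P) (hQ : (Nat.card Q).Coprime p)
    (hPQ : P ≤ Subgroup.centralizer (Q : Set G)) :
    ∀ (n : ℕ) (U : Subgroup G), Nat.card U = n → IsPGroup p U →
      P ≤ Subgroup.normalizer (U : Set G) → Q ≤ Subgroup.normalizer (U : Set G) →
      U ⊓ Subgroup.centralizer (P : Set G) ≤ Subgroup.centralizer (Q : Set G) →
      Q ≤ Subgroup.centralizer (U : Set G) := by
  intro n
  induction n using Nat.strong_induction_on with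
  | _ n ih =>
  intro U hUn hU hPU hQU hC
  have hp := (Fact.out : p.Prime)
  -- coprimality and solvability for the action of Q on U
  have hcop : (Nat.card Q).Coprime (Nat.card U) := by
    obtain ⟨m, hm⟩ := IsPGroup.iff_card.mp hU
    rw [hm]; exact Nat.Coprime.pow_right m hQ
  have hUsolv : Group.IsSolvable U := by
    have : Group.IsNilpotent U := hU.isNilpotent
    infer_instance
  have hQP : Q ≤ Subgroup.centralizer (P : Set G) := Subgroup.le_centralizer_iff.mp hPQ
  have hPnQ : P ≤ Subgroup.normalizer (Q : Set G) :=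
    hPQ.trans (Subgroup.centralizer_le_normalizer _)
  have hQnP : Q ≤ Subgroup.normalizer (P : Set G) :=
    hQP.trans (Subgroup.centralizer_le_normalizer _)
  have hWU : ⁅U, Q⁆ ≤ U := commutator_le_of_le_normalizer U Q hQU
  have hstable : ⁅⁅U, Q⁆, Q⁆ = ⁅U, Q⁆ := coprime_commutator_stable Q U hQU hcop (Or.inr hUsolv)
  rcases lt_or_eq_of_le hWU with hlt | heq
  · -- W < U: induction
    have hWcard : Nat.card (⁅U, Q⁆ : Subgroup G) < n := hUn ▸ card_lt_of_lt hlt
    have hW := ih _ hWcard ⁅U, Q⁆ rfl (hU.to_le hWU)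
      (le_normalizer_commutator_of_le hPU hPnQ)
      (le_normalizer_commutator_of_le hQU Subgroup.le_normalizer)
      ((inf_le_inf_right _ hWU).trans hC)
    have h1 : ⁅⁅U, Q⁆, Q⁆ = ⊥ :=
      Subgroup.commutator_eq_bot_iff_le_centralizer.mpr (Subgroup.le_centralizer_iff.mp hW)
    rw [hstable] at h1
    exact Subgroup.le_centralizer_iff.mp (Subgroup.commutator_eq_bot_iff_le_centralizer.mp h1)
  · -- ⁅U, Q⁆ = U
    by_cases hUbot : U = ⊥
    · rw [hUbot]
      intro q _
      rw [Subgroup.mem_centralizer_iff]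
      intro u hu
      rw [Subgroup.coe_bot, Set.mem_singleton_iff] at hu
      rw [hu, one_mul, mul_one]
    have hVU : ⁅U, P⁆ ≤ U := commutator_le_of_le_normalizer U P hPU
    have hVlt : ⁅U, P⁆ < U := by
      refine lt_of_le_of_ne hVU (fun h => hUbot ?_)
      have hΓ : IsPGroup p (P ⊔ U : Subgroup G) := IsPGroup.to_sup_of_normal_right' hP hU hPU
      exact eq_bot_of_commutator_eq_self (P ⊔ U) U P hΓ.isNilpotent le_sup_right le_sup_left h
    have hVcard : Nat.card (⁅U, P⁆ : Subgroup G) < n := hUn ▸ card_lt_of_lt hVlt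
    have hV := ih _ hVcard ⁅U, P⁆ rfl (hU.to_le hVU)
      (le_normalizer_commutator_of_le hPU Subgroup.le_normalizer)
      (le_normalizer_commutator_of_le hQU hQnP)
      ((inf_le_inf_right _ hVU).trans hC)
    have h1 : ⁅⁅U, P⁆, Q⁆ = ⊥ :=
      Subgroup.commutator_eq_bot_iff_le_centralizer.mpr (Subgroup.le_centralizer_iff.mp hV)
    have h2 : ⁅⁅P, Q⁆, U⁆ = ⊥ := by
      rw [Subgroup.commutator_eq_bot_iff_le_centralizer.mpr hPQ, Subgroup.commutator_bot_left]
    have h3 : ⁅⁅Q, U⁆, P⁆ = ⊥ := Subgroup.commutator_commutator_eq_bot_of_rotate h1 h2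
    rw [Subgroup.commutator_comm Q U, heq] at h3
    have hUP : U ≤ Subgroup.centralizer (P : Set G) :=
      Subgroup.commutator_eq_bot_iff_le_centralizer.mp h3
    exact Subgroup.le_centralizer_iff.mp ((le_inf le_rfl hUP).trans hC)

end Cfsg.Agent.Lib.Helper13
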