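import Mathlib
import Cfsg.Prelude.Def_Solvable
import Cfsg.Agent.Lib.Helper20.AxB
import Cfsg.Agent.Lib.Helper20.Bender
import Cfsg.Agent.Lib.Helper20.Cores
import Cfsg.Agent.Lib.Helper20.Fitting
import Cfsg.Agent.Lib.Helper20.CoprimeLift
import Cfsg.Agent.Lib.Helper13.Coprime

/-!
# Two lemmas on cores of solvable groups (used for Bender's uniqueness theorem)
-/

set_option autoImplicit false

namespace Cfsg.Agent.Lib.Helper13.BenderA

open Subgroup Cfsg.Agent.Lib.Helper20
open scoped commutatorElement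

/-- two subgroups of coprime orders meet trivially -/
theorem inf_eq_bot_of_coprime' {X : Type*} [Group X] [Finite X] (A B : Subgroup X)
    (h : (Nat.card A).Coprime (Nat.card B)) : A ⊓ B = ⊥ := by
  rw [← Subgroup.card_eq_one]
  have h1 : Nat.card (A ⊓ B : Subgroup X) ∣ Nat.card A := Subgroup.card_dvd_of_le inf_le_left
  have h2 : Nat.card (A ⊓ B : Subgroup X) ∣ Nat.card B := Subgroup.card_dvd_of_le inf_le_right
  exact Nat.eq_one_of_dvd_coprimes h h1 h2

/-- a `q`-group and a `q'`-group meet trivially -/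
theorem inf_eq_bot_of_isPGroup_of_coprime {X : Type*} [Group X] [Finite X] (q : ℕ)
    [hq : Fact q.Prime] (A B : Subgroup X)
    (hA : IsPGroup q A) (hB : (Nat.card B).Coprime q) : A ⊓ B = ⊥ := by
  apply inf_eq_bot_of_coprime'
  obtain ⟨n, hn⟩ := IsPGroup.iff_card.mp hA
  rw [hn]
  exact (Nat.Coprime.pow_right n hB).symm

/-- **Lemma A**: in a solvable group `X`, a `q'`-subgroup `K` centralizing a `q`-subgroup `Z`
and normalized by `C_X(Z)` lies in `O_{q'}(X)`. -/
theorem lemmaA_abs {X : Type*} [Group X] [Finite X] [Group.IsSolvable X] (q : ℕ)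
    [hq : Fact q.Prime] (Z K : Subgroup X) (hZ : IsPGroup q Z) (hK : (Nat.card K).Coprime q)
    (hKZ : K ≤ centralizer (Z : Set X))
    (hCK : centralizer (Z : Set X) ≤ normalizer (K : Set X)) :
    K ≤ Cfsg.pPrimeCore q X := by
  obtain ⟨O, hO⟩ : ∃ O, O = Cfsg.pPrimeCore q X := ⟨_, rfl⟩
  rw [← hO]
  haveI hOn : O.Normal := by rw [hO]; exact Cfsg.pPrimeCore_normal q X
  have hOq : ¬ q ∣ Nat.card O := by
    rw [hO]
    intro hd
    have := pPrimeCore_coprime' (G := X) q
    have h1 : q ∣ Nat.gcd (Nat.card (Cfsg.pPrimeCore q X)) q := Nat.dvd_gcd hd dvd_rfl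
    rw [this] at h1
    exact hq.out.one_lt.ne' (Nat.dvd_one.mp h1)
  have hbot : Cfsg.pPrimeCore q (X ⧸ O) = ⊥ := by
    subst hO; exact pPrimeCore_quotient_eq_bot q
  obtain ⟨Qb, hQb⟩ : ∃ Qb, Qb = Cfsg.pCore q (X ⧸ O) := ⟨_, rfl⟩
  haveI hQbn : Qb.Normal := by rw [hQb]; exact Cfsg.pCore_normal q _
  have hQbp : IsPGroup q Qb := by rw [hQb]; exact pCore_isPGroup' q
  have hCQ : centralizer (Qb : Set (X ⧸ O)) ≤ Qb := by
    rw [hQb]; exact solvable_centralizer_pCore_le q hbot
  have hcent := centralizer_map_mk'_of_coprime q O hOq Z hZ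
  have hKb : (Nat.card (K.map (QuotientGroup.mk' O))).Coprime q :=
    Nat.Coprime.coprime_dvd_left (Subgroup.card_map_dvd _ _) hK
  have hcomm : ⁅Qb, K.map (QuotientGroup.mk' O)⁆ = ⊥ := by
    apply thompson_AxB q Qb (K.map (QuotientGroup.mk' O)) (Z.map (QuotientGroup.mk' O)) hQbp
      (hZ.map _) hKb
    · rw [← Subgroup.map_commutator, eq_bot_iff]
      have : ⁅K, Z⁆ = ⊥ := by
        rw [Subgroup.commutator_eq_bot_iff_le_centralizer]; exact hKZ
      rw [this, Subgroup.map_bot]
    · rw [Subgroup.normalizer_eq_top]; exact le_top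
    · rw [Subgroup.normalizer_eq_top]; exact le_top
    · intro x hx
      obtain ⟨hxQ, hxC⟩ := Subgroup.mem_inf.mp hx
      rw [hcent] at hxC
      obtain ⟨c, hc, rfl⟩ := hxC
      rw [Subgroup.mem_centralizer_iff]
      intro kb hkb
      obtain ⟨k, hk, rfl⟩ := hkb
      -- the commutator lies in Qb ⊓ K̄ = ⊥
      have h1 : ⁅QuotientGroup.mk' O c, QuotientGroup.mk' O k⁆ ∈
          Qb ⊓ K.map (QuotientGroup.mk' O) := by
        refine Subgroup.mem_inf.mpr ⟨?_, ?_⟩
        · have : ⁅QuotientGroup.mk' O c, QuotientGroup.mk' O k⁆ =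
              QuotientGroup.mk' O c * (QuotientGroup.mk' O k * (QuotientGroup.mk' O c)⁻¹ *
                (QuotientGroup.mk' O k)⁻¹) := by
            rw [commutatorElement_def]; group
          rw [this]
          exact mul_mem hxQ (hQbn.conj_mem _ (inv_mem hxQ) _)
        · have h2 : c * k * c⁻¹ ∈ K := (Subgroup.mem_normalizer_iff.mp (hCK hc) k).mp hk
          have : ⁅QuotientGroup.mk' O c, QuotientGroup.mk' O k⁆ =
              QuotientGroup.mk' O (c * k * c⁻¹ * k⁻¹) := by
            rw [commutatorElement_def]; simp only [map_mul, map_inv]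
          rw [this]
          exact Subgroup.mem_map_of_mem _ (mul_mem h2 (inv_mem hk))
      rw [inf_eq_bot_of_isPGroup_of_coprime q Qb _ hQbp hKb, Subgroup.mem_bot] at h1
      have h3 := commutatorElement_eq_one_iff_commute.mp h1
      exact h3.eq.symm
  have h1 : K.map (QuotientGroup.mk' O) ≤ Qb := by
    refine le_trans ?_ hCQ
    rw [Subgroup.commutator_comm, Subgroup.commutator_eq_bot_iff_le_centralizer] at hcomm
    exact hcomm
  have h2 : K.map (QuotientGroup.mk' O) = ⊥ := by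
    rw [eq_bot_iff, ← inf_eq_bot_of_isPGroup_of_coprime q Qb _ hQbp hKb]
    exact le_inf h1 le_rfl
  intro k hk
  have h3 : QuotientGroup.mk' O k ∈ K.map (QuotientGroup.mk' O) := Subgroup.mem_map_of_mem _ hk
  rw [h2, Subgroup.mem_bot] at h3
  rw [← QuotientGroup.ker_mk' O, MonoidHom.mem_ker]
  exact h3


/-- `C_X(F(X)) ≤ F(X)` for a finite solvable group. -/
theorem centralizer_fitting_le {X : Type*} [Group X] [Finite X] [hs : Group.IsSolvable X] :
    centralizer (Cfsg.fittingSubgroup X : Set X) ≤ Cfsg.fittingSubgroup X := by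
  haveI hFn : (Cfsg.fittingSubgroup X).Normal := fittingSubgroup_normal'
  have hCn : (centralizer (Cfsg.fittingSubgroup X : Set X)).Normal := inferInstance
  exact subnormal_solvable_le_fitting_of_le_centralizer _ hCn.isSubnormal inferInstance le_rfl

/-- **Lemma B**: in a solvable group `X`, a `p`-subgroup centralizing `O_q(X)` for all primes
`q ≠ p` centralizes `O_{p'}(X)`. -/
theorem lemmaB_abs {X : Type*} [Group X] [Finite X] [Group.IsSolvable X] (p : ℕ)
    [hp : Fact p.Prime] (R : Subgroup X) (hR : IsPGroup p R)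
    (hRq : ∀ q : ℕ, q.Prime → q ≠ p → R ≤ centralizer (Cfsg.pCore q X : Set X)) :
    R ≤ centralizer (Cfsg.pPrimeCore p X : Set X) := by
  obtain ⟨Y, hY⟩ : ∃ Y, Y = Cfsg.pPrimeCore p X := ⟨_, rfl⟩
  rw [← hY]
  haveI hYn : Y.Normal := by rw [hY]; exact Cfsg.pPrimeCore_normal p X
  have hYp : (Nat.card Y).Coprime p := by rw [hY]; exact pPrimeCore_coprime' p
  obtain ⟨P, hP⟩ : ∃ P, P = Cfsg.pCore p X := ⟨_, rfl⟩
  haveI hPn : P.Normal := by rw [hP]; exact Cfsg.pCore_normal p X
  have hPp : IsPGroup p P := by rw [hP]; exact pCore_isPGroup' p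
  obtain ⟨E, hE⟩ : ∃ E, E = sSup {N : Subgroup X | N.Normal ∧ ∃ q : ℕ, q.Prime ∧ q ≠ p ∧
      IsPGroup q N} := ⟨_, rfl⟩
  haveI hEn : E.Normal := by rw [hE]; exact Subgroup.sSup_normal _ (fun _ h => h.1)
  have hEY : E ≤ Y := by
    rw [hE]
    apply sSup_le
    rintro N ⟨hNn, q, hq, hqp, hNq⟩
    rw [hY]
    apply le_pPrimeCore' hNn
    haveI : Fact q.Prime := ⟨hq⟩
    obtain ⟨n, hn⟩ := IsPGroup.iff_card.mp hNq
    rw [hn]
    exact Nat.Coprime.pow_left n ((Nat.coprime_primes hq hp.out).mpr hqp)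
  have hRE : E ≤ centralizer (R : Set X) := by
    rw [hE]
    apply sSup_le
    rintro N ⟨hNn, q, hq, hqp, hNq⟩
    have h1 : N ≤ Cfsg.pCore q X := le_pCore' hNn hNq
    have h2 := hRq q hq hqp
    rw [Subgroup.le_centralizer_iff] at h2
    exact h1.trans h2
  have hRE' : ⁅E, R⁆ = ⊥ := by
    rw [Subgroup.commutator_eq_bot_iff_le_centralizer]; exact hRE
  have hPY : P ⊓ Y = ⊥ := inf_eq_bot_of_isPGroup_of_coprime p P Y hPp hYp
  have hYP : Y ≤ centralizer (P : Set X) := by
    intro y hy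
    rw [Subgroup.mem_centralizer_iff]
    intro a ha
    exact (Subgroup.commute_of_normal_of_disjoint P Y hPn hYn (disjoint_iff.mpr hPY) a y ha hy).eq
  have hF : Cfsg.fittingSubgroup X ≤ P ⊔ E := by
    rw [fittingSubgroup_eq_iSup_pCore']
    apply iSup_le
    intro q
    by_cases hqp : (q : ℕ) = p
    · rw [hqp, ← hP]; exact le_sup_left
    · refine le_trans ?_ le_sup_right
      rw [hE]
      apply le_sSup
      haveI : Fact (q : ℕ).Prime := ⟨q.2⟩
      exact ⟨Cfsg.pCore_normal _ _, q, q.2, hqp, pCore_isPGroup' _⟩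
  obtain ⟨T, hT⟩ : ∃ T, T = ⁅Y, R⁆ := ⟨_, rfl⟩
  have hTY : T ≤ Y := by
    rw [hT]
    apply Cfsg.Agent.Lib.Helper13.commutator_le_of_le_normalizer
    rw [Subgroup.normalizer_eq_top]; exact le_top
  have hTE : ⁅T, E⁆ = ⊥ := by
    rw [hT]
    apply Subgroup.commutator_commutator_eq_bot_of_rotate
    · rw [Subgroup.commutator_comm R E, hRE', Subgroup.commutator_bot_left]
    · have h1 : ⁅E, Y⁆ ≤ E := by
        apply Cfsg.Agent.Lib.Helper13.commutator_le_of_le_normalizer
        rw [Subgroup.normalizer_eq_top]; exact le_top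
      rw [eq_bot_iff, ← hRE']
      exact Subgroup.commutator_mono h1 le_rfl
  have hTF : T ≤ Cfsg.fittingSubgroup X := by
    refine le_trans ?_ centralizer_fitting_le
    refine le_trans ?_ (Subgroup.centralizer_le hF)
    intro t ht
    rw [Subgroup.mem_centralizer_iff]
    intro x hx
    have hx' : x ∈ P ⊔ E := hx
    rw [← SetLike.mem_coe, Subgroup.mul_normal] at hx'
    obtain ⟨a, ha, e, he, rfl⟩ := Set.mem_mul.mp hx'
    have h1 : a * t = t * a := by
      have := hYP (hTY ht)
      rw [Subgroup.mem_centralizer_iff] at this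
      exact this a ha
    have h2 : e * t = t * e := by
      rw [Subgroup.commutator_eq_bot_iff_le_centralizer] at hTE
      have := hTE ht
      rw [Subgroup.mem_centralizer_iff] at this
      exact this e he
    calc a * e * t = a * (e * t) := by group
      _ = a * (t * e) := by rw [h2]
      _ = (a * t) * e := by group
      _ = (t * a) * e := by rw [h1]
      _ = t * (a * e) := by group
  have hTE2 : T ≤ E := by
    intro t ht
    have h1 : t ∈ P ⊔ E := hF (hTF ht)
    rw [← SetLike.mem_coe, Subgroup.mul_normal] at h1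
    obtain ⟨a, ha, e, he, hae⟩ := Set.mem_mul.mp h1
    have h2 : a ∈ P ⊓ Y := by
      refine Subgroup.mem_inf.mpr ⟨ha, ?_⟩
      have : a = t * e⁻¹ := by rw [← hae]; group
      rw [this]
      exact mul_mem (hTY ht) (inv_mem (hEY he))
    rw [hPY, Subgroup.mem_bot] at h2
    rw [← hae, h2, one_mul]; exact he
  have hTR : ⁅T, R⁆ = ⊥ := by
    rw [eq_bot_iff, ← hRE']
    exact Subgroup.commutator_mono hTE2 le_rfl
  have hstab := Cfsg.Agent.Lib.Helper13.coprime_commutator_stable R Y
    (by rw [Subgroup.normalizer_eq_top]; exact le_top)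
    (by
      obtain ⟨n, hn⟩ := IsPGroup.iff_card.mp hR
      rw [hn]
      exact (Nat.Coprime.pow_right n hYp).symm)
    (Or.inl inferInstance)
  rw [← hT, hTR] at hstab
  rw [Subgroup.le_centralizer_iff, ← Subgroup.commutator_eq_bot_iff_le_centralizer, ← hT]
  exact hstab.symm

end Cfsg.Agent.Lib.Helper13.BenderA
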