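import Mathlib
import Cfsg.Prelude.Def_Solvable
import Cfsg.Agent.Lib.Helper2.Cores
import Cfsg.Agent.Lib.Helper20.Cores

/-!
# Isolated 2-elements and the Z*-theorem (helper13)

Conditional on the statement of Glauberman's Z*-theorem for involutions (`ZStarAt`), every
subgroup `Q` of a Sylow 2-subgroup `S` all of whose elements are isolated
(`g x g⁻¹ ∈ S → g x g⁻¹ = x`) satisfies `[Q, G] ≤ O(G)`.

This file: basic lemmas.
-/

set_option autoImplicit false

namespace Cfsg.Agent.Lib.Helper13.ZStarIso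

open Subgroup
open scoped Pointwise

universe u

/-- the statement of Glauberman's Z*-theorem (frozen statement S0215) at universe `u`. -/
def ZStarAt : Prop :=
  ∀ (G : Type u) [Group G] [Finite G] (P : Sylow 2 G) (t : G), orderOf t = 2 → t ∈ P →
    (∀ g : G, g * t * g⁻¹ ∈ P → g * t * g⁻¹ = t) →
    ∃ N : Subgroup G, N.Normal ∧ Odd (Nat.card N) ∧ ∀ g : G, t * g * t⁻¹ * g⁻¹ ∈ N

variable {G : Type u} [Group G] [Finite G]

/-- a `2`-subgroup of `S N` (`N` normal) is conjugate into `S` by an element of `N`. -/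
theorem exists_conj_le_sylow (S : Sylow 2 G) (N : Subgroup G) [hN : N.Normal] (R : Subgroup G)
    (hR : IsPGroup 2 R) (hRL : R ≤ (S : Subgroup G) ⊔ N) :
    ∃ m ∈ N, ∀ y ∈ R, m * y * m⁻¹ ∈ S := by
  obtain ⟨L, hLdef⟩ : ∃ L : Subgroup G, L = (S : Subgroup G) ⊔ N := ⟨_, rfl⟩
  have hSL : (S : Subgroup G) ≤ L := by rw [hLdef]; exact le_sup_left
  have hRL' : R ≤ L := by rw [hLdef]; exact hRL
  obtain ⟨P', hP'⟩ := (hR.comap_subtype (K := L)).exists_le_sylow
  obtain ⟨l, hl⟩ := MulAction.exists_smul_eq L P' (S.subtype hSL)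
  have hlmem : (l : G) ∈ ((S : Subgroup G) ⊔ N : Subgroup G) := by rw [← hLdef]; exact l.2
  rw [← SetLike.mem_coe, Subgroup.mul_normal] at hlmem
  obtain ⟨s, hs, n, hn, hsn⟩ := hlmem
  have key : ∀ y ∈ R, (l : G) * y * (l : G)⁻¹ ∈ S := by
    intro y hy
    have h1 : (⟨y, hRL' hy⟩ : L) ∈ (P' : Subgroup L) :=
      hP' (show (⟨y, hRL' hy⟩ : L) ∈ R.comap L.subtype from hy)
    have h3 : (MulAut.conj l • (⟨y, hRL' hy⟩ : L)) ∈ ((l • P' : Sylow 2 L) : Subgroup L) := by
      rw [Sylow.coe_subgroup_smul]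
      exact Subgroup.smul_mem_pointwise_smul _ _ _ h1
    rw [hl] at h3
    have h4 : ((MulAut.conj l • (⟨y, hRL' hy⟩ : L) : L) : G) ∈ (S : Subgroup G) := by
      have := h3
      rw [Sylow.coe_subtype, Subgroup.mem_subgroupOf] at this
      exact this
    have h5 : (l : G) * y * (l : G)⁻¹ ∈ (S : Subgroup G) := by
      simpa [MulAut.smul_def] using h4
    exact h5
  refine ⟨n, hn, fun y hy => ?_⟩
  have h5 := key y hy
  have h6 : n * y * n⁻¹ = s⁻¹ * ((l : G) * y * (l : G)⁻¹) * s := by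
    rw [← hsn]; simp only [mul_inv_rev]; group
  rw [h6]
  exact (S : Subgroup G).mul_mem ((S : Subgroup G).mul_mem ((S : Subgroup G).inv_mem hs) h5) hs

/-- a Sylow `2`-subgroup meets a subgroup of odd order trivially. -/
theorem eq_one_of_mem_sylow_of_mem_odd (S : Sylow 2 G) (N : Subgroup G) (hN : Odd (Nat.card N))
    (c : G) (hcS : c ∈ S) (hcN : c ∈ N) : c = 1 := by
  have h1 : orderOf c ∣ Nat.card N := by
    have := orderOf_dvd_natCard (⟨c, hcN⟩ : N)
    rwa [← Subgroup.orderOf_coe] at this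
  obtain ⟨k, hk⟩ := (IsPGroup.iff_orderOf.mp S.isPGroup') ⟨c, hcS⟩
  rw [← Subgroup.orderOf_coe] at hk
  simp only at hk
  have h2 : (orderOf c).Coprime (orderOf c) := by
    have h3 : (Nat.card N).Coprime (2 ^ k) := (Nat.Coprime.pow_right k hN.coprime_two_right)
    exact Nat.Coprime.coprime_dvd_left h1 (hk ▸ h3)
  rw [Nat.coprime_self] at h2
  exact orderOf_eq_one_iff.mp h2

/-- the odd core has odd order. -/
theorem odd_card_pPrimeCore : Odd (Nat.card (Cfsg.pPrimeCore 2 G)) := by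
  have h := Cfsg.Agent.Lib.Helper2.pPrimeCore_coprime (G := G) 2
  exact Nat.Coprime.odd_of_right h

/-- a normal subgroup of odd order lies in the odd core. -/
theorem le_pPrimeCore_of_odd (N : Subgroup G) (hNn : N.Normal) (hN : Odd (Nat.card N)) :
    N ≤ Cfsg.pPrimeCore 2 G :=
  Cfsg.Agent.Lib.Helper2.le_pPrimeCore hNn hN.coprime_two_right

end Cfsg.Agent.Lib.Helper13.ZStarIso
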