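import Mathlib
import Cfsg.Agent.Lib.Helper13.ZStarIsoA

/-!
# Isolated 2-elements and the Z*-theorem (helper13), part B

Isolation passes to quotients; the preimage of the odd core of `G / ⟨u⟩` for a central involution
`u` when `O(G) = 1`.
-/

set_option autoImplicit false

namespace Cfsg.Agent.Lib.Helper13.ZStarIso

open Subgroup
open scoped Pointwise

universe u

variable {G : Type u} [Group G] [Finite G]

/-- all elements of `Q ≤ S` are isolated in `S`. -/
def AllIso (S : Sylow 2 G) (Q : Subgroup G) : Prop :=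
  Q ≤ (S : Subgroup G) ∧ ∀ x ∈ Q, ∀ g : G, g * x * g⁻¹ ∈ (S : Subgroup G) → g * x * g⁻¹ = x

theorem isPGroup_zpowers_conj (S : Sylow 2 G) (x g : G) (hx : x ∈ (S : Subgroup G)) :
    IsPGroup 2 (Subgroup.zpowers (g * x * g⁻¹)) := by
  have h1 : IsPGroup 2 (Subgroup.zpowers x) :=
    S.isPGroup'.to_le (by rw [Subgroup.zpowers_le]; exact hx)
  have h2 : Subgroup.zpowers (g * x * g⁻¹) = (Subgroup.zpowers x).map (MulAut.conj g).toMonoidHom := by
    rw [MonoidHom.map_zpowers]; rfl
  rw [h2]
  exact h1.map _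

/-- isolation passes to quotients. -/
theorem allIso_quotient (S : Sylow 2 G) (Q : Subgroup G) (hQ : AllIso S Q) (N : Subgroup G)
    [hN : N.Normal] :
    AllIso (S.mapSurjective (QuotientGroup.mk'_surjective N)) (Q.map (QuotientGroup.mk' N)) := by
  constructor
  · rw [Sylow.coe_mapSurjective]
    exact Subgroup.map_mono hQ.1
  · rintro _ ⟨x, hx, rfl⟩ gb hgb
    obtain ⟨g, rfl⟩ := QuotientGroup.mk'_surjective N gb
    rw [Sylow.coe_mapSurjective] at hgb
    obtain ⟨s, hs, hsy⟩ := hgb
    obtain ⟨y, hydef⟩ : ∃ y : G, y = g * x * g⁻¹ := ⟨_, rfl⟩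
    have hsy' : QuotientGroup.mk' N s = QuotientGroup.mk' N y := by
      rw [hsy, hydef]; simp
    have hsyN : s⁻¹ * y ∈ N := by
      rw [← QuotientGroup.eq]
      exact hsy'
    have hyL : y ∈ (S : Subgroup G) ⊔ N := by
      have : y = s * (s⁻¹ * y) := by group
      rw [this]
      exact Subgroup.mul_mem _ (Subgroup.mem_sup_left hs) (Subgroup.mem_sup_right hsyN)
    have hR : IsPGroup 2 (Subgroup.zpowers y) := by
      rw [hydef]; exact isPGroup_zpowers_conj S x g (hQ.1 hx)
    obtain ⟨m, hm, hmy⟩ := exists_conj_le_sylow S N (Subgroup.zpowers y) hR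
      (by rw [Subgroup.zpowers_le]; exact hyL)
    have h1 := hmy y (Subgroup.mem_zpowers y)
    have h2 : (m * g) * x * (m * g)⁻¹ = m * y * m⁻¹ := by rw [hydef]; group
    have h3 : (m * g) * x * (m * g)⁻¹ = x := hQ.2 x hx (m * g) (by rw [h2]; exact h1)
    have h4 : y = m⁻¹ * x * m := by
      rw [h2] at h3
      rw [← h3]; group
    have hm1 : QuotientGroup.mk' N m = 1 := by
      rw [QuotientGroup.mk'_apply, QuotientGroup.eq_one_iff]; exact hm
    have : QuotientGroup.mk' N g * QuotientGroup.mk' N x * (QuotientGroup.mk' N g)⁻¹ =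
        QuotientGroup.mk' N y := by rw [hydef]; simp
    rw [this, h4, map_mul, map_mul, map_inv, hm1]
    simp

end Cfsg.Agent.Lib.Helper13.ZStarIso
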