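import Mathlib
import Cfsg.Agent.Lib.Helper13.ZStarIsoB

/-!
# Isolated 2-elements and the Z*-theorem (helper13), part C

The preimage of the odd core of `G / ⟨u⟩` for a central involution `u` when `O(G) = 1`.
-/

set_option autoImplicit false

namespace Cfsg.Agent.Lib.Helper13.ZStarIso

open Subgroup
open scoped Pointwise

universe u

variable {G : Type u} [Group G] [Finite G]

theorem zpowers_normal_of_central (t : G) (hc : ∀ g : G, g * t = t * g) :
    (Subgroup.zpowers t).Normal := by
  constructor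
  intro z hz g
  have h1 : g * z = z * g := by
    obtain ⟨k, rfl⟩ := Subgroup.mem_zpowers_iff.mp hz
    have : Commute g t := hc g
    exact (this.zpow_right k)
  rw [h1, mul_assoc, mul_inv_cancel, mul_one]
  exact hz

/-- elements of `⟨t⟩` for an involution `t` are `1` or `t`. -/
theorem mem_zpowers_involution (t : G) (ht : orderOf t = 2) (z : G) (hz : z ∈ Subgroup.zpowers t) :
    z = 1 ∨ z = t := by
  obtain ⟨k, rfl⟩ := Subgroup.mem_zpowers_iff.mp hz
  have h2 : t ^ (2 : ℤ) = 1 := by
    have := pow_orderOf_eq_one t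
    rw [ht] at this
    exact_mod_cast this
  rcases Int.emod_two_eq_zero_or_one k with h | h
  · left
    have : k = 2 * (k / 2) := by omega
    rw [this, zpow_mul, h2, one_zpow]
  · right
    have : k = 2 * (k / 2) + 1 := by omega
    rw [this, zpow_add, zpow_mul, h2, one_zpow, one_mul, zpow_one]

theorem comap_oddCore_le_zpowers (t : G) (ht : orderOf t = 2) (hc : ∀ g : G, g * t = t * g)
    (hO : Cfsg.pPrimeCore 2 G = ⊥) [hZn : (Subgroup.zpowers t).Normal] :
    (Cfsg.pPrimeCore 2 (G ⧸ Subgroup.zpowers t)).comap (QuotientGroup.mk' (Subgroup.zpowers t)) ≤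
      Subgroup.zpowers t := by
  classical
  obtain ⟨Z, hZdef⟩ : ∃ Z : Subgroup G, Z = Subgroup.zpowers t := ⟨_, rfl⟩
  obtain ⟨M, hMdef⟩ : ∃ M : Subgroup G, M =
    (Cfsg.pPrimeCore 2 (G ⧸ Subgroup.zpowers t)).comap (QuotientGroup.mk' (Subgroup.zpowers t)) :=
    ⟨_, rfl⟩
  rw [← hMdef, ← hZdef]
  haveI hOn : (Cfsg.pPrimeCore 2 (G ⧸ Subgroup.zpowers t)).Normal :=
    Cfsg.Agent.Lib.Helper2.pPrimeCore_normal 2
  haveI hMn : M.Normal := by rw [hMdef]; infer_instance
  haveI hZn' : Z.Normal := by rw [hZdef]; exact hZn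
  have hZM : Z ≤ M := by
    rw [hMdef, hZdef]
    intro z hz
    rw [Subgroup.mem_comap]
    have : QuotientGroup.mk' (Subgroup.zpowers t) z = 1 := by
      rw [QuotientGroup.mk'_apply, QuotientGroup.eq_one_iff]; exact hz
    rw [this]; exact Subgroup.one_mem _
  have hZcard : Nat.card Z = 2 := by rw [hZdef, Nat.card_zpowers, ht]
  -- the relative index is odd
  have hrel : Odd (Z.relIndex M) := by
    have h1 : Z = (⊥ : Subgroup (G ⧸ Subgroup.zpowers t)).comap
        (QuotientGroup.mk' (Subgroup.zpowers t)) := by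
      rw [MonoidHom.comap_bot, QuotientGroup.ker_mk', hZdef]
    rw [h1, Subgroup.relIndex_comap, Subgroup.relIndex_bot_left, hMdef,
      Subgroup.map_comap_eq_self_of_surjective (QuotientGroup.mk'_surjective _)]
    exact odd_card_pPrimeCore
  -- Schur–Zassenhaus inside `M`
  have hcard' : Nat.card (Z.subgroupOf M) = 2 := by
    rw [← hZcard]
    exact Nat.card_congr (Subgroup.subgroupOfEquivOfLe hZM).toEquiv
  have hcop : (Nat.card (Z.subgroupOf M)).Coprime (Z.subgroupOf M).index := by
    rw [hcard']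
    exact (Nat.coprime_comm.mp hrel.coprime_two_right)
  obtain ⟨H, hH⟩ := Subgroup.exists_left_complement'_of_coprime hcop
  -- the order of `H`
  have hHcard : Nat.card H = Z.relIndex M := by
    have h1 := hH.card_mul
    have h2 : (Z.subgroupOf M).index * Nat.card (Z.subgroupOf M) = Nat.card M :=
      Subgroup.index_mul_card _
    have h3 : 0 < Nat.card (Z.subgroupOf M) := Nat.card_pos
    have : Nat.card H * Nat.card (Z.subgroupOf M) =
        (Z.subgroupOf M).index * Nat.card (Z.subgroupOf M) := by rw [h1, h2]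
    exact Nat.eq_of_mul_eq_mul_right h3 this
  obtain ⟨r, hrdef⟩ : ∃ r : ℕ, r = Nat.card H := ⟨_, rfl⟩
  have hrodd : Odd r := by rw [hrdef, hHcard]; exact hrel
  obtain ⟨K, hKdef⟩ : ∃ K : Subgroup G, K = H.map M.subtype := ⟨_, rfl⟩
  have hKcard : Nat.card K = r := by
    rw [hKdef, hrdef]
    exact Nat.card_congr (H.equivMapOfInjective _ M.subtype_injective).symm.toEquiv
  -- decomposition of elements of `M`
  have hdecomp : ∀ m ∈ M, ∃ h ∈ K, ∃ z ∈ Z, m = h * z := by
    intro m hm
    obtain ⟨⟨⟨h, hh⟩, ⟨z, hz⟩⟩, hhz, -⟩ := hH.existsUnique (⟨m, hm⟩ : M)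
    refine ⟨(h : G), ?_, (z : G), ?_, ?_⟩
    · rw [hKdef]; exact ⟨h, hh, rfl⟩
    · exact Subgroup.mem_subgroupOf.mp hz
    · have := congrArg Subtype.val hhz
      simpa using this.symm
  have hKpow : ∀ k ∈ K, k ^ r = 1 := by
    intro k hk
    rw [hKdef] at hk
    obtain ⟨h, hh, rfl⟩ := hk
    have h1 : (⟨h, hh⟩ : H) ^ Nat.card H = 1 := pow_card_eq_one'
    have h2 := congrArg (fun y : H => ((y : M) : G)) h1
    simp only [Subgroup.coe_pow, Subgroup.coe_one] at h2
    rw [hrdef]
    exact h2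
  have hKM : K ≤ M := by
    rw [hKdef]; exact Subgroup.map_subtype_le _
  -- `K` is normal in `G`
  have hKn : K.Normal := by
    constructor
    intro k hk g
    have h1 : g * k * g⁻¹ ∈ M := hMn.conj_mem k (hKM hk) g
    obtain ⟨h, hh, z, hz, hhz⟩ := hdecomp _ h1
    have h2 : (g * k * g⁻¹) ^ r = 1 := by
      rw [conj_pow, hKpow k hk]; group
    have hzc : ∀ g : G, g * z = z * g := by
      intro g
      rw [hZdef] at hz
      rcases mem_zpowers_involution t ht z hz with h | h
      · rw [h, mul_one, one_mul]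
      · rw [h]; exact hc g
    have h3 : (h * z) ^ r = h ^ r * z ^ r := by
      have : Commute h z := hzc h
      exact this.mul_pow r
    rw [hhz, h3, hKpow h hh, one_mul] at h2
    have hz1 : z = 1 := by
      rw [hZdef] at hz
      rcases mem_zpowers_involution t ht z hz with h | h
      · exact h
      · exfalso
        rw [h] at h2
        have h4 : orderOf t ∣ r := orderOf_dvd_of_pow_eq_one h2
        rw [ht] at h4
        exact (Nat.not_even_iff_odd.mpr hrodd) (even_iff_two_dvd.mpr h4)
    rw [hhz, hz1, mul_one]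
    exact hh
  have hKbot : K = ⊥ := by
    have : K ≤ Cfsg.pPrimeCore 2 G := le_pPrimeCore_of_odd K hKn (by rw [hKcard]; exact hrodd)
    rw [hO] at this
    exact le_bot_iff.mp this
  intro m hm
  obtain ⟨h, hh, z, hz, hhz⟩ := hdecomp m hm
  rw [hKbot, Subgroup.mem_bot] at hh
  rw [hhz, hh, one_mul]
  exact hz

end Cfsg.Agent.Lib.Helper13.ZStarIso
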