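import Mathlib
import Cfsg.Agent.Lib.Helper13.ZStarIsoC

/-!
# Isolated 2-elements and the Z*-theorem (helper13), part D

Main result `comm_mem_oddCore`: assuming the Z*-theorem for involutions (`ZStarAt`), if every
element of `Q ≤ S` (`S` a Sylow 2-subgroup) is isolated in `S`, then `[Q, G] ≤ O(G)`.
-/

set_option autoImplicit false

namespace Cfsg.Agent.Lib.Helper13.ZStarIso

open Subgroup
open scoped Pointwise

universe u

theorem comm_mem_oddCore_aux (hZ : ZStarAt.{u}) : ∀ n : ℕ, ∀ (G : Type u) [Group G] [Finite G],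
    Nat.card G = n → ∀ (S : Sylow 2 G) (Q : Subgroup G), AllIso S Q →
    ∀ x ∈ Q, ∀ g : G, x * g * x⁻¹ * g⁻¹ ∈ Cfsg.pPrimeCore 2 G := by
  intro n
  induction n using Nat.strong_induction_on with
  | _ n ih =>
  intro G _ _ hn S Q hQ x hx g
  classical
  by_cases hQ1 : Q = ⊥
  · rw [hQ1, Subgroup.mem_bot] at hx
    rw [hx]; simp
  obtain ⟨O, hOdef⟩ : ∃ O : Subgroup G, O = Cfsg.pPrimeCore 2 G := ⟨_, rfl⟩
  haveI hOn : O.Normal := by rw [hOdef]; exact Cfsg.Agent.Lib.Helper2.pPrimeCore_normal 2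
  rw [← hOdef]
  by_cases hO : O = ⊥
  · -- `O(G) = 1`: find a central involution
    have hQp : IsPGroup 2 Q := S.isPGroup'.to_le hQ.1
    have h2dvd : 2 ∣ Nat.card Q := by
      obtain ⟨k, hk⟩ := IsPGroup.iff_card.mp hQp
      rcases Nat.eq_zero_or_pos k with rfl | hk0
      · exfalso
        rw [pow_zero] at hk
        exact hQ1 (Subgroup.card_eq_one.mp hk)
      · rw [hk]; exact dvd_pow_self 2 hk0.ne'
    obtain ⟨t', ht'⟩ := exists_prime_orderOf_dvd_card' 2 h2dvd
    obtain ⟨t, htdef⟩ : ∃ t : G, t = (t' : G) := ⟨_, rfl⟩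
    have htQ : t ∈ Q := by rw [htdef]; exact t'.2
    have ht : orderOf t = 2 := by rw [htdef, Subgroup.orderOf_coe]; exact ht'
    obtain ⟨N, hNn, hNodd, hNt⟩ := hZ G S t ht (hQ.1 htQ) (hQ.2 t htQ)
    have hNbot : N = ⊥ := by
      have : N ≤ Cfsg.pPrimeCore 2 G := le_pPrimeCore_of_odd N hNn hNodd
      rw [← hOdef, hO] at this
      exact le_bot_iff.mp this
    have hc : ∀ g : G, g * t = t * g := by
      intro g
      have := hNt g
      rw [hNbot, Subgroup.mem_bot] at this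
      have h1 : t * g = t * g * t⁻¹ * g⁻¹ * (g * t) := by group
      rw [h1, this, one_mul]
    haveI hZn : (Subgroup.zpowers t).Normal := zpowers_normal_of_central t hc
    have hZS : Subgroup.zpowers t ≤ (S : Subgroup G) := by
      rw [Subgroup.zpowers_le]; exact hQ.1 htQ
    -- the quotient is smaller
    have hcardZ : Nat.card (Subgroup.zpowers t) = 2 := by rw [Nat.card_zpowers, ht]
    have hlt : Nat.card (G ⧸ Subgroup.zpowers t) < n := by
      have h1 := Subgroup.card_eq_card_quotient_mul_card_subgroup (Subgroup.zpowers t)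
      rw [hn, hcardZ] at h1
      have h2 : 0 < Nat.card (G ⧸ Subgroup.zpowers t) := Nat.card_pos
      omega
    have hQ' := allIso_quotient S Q hQ (Subgroup.zpowers t)
    have h1 := ih _ hlt (G ⧸ Subgroup.zpowers t) rfl _ _ hQ'
      (QuotientGroup.mk' (Subgroup.zpowers t) x) (Subgroup.mem_map_of_mem _ hx)
      (QuotientGroup.mk' (Subgroup.zpowers t) g)
    have h2 : x * g * x⁻¹ * g⁻¹ ∈ (Cfsg.pPrimeCore 2 (G ⧸ Subgroup.zpowers t)).comap
        (QuotientGroup.mk' (Subgroup.zpowers t)) := by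
      rw [Subgroup.mem_comap]
      simpa using h1
    have hO' : Cfsg.pPrimeCore 2 G = ⊥ := by rw [← hOdef]; exact hO
    have h3 : x * g * x⁻¹ * g⁻¹ ∈ Subgroup.zpowers t :=
      comap_oddCore_le_zpowers t ht hc hO' h2
    have h4 : g * x⁻¹ * g⁻¹ ∈ (S : Subgroup G) := by
      have : g * x⁻¹ * g⁻¹ = x⁻¹ * (x * g * x⁻¹ * g⁻¹) := by group
      rw [this]
      exact Subgroup.mul_mem _ (Subgroup.inv_mem _ (hQ.1 hx)) (hZS h3)
    have h5 : g * x⁻¹ * g⁻¹ = x⁻¹ := hQ.2 x⁻¹ (Subgroup.inv_mem _ hx) g h4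
    have h6 : x * g * x⁻¹ * g⁻¹ = 1 := by
      have : x * g * x⁻¹ * g⁻¹ = x * (g * x⁻¹ * g⁻¹) := by group
      rw [this, h5, mul_inv_cancel]
    rw [h6]; exact Subgroup.one_mem _
  · -- `O(G) ≠ 1`: pass to the quotient
    have hlt : Nat.card (G ⧸ O) < n := by
      have h1 := Subgroup.card_eq_card_quotient_mul_card_subgroup O
      rw [hn] at h1
      have h2 : 0 < Nat.card (G ⧸ O) := Nat.card_pos
      have h3 : 1 < Nat.card O := (Subgroup.one_lt_card_iff_ne_bot (H := O)).mpr hO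
      nlinarith
    have hQ' := allIso_quotient S Q hQ O
    have h1 := ih _ hlt (G ⧸ O) rfl _ _ hQ'
      (QuotientGroup.mk' O x) (Subgroup.mem_map_of_mem _ hx) (QuotientGroup.mk' O g)
    have hbot : Cfsg.pPrimeCore 2 (G ⧸ O) = ⊥ := by
      subst hOdef; exact Cfsg.Agent.Lib.Helper20.pPrimeCore_quotient_eq_bot 2
    rw [hbot, Subgroup.mem_bot] at h1
    have h2 : QuotientGroup.mk' O (x * g * x⁻¹ * g⁻¹) = 1 := by
      simpa using h1
    rw [QuotientGroup.mk'_apply, QuotientGroup.eq_one_iff] at h2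
    exact h2

/-- **Isolated elements lie in `Z*`** (conditional on the Z*-theorem for involutions). -/
theorem comm_mem_oddCore (hZ : ZStarAt.{u}) {G : Type u} [Group G] [Finite G] (S : Sylow 2 G)
    (Q : Subgroup G) (hQ : AllIso S Q) (x : G) (hx : x ∈ Q) (g : G) :
    x * g * x⁻¹ * g⁻¹ ∈ Cfsg.pPrimeCore 2 G :=
  comm_mem_oddCore_aux hZ _ G rfl S Q hQ x hx g

end Cfsg.Agent.Lib.Helper13.ZStarIso
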