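import Mathlib
import Cfsg.Agent.Lib.Helper10.BrauerWielandt

set_option autoImplicit false

/-!
# A Brauer–Wielandt type inequality (helper13)

Generalisation of helper10's Brauer–Wielandt formula: for commuting automorphisms `σ, τ` of a
finite `q`-group `Q` of order prime to `p`, with `τ ^ p = 1` and `σ` of `p`-power order,
`|C_Q(τ)| * ∏ i < p, |C_Q(σ τ ^ i)| ≤ |Q| * |C_Q(σ, τ)| ^ p`.
-/

namespace Cfsg.Agent.Lib.Helper13.BWle

open Cfsg.Agent.Lib.Helper10.BW

universe u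

section basic

variable {Q : Type*} [Group Q]

/-- Fixed point in a coset: one automorphism of `p`-power order. -/
theorem lift1' [Finite Q] (p : ℕ) [Fact p.Prime] (k : ℕ) (M : Subgroup Q) (φ : MulAut Q)
    (hφ : φ ^ p ^ k = 1)
    (hM : ∀ m ∈ M, φ m ∈ M) (x : Q) (hx : x⁻¹ * φ x ∈ M) (hcop : ¬ p ∣ Nat.card M) :
    ∃ m ∈ M, φ (x * m) = x * m := by
  classical
  let g : Function.End M := fun m => ⟨x⁻¹ * φ (x * m), by
    have : x⁻¹ * φ (x * m) = (x⁻¹ * φ x) * φ m := by rw [map_mul]; group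
    rw [this]; exact M.mul_mem hx (hM _ m.2)⟩
  have hg : ∀ j : ℕ, ∀ m : M, (((g ^ j) m : M) : Q) = x⁻¹ * (φ ^ j) (x * m) := by
    intro j
    induction j with
    | zero =>
      intro m
      rw [pow_zero, pow_zero]
      show (m : Q) = x⁻¹ * (x * m)
      group
    | succ j ih =>
      intro m
      rw [pow_succ']
      show x⁻¹ * φ (x * ((g ^ j) m : M)) = _
      rw [ih m, pow_succ', MulAut.mul_apply]
      congr 2
      group
  have hgp : g ^ p ^ k = 1 := by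
    funext m
    apply Subtype.ext
    rw [hg (p ^ k) m, hφ]
    show x⁻¹ * (x * m) = (m : Q)
    group
  haveI : Fintype M := Fintype.ofFinite M
  have h := Equiv.Perm.card_fixedPoints_modEq (f := g) (p := p) (n := k) hgp
  have hne : Fintype.card (Function.fixedPoints g) ≠ 0 := by
    intro h0
    rw [h0] at h
    apply hcop
    rw [Nat.card_eq_fintype_card]
    exact (Nat.modEq_zero_iff_dvd.mp h)
  obtain ⟨⟨m, hm⟩⟩ := Fintype.card_pos_iff.mp (Nat.pos_of_ne_zero hne)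
  refine ⟨m, m.2, ?_⟩
  have h1 : x⁻¹ * φ (x * m) = m := congrArg Subtype.val hm
  calc φ (x * m) = x * (x⁻¹ * φ (x * m)) := by group
    _ = x * m := by rw [h1]

/-- Fixed point in a coset: two commuting automorphisms of `p`-power order. -/
theorem lift2' [Finite Q] (p : ℕ) [Fact p.Prime] (k l : ℕ) (N : Subgroup Q) (φ ψ : MulAut Q)
    (hφ : φ ^ p ^ k = 1) (hψ : ψ ^ p ^ l = 1) (hc : Commute φ ψ)
    (hNφ : ∀ m ∈ N, φ m ∈ N) (hNψ : ∀ m ∈ N, ψ m ∈ N) (x : Q) (hxφ : x⁻¹ * φ x ∈ N)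
    (hxψ : x⁻¹ * ψ x ∈ N) (hcop : (Nat.card N).Coprime p) :
    ∃ n ∈ N, φ (x * n) = x * n ∧ ψ (x * n) = x * n := by
  have hp : p.Prime := Fact.out
  have hcomm : ∀ y, φ (ψ y) = ψ (φ y) := fun y => by
    have := congrArg (fun f : MulAut Q => f y) hc.eq
    simpa [MulAut.mul_apply] using this
  have hndvd : ∀ M : Subgroup Q, M ≤ N → ¬ p ∣ Nat.card M := by
    intro M hMN h
    have h1 : p ∣ Nat.card N := h.trans (Subgroup.card_dvd_of_le hMN)
    have h2 : p ∣ Nat.gcd (Nat.card N) p := Nat.dvd_gcd h1 (dvd_refl p)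
    rw [hcop] at h2
    exact hp.one_lt.ne' (Nat.dvd_one.mp h2)
  obtain ⟨n₁, hn₁, h1⟩ := lift1' p l N ψ hψ hNψ x hxψ (hndvd N le_rfl)
  have hM : ∀ m ∈ N ⊓ Fx ψ ψ, φ m ∈ N ⊓ Fx ψ ψ := by
    rintro m ⟨hmN, hmψ, -⟩
    refine ⟨hNφ m hmN, ?_, ?_⟩ <;>
    · show ψ (φ m) = φ m
      rw [← hcomm, hmψ]
  have hx₁ : (x * n₁)⁻¹ * φ (x * n₁) ∈ N ⊓ Fx ψ ψ := by
    have hN1 : (x * n₁)⁻¹ * φ (x * n₁) ∈ N := by
      have : (x * n₁)⁻¹ * φ (x * n₁) = n₁⁻¹ * (x⁻¹ * φ x) * φ n₁ := by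
        rw [map_mul]; group
      rw [this]
      exact N.mul_mem (N.mul_mem (N.inv_mem hn₁) hxφ) (hNφ _ hn₁)
    have hF : ψ ((x * n₁)⁻¹ * φ (x * n₁)) = (x * n₁)⁻¹ * φ (x * n₁) := by
      rw [map_mul, map_inv, ← hcomm, h1]
    exact ⟨hN1, hF, hF⟩
  obtain ⟨m, hm, h2⟩ := lift1' p k (N ⊓ Fx ψ ψ) φ hφ hM (x * n₁) hx₁ (hndvd _ inf_le_left)
  refine ⟨n₁ * m, N.mul_mem hn₁ hm.1, ?_, ?_⟩
  · rw [← mul_assoc]; exact h2
  · rw [← mul_assoc, map_mul, h1, hm.2.1]

/-- Multiplicativity of the number of common fixed points along an invariant normal subgroup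
of order prime to `p`, for automorphisms of `p`-power order. -/
theorem card_Fx_mul' [Finite Q] (p : ℕ) [Fact p.Prime] (k l : ℕ) (N : Subgroup Q) [N.Normal]
    (φ ψ : MulAut Q) (hφ : φ ^ p ^ k = 1) (hψ : ψ ^ p ^ l = 1) (hc : Commute φ ψ)
    (hNφ : ∀ m ∈ N, φ m ∈ N) (hNψ : ∀ m ∈ N, ψ m ∈ N) (hcop : (Nat.card N).Coprime p)
    (φ' ψ' : MulAut N) (hφ' : IsRes N φ' φ) (hψ' : IsRes N ψ' ψ)
    (φq ψq : MulAut (Q ⧸ N)) (hφq : IsQuot N φq φ) (hψq : IsQuot N ψq ψ) :
    Nat.card (Fx φ ψ) = Nat.card (Fx φ' ψ') * Nat.card (Fx φq ψq) := by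
  let f : ↥(Fx φ ψ) →* Q ⧸ N := (QuotientGroup.mk' N).comp (Fx φ ψ).subtype
  have hrange : f.range = Fx φq ψq := by
    ext y
    constructor
    · rintro ⟨x, rfl⟩
      refine ⟨?_, ?_⟩
      · show φq ((x : Q) : Q ⧸ N) = ((x : Q) : Q ⧸ N)
        rw [hφq, x.2.1]
      · show ψq ((x : Q) : Q ⧸ N) = ((x : Q) : Q ⧸ N)
        rw [hψq, x.2.2]
    · rintro ⟨hy1, hy2⟩
      obtain ⟨x, rfl⟩ := QuotientGroup.mk_surjective y
      rw [hφq] at hy1
      rw [hψq] at hy2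
      have h1 : x⁻¹ * φ x ∈ N := QuotientGroup.eq.mp hy1.symm
      have h2 : x⁻¹ * ψ x ∈ N := QuotientGroup.eq.mp hy2.symm
      obtain ⟨n, hn, hn1, hn2⟩ := lift2' p k l N φ ψ hφ hψ hc hNφ hNψ x h1 h2 hcop
      refine ⟨⟨x * n, hn1, hn2⟩, ?_⟩
      show ((x * n : Q) : Q ⧸ N) = (x : Q ⧸ N)
      rw [QuotientGroup.eq]
      have : (x * n)⁻¹ * x = n⁻¹ := by group
      rw [this]
      exact N.inv_mem hn
  have hker : Nat.card f.ker = Nat.card ↥(Fx φ ψ ⊓ N) := by
    have : f.ker.map (Fx φ ψ).subtype = Fx φ ψ ⊓ N := by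
      ext x
      constructor
      · rintro ⟨y, hy, rfl⟩
        refine ⟨y.2, ?_⟩
        have : ((y : Q) : Q ⧸ N) = 1 := hy
        exact (QuotientGroup.eq_one_iff _).mp this
      · rintro ⟨hx1, hx2⟩
        refine ⟨⟨x, hx1⟩, ?_, rfl⟩
        show ((x : Q) : Q ⧸ N) = 1
        exact (QuotientGroup.eq_one_iff _).mpr hx2
    rw [← this, Subgroup.card_map_of_injective (Fx φ ψ).subtype_injective]
  rw [card_Fx_res hφ' hψ', ← hker, ← hrange, ← Subgroup.index_ker, Subgroup.card_mul_index]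

end basic

section fpf

variable {V : Type*} [CommGroup V]

/-- The fixed-point-free abelian case: the `C_V(σ τ ^ i)` are independent. -/
theorem bw_fpf_le [Finite V] (p : ℕ) [Fact p.Prime] (σ τ : MulAut V)
    (hτ : τ ^ p = 1) (hc : Commute σ τ) (hfix : ∀ x, τ x = x → x = 1)
    (hcop : (Nat.card V).Coprime p) :
    ∏ i ∈ Finset.range p, Nat.card (Fx (σ * τ ^ i) (σ * τ ^ i)) ≤ Nat.card V := by
  have hp : p.Prime := Fact.out
  let ρ : ℕ → MulAut V := fun i => σ * τ ^ i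
  have hρdef : ∀ i, ρ i = σ * τ ^ i := fun _ => rfl
  have hpowp : ∀ d, (τ ^ d) ^ p = 1 := fun d => by
    rw [← pow_mul, mul_comm, pow_mul, hτ, one_pow]
  have hfixd : ∀ d, 0 < d → d < p → ∀ x, (τ ^ d) x = x → x = 1 := fun d h0 h1 x hx =>
    hfix x (fixed_of_pow_fixed p τ hτ d h0 h1 x hx)
  have hshift : ∀ i d, ρ (i + d) = τ ^ d * ρ i := by
    intro i d
    rw [hρdef, hρdef, add_comm, pow_add, ← mul_assoc, (hc.pow_right d).eq, mul_assoc]
  have hcomm : ∀ i d, Commute (ρ i) (τ ^ d) := by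
    intro i d
    rw [hρdef]
    exact (hc.pow_right d).mul_left ((Commute.refl τ).pow_pow i d)
  have hB : ∀ i j, i < p → j < p → i ≠ j → ∀ c : V, ρ i c = c → W p (ρ j) c = 1 := by
    intro i j hi hj hij c hc'
    obtain ⟨θ, hθc, hθp, hθfix, hθ⟩ : ∃ θ : MulAut V, Commute (ρ i) θ ∧ θ ^ p = 1 ∧
        (∀ x, θ x = x → x = 1) ∧ ρ j = θ * ρ i := by
      rcases lt_or_gt_of_ne hij with h | h
      · refine ⟨τ ^ (j - i), hcomm i _, hpowp _, hfixd _ (by omega) (by omega), ?_⟩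
        rw [← hshift, Nat.add_sub_cancel' h.le]
      · refine ⟨(τ ^ (i - j))⁻¹, (hcomm i _).inv_right, by rw [inv_pow, hpowp, inv_one], ?_, ?_⟩
        · intro x hx
          exact hfixd _ (by omega) (by omega) x ((inv_fixed_iff _ x).mp hx)
        · have e : ρ i = τ ^ (i - j) * ρ j := by
            rw [← hshift, Nat.add_sub_cancel' h.le]
          rw [e, inv_mul_cancel_left]
    rw [W_apply]
    have h3 : ∀ k ∈ Finset.range p, (ρ j ^ k) c = (θ ^ k) c := by
      intro k _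
      rw [hθ, (hθc.symm).mul_pow, MulAut.mul_apply, pow_apply_of_fixed hc' k]
    rw [Finset.prod_congr rfl h3, ← W_apply, W_eq_one p θ hθp hθfix]
  classical
  let C : Fin p → Subgroup V := fun i => Fx (ρ i) (ρ i)
  let Ψ : (∀ i : Fin p, C i) → V := fun c => ∏ i, (c i : V)
  have hΦΨ : ∀ (c : ∀ i : Fin p, C i) (j : Fin p), W p (ρ j) (Ψ c) = (c j : V) ^ p := by
    intro c j
    show W p (ρ j) (∏ i, (c i : V)) = _
    rw [map_prod, Finset.prod_eq_single j]
    · exact W_of_fixed p (ρ j) _ (c j).2.1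
    · intro i _ hij
      exact hB i j i.2 j.2 (fun h => hij (Fin.ext h)) _ (c i).2.1
    · intro h
      exact absurd (Finset.mem_univ j) h
  have hinj : Function.Injective Ψ := by
    intro c c' h
    funext j
    apply Subtype.ext
    have h1 := hΦΨ c j
    rw [h, hΦΨ c' j] at h1
    exact (powCoprime hcop).injective h1.symm
  have hcard := Nat.card_le_card_of_injective Ψ hinj
  rw [Nat.card_pi, Fin.prod_univ_eq_prod_range (fun i => Nat.card (Fx (ρ i) (ρ i))) p] at hcard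
  exact hcard

end fpf

section main

/-- The Brauer–Wielandt inequality. -/
def BWle (p : ℕ) (Q : Type*) [Group Q] (σ τ : MulAut Q) : Prop :=
  Nat.card (Fx τ τ) * ∏ i ∈ Finset.range p, Nat.card (Fx (σ * τ ^ i) (σ * τ ^ i)) ≤
    Nat.card Q * Nat.card (Fx σ τ) ^ p

variable {Q : Type*} [Group Q]

theorem pow_pow_succ_eq_one {M : Type*} [Monoid M] (a : M) (p k : ℕ) (h : a ^ p ^ k = 1) :
    a ^ p ^ (k + 1) = 1 := by
  rw [pow_succ, pow_mul, h, one_pow]

theorem mul_pow_eq_one' (p k : ℕ) (σ τ : MulAut Q) (hσ : σ ^ p ^ k = 1) (hτ : τ ^ p = 1)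
    (hc : Commute σ τ) (i : ℕ) : (σ * τ ^ i) ^ p ^ (k + 1) = 1 := by
  rw [(hc.pow_right i).mul_pow, pow_pow_succ_eq_one σ p k hσ, one_mul, ← pow_mul, mul_comm,
    pow_succ', pow_mul, pow_mul, hτ, one_pow, one_pow]

/-- Inductive step along an invariant normal subgroup. -/
theorem bw_step_le [Finite Q] (p : ℕ) [Fact p.Prime] (k : ℕ) (N : Subgroup Q) [N.Normal]
    (σ τ : MulAut Q)
    (hσ : σ ^ p ^ k = 1) (hτ : τ ^ p = 1) (hc : Commute σ τ)
    (hNσ : ∀ m ∈ N, σ m ∈ N) (hNτ : ∀ m ∈ N, τ m ∈ N) (hcop : (Nat.card N).Coprime p)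
    (σ' τ' : MulAut N) (hσ' : IsRes N σ' σ) (hτ' : IsRes N τ' τ)
    (σq τq : MulAut (Q ⧸ N)) (hσq : IsQuot N σq σ) (hτq : IsQuot N τq τ)
    (h1 : BWle p N σ' τ') (h2 : BWle p (Q ⧸ N) σq τq) : BWle p Q σ τ := by
  have hτ1 : τ ^ p ^ 1 = 1 := by rw [pow_one]; exact hτ
  have e0 := Subgroup.card_eq_card_quotient_mul_card_subgroup N
  have e1 := card_Fx_mul' p k 1 N σ τ hσ hτ1 hc hNσ hNτ hcop σ' τ' hσ' hτ' σq τq hσq hτq
  have e2 := card_Fx_mul' p 1 1 N τ τ hτ1 hτ1 (Commute.refl τ) hNτ hNτ hcop τ' τ' hτ' hτ' τq τq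
    hτq hτq
  have e3 : ∀ i ∈ Finset.range p, Nat.card (Fx (σ * τ ^ i) (σ * τ ^ i)) =
      Nat.card (Fx (σ' * τ' ^ i) (σ' * τ' ^ i)) * Nat.card (Fx (σq * τq ^ i) (σq * τq ^ i)) := by
    intro i _
    have hinv : ∀ m ∈ N, (σ * τ ^ i) m ∈ N := by
      intro m hm
      rw [MulAut.mul_apply]
      exact hNσ _ (pow_mem_of_inv N τ hNτ i m hm)
    exact card_Fx_mul' p (k + 1) (k + 1) N (σ * τ ^ i) (σ * τ ^ i)
      (mul_pow_eq_one' p k σ τ hσ hτ hc i)
      (mul_pow_eq_one' p k σ τ hσ hτ hc i) (Commute.refl _) hinv hinv hcop _ _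
      (hσ'.mul (hτ'.pow i)) (hσ'.mul (hτ'.pow i)) _ _ (hσq.mul (hτq.pow i)) (hσq.mul (hτq.pow i))
  unfold BWle at h1 h2 ⊢
  rw [Finset.prod_congr rfl e3, Finset.prod_mul_distrib, e0, e1, e2]
  calc Nat.card (Fx τ' τ') * Nat.card (Fx τq τq) *
        ((∏ i ∈ Finset.range p, Nat.card (Fx (σ' * τ' ^ i) (σ' * τ' ^ i))) *
          ∏ i ∈ Finset.range p, Nat.card (Fx (σq * τq ^ i) (σq * τq ^ i)))
      = (Nat.card (Fx τ' τ') * ∏ i ∈ Finset.range p, Nat.card (Fx (σ' * τ' ^ i) (σ' * τ' ^ i))) *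
        (Nat.card (Fx τq τq) *
          ∏ i ∈ Finset.range p, Nat.card (Fx (σq * τq ^ i) (σq * τq ^ i))) := by ring
    _ ≤ (Nat.card N * Nat.card (Fx σ' τ') ^ p) *
        (Nat.card (Q ⧸ N) * Nat.card (Fx σq τq) ^ p) := Nat.mul_le_mul h1 h2
    _ = Nat.card (Q ⧸ N) * Nat.card N * (Nat.card (Fx σ' τ') * Nat.card (Fx σq τq)) ^ p := by
        ring

/-- The case where `τ` acts trivially. -/
theorem bw_trivial_le [Finite Q] (p : ℕ) (σ τ : MulAut Q) (hτ : ∀ x, τ x = x) :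
    BWle p Q σ τ := by
  have hτ1 : τ = 1 := MulEquiv.ext hτ
  subst hτ1
  have h1 : Fx σ (1 : MulAut Q) = Fx σ σ := by
    ext x
    simp [mem_Fx]
  have h2 : Fx (1 : MulAut Q) 1 = ⊤ := by
    ext x
    simp [mem_Fx]
  unfold BWle
  simp only [one_pow, mul_one]
  rw [h1, h2, Subgroup.card_top, Finset.prod_const, Finset.card_range]

/-- **Brauer–Wielandt inequality** for commuting automorphisms `σ, τ` of `p`-power order,
`τ ^ p = 1`, of a finite `q`-group of order prime to `p`. -/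
theorem bw_abs_le (p q : ℕ) [Fact p.Prime] [Fact q.Prime] (k : ℕ) : ∀ n : ℕ, ∀ (Q : Type u)
    [Group Q] [Finite Q], Nat.card Q = n → IsPGroup q Q → (Nat.card Q).Coprime p →
    ∀ σ τ : MulAut Q, σ ^ p ^ k = 1 → τ ^ p = 1 → Commute σ τ → BWle p Q σ τ := by
  intro n
  induction n using Nat.strong_induction_on with
  | _ n ih =>
  intro Q _ _ hn hQ hcop σ τ hσ hτ hc
  have hcomm : ∀ y, σ (τ y) = τ (σ y) := fun y => by
    have := congrArg (fun f : MulAut Q => f y) hc.eq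
    simpa [MulAut.mul_apply] using this
  have step : ∀ N : Subgroup Q, N.Normal → (∀ m ∈ N, σ m ∈ N) → (∀ m ∈ N, τ m ∈ N) → N ≠ ⊥ →
      N ≠ ⊤ → BWle p Q σ τ := by
    intro N hNn hNσ hNτ hNbot hNtop
    haveI := hNn
    have hcopN : (Nat.card N).Coprime p :=
      Nat.Coprime.coprime_dvd_left (Subgroup.card_subgroup_dvd_card N) hcop
    have hcopq : (Nat.card (Q ⧸ N)).Coprime p :=
      Nat.Coprime.coprime_dvd_left (Subgroup.card_quotient_dvd_card N) hcop
    have hltN : Nat.card N < n := by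
      rw [← hn]
      refine lt_of_le_of_ne (Subgroup.card_le_card_group N) ?_
      intro h
      exact hNtop ((Subgroup.card_eq_iff_eq_top N).mp h)
    have hltq : Nat.card (Q ⧸ N) < n := by
      have e0 := Subgroup.card_eq_card_quotient_mul_card_subgroup N
      have h1 : 1 < Nat.card N := (Subgroup.one_lt_card_iff_ne_bot N).mpr hNbot
      have h2 : 0 < Nat.card (Q ⧸ N) := Nat.card_pos
      rw [← hn, e0]
      nlinarith
    have hσ' := isRes_resA σ N hNσ
    have hτ' := isRes_resA τ N hNτ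
    have hσq := isQuot_quotA σ N hNσ
    have hτq := isQuot_quotA τ N hNτ
    have r1 : resA σ N hNσ ^ p ^ k = 1 := by
      have := hσ'.pow (p ^ k)
      rw [hσ] at this
      exact this.unique IsRes.one
    have r2 : resA τ N hNτ ^ p = 1 := by
      have := hτ'.pow p
      rw [hτ] at this
      exact this.unique IsRes.one
    have r3 : Commute (resA σ N hNσ) (resA τ N hNτ) := by
      have h1 := hσ'.mul hτ'
      have h2 := hτ'.mul hσ'
      rw [hc.eq] at h1
      exact h1.unique h2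
    have q1 : quotA σ N hNσ ^ p ^ k = 1 := by
      have := hσq.pow (p ^ k)
      rw [hσ] at this
      exact this.unique IsQuot.one
    have q2 : quotA τ N hNτ ^ p = 1 := by
      have := hτq.pow p
      rw [hτ] at this
      exact this.unique IsQuot.one
    have q3 : Commute (quotA σ N hNσ) (quotA τ N hNτ) := by
      have h1 := hσq.mul hτq
      have h2 := hτq.mul hσq
      rw [hc.eq] at h1
      exact h1.unique h2
    have b1 := ih _ hltN N rfl (hQ.to_subgroup N) hcopN _ _ r1 r2 r3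
    have b2 := ih _ hltq (Q ⧸ N) rfl (hQ.to_quotient N) hcopq _ _ q1 q2 q3
    exact bw_step_le p k N σ τ hσ hτ hc hNσ hNτ hcopN _ _ hσ' hτ' _ _ hσq hτq b1 b2
  by_cases hab : ∀ x y : Q, x * y = y * x
  · have hnormal : ∀ N : Subgroup Q, N.Normal := fun N =>
      ⟨fun m hm g => by rw [hab g m, mul_assoc, mul_inv_cancel, mul_one]; exact hm⟩
    by_cases htop : Fx τ τ = ⊤
    · apply bw_trivial_le
      intro x
      have : x ∈ Fx τ τ := by rw [htop]; exact Subgroup.mem_top x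
      exact this.1
    by_cases hbot : Fx τ τ = ⊥
    · letI : CommGroup Q := { ‹Group Q› with mul_comm := hab }
      have hfix : ∀ x, τ x = x → x = 1 := by
        intro x hx
        have : x ∈ Fx τ τ := ⟨hx, hx⟩
        rw [hbot] at this
        exact Subgroup.mem_bot.mp this
      have h1 := bw_fpf_le p σ τ hτ hc hfix hcop
      have h2 : Fx σ τ = ⊥ := by
        rw [eq_bot_iff]
        intro x hx
        exact Subgroup.mem_bot.mpr (hfix x hx.2)
      unfold BWle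
      rw [h2, hbot, Subgroup.card_bot, one_pow, mul_one, one_mul]
      exact h1
    · refine step (Fx τ τ) (hnormal _) ?_ ?_ hbot htop
      · rintro m ⟨hm, -⟩
        refine ⟨?_, ?_⟩ <;>
        · show τ (σ m) = σ m
          rw [← hcomm, hm]
      · rintro m ⟨hm, -⟩
        refine ⟨?_, ?_⟩ <;>
        · show τ (τ m) = τ m
          rw [hm, hm]
  · obtain ⟨x, hx'⟩ := not_forall.mp hab
    obtain ⟨y, hxy⟩ := not_forall.mp hx'
    haveI : Nontrivial Q := by
      refine ⟨⟨x, 1, ?_⟩⟩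
      rintro rfl
      exact hxy (by rw [one_mul, mul_one])
    have hcne : Subgroup.center Q ≠ ⊥ := by
      have := hQ.center_nontrivial
      exact (Subgroup.nontrivial_iff_ne_bot _).mp this
    have hctop : Subgroup.center Q ≠ ⊤ := by
      intro h
      apply hxy
      have hy : y ∈ Subgroup.center Q := by rw [h]; exact Subgroup.mem_top y
      rw [Subgroup.mem_center_iff] at hy
      exact hy x
    exact step (Subgroup.center Q) inferInstance (center_inv σ) (center_inv τ) hcne hctop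

end main

end Cfsg.Agent.Lib.Helper13.BWle
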