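import Mathlib
import Cfsg.Agent.Lib.Helper13.BWle
import Cfsg.Agent.Lib.Helper10.BrauerWielandtAmbient

set_option autoImplicit false

/-!
# The Brauer–Wielandt type inequality for subgroups of an ambient group (helper13)

For commuting `a b : H` lying in an abelian `p`-subgroup `A` normalizing a subgroup `L` of order
prime to `p`, with `b ^ p = 1`:
`|C_L(b)| * ∏ i < p, |C_L(a b ^ i)| ≤ |L| * |C_L(a) ∩ C_L(b)| ^ p`.
-/

namespace Cfsg.Agent.Lib.Helper13.BWle

open Subgroup Cfsg.Agent.Lib.Helper10.BW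

universe u

variable {H : Type u} [Group H]

/-- Brauer–Wielandt inequality for a `q`-subgroup of an ambient group. -/
theorem bw_qgroup_le [Finite H] (p q : ℕ) [Fact p.Prime] [Fact q.Prime] (k : ℕ) (Q : Subgroup H)
    (hQ : IsPGroup q Q) (hcop : (Nat.card Q).Coprime p) (a b : H) (ha : a ^ p ^ k = 1)
    (hb : b ^ p = 1) (hab : a * b = b * a) (haQ : a ∈ normalizer (Q : Set H))
    (hbQ : b ∈ normalizer (Q : Set H)) :
    Nat.card ↥(Cn Q b b) * ∏ i ∈ Finset.range p, Nat.card ↥(Cn Q (a * b ^ i) (a * b ^ i)) ≤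
      Nat.card Q * Nat.card ↥(Cn Q a b) ^ p := by
  obtain ⟨Nz, hNz⟩ : ∃ Nz : Subgroup H, Nz = normalizer (Q : Set H) := ⟨_, rfl⟩
  obtain ⟨Q₀, hQ₀⟩ : ∃ Q₀ : Subgroup ↥(normalizer (Q : Set H)),
      Q₀ = Q.subgroupOf (normalizer (Q : Set H)) := ⟨_, rfl⟩
  let a₀ : ↥(normalizer (Q : Set H)) := ⟨a, haQ⟩
  let b₀ : ↥(normalizer (Q : Set H)) := ⟨b, hbQ⟩
  let σ : MulAut ↥(Q.subgroupOf (normalizer (Q : Set H))) := MulAut.conjNormal a₀
  let τ : MulAut ↥(Q.subgroupOf (normalizer (Q : Set H))) := MulAut.conjNormal b₀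
  have hσ : σ ^ p ^ k = 1 := by
    show (MulAut.conjNormal a₀ : MulAut ↥(Q.subgroupOf (normalizer (Q : Set H)))) ^ p ^ k = 1
    rw [← map_pow]
    have : a₀ ^ p ^ k = 1 := Subtype.ext (by simpa using ha)
    rw [this, map_one]
  have hτ : τ ^ p = 1 := by
    show (MulAut.conjNormal b₀ : MulAut ↥(Q.subgroupOf (normalizer (Q : Set H)))) ^ p = 1
    rw [← map_pow]
    have : b₀ ^ p = 1 := Subtype.ext (by simpa using hb)
    rw [this, map_one]
  have hc : Commute σ τ := by
    have : Commute a₀ b₀ := Subtype.ext hab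
    exact this.map (MulAut.conjNormal (H := Q.subgroupOf (normalizer (Q : Set H))))
  have hcardQ : Nat.card ↥(Q.subgroupOf (normalizer (Q : Set H))) = Nat.card Q :=
    Nat.card_congr (Subgroup.subgroupOfEquivOfLe Subgroup.le_normalizer).toEquiv
  have hQ₀p : IsPGroup q ↥(Q.subgroupOf (normalizer (Q : Set H))) := hQ.comap_subtype
  have key := bw_abs_le p q k (Nat.card ↥(Q.subgroupOf (normalizer (Q : Set H))))
    ↥(Q.subgroupOf (normalizer (Q : Set H))) rfl hQ₀p (by rw [hcardQ]; exact hcop) σ τ hσ hτ hc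
  unfold BWle at key
  have e1 : Nat.card (Fx σ τ) = Nat.card ↥(Cn Q a b) := card_Fx_conjNormal Q a₀ b₀
  have e2 : Nat.card (Fx τ τ) = Nat.card ↥(Cn Q b b) := card_Fx_conjNormal Q b₀ b₀
  have e3 : ∀ i ∈ Finset.range p, Nat.card (Fx (σ * τ ^ i) (σ * τ ^ i)) =
      Nat.card ↥(Cn Q (a * b ^ i) (a * b ^ i)) := by
    intro i _
    have h1 : σ * τ ^ i =
        MulAut.conjNormal (H := Q.subgroupOf (normalizer (Q : Set H))) (a₀ * b₀ ^ i) := by
      rw [map_mul, map_pow]
    rw [h1]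
    exact card_Fx_conjNormal Q (a₀ * b₀ ^ i) (a₀ * b₀ ^ i)
  rw [e1, e2, Finset.prod_congr rfl e3, hcardQ] at key
  exact key

variable [Finite H]

/-- **Brauer–Wielandt inequality** for a `p'`-subgroup `L` normalized by an abelian `p`-subgroup
`A` containing `a, b` with `b ^ p = 1`. -/
theorem bw_ambient_le (p : ℕ) [Fact p.Prime] (A L : Subgroup H) (hA : IsPGroup p A)
    (hAab : ∀ x ∈ A, ∀ y ∈ A, x * y = y * x) (hAL : A ≤ normalizer (L : Set H))
    (hL : (Nat.card L).Coprime p) (a b : H) (haA : a ∈ A) (hbA : b ∈ A)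
    (hb : b ^ p = 1) :
    Nat.card ↥(Cn L b b) * ∏ i ∈ Finset.range p, Nat.card ↥(Cn L (a * b ^ i) (a * b ^ i)) ≤
      Nat.card L * Nat.card ↥(Cn L a b) ^ p := by
  have hp : p.Prime := Fact.out
  obtain ⟨k, hk⟩ : ∃ k : ℕ, a ^ p ^ k = 1 := by
    obtain ⟨k, hk⟩ := hA ⟨a, haA⟩
    exact ⟨k, by simpa using congrArg Subtype.val hk⟩
  have hcopAL : (Nat.card A).Coprime (Nat.card L) := by
    obtain ⟨k, hk⟩ := IsPGroup.iff_card.mp hA
    rw [hk]
    exact Nat.Coprime.pow_left k hL.symm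
  have hsolv : Group.IsSolvable A := by
    haveI := hA.isNilpotent
    infer_instance
  have hnorm : ∀ g ∈ A, ∀ h ∈ A, A ≤ normalizer (Cn L g h : Set H) ∧
      L ⊓ centralizer (A : Set H) ≤ normalizer (Cn L g h : Set H) := by
    intro g hg h hh
    constructor
    · intro x hx
      exact Cn_mem_normalizer L g h x (hAL hx) (hAab x hx g hg) (hAab x hx h hh)
    · rintro x ⟨hxL, hxA'⟩
      have hxA : x ∈ centralizer (A : Set H) := hxA'
      rw [Subgroup.mem_centralizer_iff] at hxA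
      exact Cn_mem_normalizer L g h x (Subgroup.le_normalizer hxL) (hxA g hg).symm (hxA h hh).symm
  have hpowA : ∀ i : ℕ, a * b ^ i ∈ A := fun i => A.mul_mem haA (A.pow_mem hbA i)
  have hfact : ∀ q : ℕ, q.Prime → (Nat.card ↥(Cn L b b)).factorization q +
      ∑ i ∈ Finset.range p, (Nat.card ↥(Cn L (a * b ^ i) (a * b ^ i))).factorization q ≤
      (Nat.card L).factorization q + p * (Nat.card ↥(Cn L a b)).factorization q := by
    intro q hq
    haveI : Fact q.Prime := ⟨hq⟩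
    obtain ⟨Q, hQinv⟩ := Cfsg.Agent.Lib.Helper13.exists_invariant_sylow A L hAL hcopAL
      (Or.inl hsolv) q
    obtain ⟨Qm, hQm⟩ : ∃ Qm : Subgroup H, Qm = (Q : Subgroup L).map L.subtype := ⟨_, rfl⟩
    have hQinv' : A ≤ normalizer (Qm : Set H) := by rw [hQm]; exact hQinv
    have hQmL : Qm ≤ L := by rw [hQm]; exact Subgroup.map_subtype_le _
    have hQmp : IsPGroup q Qm := by rw [hQm]; exact Q.isPGroup'.map L.subtype
    have hQmcard : Nat.card Qm = q ^ (Nat.card L).factorization q := by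
      rw [hQm, Subgroup.card_map_of_injective L.subtype_injective, Q.card_eq_multiplicity]
    have hQmcop : (Nat.card Qm).Coprime p :=
      Nat.Coprime.coprime_dvd_left (Subgroup.card_dvd_of_le hQmL) hL
    have hab : a * b = b * a := hAab a haA b hbA
    have key := bw_qgroup_le p q k Qm hQmp hQmcop a b hk hb hab (hQinv' haA) (hQinv' hbA)
    have hc : ∀ g ∈ A, ∀ h ∈ A, Nat.card ↥(Cn Qm g h) =
        q ^ (Nat.card ↥(Cn L g h)).factorization q := by
      intro g hg h hh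
      rw [Cn_inf_of_le hQmL, hQm]
      exact card_sylow_inf A L hAL hcopAL hsolv q Q hQinv (Cn L g h) (Cn_le L g h)
        (hnorm g hg h hh).1 (hnorm g hg h hh).2
    rw [hQmcard, hc a haA b hbA, hc b hbA b hbA,
      Finset.prod_congr rfl (fun i _ => hc _ (hpowA i) _ (hpowA i)), ← pow_mul,
      Finset.prod_pow_eq_pow_sum, ← pow_add, ← pow_add] at key
    have := (Nat.pow_le_pow_iff_right hq.one_lt).mp key
    rw [mul_comm p]
    exact this
  have hpos : ∀ X : Subgroup H, Nat.card X ≠ 0 := fun X => Nat.card_pos.ne'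
  apply Nat.le_of_dvd
  · exact Nat.pos_of_ne_zero (mul_ne_zero (hpos _) (pow_ne_zero _ (hpos _)))
  rw [← Nat.factorization_prime_le_iff_dvd
    (mul_ne_zero (hpos _) (Finset.prod_ne_zero_iff.mpr (fun i _ => hpos _)))
    (mul_ne_zero (hpos _) (pow_ne_zero _ (hpos _)))]
  intro q hq
  rw [Nat.factorization_mul (hpos _) (pow_ne_zero _ (hpos _)), Nat.factorization_pow,
    Nat.factorization_mul (hpos _) (Finset.prod_ne_zero_iff.mpr (fun i _ => hpos _)),
    Nat.factorization_prod (fun i _ => hpos _)]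
  simp only [Finsupp.coe_add, Finsupp.coe_smul, Pi.add_apply, Pi.smul_apply, smul_eq_mul,
    Finsupp.coe_finsetSum, Finset.sum_apply]
  exact hfact q hq

end Cfsg.Agent.Lib.Helper13.BWle
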