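import Mathlib

/-!
# The Baer trick (helper13)

For a finite group `R` of odd order and class at most two, `x + y = x y [y, x]^{1/2}` is an abelian
group structure preserved by all automorphisms.  We use it to prove a generalization of Thompson's
`A × B`-lemma for odd primes (`baer_fix`).
-/

set_option autoImplicit false
set_option linter.style.haveILetI false

namespace Cfsg.Agent.Lib.Helper13

open scoped commutatorElement

/-- class at most two: commutators are central. -/
def IsClass2 (R : Type*) [Group R] : Prop := ∀ x y z : R, ⁅x, y⁆ * z = z * ⁅x, y⁆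

section class2

variable {R : Type*} [Group R]

theorem IsClass2.conj (hc : IsClass2 R) (x y z : R) : z * ⁅x, y⁆ * z⁻¹ = ⁅x, y⁆ := by
  rw [← hc x y z, mul_inv_cancel_right]

theorem IsClass2.comm_mul_left (hc : IsClass2 R) (x y z : R) : ⁅x * y, z⁆ = ⁅x, z⁆ * ⁅y, z⁆ := by
  have h1 : ⁅x * y, z⁆ = x * ⁅y, z⁆ * x⁻¹ * ⁅x, z⁆ := by
    simp only [commutatorElement_def]; group
  rw [h1, hc.conj, hc y z]

theorem IsClass2.comm_mul_right (hc : IsClass2 R) (x y z : R) : ⁅x, y * z⁆ = ⁅x, y⁆ * ⁅x, z⁆ := by
  have h1 : ⁅x, y * z⁆ = ⁅x, y⁆ * (y * ⁅x, z⁆ * y⁻¹) := by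
    simp only [commutatorElement_def]; group
  rw [h1, hc.conj]

theorem comm_self (x : R) : ⁅x, x⁆ = 1 := by simp

theorem central_rearrange (x y z a b c : R) (ha : ∀ w, a * w = w * a) (hc : ∀ w, c * w = w * c) :
    x * y * a * z * (b * c) = x * (y * z * c) * (a * b) := by
  calc x * y * a * z * (b * c) = x * y * (a * z) * (b * c) := by group
    _ = x * y * (z * a) * (b * c) := by rw [ha z]
    _ = x * y * z * ((a * b) * c) := by group
    _ = x * y * z * (c * (a * b)) := by rw [hc (a * b)]
    _ = x * (y * z * c) * (a * b) := by group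

theorem comm_inv_self (x : R) : ⁅x⁻¹, x⁆ = 1 := by simp [commutatorElement_def]

theorem comm_one_left (x : R) : ⁅(1 : R), x⁆ = 1 := by simp [commutatorElement_def]

theorem comm_one_right (x : R) : ⁅x, (1 : R)⁆ = 1 := by simp [commutatorElement_def]

theorem comm_of_central (x c : R) (hcz : ∀ z : R, c * z = z * c) : ⁅x, c⁆ = 1 := by
  rw [commutatorElement_def, ← hcz x, mul_inv_cancel_right, mul_inv_cancel]

theorem comm_of_central' (x c : R) (hcz : ∀ z : R, c * z = z * c) : ⁅c, x⁆ = 1 := by
  rw [commutatorElement_def, hcz x, mul_inv_cancel_right, mul_inv_cancel]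

/-- the square-root map (on elements of order dividing the odd number `n`). -/
def half (n : ℕ) (c : R) : R := c ^ ((n + 1) / 2)

theorem half_central (n : ℕ) (c : R) (hcz : ∀ z : R, c * z = z * c) (z : R) :
    half n c * z = z * half n c := by
  unfold half
  exact ((Commute.pow_left (show Commute c z from hcz z) _).eq)

theorem half_mul (n : ℕ) (c d : R) (hcd : c * d = d * c) : half n (c * d) = half n c * half n d := by
  unfold half
  exact (show Commute c d from hcd).mul_pow _

theorem half_one (n : ℕ) : half n (1 : R) = 1 := by unfold half; simp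

theorem half_mul_half (n : ℕ) (hn : Odd n) (c : R) (hcn : c ^ n = 1) : half n c * half n c = c := by
  unfold half
  obtain ⟨m, rfl⟩ := hn
  have h1 : (2 * m + 1 + 1) / 2 = m + 1 := by omega
  rw [h1, ← pow_add]
  have h2 : m + 1 + (m + 1) = (2 * m + 1) + 1 := by ring
  rw [h2, pow_succ, hcn, one_mul]

theorem half_inv (n : ℕ) (c : R) : half n c⁻¹ = (half n c)⁻¹ := by
  unfold half; rw [inv_pow]

end class2

/-- The Baer group of `R`. -/
structure Baer (R : Type*) where
  /-- underlying element -/
  val : R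

namespace Baer

variable {R : Type*} [Group R] [Finite R]

/-- Baer addition. -/
noncomputable def add' (x y : R) : R := x * y * half (Nat.card R) ⁅y, x⁆

variable [hodd : Fact (Odd (Nat.card R))] [hc : Fact (IsClass2 R)]

theorem add'_comm (x y : R) : add' x y = add' y x := by
  unfold add'
  have h1 : x * y = y * x * ⁅x, y⁆ := by
    rw [← hc.out x y]
    simp only [commutatorElement_def]; group
  have h2 : ⁅y, x⁆ = ⁅x, y⁆⁻¹ := (commutatorElement_inv x y).symm
  have h3 := half_mul_half (Nat.card R) hodd.out ⁅x, y⁆ _root_.pow_card_eq_one'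
  rw [h1, h2, half_inv, mul_assoc]
  congr 1
  nth_rewrite 1 [← h3]
  rw [mul_inv_cancel_right]

theorem add'_assoc (x y z : R) : add' (add' x y) z = add' x (add' y z) := by
  unfold add'
  have hcen : ∀ (a b : R) (w : R), half (Nat.card R) ⁅a, b⁆ * w = w * half (Nat.card R) ⁅a, b⁆ :=
    fun a b w => half_central _ _ (hc.out a b) w
  have e1 : ⁅z, x * y * half (Nat.card R) ⁅y, x⁆⁆ = ⁅z, x⁆ * ⁅z, y⁆ := by
    rw [hc.out.comm_mul_right, hc.out.comm_mul_right,
      comm_of_central z _ (fun w => hcen y x w), mul_one]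
  have e2 : ⁅y * z * half (Nat.card R) ⁅z, y⁆, x⁆ = ⁅y, x⁆ * ⁅z, x⁆ := by
    rw [hc.out.comm_mul_left, hc.out.comm_mul_left,
      comm_of_central' x _ (fun w => hcen z y w), mul_one]
  rw [e1, e2, half_mul _ _ _ (hc.out z x ⁅z, y⁆), half_mul _ _ _ (hc.out y x ⁅z, x⁆)]
  exact central_rearrange x y z _ _ _ (hcen y x) (hcen z y)

theorem add'_one (x : R) : add' x 1 = x := by
  unfold add'; rw [comm_one_left, half_one, mul_one, mul_one]

theorem add'_inv (x : R) : add' x⁻¹ x = 1 := by
  unfold add'
  have : ⁅x, x⁻¹⁆ = 1 := by simp [commutatorElement_def]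
  rw [this, half_one, mul_one, inv_mul_cancel]

noncomputable instance : Add (Baer R) := ⟨fun x y => ⟨add' x.val y.val⟩⟩

instance : Zero (Baer R) := ⟨⟨1⟩⟩

instance : Neg (Baer R) := ⟨fun x => ⟨x.val⁻¹⟩⟩

noncomputable instance : AddCommGroup (Baer R) where
  add_assoc x y z := by
    show (⟨add' (add' x.val y.val) z.val⟩ : Baer R) = ⟨add' x.val (add' y.val z.val)⟩
    rw [add'_assoc]
  zero_add x := by
    show (⟨add' 1 x.val⟩ : Baer R) = x
    rw [add'_comm, add'_one]
  add_zero x := by
    show (⟨add' x.val 1⟩ : Baer R) = x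
    rw [add'_one]
  nsmul := nsmulRec
  zsmul := zsmulRec
  neg_add_cancel x := by
    show (⟨add' x.val⁻¹ x.val⟩ : Baer R) = ⟨1⟩
    rw [add'_inv]
  add_comm x y := by
    show (⟨add' x.val y.val⟩ : Baer R) = ⟨add' y.val x.val⟩
    rw [add'_comm]

theorem add_val (x y : Baer R) : (x + y).val = add' x.val y.val := rfl

theorem zero_val : (0 : Baer R).val = 1 := rfl

theorem neg_val (x : Baer R) : (-x).val = x.val⁻¹ := rfl

/-- the equivalence with `R`. -/
def equiv : Baer R ≃ R := ⟨Baer.val, Baer.mk, fun _ => rfl, fun _ => rfl⟩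

instance : Finite (Baer R) := Finite.of_equiv R equiv.symm

theorem card_eq : Nat.card (Baer R) = Nat.card R := Nat.card_congr equiv

/-- an automorphism of `R` as an additive automorphism of `Baer R`. -/
noncomputable def ofAut (φ : MulAut R) : Baer R →+ Baer R where
  toFun x := ⟨φ x.val⟩
  map_zero' := by
    show (⟨φ 1⟩ : Baer R) = ⟨1⟩
    rw [map_one]
  map_add' x y := by
    show (⟨φ (add' x.val y.val)⟩ : Baer R) = ⟨add' (φ x.val) (φ y.val)⟩
    congr 1
    unfold add' half
    simp only [map_mul, map_pow, commutatorElement_def, map_inv]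

theorem ofAut_val (φ : MulAut R) (x : Baer R) : (ofAut φ x).val = φ x.val := rfl

end Baer

end Cfsg.Agent.Lib.Helper13

namespace Cfsg.Agent.Lib.Helper13

open scoped commutatorElement

section fix

variable {R : Type*} [Group R] [Finite R]

/-- **Generalized `A × B`-lemma, abstract form.**  Let `R` be a `p`-group of odd order and class at
most two, `K` a `p'`-group of automorphisms normalized by the `p`-group of automorphisms `A`.  If every
`A`-fixed point is fixed by `K`, then `K` acts trivially. -/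
theorem baer_fix (p : ℕ) [hp : Fact p.Prime] (hodd : Odd (Nat.card R)) (hcl : IsClass2 R)
    (hR : IsPGroup p R) (K A : Subgroup (MulAut R)) (hK : (Nat.card K).Coprime (Nat.card R))
    (hA : IsPGroup p A) (hAK : A ≤ Subgroup.normalizer (K : Set (MulAut R)))
    (hfix : ∀ x : R, (∀ a ∈ A, a x = x) → ∀ k ∈ K, k x = x) :
    ∀ k ∈ K, ∀ x : R, k x = x := by
  classical
  haveI : Fact (Odd (Nat.card R)) := ⟨hodd⟩
  haveI : Fact (IsClass2 R) := ⟨hcl⟩
  haveI : Finite (MulAut R) := Finite.of_injective (fun φ : MulAut R => (φ : R → R))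
    (fun φ ψ h => MulEquiv.ext (fun x => congrFun h x))
  haveI : Fintype K := Fintype.ofFinite K
  -- the trace
  obtain ⟨t, htdef⟩ : ∃ t : Baer R →+ Baer R, t = ∑ k : K, Baer.ofAut (k : MulAut R) := ⟨_, rfl⟩
  have ht_apply : ∀ x : Baer R, t x = ∑ k : K, Baer.ofAut (k : MulAut R) x := by
    intro x; rw [htdef, AddMonoidHom.finsetSum_apply]
  have hcomp : ∀ (φ ψ : MulAut R) (x : Baer R), Baer.ofAut φ (Baer.ofAut ψ x) = Baer.ofAut (φ * ψ) x :=
    fun φ ψ x => rfl
  have ht_K : ∀ k₀ ∈ K, ∀ x : Baer R, t (Baer.ofAut k₀ x) = t x := by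
    intro k₀ hk₀ x
    rw [ht_apply, ht_apply]
    apply Fintype.sum_equiv (Equiv.mulRight (⟨k₀, hk₀⟩ : K))
    intro k
    rw [hcomp]
    rfl
  have ht_A : ∀ a ∈ A, ∀ x : Baer R, t (Baer.ofAut a x) = Baer.ofAut a (t x) := by
    intro a ha x
    rw [ht_apply, ht_apply, map_sum]
    have hnorm : ∀ k : K, a⁻¹ * (k : MulAut R) * a ∈ K := by
      intro k
      have h1 := (Subgroup.mem_normalizer_iff.mp (hAK (A.inv_mem ha)) (k : MulAut R)).mp k.2
      simpa using h1
    have hnorm' : ∀ k : K, a * (k : MulAut R) * a⁻¹ ∈ K := by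
      intro k
      exact (Subgroup.mem_normalizer_iff.mp (hAK ha) (k : MulAut R)).mp k.2
    let e : K ≃ K :=
      { toFun := fun k => ⟨a⁻¹ * (k : MulAut R) * a, hnorm k⟩
        invFun := fun k => ⟨a * (k : MulAut R) * a⁻¹, hnorm' k⟩
        left_inv := fun k => by apply Subtype.ext; simp [mul_assoc]
        right_inv := fun k => by apply Subtype.ext; simp [mul_assoc] }
    apply Fintype.sum_equiv e
    intro k
    rw [hcomp, hcomp]
    have hka : (k : MulAut R) * a = a * ((e k : K) : MulAut R) := by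
      show (k : MulAut R) * a = a * (a⁻¹ * (k : MulAut R) * a)
      simp [mul_assoc]
    rw [hka]
  -- the kernel of the trace
  obtain ⟨W, hWdef⟩ : ∃ W : AddSubgroup (Baer R), W = t.ker := ⟨_, rfl⟩
  have hW_mem : ∀ y : Baer R, y ∈ W ↔ t y = 0 := by
    intro y; rw [hWdef, AddMonoidHom.mem_ker]
  let act : MulAction A W :=
    { smul := fun a y => ⟨Baer.ofAut (a : MulAut R) y, by
        rw [hW_mem, ht_A a a.2, (hW_mem y).mp y.2, map_zero]⟩
      one_smul := fun y => by
        apply Subtype.ext
        rfl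
      mul_smul := fun a b y => by
        apply Subtype.ext
        rfl }
  have hsmul_val : ∀ (a : A) (y : W), ((a • y : W) : Baer R) = Baer.ofAut (a : MulAut R) y :=
    fun a y => rfl
  -- `W` is trivial
  have hWbot : W = ⊥ := by
    by_contra hne
    have hcardW : Nat.card W ∣ Nat.card R := by
      rw [← Baer.card_eq (R := R)]; exact AddSubgroup.card_addSubgroup_dvd_card W
    obtain ⟨n, hn⟩ := IsPGroup.iff_card.mp hR
    rw [hn] at hcardW
    obtain ⟨j, -, hj⟩ := (Nat.dvd_prime_pow hp.out).mp hcardW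
    have hj0 : j ≠ 0 := by
      rintro rfl
      rw [pow_zero] at hj
      exact hne (AddSubgroup.card_eq_one.mp hj)
    have hpW : p ∣ Nat.card W := by rw [hj]; exact dvd_pow_self p hj0
    have h0 : (0 : W) ∈ MulAction.fixedPoints A W := by
      intro a
      apply Subtype.ext
      rw [hsmul_val]
      simp
    obtain ⟨b, hb, hb0⟩ := hA.exists_fixed_point_of_prime_dvd_card_of_fixed_point W hpW h0
    apply hb0
    have hbA : ∀ a ∈ A, a (b : Baer R).val = (b : Baer R).val := by
      intro a ha
      have h1 := hb ⟨a, ha⟩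
      have h2 := congrArg (fun y : W => (y : Baer R).val) h1
      exact h2
    have hbK : ∀ k : K, Baer.ofAut (k : MulAut R) (b : Baer R) = (b : Baer R) := by
      intro k
      have h1 := hfix _ hbA k k.2
      cases hbv : (b : Baer R) with
      | mk v =>
        rw [hbv] at h1
        show (⟨(k : MulAut R) v⟩ : Baer R) = ⟨v⟩
        rw [h1]
    have htb : t (b : Baer R) = Nat.card K • (b : Baer R) := by
      rw [ht_apply, Finset.sum_congr rfl (fun k _ => hbK k), Finset.sum_const, Finset.card_univ,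
        Nat.card_eq_fintype_card]
    have htb0 : Nat.card K • (b : Baer R) = 0 := by rw [← htb]; exact (hW_mem _).mp b.2
    have h1 : addOrderOf (b : Baer R) ∣ Nat.card K := addOrderOf_dvd_of_nsmul_eq_zero htb0
    have h2 : addOrderOf (b : Baer R) ∣ Nat.card R := by
      rw [← Baer.card_eq (R := R)]; exact addOrderOf_dvd_natCard _
    have h3 : addOrderOf (b : Baer R) = 1 := Nat.eq_one_of_dvd_coprimes hK h1 h2
    apply Subtype.ext
    exact (AddMonoid.addOrderOf_eq_one_iff.mp h3).symm
  intro k hk x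
  have h1 : Baer.ofAut k ⟨x⟩ - (⟨x⟩ : Baer R) ∈ W := by
    rw [hW_mem, map_sub, ht_K k hk, sub_self]
  rw [hWbot, AddSubgroup.mem_bot, sub_eq_zero] at h1
  exact congrArg Baer.val h1

end fix

end Cfsg.Agent.Lib.Helper13
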