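import Mathlib
import Cfsg.Prelude.Def_Solvable
import Cfsg.Prelude.Def_Amalgam
import Cfsg.Prelude.Def_OddOrderLocal
import Cfsg.Agent.Lib.Helper13.BenderA
import Cfsg.Agent.Lib.Helper13.SZConjA

/-!
# Cores of subgroups, viewed in the ambient group; lemmas A and B for subgroups
-/

set_option autoImplicit false

namespace Cfsg.Agent.Lib.Helper13.BenderB

open Subgroup Cfsg.Agent.Lib.Helper20 Cfsg.Agent.Lib.Helper13.BenderA
open scoped commutatorElement

variable {G : Type*} [Group G] [Finite G]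

/-- `O_{q'}(X)` as a subgroup of the ambient group -/
def ppOf (q : ℕ) (X : Subgroup G) : Subgroup G := (Cfsg.pPrimeCore q X).map X.subtype

theorem pCoreOf_le (q : ℕ) (X : Subgroup G) : Cfsg.pCoreOf q X ≤ X := Subgroup.map_subtype_le _

theorem ppOf_le (q : ℕ) (X : Subgroup G) : ppOf q X ≤ X := Subgroup.map_subtype_le _

theorem pCoreOf_isPGroup (q : ℕ) (X : Subgroup G) : IsPGroup q (Cfsg.pCoreOf q X) :=
  (pCore_isPGroup' (G := ↥X) q).map _

theorem ppOf_coprime (q : ℕ) (X : Subgroup G) : (Nat.card (ppOf q X)).Coprime q := by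
  unfold ppOf
  rw [Subgroup.card_map_of_injective X.subtype_injective]
  exact pPrimeCore_coprime' q

theorem le_normalizer_pCoreOf (q : ℕ) (X : Subgroup G) :
    X ≤ normalizer ((Cfsg.pCoreOf q X : Subgroup G) : Set G) := by
  haveI : (Cfsg.pCore q ↥X).Normal := Cfsg.pCore_normal q _
  have h1 := Subgroup.le_normalizer_map (H := Cfsg.pCore q ↥X) X.subtype
  rw [Subgroup.normalizer_eq_top, ← MonoidHom.range_eq_map, Subgroup.range_subtype] at h1
  exact h1

theorem le_normalizer_ppOf (q : ℕ) (X : Subgroup G) :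
    X ≤ normalizer ((ppOf q X : Subgroup G) : Set G) := by
  haveI : (Cfsg.pPrimeCore q ↥X).Normal := Cfsg.pPrimeCore_normal q _
  have h1 := Subgroup.le_normalizer_map (H := Cfsg.pPrimeCore q ↥X) X.subtype
  rw [Subgroup.normalizer_eq_top, ← MonoidHom.range_eq_map, Subgroup.range_subtype] at h1
  exact h1

theorem le_pCoreOf (q : ℕ) (X Y : Subgroup G) (hYX : Y ≤ X)
    (hXY : X ≤ normalizer (Y : Set G)) (hY : IsPGroup q Y) : Y ≤ Cfsg.pCoreOf q X := by
  have hn : (Y.subgroupOf X).Normal := (Subgroup.normal_subgroupOf_iff_le_normalizer hYX).mpr hXY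
  have h1 : Y.subgroupOf X ≤ Cfsg.pCore q ↥X := le_pCore' hn hY.comap_subtype
  have h2 := Subgroup.map_mono (f := X.subtype) h1
  rw [Subgroup.subgroupOf_map_subtype, inf_eq_left.mpr hYX] at h2
  exact h2

theorem le_ppOf (q : ℕ) (X Y : Subgroup G) (hYX : Y ≤ X)
    (hXY : X ≤ normalizer (Y : Set G)) (hY : (Nat.card Y).Coprime q) : Y ≤ ppOf q X := by
  have hn : (Y.subgroupOf X).Normal := (Subgroup.normal_subgroupOf_iff_le_normalizer hYX).mpr hXY
  have h1 : Y.subgroupOf X ≤ Cfsg.pPrimeCore q ↥X := by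
    apply le_pPrimeCore' hn
    rw [Cfsg.Agent.Lib.Helper13.card_subgroupOf_of_le hYX]; exact hY
  have h2 := Subgroup.map_mono (f := X.subtype) h1
  rw [Subgroup.subgroupOf_map_subtype, inf_eq_left.mpr hYX] at h2
  exact h2

/-- mutually normalizing subgroups with trivial intersection commute -/
theorem le_centralizer_of_mutually_normalizing (A B : Subgroup G)
    (hAB : A ≤ normalizer (B : Set G)) (hBA : B ≤ normalizer (A : Set G)) (h : A ⊓ B = ⊥) :
    A ≤ centralizer (B : Set G) := by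
  intro a ha
  rw [Subgroup.mem_centralizer_iff]
  intro b hb
  have h1 : ⁅a, b⁆ ∈ A ⊓ B := by
    refine Subgroup.mem_inf.mpr ⟨?_, ?_⟩
    · have h2 : b * a⁻¹ * b⁻¹ ∈ A := (Subgroup.mem_normalizer_iff.mp (hBA hb) a⁻¹).mp (inv_mem ha)
      have : ⁅a, b⁆ = a * (b * a⁻¹ * b⁻¹) := by rw [commutatorElement_def]; group
      rw [this]; exact mul_mem ha h2
    · have h2 : a * b * a⁻¹ ∈ B := (Subgroup.mem_normalizer_iff.mp (hAB ha) b).mp hb
      rw [commutatorElement_def]; exact mul_mem h2 (inv_mem hb)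
  rw [h, Subgroup.mem_bot] at h1
  exact (commutatorElement_eq_one_iff_commute.mp h1).eq.symm

theorem pCoreOf_le_centralizer_ppOf (q : ℕ) [Fact q.Prime] (X : Subgroup G) :
    Cfsg.pCoreOf q X ≤ centralizer ((ppOf q X : Subgroup G) : Set G) := by
  apply le_centralizer_of_mutually_normalizing
  · exact (pCoreOf_le q X).trans (le_normalizer_ppOf q X)
  · exact (ppOf_le q X).trans (le_normalizer_pCoreOf q X)
  · exact inf_eq_bot_of_isPGroup_of_coprime q _ _ (pCoreOf_isPGroup q X) (ppOf_coprime q X)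

theorem ppOf_le_centralizer_pCoreOf (q : ℕ) [Fact q.Prime] (X : Subgroup G) :
    ppOf q X ≤ centralizer ((Cfsg.pCoreOf q X : Subgroup G) : Set G) := by
  rw [Subgroup.le_centralizer_iff]; exact pCoreOf_le_centralizer_ppOf q X

theorem coprime_of_isPGroup_of_ne {q r : ℕ} (hq : q.Prime) (hr : r.Prime) (hqr : q ≠ r)
    (Y : Subgroup G) (hY : IsPGroup q Y) : (Nat.card Y).Coprime r := by
  haveI : Fact q.Prime := ⟨hq⟩
  obtain ⟨n, hn⟩ := IsPGroup.iff_card.mp hY
  rw [hn]
  exact Nat.Coprime.pow_left n ((Nat.coprime_primes hq hr).mpr hqr)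

theorem pCoreOf_le_ppOf {q r : ℕ} (hq : q.Prime) (hr : r.Prime) (hqr : q ≠ r) (X : Subgroup G) :
    Cfsg.pCoreOf q X ≤ ppOf r X :=
  le_ppOf r X _ (pCoreOf_le q X) (le_normalizer_pCoreOf q X)
    (coprime_of_isPGroup_of_ne hq hr hqr _ (pCoreOf_isPGroup q X))

theorem pCoreOf_le_centralizer_pCoreOf {q r : ℕ} (hq : q.Prime) (hr : r.Prime) (hqr : q ≠ r)
    (X : Subgroup G) :
    Cfsg.pCoreOf q X ≤ centralizer ((Cfsg.pCoreOf r X : Subgroup G) : Set G) := by
  haveI : Fact r.Prime := ⟨hr⟩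
  exact (pCoreOf_le_ppOf hq hr hqr X).trans (ppOf_le_centralizer_pCoreOf r X)

theorem fittingOf_eq_iSup (X : Subgroup G) :
    Cfsg.fittingOf X = ⨆ q : Nat.Primes, Cfsg.pCoreOf (q : ℕ) X := by
  unfold Cfsg.fittingOf Cfsg.pCoreOf
  rw [fittingSubgroup_eq_iSup_pCore', Subgroup.map_iSup]

theorem pCoreOf_le_fittingOf {q : ℕ} (hq : q.Prime) (X : Subgroup G) :
    Cfsg.pCoreOf q X ≤ Cfsg.fittingOf X := by
  rw [fittingOf_eq_iSup]
  exact le_iSup (fun q : Nat.Primes => Cfsg.pCoreOf (q : ℕ) X) ⟨q, hq⟩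

theorem fittingOf_le (X : Subgroup G) : Cfsg.fittingOf X ≤ X := Subgroup.map_subtype_le _

/-- `C_X(F(X)) ≤ F(X)` for solvable `X`. -/
theorem inf_centralizer_fittingOf_le (X : Subgroup G) [Group.IsSolvable ↥X] :
    X ⊓ centralizer ((Cfsg.fittingOf X : Subgroup G) : Set G) ≤ Cfsg.fittingOf X := by
  intro x hx
  obtain ⟨hxX, hxC⟩ := Subgroup.mem_inf.mp hx
  have h1 : (⟨x, hxX⟩ : ↥X) ∈ centralizer ((Cfsg.fittingSubgroup ↥X : Subgroup ↥X) : Set ↥X) := by
    rw [Subgroup.mem_centralizer_iff]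
    intro y hy
    have h2 : (y : G) ∈ Cfsg.fittingOf X := Subgroup.mem_map_of_mem X.subtype hy
    rw [Subgroup.mem_centralizer_iff] at hxC
    exact Subtype.ext (hxC _ h2)
  have h3 := centralizer_fitting_le h1
  exact ⟨⟨x, hxX⟩, h3, rfl⟩

/-- the `q`-core of `X` is nontrivial when `q` divides the order of `F(X)` -/
theorem pCoreOf_ne_bot_of_dvd {q : ℕ} [hq : Fact q.Prime] (X : Subgroup G)
    (hd : q ∣ Nat.card (Cfsg.fittingOf X)) : Cfsg.pCoreOf q X ≠ ⊥ := by
  unfold Cfsg.fittingOf at hd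
  rw [Subgroup.card_map_of_injective X.subtype_injective] at hd
  haveI hnil : Group.IsNilpotent (Cfsg.fittingSubgroup ↥X) := fittingSubgroup_isNilpotent'
  haveI hFn : (Cfsg.fittingSubgroup ↥X).Normal := fittingSubgroup_normal'
  obtain ⟨P⟩ : Nonempty (Sylow q (Cfsg.fittingSubgroup ↥X)) := inferInstance
  have hPn : (P : Subgroup (Cfsg.fittingSubgroup ↥X)).Normal := inferInstance
  haveI : (P : Subgroup (Cfsg.fittingSubgroup ↥X)).Characteristic :=
    P.characteristic_of_normal hPn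
  have hle : (P : Subgroup (Cfsg.fittingSubgroup ↥X)).map (Cfsg.fittingSubgroup ↥X).subtype ≤
      Cfsg.pCore q ↥X := by
    apply le_pCore'
    · exact ConjAct.normal_of_characteristic_of_normal
    · exact P.isPGroup'.map _
  have hP1 : (P : Subgroup (Cfsg.fittingSubgroup ↥X)) ≠ ⊥ := P.ne_bot_of_dvd_card hd
  intro hbot
  unfold Cfsg.pCoreOf at hbot
  rw [Subgroup.map_eq_bot_iff_of_injective _ X.subtype_injective] at hbot
  rw [hbot, le_bot_iff, Subgroup.map_eq_bot_iff_of_injective _ (Subgroup.subtype_injective _)]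
    at hle
  exact hP1 hle

/-- the `q`-core of `X` is trivial when `q` does not divide the order of `F(X)` -/
theorem pCoreOf_eq_bot_of_not_dvd {q : ℕ} [hq : Fact q.Prime] (X : Subgroup G)
    (hd : ¬ q ∣ Nat.card (Cfsg.fittingOf X)) : Cfsg.pCoreOf q X = ⊥ := by
  have h1 : Nat.card (Cfsg.pCoreOf q X) ∣ Nat.card (Cfsg.fittingOf X) :=
    Subgroup.card_dvd_of_le (pCoreOf_le_fittingOf hq.out X)
  obtain ⟨n, hn⟩ := IsPGroup.iff_card.mp (pCoreOf_isPGroup q X)
  rcases Nat.eq_zero_or_pos n with h0 | h0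
  · rw [h0, pow_zero] at hn
    exact Subgroup.card_eq_one.mp hn
  · exfalso
    apply hd
    refine dvd_trans ?_ h1
    rw [hn]
    exact dvd_pow_self q h0.ne'

/-- **Lemma A** for a solvable subgroup `X` of `G`. -/
theorem lemmaA (X : Subgroup G) [Group.IsSolvable ↥X] (q : ℕ) [hq : Fact q.Prime]
    (Z K : Subgroup G) (hZX : Z ≤ X) (hKX : K ≤ X) (hZ : IsPGroup q Z)
    (hK : (Nat.card K).Coprime q) (hKZ : K ≤ centralizer (Z : Set G))
    (hCK : X ⊓ centralizer (Z : Set G) ≤ normalizer (K : Set G)) : K ≤ ppOf q X := by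
  have h1 : K.subgroupOf X ≤ Cfsg.pPrimeCore q ↥X := by
    apply lemmaA_abs q (Z.subgroupOf X) (K.subgroupOf X) hZ.comap_subtype
    · rw [Cfsg.Agent.Lib.Helper13.card_subgroupOf_of_le hKX]; exact hK
    · intro k hk
      rw [Subgroup.mem_centralizer_iff]
      intro z hz
      have h2 := hKZ (Subgroup.mem_subgroupOf.mp hk)
      rw [Subgroup.mem_centralizer_iff] at h2
      exact Subtype.ext (h2 _ (Subgroup.mem_subgroupOf.mp hz))
    · intro c hc
      have h2 : (c : G) ∈ X ⊓ centralizer (Z : Set G) := by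
        refine Subgroup.mem_inf.mpr ⟨c.2, ?_⟩
        rw [Subgroup.mem_centralizer_iff]
        intro z hz
        rw [Subgroup.mem_centralizer_iff] at hc
        have h3 := hc ⟨z, hZX hz⟩ (Subgroup.mem_subgroupOf.mpr hz)
        exact congrArg Subtype.val h3
      have h4 := hCK h2
      rw [Subgroup.mem_normalizer_iff] at h4 ⊢
      intro k
      rw [Subgroup.mem_subgroupOf, Subgroup.mem_subgroupOf]
      exact h4 k
  have h2 := Subgroup.map_mono (f := X.subtype) h1
  rw [Subgroup.subgroupOf_map_subtype, inf_eq_left.mpr hKX] at h2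
  exact h2

/-- **Lemma B** for a solvable subgroup `X` of `G`. -/
theorem lemmaB (X : Subgroup G) [Group.IsSolvable ↥X] (p : ℕ) [hp : Fact p.Prime]
    (R : Subgroup G) (hRX : R ≤ X) (hR : IsPGroup p R)
    (hRq : ∀ q : ℕ, q.Prime → q ≠ p → R ≤ centralizer ((Cfsg.pCoreOf q X : Subgroup G) : Set G)) :
    R ≤ centralizer ((ppOf p X : Subgroup G) : Set G) := by
  have h1 : R.subgroupOf X ≤ centralizer ((Cfsg.pPrimeCore p ↥X : Subgroup ↥X) : Set ↥X) := by
    apply lemmaB_abs p (R.subgroupOf X) hR.comap_subtype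
    intro q hq hqp r hr
    rw [Subgroup.mem_centralizer_iff]
    intro a ha
    have h2 := hRq q hq hqp (Subgroup.mem_subgroupOf.mp hr)
    rw [Subgroup.mem_centralizer_iff] at h2
    exact Subtype.ext (h2 _ (Subgroup.mem_map_of_mem X.subtype ha))
  intro r hr
  rw [Subgroup.mem_centralizer_iff]
  intro y hy
  obtain ⟨y', hy', rfl⟩ := hy
  have h2 := h1 (show (⟨r, hRX hr⟩ : ↥X) ∈ R.subgroupOf X from Subgroup.mem_subgroupOf.mpr hr)
  rw [Subgroup.mem_centralizer_iff] at h2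
  exact congrArg Subtype.val (h2 y' hy')

end Cfsg.Agent.Lib.Helper13.BenderB
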