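import Mathlib
import Cfsg.Prelude.Def_OddOrder
import Cfsg.Prelude.Def_OddOrderLocal
import Cfsg.Agent.Lib.Helper13.BenderB

/-!
# Bender's uniqueness theorem (Bender–Glauberman, Theorem 7.x)
-/

set_option autoImplicit false

namespace Cfsg.Agent.Lib.Helper13.BenderC

open Subgroup Cfsg.Agent.Lib.Helper20 Cfsg.Agent.Lib.Helper13.BenderA
  Cfsg.Agent.Lib.Helper13.BenderB
open scoped commutatorElement

variable {G : Type*} [Group G] [Finite G]

theorem mem_normalizer_of_conj_mem' (X : Subgroup G) (g : G) (h : ∀ x ∈ X, g * x * g⁻¹ ∈ X) :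
    g ∈ normalizer (X : Set G) := by
  rw [Subgroup.mem_normalizer_iff_map_conj_eq]
  apply Subgroup.eq_of_le_of_card_ge
  · rintro _ ⟨x, hx, rfl⟩
    exact h x hx
  · rw [Subgroup.card_map_of_injective (MulAut.conj g).injective]

/-- the normalizer of `T` normalizes `T ⊓ C(T)` -/
theorem normalizer_le_normalizer_inf_centralizer (T : Subgroup G) :
    normalizer (T : Set G) ≤ normalizer ((T ⊓ centralizer (T : Set G) : Subgroup G) : Set G) := by
  intro h hh
  apply mem_normalizer_of_conj_mem'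
  intro z hz
  obtain ⟨hzT, hzC⟩ := Subgroup.mem_inf.mp hz
  refine Subgroup.mem_inf.mpr ⟨(Subgroup.mem_normalizer_iff.mp hh z).mp hzT, ?_⟩
  rw [Subgroup.mem_centralizer_iff] at hzC ⊢
  intro f hf
  have h1 : h⁻¹ * f * h ∈ T := by
    have := (Subgroup.mem_normalizer_iff.mp (inv_mem hh) f).mp hf
    simpa using this
  have h2 := hzC _ h1
  calc f * (h * z * h⁻¹) = h * ((h⁻¹ * f * h) * z) * h⁻¹ := by group
    _ = h * (z * (h⁻¹ * f * h)) * h⁻¹ := by rw [h2]
    _ = h * z * h⁻¹ * f := by group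

/-- in a simple group, a nontrivial subgroup `T` of a maximal subgroup `X` normalized by `X` has
normalizer `X` -/
theorem normalizer_eq_of_isCoatom [IsSimpleGroup G] (X : Subgroup G) (hX : IsCoatom X)
    (T : Subgroup G) (hT1 : T ≠ ⊥) (hTX : T ≤ X) (hXT : X ≤ normalizer (T : Set G)) :
    normalizer (T : Set G) = X := by
  have hne : normalizer (T : Set G) ≠ ⊤ := by
    intro htop
    have hn : T.Normal := by rw [← Subgroup.normalizer_eq_top_iff]; exact htop
    rcases hn.eq_bot_or_eq_top with h1 | h1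
    · exact hT1 h1
    · exact hX.1 (top_le_iff.mp (h1 ▸ hTX))
  exact (hX.le_iff_eq hne).mp hXT

/-- the centre of a nontrivial `q`-subgroup is nontrivial -/
theorem inf_centralizer_ne_bot {q : ℕ} [hq : Fact q.Prime] (T : Subgroup G) (hT : IsPGroup q T)
    (hT1 : T ≠ ⊥) : T ⊓ centralizer (T : Set G) ≠ ⊥ := by
  haveI : Nontrivial ↥T := (Subgroup.nontrivial_iff_ne_bot T).mpr hT1
  haveI hc : Nontrivial (Subgroup.center ↥T) := hT.center_nontrivial
  obtain ⟨z, hz⟩ := exists_ne (1 : Subgroup.center ↥T)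
  intro hbot
  have h1 : ((z : ↥T) : G) ∈ T ⊓ centralizer (T : Set G) := by
    refine Subgroup.mem_inf.mpr ⟨(z : ↥T).2, ?_⟩
    rw [Subgroup.mem_centralizer_iff]
    intro t ht
    have h2 := Subgroup.mem_center_iff.mp z.2 ⟨t, ht⟩
    exact congrArg Subtype.val h2
  rw [hbot, Subgroup.mem_bot] at h1
  apply hz
  apply Subtype.ext
  apply Subtype.ext
  simpa using h1

/-- **Bender's uniqueness theorem.** -/
theorem bender_uniqueness (hG : Cfsg.IsMinSimpleOddOrder G) (H : Subgroup G) (hH : IsCoatom H)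
    (hF2 : 2 ≤ (Nat.card (Cfsg.fittingOf H)).primeFactors.card)
    (A : Subgroup G)
    (hZA : Cfsg.fittingOf H ⊓ centralizer ((Cfsg.fittingOf H : Subgroup G) : Set G) ≤ A)
    (hinv : ∀ Y ∈ Cfsg.invSubgroups ⊤ A (Cfsg.primesNotDvd (Nat.card (Cfsg.fittingOf H))), Y = ⊥)
    (L : Subgroup G) (hL : IsCoatom L) (hAL : A ≤ L) : L = H := by
  classical
  haveI hsimple : IsSimpleGroup G := hG.2.1
  haveI hHs : Group.IsSolvable ↥H := hG.2.2.2 H hH.1
  haveI hLs : Group.IsSolvable ↥L := hG.2.2.2 L hL.1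
  obtain ⟨F, hFdef⟩ : ∃ F, F = Cfsg.fittingOf H := ⟨_, rfl⟩
  rw [← hFdef] at hF2 hZA hinv
  obtain ⟨Zq, hZqdef⟩ : ∃ Zq : ℕ → Subgroup G, Zq = fun q =>
      Cfsg.pCoreOf q H ⊓ centralizer ((Cfsg.pCoreOf q H : Subgroup G) : Set G) := ⟨_, rfl⟩
  have hZqF : ∀ q, Zq q ≤ Cfsg.pCoreOf q H := by
    intro q; rw [hZqdef]; exact inf_le_left
  have hZqp : ∀ q, IsPGroup q (Zq q) := fun q => (pCoreOf_isPGroup q H).to_le (hZqF q)
  have hFqZq : ∀ q, Cfsg.pCoreOf q H ≤ centralizer ((Zq q : Subgroup G) : Set G) := by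
    intro q
    rw [Subgroup.le_centralizer_iff, hZqdef]
    exact inf_le_right
  have hZqA : ∀ q, q.Prime → Zq q ≤ A := by
    intro q hq
    refine le_trans (le_inf ?_ ?_) hZA
    · rw [hFdef]; exact (hZqF q).trans (pCoreOf_le_fittingOf hq H)
    · rw [Subgroup.le_centralizer_iff, hFdef, fittingOf_eq_iSup]
      apply iSup_le
      intro r
      by_cases hrq : (r : ℕ) = q
      · rw [hrq]; exact hFqZq q
      · exact (pCoreOf_le_centralizer_pCoreOf r.2 hq hrq H).trans
          (Subgroup.centralizer_le (hZqF q))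
  have hHZq : ∀ q, H ≤ normalizer ((Zq q : Subgroup G) : Set G) := by
    intro q
    rw [hZqdef]
    exact (le_normalizer_pCoreOf q H).trans (normalizer_le_normalizer_inf_centralizer _)
  have hZq1 : ∀ q, q.Prime → q ∣ Nat.card F → Zq q ≠ ⊥ := by
    intro q hq hd
    haveI : Fact q.Prime := ⟨hq⟩
    rw [hZqdef]
    exact inf_centralizer_ne_bot _ (pCoreOf_isPGroup q H)
      (pCoreOf_ne_bot_of_dvd H (hFdef ▸ hd))
  have hCZq : ∀ q, q.Prime → q ∣ Nat.card F → centralizer ((Zq q : Subgroup G) : Set G) ≤ H := by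
    intro q hq hd
    have h1 := normalizer_eq_of_isCoatom H hH (Zq q) (hZq1 q hq hd)
      ((hZqF q).trans (pCoreOf_le q H)) (hHZq q)
    rw [← h1]
    exact Subgroup.centralizer_le_normalizer _
  -- two primes
  have hother : ∀ q : ℕ, ∃ r : ℕ, r.Prime ∧ r ∣ Nat.card F ∧ r ≠ q := by
    intro q
    obtain ⟨a, ha, b, hb, hab⟩ := Finset.one_lt_card.mp (by omega : 1 < (Nat.card F).primeFactors.card)
    have ha' := Nat.mem_primeFactors.mp ha
    have hb' := Nat.mem_primeFactors.mp hb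
    by_cases haq : a = q
    · exact ⟨b, hb'.1, hb'.2.1, fun h => hab (haq.trans h.symm)⟩
    · exact ⟨a, ha'.1, ha'.2.1, haq⟩
  -- (5)
  have h5 : ∀ q, q.Prime → q ∣ Nat.card F → ∀ r, r.Prime → r ≠ q → Zq r ≤ ppOf q L := by
    intro q hq hd r hr hrq
    haveI : Fact q.Prime := ⟨hq⟩
    apply lemmaA L q (Zq q) (Zq r) ((hZqA q hq).trans hAL) ((hZqA r hr).trans hAL) (hZqp q)
      (coprime_of_isPGroup_of_ne hr hq hrq _ (hZqp r))
    · exact (hZqF r).trans ((pCoreOf_le_centralizer_pCoreOf hr hq hrq H).trans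
        (Subgroup.centralizer_le (hZqF q)))
    · exact inf_le_right.trans ((hCZq q hq hd).trans (hHZq r))
  -- (6a)
  have h6a : ∀ s, s.Prime → ¬ s ∣ Nat.card F → Cfsg.pCoreOf s L = ⊥ := by
    intro s hs hsd
    apply hinv
    refine ⟨le_top, ?_, hAL.trans (le_normalizer_pCoreOf s L)⟩
    intro t ht htd
    haveI : Fact s.Prime := ⟨hs⟩
    obtain ⟨n, hn⟩ := IsPGroup.iff_card.mp (pCoreOf_isPGroup s L)
    rw [hn] at htd
    have h1 : t = s := (Nat.prime_dvd_prime_iff_eq ht hs).mp (ht.dvd_of_dvd_pow htd)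
    rw [h1]
    exact ⟨hs, hsd⟩
  -- (6b)
  have h6b : ∀ q, q.Prime → q ∣ Nat.card F → Cfsg.pCoreOf q L ≤ H := by
    intro q hq hd
    haveI : Fact q.Prime := ⟨hq⟩
    obtain ⟨r, hr, hrd, hrq⟩ := hother q
    refine le_trans ?_ (hCZq r hr hrd)
    exact (pCoreOf_le_centralizer_ppOf q L).trans (Subgroup.centralizer_le (h5 q hq hd r hr hrq))
  -- (7a)
  have h7a : ∀ p, p.Prime → p ∣ Nat.card F →
      Zq p ≤ centralizer ((ppOf p L : Subgroup G) : Set G) := by
    intro p hp hd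
    haveI : Fact p.Prime := ⟨hp⟩
    apply lemmaB L p (Zq p) ((hZqA p hp).trans hAL) (hZqp p)
    intro q hq hqp
    haveI : Fact q.Prime := ⟨hq⟩
    by_cases hqd : q ∣ Nat.card F
    · exact (h5 q hq hqd p hp (Ne.symm hqp)).trans (ppOf_le_centralizer_pCoreOf q L)
    · rw [h6a q hq hqd]
      intro x _
      rw [Subgroup.mem_centralizer_iff]
      intro y hy
      have : y = 1 := by simpa using hy
      rw [this, one_mul, mul_one]
  have h7 : ∀ p, p.Prime → p ∣ Nat.card F → ppOf p L ≤ H := by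
    intro p hp hd
    refine le_trans ?_ (hCZq p hp hd)
    rw [Subgroup.le_centralizer_iff]
    exact h7a p hp hd
  -- (6c)
  have h6c : ∀ p, p.Prime → p ∣ Nat.card F → Cfsg.pCoreOf p L ≠ ⊥ := by
    intro p hp hd hbot
    haveI : Fact p.Prime := ⟨hp⟩
    have h1 : Cfsg.fittingOf L ≤ ppOf p L := by
      rw [fittingOf_eq_iSup]
      apply iSup_le
      intro q
      by_cases hqp : (q : ℕ) = p
      · rw [hqp, hbot]; exact bot_le
      · exact pCoreOf_le_ppOf q.2 hp hqp L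
    have h2 : Zq p ≤ L ⊓ centralizer ((Cfsg.fittingOf L : Subgroup G) : Set G) :=
      le_inf ((hZqA p hp).trans hAL) ((h7a p hp hd).trans (Subgroup.centralizer_le h1))
    have h3 : Zq p ≤ ppOf p L := (h2.trans (inf_centralizer_fittingOf_le L)).trans h1
    have h4 : Zq p ≤ Zq p ⊓ ppOf p L := le_inf le_rfl h3
    rw [inf_eq_bot_of_isPGroup_of_coprime p _ _ (hZqp p) (ppOf_coprime p L), le_bot_iff] at h4
    exact hZq1 p hp hd h4
  have hND : ∀ p, p.Prime → p ∣ Nat.card F →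
      normalizer ((Cfsg.pCoreOf p L : Subgroup G) : Set G) = L := by
    intro p hp hd
    exact normalizer_eq_of_isCoatom L hL _ (h6c p hp hd) (pCoreOf_le p L) (le_normalizer_pCoreOf p L)
  -- (8)
  have h8 : ∀ p, p.Prime → p ∣ Nat.card F → ppOf p L ≤ ppOf p H := by
    intro p hp hd
    haveI : Fact p.Prime := ⟨hp⟩
    apply lemmaA H p (Cfsg.pCoreOf p L) (ppOf p L) (h6b p hp hd) (h7 p hp hd)
      (pCoreOf_isPGroup p L) (ppOf_coprime p L) (ppOf_le_centralizer_pCoreOf p L)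
    refine inf_le_right.trans ((Subgroup.centralizer_le_normalizer _).trans ?_)
    rw [hND p hp hd]
    exact le_normalizer_ppOf p L
  -- (9)
  have h9a : ∀ p, p.Prime → p ∣ Nat.card F →
      Cfsg.pCoreOf p L ≤ centralizer ((ppOf p H : Subgroup G) : Set G) := by
    intro p hp hd
    haveI : Fact p.Prime := ⟨hp⟩
    apply lemmaB H p (Cfsg.pCoreOf p L) (h6b p hp hd) (pCoreOf_isPGroup p L)
    intro q hq hqp
    haveI : Fact q.Prime := ⟨hq⟩
    by_cases hqd : q ∣ Nat.card F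
    · exact ((pCoreOf_le_ppOf hp hq (Ne.symm hqp) L).trans (h8 q hq hqd)).trans
        (ppOf_le_centralizer_pCoreOf q H)
    · rw [pCoreOf_eq_bot_of_not_dvd H (hFdef ▸ hqd)]
      intro x _
      rw [Subgroup.mem_centralizer_iff]
      intro y hy
      have : y = 1 := by simpa using hy
      rw [this, one_mul, mul_one]
  have h9 : ∀ p, p.Prime → p ∣ Nat.card F → ppOf p H ≤ L := by
    intro p hp hd
    have h1 : ppOf p H ≤ centralizer ((Cfsg.pCoreOf p L : Subgroup G) : Set G) := by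
      rw [Subgroup.le_centralizer_iff]; exact h9a p hp hd
    refine h1.trans ((Subgroup.centralizer_le_normalizer _).trans ?_)
    rw [hND p hp hd]
  -- (10)
  have h10 : ∀ p, p.Prime → p ∣ Nat.card F → ppOf p H ≤ ppOf p L := by
    intro p hp hd
    haveI : Fact p.Prime := ⟨hp⟩
    apply lemmaA L p (Zq p) (ppOf p H) ((hZqA p hp).trans hAL) (h9 p hp hd) (hZqp p)
      (ppOf_coprime p H)
    · exact (ppOf_le_centralizer_pCoreOf p H).trans (Subgroup.centralizer_le (hZqF p))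
    · exact inf_le_right.trans ((hCZq p hp hd).trans (le_normalizer_ppOf p H))
  -- (11)
  obtain ⟨p, hp, hpd, -⟩ := hother 0
  obtain ⟨q, hq, hqd, hqp⟩ := hother p
  haveI : Fact p.Prime := ⟨hp⟩
  haveI : Fact q.Prime := ⟨hq⟩
  have heq : ppOf p H = ppOf p L := le_antisymm (h10 p hp hpd) (h8 p hp hpd)
  have hne : ppOf p H ≠ ⊥ := by
    intro hbot
    have h1 : Cfsg.pCoreOf q H ≤ ppOf p H := pCoreOf_le_ppOf hq hp hqp H
    rw [hbot, le_bot_iff] at h1
    exact pCoreOf_ne_bot_of_dvd H (hFdef ▸ hqd) h1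
  have hN := normalizer_eq_of_isCoatom H hH _ hne (ppOf_le p H) (le_normalizer_ppOf p H)
  have hLH : L ≤ H := by
    rw [← hN, heq]
    exact le_normalizer_ppOf p L
  exact ((hL.le_iff_eq hH.1).mp hLH).symm

end Cfsg.Agent.Lib.Helper13.BenderC
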