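import Mathlib
import Cfsg.Agent.S0055

set_option autoImplicit false
open Cfsg
open scoped IsMulCommutative

namespace Cfsg.Agent.Lib.Helper13

open Cfsg.Agent.S0055 (cj cj_coe cj_mul)

section FpfNorm

variable {G : Type*} [Group G] (A V : Subgroup G) (hAV : A ≤ Subgroup.normalizer (V : Set G))

theorem cj_one' (v : V) : cj A V hAV 1 v = v := by
  ext
  rw [cj_coe]
  simp

/-- fixed-point-freeness in terms of `cj`. -/
theorem fpf_cj (hfpf : ∀ a ∈ A, a ≠ 1 → V ⊓ Subgroup.centralizer {a} = ⊥)
    (a : A) (ha : a ≠ 1) (v : V) (hv : cj A V hAV a v = v) : v = 1 := by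
  have h1 : (a : G) ≠ 1 := fun h => ha (Subtype.ext h)
  have h2 := hfpf a a.2 h1
  have h3 : (v : G) ∈ V ⊓ Subgroup.centralizer {(a : G)} := by
    refine ⟨v.2, ?_⟩
    show (v : G) ∈ Subgroup.centralizer {(a : G)}
    rw [Subgroup.mem_centralizer_iff]
    intro h hh
    rw [Set.mem_singleton_iff] at hh
    subst hh
    have := congrArg Subtype.val hv
    rw [cj_coe] at this
    calc (a : G) * v = ((a : G) * v * (a : G)⁻¹) * a := by group
      _ = v * a := by rw [this]
  rw [h2, Subgroup.mem_bot] at h3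
  exact Subtype.ext h3

/-- The action of `A` on `V` by conjugation. -/
@[reducible] def cjAction : MulAction A V where
  smul a v := cj A V hAV a v
  one_smul v := cj_one' A V hAV v
  mul_smul a b v := (cj_mul A V hAV a b v).symm

include hAV in
/-- A fixed-point-free action is coprime. -/
theorem fpf_coprime [Finite G] (hfpf : ∀ a ∈ A, a ≠ 1 → V ⊓ Subgroup.centralizer {a} = ⊥) :
    (Nat.card A).Coprime (Nat.card V) := by
  rw [Nat.coprime_iff_gcd_eq_one] 
  by_contra hne
  obtain ⟨r, hr, hrd⟩ := Nat.exists_prime_and_dvd hne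
  have hrA : r ∣ Nat.card A := hrd.trans (Nat.gcd_dvd_left _ _)
  have hrV : r ∣ Nat.card V := hrd.trans (Nat.gcd_dvd_right _ _)
  have : Fact r.Prime := ⟨hr⟩
  obtain ⟨a, ha⟩ := exists_prime_orderOf_dvd_card' r hrA
  have hP : IsPGroup r (Subgroup.zpowers a) := by
    apply IsPGroup.of_card (n := 1)
    rw [Nat.card_zpowers, ha, pow_one]
  let _ : MulAction A V := cjAction A V hAV
  have h1 : (1 : V) ∈ MulAction.fixedPoints (Subgroup.zpowers a) V := by
    intro b
    show cj A V hAV (b : A) 1 = 1
    exact map_one _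
  obtain ⟨b, hb, hb1⟩ := hP.exists_fixed_point_of_prime_dvd_card_of_fixed_point (α := V) hrV h1
  have ha1 : a ≠ 1 := by
    intro h
    rw [h, orderOf_one] at ha
    exact hr.one_lt.ne ha
  have h2 : cj A V hAV a b = b := hb ⟨a, Subgroup.mem_zpowers a⟩
  exact hb1 (fpf_cj A V hAV hfpf a ha1 b h2).symm

end FpfNorm


section Abstract

open Classical in
theorem double_count_sum {A : Type*} [Group A] [Fintype A] (S : Finset (Subgroup A)) :
    ∑ B ∈ S, (Finset.univ.filter (· ∈ B)).card
      = ∑ a : A, (S.filter (fun B => a ∈ B)).card := by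
  simp_rw [Finset.card_eq_sum_ones, Finset.sum_filter]
  rw [Finset.sum_comm]

open Classical in
theorem double_count {A M : Type*} [Group A] [Fintype A] [CommMonoid M] (S : Finset (Subgroup A)) (f : A → M) :
    ∏ B ∈ S, ∏ a ∈ Finset.univ.filter (· ∈ B), f a
      = ∏ a : A, f a ^ (S.filter (fun B => a ∈ B)).card := by
  simp_rw [Finset.prod_filter]
  rw [Finset.prod_comm]
  refine Finset.prod_congr rfl (fun a _ => ?_)
  rw [← Finset.prod_filter, Finset.prod_const]

variable {A V : Type*} [Group A] [CommGroup V]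
    (c : A → V →* V) (hmul : ∀ a b v, c a (c b v) = c (a * b) v)
    (hfpf : ∀ a, a ≠ 1 → ∀ v, c a v = v → v = 1)

include hmul hfpf in
theorem norm_eq_one [Fintype A] (B : Subgroup A) [DecidablePred (· ∈ B)] (hB : B ≠ ⊥) (v : V) :
    ∏ a ∈ Finset.univ.filter (· ∈ B), c a v = 1 := by
  obtain ⟨⟨b, hb⟩, hb1⟩ := (Subgroup.ne_bot_iff_exists_ne_one.mp hB)
  have hb1' : b ≠ 1 := fun h => hb1 (Subtype.ext h)
  apply hfpf b hb1'
  rw [map_prod]
  simp_rw [hmul]
  refine Finset.prod_equiv (Equiv.mulLeft b) ?_ ?_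
  · intro a
    simp only [Finset.mem_filter, Finset.mem_univ, true_and, Equiv.coe_mulLeft]
    exact (Subgroup.mul_mem_cancel_left B hb).symm
  · intro a _
    rfl

/-- membership in a normal subgroup of prime index of elements of coprime order -/
theorem mem_of_pow_eq_one [Finite A] (Q : Subgroup A) [Q.Normal] (p q : ℕ) (hpq : p.Coprime q)
    (hidx : Q.index = p) (g : A) (hg : g ^ q = 1) : g ∈ Q := by
  rw [← QuotientGroup.eq_one_iff]
  have h1 : (QuotientGroup.mk g : A ⧸ Q) ^ p = 1 := by
    have := pow_card_eq_one' (G := A ⧸ Q) (x := (QuotientGroup.mk g : A ⧸ Q))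
    rwa [← Subgroup.index_eq_card, hidx] at this
  have h2 : (QuotientGroup.mk g : A ⧸ Q) ^ q = 1 := by
    rw [← QuotientGroup.mk_pow, hg]; rfl
  have := pow_gcd_eq_one.mpr ⟨h1, h2⟩
  rwa [Nat.Coprime.gcd_eq_one hpq, pow_one] at this

theorem orderOf_eq_of_not_mem [Finite A] (Q : Subgroup A) [Q.Normal] (p q : ℕ) (hp : p.Prime) (hq : q.Prime)
    (hpq : p ≠ q) (hcard : Nat.card A = p * q) (hidx : Q.index = p) (hnc : ¬ IsCyclic A)
    (g : A) (hg : g ∉ Q) : orderOf g = p := by
  have hcop : p.Coprime q := (Nat.coprime_primes hp hq).mpr hpq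
  have h1 : orderOf g ∣ p * q := hcard ▸ orderOf_dvd_natCard g
  obtain ⟨d1, d2, hd1, hd2, hd⟩ := (Nat.dvd_mul).mp h1
  rcases (Nat.dvd_prime hp).mp hd1 with h1' | h1' <;> rcases (Nat.dvd_prime hq).mp hd2 with h2' | h2'
  · exfalso
    rw [h1', h2', one_mul] at hd
    rw [eq_comm, orderOf_eq_one_iff] at hd
    exact hg (hd ▸ Q.one_mem)
  · exfalso
    rw [h1', h2', one_mul] at hd
    exact hg (mem_of_pow_eq_one Q p q hcop hidx g (hd ▸ pow_orderOf_eq_one g))
  · rw [h1', h2', mul_one] at hd
    exact hd.symm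
  · exfalso
    rw [h1', h2'] at hd
    exact hnc (isCyclic_of_orderOf_eq_card g (by rw [← hd, hcard]))

include hmul hfpf in
theorem fpf_pq_aux [Finite A] [Finite V] (hone : ∀ v, c 1 v = v)
    (p q : ℕ) (hp : p.Prime) (hq : q.Prime) (hpq : p < q) (hcard : Nat.card A = p * q)
    (hqV : ¬ q ∣ Nat.card V) (hnc : ¬ IsCyclic A) (v : V) : v = 1 := by
  classical
  have : Fintype A := Fintype.ofFinite A
  have : Fintype (Subgroup A) := Fintype.ofFinite _
  have : Fact q.Prime := ⟨hq⟩
  obtain ⟨Q, hQ⟩ := Sylow.exists_subgroup_card_pow_prime q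
    (show q ^ 1 ∣ Nat.card A from by rw [pow_one, hcard]; exact dvd_mul_left q p)
  rw [pow_one] at hQ
  have hidx : Q.index = p := by
    have := Q.card_mul_index
    rw [hQ, hcard, mul_comm p q] at this
    exact Nat.eq_of_mul_eq_mul_left hq.pos this
  have hmin : (Nat.card A).minFac = p := by
    rw [hcard]
    have h1 : (p * q).minFac ∣ p * q := Nat.minFac_dvd _
    have h2 : (p * q).minFac.Prime := Nat.minFac_prime (by
      have := hp.two_le; have := hq.two_le; nlinarith)
    have h3 : (p * q).minFac ≤ p := Nat.minFac_le_of_dvd hp.two_le (dvd_mul_right p q)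
    rcases (Nat.Prime.dvd_mul h2).mp h1 with h | h
    · exact (Nat.prime_dvd_prime_iff_eq h2 hp).mp h
    · have := (Nat.prime_dvd_prime_iff_eq h2 hq).mp h
      omega
  have hQn : Q.Normal := Subgroup.normal_of_index_eq_minFac_card (hidx.trans hmin.symm)
  have hne : p ≠ q := hpq.ne
  have hcop : p.Coprime q := (Nat.coprime_primes hp hq).mpr hne
  obtain ⟨S, hS⟩ : ∃ S : Finset (Subgroup A), S = Finset.univ.filter (fun B : Subgroup A => Nat.card B = p) := ⟨_, rfl⟩
  have hSmem : ∀ B, B ∈ S ↔ Nat.card B = p := by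
    intro B; rw [hS]; simp
  obtain ⟨m, hm⟩ : ∃ m, m = S.card := ⟨_, rfl⟩
  have hw : ∀ a : A, (S.filter (fun B => a ∈ B)).card + (if a ∈ Q then 1 else 0)
      = 1 + (if a = 1 then m else 0) := by
    intro a
    by_cases ha1 : a = 1
    · subst ha1
      rw [if_pos Q.one_mem, if_pos rfl, hm, add_comm]
      congr 1
      rw [Finset.filter_true_of_mem]
      intro B _
      exact B.one_mem
    · rw [if_neg ha1, add_zero]
      by_cases haQ : a ∈ Q
      · rw [if_pos haQ]
        have : S.filter (fun B => a ∈ B) = ∅ := by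
          rw [Finset.filter_eq_empty_iff]
          intro B hB haB
          rw [hSmem] at hB
          have h1 : orderOf a ∣ p := by
            have := orderOf_dvd_natCard (⟨a, haB⟩ : B)
            rwa [hB, Subgroup.orderOf_mk] at this
          have h2 : orderOf a ∣ q := by
            have := orderOf_dvd_natCard (⟨a, haQ⟩ : Q)
            rwa [hQ, Subgroup.orderOf_mk] at this
          have h3 : orderOf a = 1 := Nat.eq_one_of_dvd_coprimes hcop h1 h2
          exact ha1 (orderOf_eq_one_iff.mp h3)
        rw [this, Finset.card_empty]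
      · rw [if_neg haQ, add_zero]
        have hord := orderOf_eq_of_not_mem Q p q hp hq hne hcard hidx hnc a haQ
        have : S.filter (fun B => a ∈ B) = {Subgroup.zpowers a} := by
          ext B
          rw [Finset.mem_filter, Finset.mem_singleton, hSmem]
          constructor
          · rintro ⟨hB, haB⟩
            symm
            apply Subgroup.eq_of_le_of_card_ge
            · rwa [Subgroup.zpowers_le]
            · rw [hB, Nat.card_zpowers, hord]
          · rintro rfl
            exact ⟨by rw [Nat.card_zpowers, hord], Subgroup.mem_zpowers a⟩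
        rw [this, Finset.card_singleton]
  have hN : ∀ B : Subgroup A, B ≠ ⊥ → ∏ a ∈ Finset.univ.filter (· ∈ B), c a v = 1 :=
    fun B hB => norm_eq_one c hmul hfpf B hB v
  have hSne : ∀ B ∈ S, B ≠ ⊥ := by
    intro B hB h
    rw [hSmem, h, Subgroup.card_bot] at hB
    exact hp.one_lt.ne hB
  have hQne : Q ≠ ⊥ := by
    intro h
    rw [h, Subgroup.card_bot] at hQ
    exact hq.one_lt.ne hQ
  have htop : (⊤ : Subgroup A) ≠ ⊥ := fun h => hQne (by rw [eq_bot_iff, ← h]; exact le_top)
  -- the product identity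
  have hL : ∏ a : A, (c a v) ^ ((S.filter (fun B => a ∈ B)).card + (if a ∈ Q then 1 else 0)) = 1 := by
    simp_rw [pow_add]
    rw [Finset.prod_mul_distrib, ← double_count S (fun a => c a v)]
    rw [Finset.prod_eq_one (fun B hB => hN B (hSne B hB)), one_mul]
    rw [← hN Q hQne, Finset.prod_filter]
    refine Finset.prod_congr rfl (fun a _ => ?_)
    split_ifs <;> simp
  have hR : ∏ a : A, (c a v) ^ (1 + (if a = 1 then m else 0)) = v ^ m := by
    simp_rw [pow_add, pow_one]
    rw [Finset.prod_mul_distrib]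
    have h1 : ∏ a : A, c a v = 1 := by
      rw [← hN ⊤ htop]
      rw [Finset.filter_true_of_mem]
      intro a _
      exact Subgroup.mem_top a
    rw [h1, one_mul, Finset.prod_eq_single 1]
    · rw [if_pos rfl, hone]
    · intro b _ hb
      rw [if_neg hb, pow_zero]
    · intro h
      exact absurd (Finset.mem_univ _) h
  have hvm : v ^ m = 1 := by
    rw [← hR, ← hL]
    refine Finset.prod_congr rfl (fun a _ => ?_)
    rw [hw]
  -- the count
  have hcount : m * p + q = p * q + m := by
    have h1 : ∑ a : A, ((S.filter (fun B => a ∈ B)).card + (if a ∈ Q then 1 else 0)) = m * p + q := by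
      rw [Finset.sum_add_distrib]
      congr 1
      · rw [← double_count_sum S]
        rw [hm, ← smul_eq_mul, ← Finset.sum_const]
        refine Finset.sum_congr rfl (fun B hB => ?_)
        rw [hSmem] at hB
        rw [← hB, Nat.card_eq_fintype_card, Fintype.card_subtype]
      · rw [← Finset.sum_filter, Finset.sum_const, smul_eq_mul, mul_one, ← hQ, Nat.card_eq_fintype_card,
          Fintype.card_subtype]
    have h2 : ∑ a : A, (1 + (if a = 1 then m else 0)) = p * q + m := by
      rw [Finset.sum_add_distrib, Finset.sum_const, smul_eq_mul, mul_one, Finset.card_univ,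
        ← Nat.card_eq_fintype_card, hcard, Finset.sum_ite_eq']
      simp
    rw [← h1, ← h2]
    exact Finset.sum_congr rfl (fun a _ => hw a)
  have hmq : m = q := by
    obtain ⟨k, rfl⟩ : ∃ k, p = k + 1 := ⟨p - 1, by have := hp.one_lt; omega⟩
    have hk : 0 < k := by have := hp.one_lt; omega
    have : k * m = k * q := by nlinarith
    exact Nat.eq_of_mul_eq_mul_left hk this
  rw [hmq] at hvm
  have h1 : orderOf v ∣ q := orderOf_dvd_of_pow_eq_one hvm
  have h2 : orderOf v ∣ Nat.card V := orderOf_dvd_natCard v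
  rcases (Nat.dvd_prime hq).mp h1 with h | h
  · exact orderOf_eq_one_iff.mp h
  · exact absurd (h ▸ h2) hqV

end Abstract


end Cfsg.Agent.Lib.Helper13
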