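import Mathlib
import Cfsg.Agent.S0041
import Cfsg.Agent.S0144
import Cfsg.Agent.Lib.Helper13.CoprimeSylow

set_option autoImplicit false
open Cfsg
open scoped IsMulCommutative

universe u

namespace Cfsg.Agent.Lib.Helper13

/-- the normaliser of `R` normalises `Z(R) = R ⊓ C(R)`. -/
theorem normalizer_le_normalizer_inf_centralizer {G : Type*} [Group G] (R : Subgroup G) :
    Subgroup.normalizer (R : Set G) ≤
      Subgroup.normalizer ((R ⊓ Subgroup.centralizer (R : Set G) : Subgroup G) : Set G) := by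
  have key : ∀ g : G, g ∈ Subgroup.normalizer (R : Set G) → ∀ z, z ∈ R ⊓ Subgroup.centralizer (R : Set G) →
      g * z * g⁻¹ ∈ R ⊓ Subgroup.centralizer (R : Set G) := by
    intro g hg z hz
    refine ⟨(Subgroup.mem_normalizer_iff.mp hg z).mp hz.1, ?_⟩
    show g * z * g⁻¹ ∈ Subgroup.centralizer (R : Set G)
    rw [Subgroup.mem_centralizer_iff]
    intro r hr
    have h1 : g⁻¹ * r * g ∈ R := by
      have := (Subgroup.mem_normalizer_iff.mp (Subgroup.inv_mem _ hg) r).mp hr
      simpa using this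
    have h2 := (Subgroup.mem_centralizer_iff.mp hz.2) _ h1
    calc r * (g * z * g⁻¹) = g * ((g⁻¹ * r * g) * z) * g⁻¹ := by group
      _ = g * (z * (g⁻¹ * r * g)) * g⁻¹ := by rw [h2]
      _ = g * z * g⁻¹ * r := by group
  intro g hg
  rw [Subgroup.mem_normalizer_iff]
  intro z
  constructor
  · exact key g hg z
  · intro h
    have := key g⁻¹ (Subgroup.inv_mem _ hg) _ h
    have e : g⁻¹ * (g * z * g⁻¹) * g⁻¹⁻¹ = z := by group
    rwa [e] at this

theorem isMulCommutative_inf_centralizer {G : Type*} [Group G] (R : Subgroup G) :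
    IsMulCommutative (R ⊓ Subgroup.centralizer (R : Set G) : Subgroup G) := by
  refine ⟨⟨fun a b => ?_⟩⟩
  have := (Subgroup.mem_centralizer_iff.mp b.2.2) a a.2.1
  exact Subtype.ext this

theorem inf_centralizer_ne_bot {G : Type*} [Group G] [Finite G] (p : ℕ) [Fact p.Prime]
    (R : Subgroup G) (hR : IsPGroup p R) (hne : R ≠ ⊥) :
    R ⊓ Subgroup.centralizer (R : Set G) ≠ ⊥ := by
  have : Nontrivial R := (Subgroup.nontrivial_iff_ne_bot R).mpr hne
  have := hR.center_nontrivial
  obtain ⟨z, hz⟩ := exists_ne (1 : Subgroup.center R)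
  intro h
  have h1 : ((z : R) : G) ∈ R ⊓ Subgroup.centralizer (R : Set G) := by
    refine ⟨(z : R).2, ?_⟩
    show ((z : R) : G) ∈ Subgroup.centralizer (R : Set G)
    rw [Subgroup.mem_centralizer_iff]
    intro r hr
    have := (Subgroup.mem_center_iff.mp z.2) ⟨r, hr⟩
    exact congrArg Subtype.val this
  rw [h, Subgroup.mem_bot] at h1
  apply hz
  ext
  exact h1

/-- A group acting fixed-point-freely on a nontrivial (not necessarily abelian) group is cyclic
when abelian or of order `pq`. -/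
theorem fpf_cyclic {G : Type u} [Group G] [Finite G] (A K : Subgroup G) (hK : K ≠ ⊥)
    (hAK : A ≤ Subgroup.normalizer (K : Set G))
    (hfpf : ∀ a ∈ A, a ≠ 1 → K ⊓ Subgroup.centralizer {a} = ⊥)
    (hA : IsMulCommutative A ∨ ∃ p q : ℕ, p.Prime ∧ q.Prime ∧ Nat.card A = p * q) : IsCyclic A := by
  have hcop := fpf_coprime A K hAK hfpf
  have hsolv : Group.IsSolvable A := by
    rcases hA with hA | ⟨p, q, hp, hq, hcard⟩
    · exact Group.isSolvable_of_comm (fun a b => mul_comm a b)
    · exact Cfsg.Agent.S0144.result p q 1 1 hp hq (by rw [hcard, pow_one, pow_one])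
  have hK1 : Nat.card K ≠ 1 := by
    intro h
    exact hK (Subgroup.card_eq_one.mp h)
  obtain ⟨r, hr, hrK⟩ := Nat.exists_prime_and_dvd hK1
  have : Fact r.Prime := ⟨hr⟩
  obtain ⟨R, hR⟩ := exists_invariant_sylow A K hAK hcop (Or.inl hsolv) r
  obtain ⟨R', hR'⟩ : ∃ R' : Subgroup G, R' = (R : Subgroup K).map K.subtype := ⟨_, rfl⟩
  rw [← hR'] at hR
  have hR'K : R' ≤ K := hR' ▸ Subgroup.map_subtype_le _
  have hR'p : IsPGroup r R' := by
    rw [hR']
    exact R.2.map _
  have hR'ne : R' ≠ ⊥ := by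
    intro h
    have h1 : Nat.card R' = Nat.card (R : Subgroup K) := by
      rw [hR']
      exact Subgroup.card_map_of_injective K.subtype_injective
    rw [h, Subgroup.card_bot, Sylow.card_eq_multiplicity] at h1
    have h2 : 0 < (Nat.card K).factorization r :=
      (hr.factorization_pos_of_dvd Nat.card_pos.ne' hrK)
    have := Nat.one_lt_pow h2.ne' hr.one_lt
    omega
  obtain ⟨V, hV⟩ : ∃ V : Subgroup G, V = R' ⊓ Subgroup.centralizer (R' : Set G) := ⟨_, rfl⟩
  have hVK : V ≤ K := hV ▸ inf_le_left.trans hR'K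
  have hVc : IsMulCommutative V := hV ▸ isMulCommutative_inf_centralizer R'
  have hVne : V ≠ ⊥ := hV ▸ inf_centralizer_ne_bot r R' hR'p hR'ne
  have hAV : A ≤ Subgroup.normalizer (V : Set G) :=
    hV ▸ hR.trans (normalizer_le_normalizer_inf_centralizer R')
  apply Cfsg.Agent.S0041.result A V hVne hAV _ hA
  intro a ha ha1
  rw [eq_bot_iff, ← hfpf a ha ha1]
  exact inf_le_inf_right _ hVK

end Cfsg.Agent.Lib.Helper13
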