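import Mathlib
import Cfsg.Agent.S0035
import Cfsg.Agent.Lib.Helper13.FpfCyclic
import Cfsg.Agent.Lib.Helper13.Coprime

set_option autoImplicit false
open Cfsg
open scoped IsMulCommutative Pointwise

universe u

namespace Cfsg.Agent.Lib.Helper13

/-- `H` is a Frobenius complement with Frobenius kernel `N`. -/
structure FrobData {G : Type*} [Group G] (H N : Subgroup G) : Prop where
  compl : IsFrobeniusComplement H
  normal : N.Normal
  isCompl : N.IsComplement' H
  mem : ∀ x, x ∈ N ↔ (x = 1 ∨ ∀ g : G, x ∉ MulAut.conj g • H)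

theorem exists_frobData {G : Type*} [Group G] [Finite G] (H : Subgroup G)
    (hH : IsFrobeniusComplement H) : ∃ N : Subgroup G, FrobData H N := by
  obtain ⟨N, hN, hn, hc⟩ := Cfsg.Agent.S0035.result H hH
  refine ⟨N, hH, hn, hc, ?_⟩
  intro x
  rw [← SetLike.mem_coe, hN]
  rfl

section

variable {G : Type u} [Group G] {H N : Subgroup G}

theorem FrobData.exists_cj_of_not_mem (hF : FrobData H N) {x : G} (hx : x ∉ N) :
    ∃ g : G, x ∈ MulAut.conj g • H := by
  by_contra h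
  push Not at h
  exact hx ((hF.mem x).mpr (Or.inr h))

theorem FrobData.mem_of_commute (hF : FrobData H N) {h g : G} (hh : h ∈ H) (h1 : h ≠ 1)
    (hg : g * h = h * g) : g ∈ H := by
  by_contra hgH
  have h2 := hF.compl.2.2 g hgH
  have h3 : h ∈ H ⊓ MulAut.conj g • H := by
    refine Subgroup.mem_inf.mpr ⟨hh, ?_⟩
    rw [mem_cj]
    have : g⁻¹ * h * g = h := by rw [mul_assoc, ← hg, ← mul_assoc, inv_mul_cancel, one_mul]
    rw [this]; exact hh
  rw [h2, Subgroup.mem_bot] at h3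
  exact h1 h3

theorem FrobData.normalizer_le (hF : FrobData H N) {L : Subgroup G} (hL : L ≤ H) (hL1 : L ≠ ⊥) :
    Subgroup.normalizer (L : Set G) ≤ H := by
  intro g hg
  by_contra hgH
  obtain ⟨⟨l, hl⟩, hl1⟩ := Subgroup.ne_bot_iff_exists_ne_one.mp hL1
  have hl1' : l ≠ 1 := fun h => hl1 (Subtype.ext h)
  have h2 := hF.compl.2.2 g hgH
  have h3 : l ∈ H ⊓ MulAut.conj g • H := by
    refine Subgroup.mem_inf.mpr ⟨hL hl, ?_⟩
    rw [mem_cj]
    have := (Subgroup.mem_normalizer_iff.mp (Subgroup.inv_mem _ hg) l).mp hl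
    rw [inv_inv] at this
    exact hL this
  rw [h2, Subgroup.mem_bot] at h3
  exact hl1' h3

theorem FrobData.fpf (hF : FrobData H N) : ∀ h ∈ H, h ≠ 1 → N ⊓ Subgroup.centralizer {h} = ⊥ := by
  intro h hh h1
  rw [eq_bot_iff]
  intro x hx
  have hxc : x ∈ Subgroup.centralizer {h} := hx.2
  rw [Subgroup.mem_centralizer_iff] at hxc
  have h2 : x ∈ H := hF.mem_of_commute hh h1 (hxc h rfl).symm
  have h3 : x ∈ N ⊓ H := ⟨hx.1, h2⟩
  rwa [hF.isCompl.disjoint.eq_bot] at h3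

theorem FrobData.coprime [Finite G] (hF : FrobData H N) : (Nat.card H).Coprime (Nat.card N) := by
  have := hF.normal
  apply fpf_coprime H N _ hF.fpf
  rw [Subgroup.normalizer_eq_top]
  exact le_top

theorem isFrobeniusComplement_cj {H : Subgroup G} (hH : IsFrobeniusComplement H) (g : G) :
    IsFrobeniusComplement (MulAut.conj g • H) := by
  refine ⟨?_, ?_, ?_⟩
  · intro h
    apply hH.1
    rw [eq_bot_iff]
    intro x hx
    have h1 : g * x * g⁻¹ ∈ MulAut.conj g • H := by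
      rw [mem_cj]
      have : g⁻¹ * (g * x * g⁻¹) * g = x := by group
      rwa [this]
    rw [h, Subgroup.mem_bot] at h1
    rw [Subgroup.mem_bot]
    have : x = g⁻¹ * (g * x * g⁻¹) * g := by group
    rw [this, h1]; group
  · intro h
    apply hH.2.1
    rw [eq_top_iff]
    intro x _
    have h1 : g * x * g⁻¹ ∈ MulAut.conj g • H := by
      rw [h]; trivial
    rw [mem_cj] at h1
    have : g⁻¹ * (g * x * g⁻¹) * g = x := by group
    rwa [this] at h1
  · intro x hx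
    have hx' : g⁻¹ * x * g ∉ H := by rwa [mem_cj] at hx
    have h1 := hH.2.2 _ hx'
    have h2 : MulAut.conj g • H ⊓ MulAut.conj x • MulAut.conj g • H
        = MulAut.conj g • (H ⊓ MulAut.conj (g⁻¹ * x * g) • H) := by
      rw [Subgroup.smul_inf, ← cj_mul, ← cj_mul]
      congr 3
      group
    rw [h2, h1]
    simp

theorem FrobData.cj (hF : FrobData H N) (g : G) : FrobData (MulAut.conj g • H) N := by
  have := hF.normal
  refine ⟨isFrobeniusComplement_cj hF.compl g, hF.normal, isComplement'_cj hF.isCompl g, ?_⟩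
  intro x
  rw [hF.mem x]
  constructor
  · rintro (h | h)
    · exact Or.inl h
    · right
      intro a
      rw [← cj_mul]
      exact h _
  · rintro (h | h)
    · exact Or.inl h
    · right
      intro a
      have := h (a * g⁻¹)
      rwa [← cj_mul, inv_mul_cancel_right] at this

/-- a normal subgroup of a Frobenius group is comparable with the kernel -/
theorem FrobData.le_or_le [Finite G] (hF : FrobData H N) (M : Subgroup G) [M.Normal] :
    M ≤ N ∨ N ≤ M := by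
  by_contra hcon
  push Not at hcon
  obtain ⟨hMN, hNM⟩ := hcon
  obtain ⟨m, hmM, hmN⟩ := SetLike.not_le_iff_exists.mp hMN
  obtain ⟨g, hg⟩ := hF.exists_cj_of_not_mem hmN
  rw [mem_cj] at hg
  obtain ⟨h, hh⟩ : ∃ h, h = g⁻¹ * m * g := ⟨_, rfl⟩
  rw [← hh] at hg
  have hhM : h ∈ M := by
    rw [hh]
    have := Subgroup.Normal.conj_mem (inferInstance : M.Normal) m hmM g⁻¹
    rwa [inv_inv] at this
  have hh1 : h ≠ 1 := by
    intro e
    apply hmN
    have : m = g * h * g⁻¹ := by rw [hh]; group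
    rw [this, e]
    simp
  have hNn := hF.normal
  have hfp := hF.fpf h hg hh1
  have hmemN : ∀ n : N, (n : G)⁻¹ * h⁻¹ * n * h ∈ N := by
    intro n
    have h1 : h⁻¹ * (n : G) * h ∈ N := by
      have := hNn.conj_mem n n.2 h⁻¹
      rwa [inv_inv] at this
    have : (n : G)⁻¹ * h⁻¹ * n * h = (n : G)⁻¹ * (h⁻¹ * n * h) := by group
    rw [this]
    exact N.mul_mem (N.inv_mem n.2) h1
  obtain ⟨f, hf⟩ : ∃ f : N → N, ∀ n, ((f n : N) : G) = (n : G)⁻¹ * h⁻¹ * n * h :=
    ⟨fun n => ⟨_, hmemN n⟩, fun _ => rfl⟩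
  have hinj : Function.Injective f := by
    intro a b hab
    have e : (a : G)⁻¹ * h⁻¹ * a * h = (b : G)⁻¹ * h⁻¹ * b * h := by
      rw [← hf a, ← hf b, hab]
    have e1 : h⁻¹ * (a : G) * h = a * ((a : G)⁻¹ * h⁻¹ * a * h) := by group
    have e2 : h⁻¹ * (b : G) * h = b * ((b : G)⁻¹ * h⁻¹ * b * h) := by group
    have e3 : h⁻¹ * ((b : G) * (a : G)⁻¹) * h = b * (a : G)⁻¹ := by
      calc h⁻¹ * ((b : G) * (a : G)⁻¹) * h = (h⁻¹ * b * h) * (h⁻¹ * a * h)⁻¹ := by group
        _ = b * ((b : G)⁻¹ * h⁻¹ * b * h) * (a * ((a : G)⁻¹ * h⁻¹ * a * h))⁻¹ := by rw [e1, e2]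
        _ = b * ((a : G)⁻¹ * h⁻¹ * a * h) * (a * ((a : G)⁻¹ * h⁻¹ * a * h))⁻¹ := by rw [e]
        _ = b * (a : G)⁻¹ := by group
    have e4 : (b : G) * (a : G)⁻¹ ∈ N ⊓ Subgroup.centralizer {h} := by
      refine Subgroup.mem_inf.mpr ⟨N.mul_mem b.2 (N.inv_mem a.2), ?_⟩
      rw [Subgroup.mem_centralizer_iff]
      intro y hy
      rw [Set.mem_singleton_iff] at hy
      subst hy
      calc y * ((b : G) * (a : G)⁻¹) = y * (y⁻¹ * ((b : G) * (a : G)⁻¹) * y) := by rw [e3]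
        _ = (b : G) * (a : G)⁻¹ * y := by group
    rw [hfp, Subgroup.mem_bot] at e4
    have : (b : G) = a := by
      calc (b : G) = (b : G) * (a : G)⁻¹ * a := by group
        _ = a := by rw [e4, one_mul]
    exact (Subtype.ext this).symm
  have hsurj := Finite.injective_iff_surjective.mp hinj
  apply hNM
  intro n hn
  obtain ⟨n', hn'⟩ := hsurj ⟨n, hn⟩
  have e : n = (n' : G)⁻¹ * h⁻¹ * n' * h := by
    rw [← hf n', hn']
  rw [e]
  have h1 : (n' : G)⁻¹ * h⁻¹ * n' ∈ M := by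
    have := Subgroup.Normal.conj_mem (inferInstance : M.Normal) h⁻¹ (M.inv_mem hhM) (n' : G)⁻¹
    rwa [inv_inv] at this
  exact M.mul_mem h1 hhM

/-- a subgroup meeting the kernel trivially lies in a conjugate of the complement -/
theorem FrobData.le_cj_of_inf_eq_bot_aux [Finite G] (hF : FrobData H N) (n : ℕ) :
    ∀ H₁ : Subgroup G, Nat.card H₁ = n → H₁ ⊓ N = ⊥ → ∃ g : G, H₁ ≤ MulAut.conj g • H := by
  induction n using Nat.strong_induction_on with
  | _ n ih =>
  intro H₁ hcard hH₁N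
  by_cases hbot : H₁ = ⊥
  · exact ⟨1, hbot ▸ bot_le⟩
  obtain ⟨⟨x, hx⟩, hx1⟩ := Subgroup.ne_bot_iff_exists_ne_one.mp hbot
  have hx1' : x ≠ 1 := fun h => hx1 (Subtype.ext h)
  have hxN : x ∉ N := by
    intro h
    have : x ∈ H₁ ⊓ N := Subgroup.mem_inf.mpr ⟨hx, h⟩
    rw [hH₁N, Subgroup.mem_bot] at this
    exact hx1' this
  obtain ⟨g, hg⟩ := hF.exists_cj_of_not_mem hxN
  have hFg := hF.cj g
  obtain ⟨C, hC⟩ : ∃ C, C = MulAut.conj g • H := ⟨_, rfl⟩
  rw [← hC] at hg hFg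
  by_cases hle : H₁ ≤ C
  · exact ⟨g, hC ▸ hle⟩
  have hS : IsFrobeniusComplement ((H₁ ⊓ C).subgroupOf H₁) := by
    refine ⟨?_, ?_, ?_⟩
    · intro h
      have : (⟨x, hx⟩ : H₁) ∈ (H₁ ⊓ C).subgroupOf H₁ := by
        rw [Subgroup.mem_subgroupOf]; exact Subgroup.mem_inf.mpr ⟨hx, hg⟩
      rw [h, Subgroup.mem_bot] at this
      exact hx1 this
    · intro h
      apply hle
      intro y hy
      have : (⟨y, hy⟩ : H₁) ∈ (H₁ ⊓ C).subgroupOf H₁ := by rw [h]; trivial
      rw [Subgroup.mem_subgroupOf] at this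
      exact (Subgroup.mem_inf.mp this).2
    · intro y hy
      rw [eq_bot_iff]
      intro z hz
      obtain ⟨hz1, hz2⟩ := Subgroup.mem_inf.mp hz
      rw [mem_cj] at hz2
      rw [Subgroup.mem_subgroupOf] at hz1 hz2 hy
      have hyC : (y : G) ∉ C := fun h => hy (Subgroup.mem_inf.mpr ⟨y.2, h⟩)
      have h1 := hFg.compl.2.2 (y : G) hyC
      have h2 : (z : G) ∈ C ⊓ MulAut.conj (y : G) • C := by
        refine Subgroup.mem_inf.mpr ⟨(Subgroup.mem_inf.mp hz1).2, ?_⟩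
        rw [mem_cj]
        have := (Subgroup.mem_inf.mp hz2).2
        simpa using this
      rw [h1, Subgroup.mem_bot] at h2
      rw [Subgroup.mem_bot]
      exact Subtype.ext h2
  obtain ⟨N₁, hF₁⟩ := exists_frobData _ hS
  have hN₁ne : N₁ ≠ ⊥ := by
    intro h
    have := hF₁.isCompl
    rw [h] at this
    exact hS.2.1 (Subgroup.isComplement'_bot_left.mp this)
  have hN₁card : Nat.card N₁ < Nat.card H₁ := by
    have h1 := hF₁.isCompl.card_mul_card
    have h2 : 1 < Nat.card ((H₁ ⊓ C).subgroupOf H₁) := (Subgroup.one_lt_card_iff_ne_bot _).mpr hS.1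
    have h3 : 0 < Nat.card N₁ := Nat.card_pos
    nlinarith
  obtain ⟨N₁', hN₁'⟩ : ∃ N₁' : Subgroup G, N₁' = N₁.map H₁.subtype := ⟨_, rfl⟩
  have hN₁'le : N₁' ≤ H₁ := hN₁' ▸ Subgroup.map_subtype_le _
  have hN₁'card : Nat.card N₁' = Nat.card N₁ := by
    rw [hN₁']; exact Subgroup.card_map_of_injective H₁.subtype_injective
  have hN₁'N : N₁' ⊓ N = ⊥ := by
    rw [eq_bot_iff, ← hH₁N]; exact inf_le_inf_right _ hN₁'le
  obtain ⟨g₁, hg₁⟩ := ih (Nat.card N₁') (by rw [hN₁'card, ← hcard]; exact hN₁card) N₁' rfl hN₁'N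
  have hN₁'ne : N₁' ≠ ⊥ := by
    intro h; apply hN₁ne; rw [hN₁'] at h
    exact (Subgroup.map_eq_bot_iff_of_injective _ H₁.subtype_injective).mp h
  have hnorm : H₁ ≤ Subgroup.normalizer (N₁' : Set G) := by
    rw [← Subgroup.normal_subgroupOf_iff_le_normalizer hN₁'le]
    have e : N₁'.subgroupOf H₁ = N₁ := by
      rw [hN₁', ← Subgroup.comap_subtype]
      exact Subgroup.comap_map_eq_self_of_injective H₁.subtype_injective N₁
    rw [e]
    exact hF₁.normal
  exact ⟨g₁, hnorm.trans ((hF.cj g₁).normalizer_le hg₁ hN₁'ne)⟩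

theorem FrobData.le_cj_of_inf_eq_bot [Finite G] (hF : FrobData H N) (H₁ : Subgroup G)
    (h : H₁ ⊓ N = ⊥) : ∃ g : G, H₁ ≤ MulAut.conj g • H :=
  hF.le_cj_of_inf_eq_bot_aux _ H₁ rfl h

end

end Cfsg.Agent.Lib.Helper13
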