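import Mathlib
import Cfsg.Agent.Lib.Helper13.FrobStruct

set_option autoImplicit false
open Cfsg
open scoped IsMulCommutative Pointwise

universe u

namespace Cfsg.Agent.Lib.Helper13

/-- In an element of prime order, every nontrivial power generates. -/
theorem centralizer_le_of_mem_zpowers {G : Type*} [Group G] [Finite G] {x a : G} {p : ℕ} (hp : p.Prime)
    (hx : orderOf x = p) (ha : a ∈ Subgroup.zpowers x) (ha1 : a ≠ 1) :
    Subgroup.centralizer {a} ≤ Subgroup.centralizer {x} := by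
  have h1 : Subgroup.zpowers a ≤ Subgroup.zpowers x := by rwa [Subgroup.zpowers_le]
  have h2 : Subgroup.zpowers a = Subgroup.zpowers x := by
    have hdvd : Nat.card (Subgroup.zpowers a) ∣ Nat.card (Subgroup.zpowers x) :=
      Subgroup.card_dvd_of_le h1
    rw [Nat.card_zpowers x, hx] at hdvd
    rcases (Nat.dvd_prime hp).mp hdvd with h | h
    · rw [Nat.card_zpowers, orderOf_eq_one_iff] at h
      exact absurd h ha1
    · apply Subgroup.eq_of_le_of_card_ge h1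
      rw [h, Nat.card_zpowers, hx]
  have hxa : x ∈ Subgroup.zpowers a := h2 ▸ Subgroup.mem_zpowers x
  obtain ⟨k, hk⟩ := Subgroup.mem_zpowers_iff.mp hxa
  intro g hg
  rw [Subgroup.mem_centralizer_iff] at hg ⊢
  intro y hy
  rw [Set.mem_singleton_iff] at hy
  subst hy
  have hc : Commute a g := hg a rfl
  rw [← hk]
  exact (hc.zpow_left k)

/-- the subgroup `{z ∈ Z | z ^ q = 1}` of an abelian subgroup `Z` -/
def omegaSub {G : Type*} [Group G] (Z : Subgroup G) (hZ : ∀ a ∈ Z, ∀ b ∈ Z, a * b = b * a) (q : ℕ) :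
    Subgroup G where
  carrier := {z | z ∈ Z ∧ z ^ q = 1}
  mul_mem' := by
    rintro a b ⟨ha, ha'⟩ ⟨hb, hb'⟩
    refine ⟨Z.mul_mem ha hb, ?_⟩
    rw [(show Commute a b from hZ a ha b hb).mul_pow, ha', hb', one_mul]
  one_mem' := ⟨Z.one_mem, one_pow q⟩
  inv_mem' := by
    rintro a ⟨ha, ha'⟩
    exact ⟨Z.inv_mem ha, by rw [inv_pow, ha', inv_one]⟩

theorem mem_omegaSub {G : Type*} [Group G] {Z : Subgroup G} {hZ : ∀ a ∈ Z, ∀ b ∈ Z, a * b = b * a}
    {q : ℕ} {z : G} : z ∈ omegaSub Z hZ q ↔ z ∈ Z ∧ z ^ q = 1 := Iff.rfl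

theorem mem_normalizer_omegaSub {G : Type*} [Group G] {Z : Subgroup G}
    {hZ : ∀ a ∈ Z, ∀ b ∈ Z, a * b = b * a} {q : ℕ} {x : G}
    (hx : x ∈ Subgroup.normalizer (Z : Set G)) :
    x ∈ Subgroup.normalizer (omegaSub Z hZ q : Set G) := by
  rw [Subgroup.mem_normalizer_iff]
  intro z
  rw [mem_omegaSub, mem_omegaSub, ← Subgroup.mem_normalizer_iff.mp hx z, conj_pow, conj_eq_one_iff]

/-- A Frobenius complement contains no Frobenius group `L ⋊ ⟨x⟩`. -/
theorem no_frobenius_in_complement {G : Type u} [Group G] [Finite G] (K H₀ : Subgroup G)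
    (hK : K ≠ ⊥) (hHK : H₀ ≤ Subgroup.normalizer (K : Set G))
    (hfpf : ∀ h ∈ H₀, h ≠ 1 → K ⊓ Subgroup.centralizer {h} = ⊥)
    (L : Subgroup G) (hL : L ≤ H₀) (hL1 : L ≠ ⊥) (x : G) (hx : x ∈ H₀) (p : ℕ) (hp : p.Prime)
    (hxp : orderOf x = p) (hxL : x ∈ Subgroup.normalizer (L : Set G))
    (hfx : L ⊓ Subgroup.centralizer {x} = ⊥) : False := by
  obtain ⟨X, hX⟩ : ∃ X, X = Subgroup.zpowers x := ⟨_, rfl⟩
  have hxX : x ∈ X := hX ▸ Subgroup.mem_zpowers x
  have hXL : X ≤ Subgroup.normalizer (L : Set G) := by rw [hX, Subgroup.zpowers_le]; exact hxL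
  have hXH : X ≤ H₀ := by rw [hX, Subgroup.zpowers_le]; exact hx
  have hXcard : Nat.card X = p := by rw [hX, Nat.card_zpowers, hxp]
  have hfX : ∀ a ∈ X, a ≠ 1 → L ⊓ Subgroup.centralizer {a} = ⊥ := by
    intro a ha ha1
    rw [eq_bot_iff, ← hfx]
    exact inf_le_inf_left _ (centralizer_le_of_mem_zpowers hp hxp (hX ▸ ha) ha1)
  have hcopL := fpf_coprime X L hXL hfX
  have hXsolv : Group.IsSolvable X := by
    rw [hX]
    exact Group.isSolvable_of_comm (fun a b => mul_comm a b)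
  have hL1' : Nat.card L ≠ 1 := fun h => hL1 (Subgroup.card_eq_one.mp h)
  obtain ⟨q, hq, hqL⟩ := Nat.exists_prime_and_dvd hL1'
  have : Fact q.Prime := ⟨hq⟩
  have hpq : p ≠ q := by
    rintro rfl
    rw [hXcard] at hcopL
    exact hp.one_lt.ne' (Nat.eq_one_of_dvd_coprimes hcopL dvd_rfl hqL)
  obtain ⟨Q, hQ⟩ := exists_invariant_sylow X L hXL hcopL (Or.inl hXsolv) q
  obtain ⟨Q', hQ'⟩ : ∃ Q' : Subgroup G, Q' = (Q : Subgroup L).map L.subtype := ⟨_, rfl⟩
  rw [← hQ'] at hQ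
  have hQ'L : Q' ≤ L := hQ' ▸ Subgroup.map_subtype_le _
  have hQ'q : IsPGroup q Q' := by rw [hQ']; exact Q.2.map _
  have hQ'ne : Q' ≠ ⊥ := by
    intro h
    have h1 : Nat.card Q' = Nat.card (Q : Subgroup L) := by
      rw [hQ']
      exact Subgroup.card_map_of_injective L.subtype_injective
    rw [h, Subgroup.card_bot, Sylow.card_eq_multiplicity] at h1
    have h2 : 0 < (Nat.card L).factorization q :=
      (hq.factorization_pos_of_dvd Nat.card_pos.ne' hqL)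
    have := Nat.one_lt_pow h2.ne' hq.one_lt
    omega
  obtain ⟨Z, hZ⟩ : ∃ Z : Subgroup G, Z = Q' ⊓ Subgroup.centralizer (Q' : Set G) := ⟨_, rfl⟩
  have hZQ : Z ≤ Q' := hZ ▸ inf_le_left
  have hZne : Z ≠ ⊥ := hZ ▸ inf_centralizer_ne_bot q Q' hQ'q hQ'ne
  have hZc : ∀ a ∈ Z, ∀ b ∈ Z, a * b = b * a := by
    intro a ha b hb
    rw [hZ] at ha hb
    exact (Subgroup.mem_centralizer_iff.mp (Subgroup.mem_inf.mp hb).2) a (Subgroup.mem_inf.mp ha).1
  have hXZ : X ≤ Subgroup.normalizer (Z : Set G) :=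
    hZ ▸ hQ.trans (normalizer_le_normalizer_inf_centralizer Q')
  have hZq : IsPGroup q Z := hQ'q.to_le hZQ
  obtain ⟨E, hE⟩ : ∃ E, E = omegaSub Z hZc q := ⟨_, rfl⟩
  have hEZ : E ≤ Z := by rw [hE]; intro z hz; exact hz.1
  have hEL : E ≤ L := hEZ.trans (hZQ.trans hQ'L)
  have hEH : E ≤ H₀ := hEL.trans hL
  have hEne : E ≠ ⊥ := by
    have hqZ : q ∣ Nat.card Z := by
      rcases hZq.card_eq_or_dvd with h | h
      · exact absurd (Subgroup.card_eq_one.mp h) hZne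
      · exact h
    obtain ⟨⟨z, hzZ⟩, hz⟩ := exists_prime_orderOf_dvd_card' q hqZ
    rw [Subgroup.orderOf_mk] at hz
    intro h
    have : z ∈ E := by rw [hE]; exact ⟨hzZ, by rw [← hz, pow_orderOf_eq_one]⟩
    rw [h, Subgroup.mem_bot] at this
    rw [this, orderOf_one] at hz
    exact hq.one_lt.ne hz
  have hEc : IsMulCommutative E := ⟨⟨fun a b => Subtype.ext (hZc a (hEZ a.2) b (hEZ b.2))⟩⟩
  have hxE : X ≤ Subgroup.normalizer (E : Set G) := by
    rw [hX, Subgroup.zpowers_le, hE]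
    exact mem_normalizer_omegaSub (hXZ hxX)
  have hEcyc : IsCyclic E :=
    fpf_cyclic E K hK (hEH.trans hHK) (fun a ha => hfpf a (hEH ha)) (Or.inl hEc)
  have hEcard : Nat.card E = q := by
    obtain ⟨e, he⟩ := IsCyclic.exists_ofOrder_eq_natCard (α := E)
    have h2 : (e : G) ^ q = 1 := by
      have h' : ∀ y ∈ E, y ^ q = 1 := by
        intro y hy
        rw [hE] at hy
        exact hy.2
      exact h' _ e.2
    have h3 : orderOf e ∣ q := by
      rw [← Subgroup.orderOf_coe]; exact orderOf_dvd_of_pow_eq_one h2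
    rcases (Nat.dvd_prime hq).mp h3 with h | h
    · exfalso; rw [he] at h; exact hEne (Subgroup.card_eq_one.mp h)
    · rw [← he, h]
  obtain ⟨A₂, hA₂⟩ : ∃ A₂, A₂ = E ⊔ X := ⟨_, rfl⟩
  have hEA : E ≤ A₂ := hA₂ ▸ le_sup_left
  have hXA : X ≤ A₂ := hA₂ ▸ le_sup_right
  have hA₂H : A₂ ≤ H₀ := hA₂ ▸ sup_le hEH hXH
  have hEX : E ⊓ X = ⊥ := (Subgroup.disjoint_of_coprime_natCard (by
    rw [hEcard, hXcard]; exact (Nat.coprime_primes hq hp).mpr hpq.symm)).eq_bot
  have hA₂norm : A₂ ≤ Subgroup.normalizer (E : Set G) :=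
    hA₂ ▸ sup_le Subgroup.le_normalizer hxE
  have hcompl := isComplement'_subgroupOf_of_le_normalizer hEA hXA hA₂norm hEX hA₂.symm
  have hA₂card : Nat.card A₂ = q * p := by
    rw [← hcompl.card_mul_card, card_subgroupOf_of_le hEA, card_subgroupOf_of_le hXA, hEcard, hXcard]
  have hA₂cyc : IsCyclic A₂ :=
    fpf_cyclic A₂ K hK (hA₂H.trans hHK) (fun a ha => hfpf a (hA₂H ha))
      (Or.inr ⟨q, p, hq, hp, hA₂card⟩)
  have hcomm : ∀ e ∈ E, e * x = x * e := by
    intro e he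
    have := mul_comm (⟨e, hEA he⟩ : A₂) ⟨x, hXA hxX⟩
    exact congrArg Subtype.val this
  apply hEne
  rw [eq_bot_iff, ← hfx]
  intro e he
  refine Subgroup.mem_inf.mpr ⟨hEL he, ?_⟩
  rw [Subgroup.mem_centralizer_iff]
  intro y hy
  rw [Set.mem_singleton_iff] at hy
  subst hy
  exact (hcomm e he).symm

theorem FrobData.kernel_eq_of_le {G : Type u} [Group G] [Finite G] {H N H₀ N₀ : Subgroup G}
    (hF : FrobData H N) (hF₀ : FrobData H₀ N₀) (hle : N₀ ≤ N) : N₀ = N := by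
  by_contra hne
  have hN := hF.normal
  have hN₀ := hF₀.normal
  obtain ⟨L, hLd⟩ : ∃ L, L = N ⊓ H₀ := ⟨_, rfl⟩
  have hL1 : L ≠ ⊥ := by
    intro h
    apply hne
    apply le_antisymm hle
    intro x hx
    have hx' : x ∈ N₀ ⊔ H₀ := by rw [hF₀.isCompl.sup_eq_top]; trivial
    obtain ⟨n₀, hn₀, h₀, hh₀, rfl⟩ := Subgroup.mem_sup_of_normal_left.mp hx'
    have h1 : h₀ ∈ L := by
      rw [hLd]
      refine Subgroup.mem_inf.mpr ⟨?_, hh₀⟩
      have := N.mul_mem (N.inv_mem (hle hn₀)) hx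
      simpa using this
    rw [h, Subgroup.mem_bot] at h1
    rw [h1, mul_one]
    exact hn₀
  have hLH : L ≤ H₀ := hLd ▸ inf_le_right
  have hLN : L ≤ N := hLd ▸ inf_le_left
  have hH₀L : H₀ ≤ Subgroup.normalizer (L : Set G) := by
    rw [hLd]
    exact le_normalizer_inf (by rw [Subgroup.normalizer_eq_top]; exact le_top) Subgroup.le_normalizer
  have hH1 : Nat.card H ≠ 1 := fun h => hF.compl.1 (Subgroup.card_eq_one.mp h)
  obtain ⟨p, hp, hpH⟩ := Nat.exists_prime_and_dvd hH1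
  have : Fact p.Prime := ⟨hp⟩
  have hcop := hF.coprime
  have hpN : ¬ p ∣ Nat.card N := fun h => hp.one_lt.ne' (Nat.eq_one_of_dvd_coprimes hcop hpH h)
  have hpH₀ : p ∣ Nat.card H₀ := by
    have e1 := hF.isCompl.card_mul_card
    have e2 := hF₀.isCompl.card_mul_card
    have h1 : p ∣ Nat.card N₀ * Nat.card H₀ := by
      rw [e2, ← e1]; exact dvd_mul_of_dvd_right hpH _
    rcases (Nat.Prime.dvd_mul hp).mp h1 with h | h
    · exact absurd (h.trans (Subgroup.card_dvd_of_le hle)) hpN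
    · exact h
  obtain ⟨⟨x₀, hx₀H⟩, hx₀⟩ := exists_prime_orderOf_dvd_card' p hpH₀
  rw [Subgroup.orderOf_mk] at hx₀
  have hx₀N : x₀ ∉ N := by
    intro h
    apply hpN
    rw [← hx₀, ← Subgroup.orderOf_mk x₀ h]
    exact orderOf_dvd_natCard _
  obtain ⟨g, hg⟩ := hF.exists_cj_of_not_mem hx₀N
  have hFg := hF.cj g
  have hx₀1 : x₀ ≠ 1 := by
    intro h; rw [h, orderOf_one] at hx₀; exact hp.one_lt.ne hx₀
  have hfx := hFg.fpf x₀ hg hx₀1
  have hN₀1 : N₀ ≠ ⊥ := by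
    intro h
    have := hF₀.isCompl
    rw [h] at this
    exact hF₀.compl.2.1 (Subgroup.isComplement'_bot_left.mp this)
  exact no_frobenius_in_complement N₀ H₀ hN₀1 (by rw [Subgroup.normalizer_eq_top]; exact le_top)
    hF₀.fpf L hLH hL1 x₀ hx₀H p hp hx₀ (hH₀L hx₀H)
    (by rw [eq_bot_iff, ← hfx]; exact inf_le_inf_right _ hLN)

/-- The Frobenius kernel does not depend on the complement. -/
theorem FrobData.kernel_unique {G : Type u} [Group G] [Finite G] {H N H₀ N₀ : Subgroup G}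
    (hF : FrobData H N) (hF₀ : FrobData H₀ N₀) : N₀ = N := by
  have := hF₀.normal
  rcases hF.le_or_le N₀ with h | h
  · exact hF.kernel_eq_of_le hF₀ h
  · exact (hF₀.kernel_eq_of_le hF h).symm

/-- All Frobenius complements are conjugate. -/
theorem frobenius_complements_conj {G : Type u} [Group G] [Finite G] (H H₀ : Subgroup G)
    (hH : IsFrobeniusComplement H) (hH₀ : IsFrobeniusComplement H₀) :
    ∃ g : G, MulAut.conj g • H₀ = H := by
  obtain ⟨N, hF⟩ := exists_frobData H hH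
  obtain ⟨N₀, hF₀⟩ := exists_frobData H₀ hH₀
  have hNN := hF.kernel_unique hF₀
  subst hNN
  obtain ⟨g, hg⟩ := hF₀.le_cj_of_inf_eq_bot H (by rw [inf_comm]; exact hF.isCompl.disjoint.eq_bot)
  refine ⟨g, ?_⟩
  symm
  apply Subgroup.eq_of_le_of_card_ge hg
  rw [card_cj]
  have e1 := hF.isCompl.card_mul_card
  have e2 := hF₀.isCompl.card_mul_card
  rw [← e2] at e1
  exact (Nat.eq_of_mul_eq_mul_left Nat.card_pos e1).ge

end Cfsg.Agent.Lib.Helper13
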