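import Mathlib
import Cfsg.Prelude.Def_OddOrderLocal
import Cfsg.Prelude.Def_LieExceptional
import Cfsg.Agent.S1477
import Cfsg.Agent.S1476
import Cfsg.Agent.S1474
import Cfsg.Agent.Lib.Helper17.ThompsonFusion

/-! Basic lemmas on CN-groups and maximal nilpotent subgroups. -/

set_option autoImplicit false
open Cfsg

namespace Cfsg.Agent.Lib.Helper13.CNBasic

universe u

variable {G : Type u} [Group G] [Finite G]

theorem pow_of_isPGroup_zpowers {p : ℕ} {x : G} (h : IsPGroup p (Subgroup.zpowers x)) :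
    ∃ k : ℕ, x ^ (p ^ k) = 1 := by
  obtain ⟨k, hk⟩ := h ⟨x, Subgroup.mem_zpowers x⟩
  exact ⟨k, by simpa using congrArg Subtype.val hk⟩

theorem pow_of_mem_isPGroup {p : ℕ} {Q : Subgroup G} (hQ : IsPGroup p Q) {x : G} (hx : x ∈ Q) :
    ∃ k : ℕ, x ^ (p ^ k) = 1 := by
  obtain ⟨k, hk⟩ := hQ ⟨x, hx⟩
  exact ⟨k, by simpa using congrArg Subtype.val hk⟩

/-- a Sylow subgroup of a Hall subgroup is a Sylow subgroup of the group -/
theorem exists_sylow_eq_map_of_hall (H : Subgroup G) (hHall : (Nat.card H).Coprime H.index)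
    (q : ℕ) [Fact q.Prime] (hq : q ∣ Nat.card H) (Q₀ : Sylow q H) :
    ∃ Q : Sylow q G, (Q : Subgroup G) = (Q₀ : Subgroup H).map H.subtype := by
  have hcard : Nat.card ((Q₀ : Subgroup H).map H.subtype) = q ^ (Nat.card G).factorization q := by
    rw [Subgroup.card_map_of_injective H.subtype_injective, Q₀.card_eq_multiplicity]
    congr 1
    have h1 : Nat.card G = Nat.card H * H.index := (Subgroup.card_mul_index H).symm
    rw [h1, Nat.factorization_mul Nat.card_pos.ne' Subgroup.index_ne_zero_of_finite,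
      Finsupp.add_apply]
    have : H.index.factorization q = 0 := by
      apply Nat.factorization_eq_zero_of_not_dvd
      intro hd
      have := Nat.eq_one_of_dvd_coprimes hHall hq hd
      exact (Fact.out : q.Prime).one_lt.ne' this
    omega
  exact ⟨Sylow.ofCard _ hcard, Sylow.coe_ofCard _ hcard⟩

theorem exists_sylow_le_of_hall (H : Subgroup G) (hHall : (Nat.card H).Coprime H.index)
    (q : ℕ) [Fact q.Prime] (hq : q ∣ Nat.card H) :
    ∃ Q : Sylow q G, (Q : Subgroup G) ≤ H := by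
  obtain ⟨Q₀⟩ : Nonempty (Sylow q H) := inferInstance
  obtain ⟨Q, hQ⟩ := exists_sylow_eq_map_of_hall H hHall q hq Q₀
  exact ⟨Q, hQ ▸ Subgroup.map_subtype_le _⟩

/-- in a nilpotent subgroup containing a Sylow `q`-subgroup `Q` of `G`, all `q`-elements lie in `Q` -/
theorem mem_sylow_of_nilpotent (H : Subgroup G) (hH : Group.IsNilpotent H) {q : ℕ} [Fact q.Prime]
    (Q : Sylow q G) (hQH : (Q : Subgroup G) ≤ H) (a : G) (haH : a ∈ H)
    (ha : ∃ k : ℕ, a ^ (q ^ k) = 1) : a ∈ (Q : Subgroup G) := by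
  have hsyl := ((Group.isNilpotent_of_finite_tfae (G := H)).out 0 3).mp hH
  obtain ⟨R₁, hR₁⟩ := (Q.isPGroup'.comap_subtype (K := H)).exists_le_sylow
  have hR₁Q : (R₁ : Subgroup H).map H.subtype = (Q : Subgroup G) := by
    apply Q.is_maximal' (R₁.isPGroup'.map _)
    intro y hy
    exact ⟨⟨y, hQH hy⟩, hR₁ (show (⟨y, hQH hy⟩ : H) ∈ (Q : Subgroup G).comap H.subtype from hy), rfl⟩
  have hap : IsPGroup q (Subgroup.zpowers (⟨a, haH⟩ : H)) := by
    apply Cfsg.Agent.S1473.isPGroup_zpowers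
    obtain ⟨k, hk⟩ := ha
    exact ⟨k, Subtype.ext (by simpa using hk)⟩
  obtain ⟨R₀, hR₀⟩ := hap.exists_le_sylow
  haveI : (R₁ : Subgroup H).Normal := hsyl q ‹_› R₁
  obtain ⟨g, hg⟩ := MulAction.exists_smul_eq H R₁ R₀
  rw [Sylow.smul_eq_of_normal] at hg
  rw [← hR₁Q]
  refine ⟨⟨a, haH⟩, ?_, rfl⟩
  rw [hg]
  exact hR₀ (Subgroup.mem_zpowers _)

/-- an element central in a Sylow subgroup `Q ≤ H` of `G` is central in the nilpotent `H` -/
theorem central_of_sylow_central (H : Subgroup G) (hH : Group.IsNilpotent H) {q : ℕ} [Fact q.Prime]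
    (Q : Sylow q G) (hQH : (Q : Subgroup G) ≤ H) (z : G) (hzQ : z ∈ (Q : Subgroup G))
    (hzc : ∀ u ∈ (Q : Subgroup G), u * z = z * u) : ∀ h ∈ H, h * z = z * h := by
  intro h hh
  obtain ⟨a, b, ha, hb, hab, ⟨k, hk⟩, hbc⟩ :=
    Cfsg.Agent.Lib.Helper2.exists_p_decomp h q Fact.out
  have hzH : Subgroup.zpowers h ≤ H := by
    rw [Subgroup.zpowers_le]; exact hh
  have haQ : a ∈ (Q : Subgroup G) := mem_sylow_of_nilpotent H hH Q hQH a (hzH ha)
    ⟨k, orderOf_dvd_iff_pow_eq_one.mp hk⟩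
  have h1 : a * z = z * a := hzc a haQ
  obtain ⟨j, hj⟩ := pow_of_mem_isPGroup Q.isPGroup' hzQ
  have hcop : (orderOf b).Coprime (orderOf z) := by
    have h2 : orderOf z ∣ q ^ j := orderOf_dvd_of_pow_eq_one hj
    exact Nat.Coprime.coprime_dvd_right h2 (Nat.Coprime.pow_right _ hbc)
  have h2 : b * z = z * b :=
    Cfsg.Agent.Lib.Helper2.commute_of_coprime_orderOf_of_mem H hH b z (hzH hb) (hQH hzQ) hcop
  rw [hab, mul_assoc, h2, ← mul_assoc, h1, mul_assoc]

theorem centralizer_conj (z g : G) :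
    Subgroup.centralizer ({g * z * g⁻¹} : Set G) =
      (Subgroup.centralizer ({z} : Set G)).map (MulAut.conj g).toMonoidHom := by
  ext x
  rw [Subgroup.mem_map_equiv, MulAut.conj_symm_apply, Subgroup.mem_centralizer_singleton_iff,
    Subgroup.mem_centralizer_singleton_iff]
  constructor
  · intro h
    symm
    calc z * (g⁻¹ * x * g) = g⁻¹ * (g * z * g⁻¹ * x) * g := by group
      _ = g⁻¹ * (x * (g * z * g⁻¹)) * g := by rw [h]
      _ = g⁻¹ * x * g * z := by group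
  · intro h
    symm
    calc g * z * g⁻¹ * x = g * (z * (g⁻¹ * x * g)) * g⁻¹ := by group
      _ = g * ((g⁻¹ * x * g) * z) * g⁻¹ := by rw [h]
      _ = x * (g * z * g⁻¹) := by group

/-- a maximal nilpotent subgroup of a CN-group is the centralizer of any non-identity element that
is central in one of its Sylow subgroups which is Sylow in `G` -/
theorem centralizer_eq_of_sylow_central (hCN : IsCNGroup G) (H : Subgroup G)
    (hH : Group.IsNilpotent H) (hmax : ∀ L : Subgroup G, Group.IsNilpotent L → H ≤ L → L = H)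
    {q : ℕ} [Fact q.Prime] (Q : Sylow q G) (hQH : (Q : Subgroup G) ≤ H) (z : G)
    (hzQ : z ∈ (Q : Subgroup G)) (hz1 : z ≠ 1) (hzc : ∀ u ∈ (Q : Subgroup G), u * z = z * u) :
    Subgroup.centralizer ({z} : Set G) = H :=
  Cfsg.Agent.S1477.centralizer_eq_of_central hCN H hmax z hz1
    (central_of_sylow_central H hH Q hQH z hzQ hzc)

/-- two maximal nilpotent subgroups of a CN-group are conjugate or of coprime orders -/
theorem conj_or_coprime (hCN : IsCNGroup G) (H₁ H₂ : Subgroup G)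
    (h1 : Group.IsNilpotent H₁) (hm1 : ∀ L : Subgroup G, Group.IsNilpotent L → H₁ ≤ L → L = H₁)
    (h2 : Group.IsNilpotent H₂) (hm2 : ∀ L : Subgroup G, Group.IsNilpotent L → H₂ ≤ L → L = H₂) :
    (∃ g : G, H₂ = H₁.map (MulAut.conj g).toMonoidHom) ∨ (Nat.card H₁).Coprime (Nat.card H₂) := by
  by_cases hcop : (Nat.card H₁).Coprime (Nat.card H₂)
  · exact Or.inr hcop
  left
  obtain ⟨q, hq, hq1, hq2⟩ := Nat.Prime.not_coprime_iff_dvd.mp hcop
  haveI : Fact q.Prime := ⟨hq⟩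
  have hHall1 := (Cfsg.Agent.S1477.result hCN H₁ h1 hm1).1
  have hHall2 := (Cfsg.Agent.S1477.result hCN H₂ h2 hm2).1
  obtain ⟨Q₁, hQ₁⟩ := exists_sylow_le_of_hall H₁ hHall1 q hq1
  obtain ⟨Q₂, hQ₂⟩ := exists_sylow_le_of_hall H₂ hHall2 q hq2
  obtain ⟨g, hg⟩ := MulAction.exists_smul_eq G Q₁ Q₂
  have hQ₁ne : ∃ x ∈ (Q₁ : Subgroup G), x ≠ 1 := by
    by_contra hcon
    push Not at hcon
    have hbot : (Q₁ : Subgroup G) = ⊥ := by
      rw [eq_bot_iff]; intro x hx; exact Subgroup.mem_bot.mpr (hcon x hx)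
    have hc := Q₁.card_eq_multiplicity
    rw [hbot, Subgroup.card_bot] at hc
    have hqG : q ∣ Nat.card G := hq1.trans (Subgroup.card_subgroup_dvd_card H₁)
    have hpos := hq.factorization_pos_of_dvd Nat.card_pos.ne' hqG
    have h2 : 1 < q ^ (Nat.card G).factorization q := Nat.one_lt_pow hpos.ne' hq.one_lt
    omega
  obtain ⟨x, hxQ, hx1⟩ := hQ₁ne
  obtain ⟨z, hzQ, hz1, hzc⟩ := Cfsg.Agent.S1474.exists_central (Q₁ : Subgroup G) Q₁.isPGroup' x hxQ hx1
  have hC1 := centralizer_eq_of_sylow_central hCN H₁ h1 hm1 Q₁ hQ₁ z hzQ hz1 hzc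
  have hmemQ₂ : ∀ y : G, y ∈ (Q₂ : Subgroup G) ↔ g⁻¹ * y * g ∈ (Q₁ : Subgroup G) := by
    intro y
    rw [← hg, Cfsg.Agent.Lib.Helper17.mem_smul_sylow_iff]
  have hz'Q : g * z * g⁻¹ ∈ (Q₂ : Subgroup G) := by
    rw [hmemQ₂]
    have : g⁻¹ * (g * z * g⁻¹) * g = z := by group
    rw [this]; exact hzQ
  have hz'1 : g * z * g⁻¹ ≠ 1 := by
    intro h
    apply hz1
    have : z = g⁻¹ * (g * z * g⁻¹) * g := by group
    rw [this, h]; group
  have hz'c : ∀ u ∈ (Q₂ : Subgroup G), u * (g * z * g⁻¹) = (g * z * g⁻¹) * u := by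
    intro u hu
    have h3 := hzc _ ((hmemQ₂ u).mp hu)
    calc u * (g * z * g⁻¹) = g * ((g⁻¹ * u * g) * z) * g⁻¹ := by group
      _ = g * (z * (g⁻¹ * u * g)) * g⁻¹ := by rw [h3]
      _ = (g * z * g⁻¹) * u := by group
  have hC2 := centralizer_eq_of_sylow_central hCN H₂ h2 hm2 Q₂ hQ₂ (g * z * g⁻¹) hz'Q hz'1 hz'c
  refine ⟨g, ?_⟩
  rw [← hC2, ← hC1, centralizer_conj]

end Cfsg.Agent.Lib.Helper13.CNBasic
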