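import Mathlib
import Cfsg.Prelude.Def_OddOrderLocal
import Cfsg.Agent.Lib.Helper13.CNBasic
import Cfsg.Agent.Lib.Helper13.ThompsonTransfer
import Cfsg.Agent.Lib.Helper6.FittingHall
import Cfsg.Agent.S1474
import Cfsg.Agent.S1476
import Cfsg.Agent.S0040

/-! Frobenius-type subgroups `M = H ⋊ E` of a group, in ambient terms. -/

set_option autoImplicit false
open Cfsg

namespace Cfsg.Agent.Lib.Helper13.CNFrob

open Subgroup

universe u

variable {G : Type u} [Group G] [Finite G]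

/-- in a Frobenius-type group `M = H ⋊ E`, an element outside `H` centralizes no non-identity
element of `H` -/
theorem eq_one_of_commute_of_not_mem {H E M : Subgroup G} (hc : IsComplIn H E M)
    (hn : M ≤ normalizer (H : Set G))
    (hfpf : ∀ e ∈ E, e ≠ 1 → H ⊓ centralizer ({e} : Set G) = ⊥)
    (x : G) (hxM : x ∈ M) (hxH : x ∉ H) (w : G) (hw : w ∈ H) (hwx : w * x = x * w) : w = 1 := by
  obtain ⟨hHM, hEM, -, hprod⟩ := hc
  obtain ⟨h, hh, e, he, rfl⟩ := hprod x hxM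
  have he1 : e ≠ 1 := by
    rintro rfl
    apply hxH
    rw [mul_one]; exact hh
  have hbot := hfpf e he he1
  have hconj : ∀ u ∈ H, e * u * e⁻¹ ∈ H := by
    intro u hu
    exact (mem_normalizer_iff.mp (hn (hEM he)) u).mp hu
  let φ : ↥H → ↥H := fun u => ⟨(u : G)⁻¹ * (e * u * e⁻¹), H.mul_mem (H.inv_mem u.2) (hconj u u.2)⟩
  have hinj : Function.Injective φ := by
    intro u v huv
    have h1 : (u : G)⁻¹ * (e * u * e⁻¹) = (v : G)⁻¹ * (e * v * e⁻¹) := congrArg Subtype.val huv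
    have h2 : ((v : G) * (u : G)⁻¹) * e = e * ((v : G) * (u : G)⁻¹) := by
      calc ((v : G) * (u : G)⁻¹) * e = (v : G) * ((u : G)⁻¹ * (e * u * e⁻¹)) * (e * (u : G)⁻¹) := by
            group
        _ = (v : G) * ((v : G)⁻¹ * (e * v * e⁻¹)) * (e * (u : G)⁻¹) := by rw [h1]
        _ = e * ((v : G) * (u : G)⁻¹) := by group
    have h3 : (v : G) * (u : G)⁻¹ ∈ H ⊓ centralizer ({e} : Set G) :=
      Subgroup.mem_inf.mpr ⟨H.mul_mem v.2 (H.inv_mem u.2),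
        Subgroup.mem_centralizer_singleton_iff.mpr h2⟩
    rw [hbot] at h3
    have h4 : (v : G) * (u : G)⁻¹ = 1 := Subgroup.mem_bot.mp h3
    apply Subtype.ext
    exact (mul_inv_eq_one.mp h4).symm
  have hsurj : Function.Surjective φ := Finite.injective_iff_surjective.mp hinj
  obtain ⟨u, hu⟩ := hsurj ⟨h, hh⟩
  have hu' : (u : G)⁻¹ * (e * u * e⁻¹) = h := congrArg Subtype.val hu
  have hconjx : (u : G) * (h * e) * (u : G)⁻¹ = e := by
    rw [← hu']; group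
  have hw' : (u : G) * w * (u : G)⁻¹ ∈ H ⊓ centralizer ({e} : Set G) := by
    refine Subgroup.mem_inf.mpr ⟨H.mul_mem (H.mul_mem u.2 hw) (H.inv_mem u.2), ?_⟩
    rw [Subgroup.mem_centralizer_singleton_iff]
    calc (u : G) * w * (u : G)⁻¹ * e = (u : G) * w * (u : G)⁻¹ * ((u : G) * (h * e) * (u : G)⁻¹) := by
          rw [hconjx]
      _ = (u : G) * (w * (h * e)) * (u : G)⁻¹ := by group
      _ = (u : G) * ((h * e) * w) * (u : G)⁻¹ := by rw [hwx]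
      _ = ((u : G) * (h * e) * (u : G)⁻¹) * ((u : G) * w * (u : G)⁻¹) := by group
      _ = e * ((u : G) * w * (u : G)⁻¹) := by rw [hconjx]
  rw [hbot] at hw'
  have h5 : (u : G) * w * (u : G)⁻¹ = 1 := Subgroup.mem_bot.mp hw'
  have : w = (u : G)⁻¹ * ((u : G) * w * (u : G)⁻¹) * (u : G) := by group
  rw [this, h5]; group

/-- if `E` is commutative then commutators of `M = H ⋊ E` lie in `H` -/
theorem commutator_mem {H E M : Subgroup G} (hc : IsComplIn H E M)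
    (hn : M ≤ normalizer (H : Set G)) (hE : ∀ a ∈ E, ∀ b ∈ E, a * b = b * a)
    (m₁ m₂ : G) (h1 : m₁ ∈ M) (h2 : m₂ ∈ M) : m₁ * m₂ * m₁⁻¹ * m₂⁻¹ ∈ H := by
  obtain ⟨hHM, hEM, -, hprod⟩ := hc
  obtain ⟨a₁, ha₁, e₁, he₁, rfl⟩ := hprod m₁ h1
  obtain ⟨a₂, ha₂, e₂, he₂, rfl⟩ := hprod m₂ h2
  have hconj : ∀ e ∈ E, ∀ u ∈ H, e * u * e⁻¹ ∈ H := by
    intro e he u hu
    exact (mem_normalizer_iff.mp (hn (hEM he)) u).mp hu
  have hcomm : e₂ * e₁⁻¹ = e₁⁻¹ * e₂ := by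
    have := hE e₁ he₁ e₂ he₂
    calc e₂ * e₁⁻¹ = e₁⁻¹ * (e₁ * e₂) * e₁⁻¹ := by group
      _ = e₁⁻¹ * (e₂ * e₁) * e₁⁻¹ := by rw [this]
      _ = e₁⁻¹ * e₂ := by group
  have key : (a₁ * e₁) * (a₂ * e₂) * (a₁ * e₁)⁻¹ * (a₂ * e₂)⁻¹ =
      a₁ * (e₁ * a₂ * e₁⁻¹) * (e₂ * a₁⁻¹ * e₂⁻¹) * a₂⁻¹ := by
    calc (a₁ * e₁) * (a₂ * e₂) * (a₁ * e₁)⁻¹ * (a₂ * e₂)⁻¹
        = a₁ * e₁ * a₂ * (e₂ * e₁⁻¹) * a₁⁻¹ * e₂⁻¹ * a₂⁻¹ := by group
      _ = a₁ * e₁ * a₂ * (e₁⁻¹ * e₂) * a₁⁻¹ * e₂⁻¹ * a₂⁻¹ := by rw [hcomm]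
      _ = a₁ * (e₁ * a₂ * e₁⁻¹) * (e₂ * a₁⁻¹ * e₂⁻¹) * a₂⁻¹ := by group
  rw [key]
  exact H.mul_mem (H.mul_mem (H.mul_mem ha₁ (hconj e₁ he₁ a₂ ha₂))
    (hconj e₂ he₂ _ (H.inv_mem ha₁))) (H.inv_mem ha₂)

/-- a non-nilpotent CN-subgroup `M` of odd order with `fittingHall M ≠ ⊥` is of Frobenius type with
kernel `fittingHallOf M` and commutative complement -/
theorem frob_of_fittingHall (M : Subgroup G) (hCNM : IsCNGroup M) (hnn : ¬ Group.IsNilpotent M)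
    (hFH : fittingHall M ≠ ⊥) (hodd : Odd (Nat.card M)) :
    ∃ E : Subgroup G, Group.IsNilpotent (fittingHallOf M) ∧
      M ≤ normalizer (fittingHallOf M : Set G) ∧ IsComplIn (fittingHallOf M) E M ∧
      fittingHallOf M ≠ ⊥ ∧ E ≠ ⊥ ∧
      (∀ e ∈ E, e ≠ 1 → fittingHallOf M ⊓ centralizer ({e} : Set G) = ⊥) ∧
      (∀ a ∈ E, ∀ b ∈ E, a * b = b * a) ∧
      (Nat.card (fittingHallOf M)).Coprime ((fittingHallOf M).relIndex M) := by
  obtain ⟨hHtop, E₀, hE, -, hfpf, hEnil, -⟩ := Cfsg.Agent.S1474.main' hCNM hnn (fittingHall M) hFH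
    Cfsg.Agent.Lib.Helper6.fittingHall_isNilpotent Cfsg.Agent.Lib.Helper6.fittingHall_coprime
    (fun T h1 h2 h3 => Cfsg.Agent.Lib.Helper6.le_fittingHall h1 h2 h3)
  haveI hFn : (fittingHall M).Normal := inferInstance
  refine ⟨E₀.map M.subtype, ?_, ?_, ⟨?_, ?_, ?_, ?_⟩, ?_, ?_, ?_, ?_, ?_⟩
  · haveI := Cfsg.Agent.Lib.Helper6.fittingHall_isNilpotent (G := M)
    exact Group.nilpotent_of_mulEquiv
      (Subgroup.equivMapOfInjective (fittingHall M) M.subtype M.subtype_injective)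
  · intro m hm
    apply mem_normalizer_of_conj_mem
    rintro _ ⟨y, hy, rfl⟩
    exact ⟨⟨m, hm⟩ * y * ⟨m, hm⟩⁻¹, hFn.conj_mem y hy ⟨m, hm⟩, by simp⟩
  · exact Subgroup.map_subtype_le _
  · exact Subgroup.map_subtype_le _
  · rw [eq_bot_iff]
    rintro x ⟨⟨a, ha, rfl⟩, ⟨b, hb, hab⟩⟩
    have hab' : b = a := Subtype.ext hab
    have : a ∈ fittingHall M ⊓ E₀ := Subgroup.mem_inf.mpr ⟨ha, hab' ▸ hb⟩
    rw [hE.disjoint.eq_bot] at this
    rw [Subgroup.mem_bot.mp this]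
    exact Subgroup.mem_bot.mpr rfl
  · intro m hm
    obtain ⟨⟨⟨a, ha⟩, ⟨b, hb⟩⟩, hab, -⟩ := (isComplement'_def.mp hE).existsUnique ⟨m, hm⟩
    simp only at hab
    exact ⟨a, ⟨a, ha, rfl⟩, b, ⟨b, hb, rfl⟩, by
      have := congrArg Subtype.val hab
      simpa using this.symm⟩
  · intro h
    apply hFH
    exact (Subgroup.map_eq_bot_iff_of_injective _ M.subtype_injective).mp h
  · intro h
    have h1 : E₀ = ⊥ := (Subgroup.map_eq_bot_iff_of_injective _ M.subtype_injective).mp h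
    rw [h1, isComplement'_bot_right] at hE
    exact hHtop hE
  · rintro _ ⟨e₀, he₀, rfl⟩ he1
    rw [eq_bot_iff]
    rintro x ⟨⟨x₀, hx₀, rfl⟩, hxc⟩
    have he₀1 : e₀ ≠ 1 := by
      rintro rfl
      exact he1 rfl
    have h1 : x₀ ∈ fittingHall M ⊓ centralizer ({e₀} : Set M) := by
      refine Subgroup.mem_inf.mpr ⟨hx₀, ?_⟩
      rw [Subgroup.mem_centralizer_singleton_iff]
      apply Subtype.ext
      have := Subgroup.mem_centralizer_singleton_iff.mp hxc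
      simpa using this
    rw [hfpf e₀ he₀ he₀1] at h1
    rw [Subgroup.mem_bot.mp h1]
    exact Subgroup.mem_bot.mpr rfl
  · haveI := hEnil
    have hS : ∀ (p : ℕ) [Fact p.Prime] (P : Sylow p E₀),
        IsCyclic P ∨ ∃ n : ℕ, Nonempty (P ≃* QuaternionGroup (2 ^ n)) :=
      fun p _ P => Cfsg.Agent.S0040.result (fittingHall M) E₀ hE hFH hfpf p P
    have hcyc : IsCyclic E₀ := by
      rcases Cfsg.Agent.S1476.lemmaNS hS with h | ⟨C, Q, -, -, -, -, n, ⟨e⟩⟩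
      · exact h
      · exfalso
        have hc := Cfsg.Agent.S1476.quaternion_card_even e
        have h1 : Nat.card Q ∣ Nat.card E₀ := Subgroup.card_subgroup_dvd_card Q
        have h2 : Nat.card E₀ ∣ Nat.card M := Subgroup.card_subgroup_dvd_card E₀
        have h3 : 2 ∣ Nat.card M := by
          refine Dvd.dvd.trans ?_ (h1.trans h2)
          rw [hc]
          exact ⟨2 * 2 ^ n, by ring⟩
        rw [Nat.odd_iff] at hodd
        omega
    rintro _ ⟨a, ha, rfl⟩ _ ⟨b, hb, rfl⟩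
    haveI := hcyc
    have h1 : (⟨a, ha⟩ : E₀) * ⟨b, hb⟩ = ⟨b, hb⟩ * ⟨a, ha⟩ :=
      (IsCyclic.isMulCommutative (α := E₀)).is_comm.comm _ _
    have h2 := congrArg (fun z : E₀ => ((z : M) : G)) h1
    simpa using h2
  · have h1 : (fittingHallOf M).relIndex M = (fittingHall M).index := by
      unfold Subgroup.relIndex fittingHallOf
      rw [Subgroup.subgroupOf, Subgroup.comap_map_eq_self_of_injective M.subtype_injective]
    rw [h1]
    unfold fittingHallOf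
    rw [Subgroup.card_map_of_injective M.subtype_injective]
    exact Cfsg.Agent.Lib.Helper6.fittingHall_coprime

end Cfsg.Agent.Lib.Helper13.CNFrob
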