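import Mathlib
import Cfsg.Agent.Lib.Helper13.Coprime
import Cfsg.Agent.Lib.Helper20.AxB

/-!
# A generalized `A × B`-lemma under a quadratic hypothesis (helper13)

`gen_AxB_quad`: `A` a `p`-group normalizing the `p'`-group `K`, both normalizing the `p`-group `R`, with
`[R, A] ≤ C(A)`.  If `K` centralizes `C_R(A)` then `K` centralizes `R`.  (Any prime `p`; this is the substitute
for `gen_AxB` when `p = 2` and the Sylow `2`-subgroups have class at most two.)
-/

set_option autoImplicit false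
set_option linter.style.haveILetI false

universe u

namespace Cfsg.Agent.Lib.Helper13

open scoped commutatorElement
open Subgroup

/-- If `k r k⁻¹ = r w` with `k` commuting with `w`, `k` a `p'`-element and `w` a `p`-element, then `w = 1`. -/
theorem eq_one_of_conj_eq_mul {H : Type*} [Group H] (p : ℕ) (k r w : H)
    (h : k * r * k⁻¹ = r * w) (hkw : k * w = w * k) (m j : ℕ) (hk : k ^ m = 1)
    (hm : m.Coprime p) (hw : w ^ p ^ j = 1) : w = 1 := by
  have hpow : ∀ n : ℕ, k ^ n * r * (k ^ n)⁻¹ = r * w ^ n := by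
    intro n
    induction n with
    | zero => simp
    | succ n ih =>
      have hkwn : k * w ^ n * k⁻¹ = w ^ n := by
        have : Commute k (w ^ n) := (show Commute k w from hkw).pow_right n
        rw [this.eq, mul_inv_cancel_right]
      calc k ^ (n + 1) * r * (k ^ (n + 1))⁻¹ = k * (k ^ n * r * (k ^ n)⁻¹) * k⁻¹ := by
            rw [pow_succ']; group
        _ = k * (r * w ^ n) * k⁻¹ := by rw [ih]
        _ = (k * r * k⁻¹) * (k * w ^ n * k⁻¹) := by group
        _ = r * w * w ^ n := by rw [h, hkwn]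
        _ = r * w ^ (n + 1) := by rw [pow_succ', mul_assoc]
  have h1 := hpow m
  rw [hk] at h1
  have h2 : w ^ m = 1 := by
    have : r = r * w ^ m := by simpa using h1
    exact (mul_eq_left.mp this.symm)
  have h3 : orderOf w ∣ m := orderOf_dvd_of_pow_eq_one h2
  have h4 : orderOf w ∣ p ^ j := orderOf_dvd_of_pow_eq_one hw
  have h5 : orderOf w = 1 := Nat.eq_one_of_dvd_coprimes (hm.pow_right j) h3 h4
  exact orderOf_eq_one_iff.mp h5

/-- **Generalized `A × B`-lemma** (quadratic hypothesis, any `p`). -/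
theorem gen_AxB_quad {H : Type u} [Group H] [Finite H] (p : ℕ) [hp : Fact p.Prime]
    (A K R : Subgroup H) (hA : IsPGroup p A) (hK : (Nat.card K).Coprime p)
    (hAK : A ≤ normalizer (K : Set H)) (hR : IsPGroup p R) (hAR : A ≤ normalizer (R : Set H))
    (hKR : K ≤ normalizer (R : Set H))
    (hfix : R ⊓ centralizer (A : Set H) ≤ centralizer (K : Set H))
    (hquad : ⁅R, A⁆ ≤ centralizer (A : Set H)) :
    R ≤ centralizer (K : Set H) := by
  have hRAR : ⁅R, A⁆ ≤ R := commutator_le_of_le_normalizer R A hAR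
  have hRAK : ⁅R, A⁆ ≤ centralizer (K : Set H) := (le_inf hRAR hquad).trans hfix
  -- Step 1: `[K, A]` centralizes `R`
  have step1 : ⁅K, A⁆ ≤ centralizer (R : Set H) := by
    rw [Subgroup.commutator_le]
    intro k hk a ha
    rw [Subgroup.mem_centralizer_iff]
    intro r hr
    -- notation
    obtain ⟨κ, hκdef⟩ : ∃ κ : H, κ = k⁻¹ := ⟨_, rfl⟩
    have hκ : κ ∈ K := by rw [hκdef]; exact K.inv_mem hk
    obtain ⟨κ', hκ'def⟩ : ∃ κ' : H, κ' = a * κ * a⁻¹ := ⟨_, rfl⟩
    have hκ' : κ' ∈ K := by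
      rw [hκ'def]; exact (Subgroup.mem_normalizer_iff.mp (hAK ha) κ).mp hκ
    have hk₁ : ⁅k, a⁆ = κ⁻¹ * κ' := by
      rw [hκ'def, hκdef, commutatorElement_def]; group
    obtain ⟨z, hzdef⟩ : ∃ z : H, z = ⁅r⁻¹, a⁆ := ⟨_, rfl⟩
    obtain ⟨r', hr'def⟩ : ∃ r' : H, r' = κ * r * κ⁻¹ := ⟨_, rfl⟩
    have hr' : r' ∈ R := by
      rw [hr'def]; exact (Subgroup.mem_normalizer_iff.mp (hKR hκ) r).mp hr
    obtain ⟨z', hz'def⟩ : ∃ z' : H, z' = ⁅r'⁻¹, a⁆ := ⟨_, rfl⟩
    have hz : z ∈ ⁅R, A⁆ := by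
      rw [hzdef]; exact Subgroup.commutator_mem_commutator (R.inv_mem hr) ha
    have hz' : z' ∈ ⁅R, A⁆ := by
      rw [hz'def]; exact Subgroup.commutator_mem_commutator (R.inv_mem hr') ha
    have hzK : ∀ x ∈ K, x * z = z * x := fun x hx =>
      (Subgroup.mem_centralizer_iff.mp (hRAK hz) x hx)
    have hz'K : ∀ x ∈ K, x * z' = z' * x := fun x hx =>
      (Subgroup.mem_centralizer_iff.mp (hRAK hz') x hx)
    have e1 : a * r * a⁻¹ = r * z := by
      rw [hzdef, commutatorElement_def]; group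
    have e2 : a * r' * a⁻¹ = r' * z' := by
      rw [hz'def, commutatorElement_def]; group
    have e3 : a * r' * a⁻¹ = κ' * r * κ'⁻¹ * z := by
      have h1 : a * r' * a⁻¹ = κ' * (a * r * a⁻¹) * κ'⁻¹ := by
        rw [hr'def, hκ'def]; group
      rw [h1, e1]
      have h2 : z * κ'⁻¹ = κ'⁻¹ * z := by
        have := hzK κ'⁻¹ (K.inv_mem hκ')
        exact this.symm
      calc κ' * (r * z) * κ'⁻¹ = κ' * r * (z * κ'⁻¹) := by group
        _ = κ' * r * (κ'⁻¹ * z) := by rw [h2]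
        _ = κ' * r * κ'⁻¹ * z := by group
    obtain ⟨w, hwdef⟩ : ∃ w : H, w = z' * z⁻¹ := ⟨_, rfl⟩
    have hwK : ∀ x ∈ K, x * w = w * x := by
      intro x hx
      have h1 := hzK x hx
      have h2 := hz'K x hx
      have h3 : x * z⁻¹ = z⁻¹ * x := by
        have : z⁻¹ * (x * z) * z⁻¹ = z⁻¹ * (z * x) * z⁻¹ := by rw [h1]
        calc x * z⁻¹ = z⁻¹ * (z * x) * z⁻¹ := by group
          _ = z⁻¹ * (x * z) * z⁻¹ := by rw [h1]
          _ = z⁻¹ * x := by group
      rw [hwdef]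
      calc x * (z' * z⁻¹) = (x * z') * z⁻¹ := by group
        _ = z' * x * z⁻¹ := by rw [h2]
        _ = z' * (x * z⁻¹) := by group
        _ = z' * (z⁻¹ * x) := by rw [h3]
        _ = z' * z⁻¹ * x := by group
    have hwR : w ∈ R := by
      rw [hwdef]; exact R.mul_mem (hRAR hz') (R.inv_mem (hRAR hz))
    have e4 : κ' * r * κ'⁻¹ = κ * r * κ⁻¹ * w := by
      have h1 : κ' * r * κ'⁻¹ * z = r' * z' := by rw [← e3, e2]
      rw [hwdef, ← hr'def]
      calc κ' * r * κ'⁻¹ = (κ' * r * κ'⁻¹ * z) * z⁻¹ := by group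
        _ = r' * z' * z⁻¹ := by rw [h1]
        _ = r' * (z' * z⁻¹) := by group
    have e5 : (κ⁻¹ * κ') * r * (κ⁻¹ * κ')⁻¹ = r * w := by
      have h1 : κ⁻¹ * w = w * κ⁻¹ := hwK _ (K.inv_mem hκ)
      calc (κ⁻¹ * κ') * r * (κ⁻¹ * κ')⁻¹ = κ⁻¹ * (κ' * r * κ'⁻¹) * κ := by group
        _ = κ⁻¹ * (κ * r * κ⁻¹ * w) * κ := by rw [e4]
        _ = r * (κ⁻¹ * w) * κ := by group
        _ = r * (w * κ⁻¹) * κ := by rw [h1]
        _ = r * w := by group
    have hk₁K : κ⁻¹ * κ' ∈ K := K.mul_mem (K.inv_mem hκ) hκ'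
    obtain ⟨j, hj⟩ := (IsPGroup.iff_orderOf.mp hR) ⟨w, hwR⟩
    have hwj : w ^ p ^ j = 1 := by
      have h1 : orderOf w = p ^ j := by rw [← hj]; exact (Subgroup.orderOf_mk w hwR).symm
      rw [← h1]; exact pow_orderOf_eq_one w
    have hk₁m : (κ⁻¹ * κ') ^ Nat.card K = 1 := by
      have h2 : ((⟨κ⁻¹ * κ', hk₁K⟩ : K) ^ Nat.card K : K) = 1 := pow_card_eq_one'
      have h3 := congrArg Subtype.val h2
      rw [Subgroup.coe_pow, Subgroup.coe_one] at h3
      exact h3
    have hw1 : w = 1 := eq_one_of_conj_eq_mul p (κ⁻¹ * κ') r w e5 (hwK _ hk₁K) (Nat.card K) j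
      hk₁m hK hwj
    rw [hw1, mul_one] at e5
    rw [hk₁]
    calc r * (κ⁻¹ * κ') = ((κ⁻¹ * κ') * r * (κ⁻¹ * κ')⁻¹) * (κ⁻¹ * κ') := by rw [e5]
      _ = (κ⁻¹ * κ') * r := by group
  -- Step 2: `C_K(A)` centralizes `R`
  have hcopK' : (Nat.card ↥(K ⊓ centralizer (A : Set H))).Coprime p :=
    Nat.Coprime.coprime_dvd_left (Subgroup.card_dvd_of_le inf_le_left) hK
  have step2 : ⁅R, K ⊓ centralizer (A : Set H)⁆ = ⊥ := by
    apply Helper20.thompson_AxB p R (K ⊓ centralizer (A : Set H)) A hR hA hcopK'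
    · rw [Subgroup.commutator_eq_bot_iff_le_centralizer]
      exact inf_le_right
    · exact inf_le_left.trans hKR
    · exact hAR
    · exact hfix.trans (Subgroup.centralizer_le inf_le_left)
  have step2' : K ⊓ centralizer (A : Set H) ≤ centralizer (R : Set H) := by
    rw [← Subgroup.commutator_eq_bot_iff_le_centralizer, Subgroup.commutator_comm]
    exact step2
  -- Step 3
  have hcopAK : (Nat.card A).Coprime (Nat.card K) := by
    obtain ⟨m, hm⟩ := IsPGroup.iff_card.mp hA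
    rw [hm]; exact Nat.Coprime.pow_left m hK.symm
  have hAs : Group.IsSolvable A := by
    haveI : Group.IsNilpotent A := hA.isNilpotent
    infer_instance
  have hsup := coprime_commutator_sup_centralizer A K hAK hcopAK (Or.inl hAs)
  have hKC : K ≤ centralizer (R : Set H) := by
    rw [← hsup]; exact sup_le step1 step2'
  intro r hr
  rw [Subgroup.mem_centralizer_iff]
  intro k hk
  exact (Subgroup.mem_centralizer_iff.mp (hKC hk) r hr).symm

end Cfsg.Agent.Lib.Helper13
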