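import Mathlib
import Cfsg.Agent.Lib.Helper13.BenderB
import Cfsg.Agent.Lib.Helper13.BenderC
import Cfsg.Agent.Lib.Helper13.GenAxB2
import Cfsg.Agent.Lib.Helper14.LinRep
import Cfsg.Agent.Lib.Helper20.AxB
import Cfsg.Agent.Lib.Helper20.Bender
import Cfsg.Agent.Lib.Helper20.Cores
import Cfsg.Agent.Lib.Helper20.Signalizer
import Cfsg.Agent.Lib.Helper20.CoprimeFix
import Cfsg.Agent.Lib.Helper13.Coprime

/-!
# A `q'`-group centralizing the fixed points of a commuting `q`-element on a solvable normal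
subgroup `L` with `O_{q'}(L) = 1` centralizes `L` (helper13)
-/

set_option autoImplicit false
set_option maxHeartbeats 1000000
set_option linter.style.haveILetI false

namespace Cfsg.Agent.Lib.Helper13.CoreControl

open Subgroup Cfsg.Agent.Lib.Helper20 Cfsg.Agent.Lib.Helper13.BenderA
  Cfsg.Agent.Lib.Helper13.BenderB Cfsg.Agent.Lib.Helper13.BenderC
open scoped commutatorElement

variable {Γ : Type*} [Group Γ]

/-- the normalizer of `K` normalizes the image in the ambient group of a characteristic subgroup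
of `K`. -/
theorem normalizer_le_normalizer_map_char (K : Subgroup Γ) (H : Subgroup K)
    (hH : H.Characteristic) :
    normalizer (K : Set Γ) ≤ normalizer ((H.map K.subtype : Subgroup Γ) : Set Γ) := by
  intro g hg
  rw [Subgroup.mem_normalizer_iff]
  have key : ∀ (g : Γ), g ∈ normalizer (K : Set Γ) → ∀ x, x ∈ H.map K.subtype →
      g * x * g⁻¹ ∈ H.map K.subtype := by
    intro g hg x hx
    obtain ⟨h, hh, rfl⟩ := hx
    have h1 := Subgroup.characteristic_iff_le_comap.mp hH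
      (Cfsg.Agent.Lib.Helper14.LinRep.conjAut K ⟨g, hg⟩) hh
    rw [Subgroup.mem_comap] at h1
    exact ⟨_, h1, rfl⟩
  intro x
  constructor
  · exact key g hg x
  · intro hx
    have := key g⁻¹ (inv_mem hg) _ hx
    have e : g⁻¹ * (g * x * g⁻¹) * g⁻¹⁻¹ = x := by group
    rwa [e] at this

theorem normalizer_le_normalizer_ppOf [Finite Γ] (q : ℕ) (K : Subgroup Γ) :
    normalizer (K : Set Γ) ≤ normalizer ((ppOf q K : Subgroup Γ) : Set Γ) :=
  normalizer_le_normalizer_map_char K _ (pPrimeCore_characteristic q)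

theorem normalizer_le_normalizer_pCoreOf (q : ℕ) (K : Subgroup Γ) :
    normalizer (K : Set Γ) ≤ normalizer ((Cfsg.pCoreOf q K : Subgroup Γ) : Set Γ) :=
  normalizer_le_normalizer_map_char K _ (Cfsg.Agent.Lib.Helper20.pCore_characteristic q)

theorem mem_normalizer_inf {g : Γ} {A B : Subgroup Γ} (hA : g ∈ normalizer (A : Set Γ))
    (hB : g ∈ normalizer (B : Set Γ)) : g ∈ normalizer ((A ⊓ B : Subgroup Γ) : Set Γ) := by
  rw [Subgroup.mem_normalizer_iff] at *
  intro x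
  rw [Subgroup.mem_inf, Subgroup.mem_inf, hA x, hB x]

theorem mem_normalizer_sup {g : Γ} {A B : Subgroup Γ} (hA : g ∈ normalizer (A : Set Γ))
    (hB : g ∈ normalizer (B : Set Γ)) : g ∈ normalizer ((A ⊔ B : Subgroup Γ) : Set Γ) := by
  rw [Subgroup.mem_normalizer_iff_map_conj_eq] at *
  rw [Subgroup.map_sup, hA, hB]

/-- **Key lemma.** -/
theorem centralizes_of_fix [Finite Γ] (q : ℕ) [hq : Fact q.Prime] (L D : Subgroup Γ)
    [hLn : L.Normal] (hLs : Group.IsSolvable ↥L)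
    (hL : ∀ M : Subgroup Γ, M ≤ L → L ≤ normalizer (M : Set Γ) → (Nat.card M).Coprime q → M = ⊥)
    (hD : (Nat.card D).Coprime q) (z : Γ) (k : ℕ) (hz : z ^ (q ^ k) = 1)
    (hzD : ∀ d ∈ D, d * z = z * d)
    (hfix : ∀ c ∈ L, c * z = z * c → ∀ d ∈ D, (orderOf ⁅c, d⁆).Coprime q) :
    D ≤ centralizer (L : Set Γ) := by
  classical
  have hqp := hq.out
  obtain ⟨R, hRdef⟩ : ∃ R : Subgroup Γ, R = Cfsg.pCoreOf q L := ⟨_, rfl⟩
  have hRq : IsPGroup q R := hRdef ▸ pCoreOf_isPGroup q L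
  have hRL : R ≤ L := hRdef ▸ pCoreOf_le q L
  have hRn : ∀ g : Γ, g ∈ normalizer (R : Set Γ) := by
    intro g
    rw [hRdef]
    apply normalizer_le_normalizer_pCoreOf q L
    rw [Subgroup.normalizer_eq_top]; exact Subgroup.mem_top g
  have hconjR : ∀ (g r : Γ), r ∈ R → g * r * g⁻¹ ∈ R := fun g r hr =>
    (Subgroup.mem_normalizer_iff.mp (hRn g) r).mp hr
  -- A × B
  have hzp : IsPGroup q (Subgroup.zpowers z) := by
    rintro ⟨x, hx⟩
    obtain ⟨i, rfl⟩ := Subgroup.mem_zpowers_iff.mp hx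
    refine ⟨k, ?_⟩
    apply Subtype.ext
    show (z ^ i) ^ (q ^ k) = 1
    rw [← zpow_natCast, ← zpow_mul, mul_comm, zpow_mul, zpow_natCast, hz, one_zpow]
  have hDz : ⁅D, Subgroup.zpowers z⁆ = ⊥ := by
    rw [Subgroup.commutator_eq_bot_iff_le_centralizer]
    intro d hd
    rw [Subgroup.mem_centralizer_iff]
    intro x hx
    obtain ⟨i, rfl⟩ := Subgroup.mem_zpowers_iff.mp hx
    exact ((Commute.zpow_right (hzD d hd) i)).eq.symm
  have hcomm : ⁅R, D⁆ = ⊥ := by
    apply thompson_AxB q R D (Subgroup.zpowers z) hRq hzp hD hDz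
      (fun d _ => hRn d) (fun x _ => hRn x)
    intro c hc
    obtain ⟨hcR, hcz⟩ := Subgroup.mem_inf.mp hc
    rw [Subgroup.mem_centralizer_iff] at hcz ⊢
    intro d hd
    have h1 : z * c = c * z := hcz z (Subgroup.mem_zpowers z)
    have h2 := hfix c (hRL hcR) h1.symm d hd
    have h3 : ⁅c, d⁆ ∈ R := by
      rw [commutatorElement_def]
      have : c * d * c⁻¹ * d⁻¹ = c * (d * c⁻¹ * d⁻¹) := by group
      rw [this]
      exact R.mul_mem hcR (hconjR d c⁻¹ (R.inv_mem hcR))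
    obtain ⟨j, hj⟩ := hRq ⟨_, h3⟩
    have hj' : ⁅c, d⁆ ^ (q ^ j) = 1 := by
      have := congrArg Subtype.val hj
      simpa using this
    have h4 : orderOf ⁅c, d⁆ ∣ q ^ j := orderOf_dvd_of_pow_eq_one hj'
    have h5 : orderOf ⁅c, d⁆ = 1 :=
      Nat.eq_one_of_dvd_coprimes (Nat.Coprime.pow_right j h2) dvd_rfl h4
    have h6 : ⁅c, d⁆ = 1 := orderOf_eq_one_iff.mp h5
    exact (commutatorElement_eq_one_iff_commute.mp h6).eq.symm
  have hDR : ∀ d ∈ D, ∀ r ∈ R, d * r = r * d := by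
    intro d hd r hr
    have : R ≤ centralizer (D : Set Γ) := Subgroup.commutator_eq_bot_iff_le_centralizer.mp hcomm
    have h1 := Subgroup.mem_centralizer_iff.mp (this hr) d hd
    exact h1
  -- Hall-Higman
  have hpp : Cfsg.pPrimeCore q ↥L = ⊥ := by
    have h1 : ppOf q L = ⊥ :=
      hL _ (ppOf_le q L) (le_normalizer_ppOf q L) (ppOf_coprime q L)
    unfold ppOf at h1
    exact (Subgroup.map_eq_bot_iff_of_injective _ L.subtype_injective).mp h1
  have hHH : L ⊓ centralizer (R : Set Γ) ≤ R := by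
    intro x hx
    obtain ⟨hxL, hxC⟩ := Subgroup.mem_inf.mp hx
    haveI := hLs
    have h1 := solvable_centralizer_pCore_le (G := ↥L) q hpp
    have h2 : (⟨x, hxL⟩ : ↥L) ∈ centralizer (Cfsg.pCore q ↥L : Set ↥L) := by
      rw [Subgroup.mem_centralizer_iff]
      intro r hr
      apply Subtype.ext
      have hrR : (r : Γ) ∈ R := by
        rw [hRdef]; exact ⟨r, hr, rfl⟩
      exact Subgroup.mem_centralizer_iff.mp hxC _ hrR
    have h3 := h1 h2
    rw [hRdef]
    exact ⟨⟨x, hxL⟩, h3, rfl⟩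
  -- conclusion
  intro d hd
  rw [Subgroup.mem_centralizer_iff]
  intro l hl
  obtain ⟨w, hwdef⟩ : ∃ w : Γ, w = l⁻¹ * (d * l * d⁻¹) := ⟨_, rfl⟩
  have hwL : w ∈ L := by
    rw [hwdef]
    exact L.mul_mem (L.inv_mem hl) (hLn.conj_mem l hl d)
  have hwC : w ∈ centralizer (R : Set Γ) := by
    rw [Subgroup.mem_centralizer_iff]
    intro r hr
    -- r * w = w * r
    have h1 : l * r * l⁻¹ ∈ R := hconjR l r hr
    have h2 : d⁻¹ * r * d = r := by
      have := hDR d hd r hr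
      calc d⁻¹ * r * d = d⁻¹ * (r * d) := by group
        _ = d⁻¹ * (d * r) := by rw [this]
        _ = r := by group
    have h3 : d * (l * r * l⁻¹) * d⁻¹ = l * r * l⁻¹ := by
      have := hDR d hd _ h1
      calc d * (l * r * l⁻¹) * d⁻¹ = (d * (l * r * l⁻¹)) * d⁻¹ := by group
        _ = ((l * r * l⁻¹) * d) * d⁻¹ := by rw [this]
        _ = l * r * l⁻¹ := by group
    -- (d l d⁻¹) r (d l d⁻¹)⁻¹ = l r l⁻¹
    have h4 : (d * l * d⁻¹) * r * (d * l * d⁻¹)⁻¹ = l * r * l⁻¹ := by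
      calc (d * l * d⁻¹) * r * (d * l * d⁻¹)⁻¹ = d * (l * (d⁻¹ * r * d) * l⁻¹) * d⁻¹ := by group
        _ = d * (l * r * l⁻¹) * d⁻¹ := by rw [h2]
        _ = l * r * l⁻¹ := h3
    rw [hwdef]
    calc r * (l⁻¹ * (d * l * d⁻¹))
        = l⁻¹ * (l * r * l⁻¹) * (d * l * d⁻¹) := by group
      _ = l⁻¹ * ((d * l * d⁻¹) * r * (d * l * d⁻¹)⁻¹) * (d * l * d⁻¹) := by rw [h4]
      _ = l⁻¹ * (d * l * d⁻¹) * r := by group
  have hwR : w ∈ R := hHH (Subgroup.mem_inf.mpr ⟨hwL, hwC⟩)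
  have hconj : d * l * d⁻¹ = l * w := by rw [hwdef]; group
  have hdw : d * w = w * d := hDR d hd w hwR
  obtain ⟨j, hj⟩ := hRq ⟨w, hwR⟩
  have hj' : w ^ (q ^ j) = 1 := by
    have := congrArg Subtype.val hj
    simpa using this
  have hdm : d ^ (Nat.card D) = 1 := by
    have h0 : (⟨d, hd⟩ : ↥D) ^ (Nat.card ↥D) = 1 := pow_card_eq_one'
    have h' : ((⟨d, hd⟩ : ↥D) ^ (Nat.card ↥D) : ↥D).val = (1 : ↥D).val := congrArg Subtype.val h0
    rw [Subgroup.coe_pow, Subgroup.coe_one] at h'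
    exact h'
  have hw1 : w = 1 :=
    Cfsg.Agent.Lib.Helper13.eq_one_of_conj_eq_mul q d l w hconj hdw (Nat.card D) j hdm hD hj'
  rw [hw1, mul_one] at hconj
  calc l * d = (d * l * d⁻¹) * d := by rw [hconj]
    _ = d * l := by group


theorem isPGroup_zpowers (q : ℕ) (z : Γ) (k : ℕ) (hz : z ^ (q ^ k) = 1) :
    IsPGroup q (Subgroup.zpowers z) := by
  rintro ⟨x, hx⟩
  obtain ⟨i, rfl⟩ := Subgroup.mem_zpowers_iff.mp hx
  refine ⟨k, ?_⟩
  apply Subtype.ext
  show (z ^ i) ^ (q ^ k) = 1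
  rw [← zpow_natCast, ← zpow_mul, mul_comm, zpow_mul, zpow_natCast, hz, one_zpow]

theorem zpowers_le_centralizer_of_commute {z : Γ} {S : Subgroup Γ} (h : ∀ s ∈ S, s * z = z * s) :
    S ≤ centralizer ((Subgroup.zpowers z : Subgroup Γ) : Set Γ) := by
  intro s hs
  rw [Subgroup.mem_centralizer_iff]
  intro x hx
  obtain ⟨i, rfl⟩ := Subgroup.mem_zpowers_iff.mp hx
  exact ((Commute.zpow_right (h s hs) i)).eq.symm

theorem mem_normalizer_centralizer_singleton {g z : Γ} (h : g * z = z * g) :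
    g ∈ normalizer ((centralizer ({z} : Set Γ) : Subgroup Γ) : Set Γ) := by
  have key : ∀ g : Γ, g * z = z * g → ∀ x, x ∈ centralizer ({z} : Set Γ) →
      g * x * g⁻¹ ∈ centralizer ({z} : Set Γ) := by
    intro g h x hx
    rw [Subgroup.mem_centralizer_iff] at hx ⊢
    intro y hy
    rw [Set.mem_singleton_iff] at hy
    subst hy
    have h1 : y * x = x * y := hx y rfl
    have h2 : g⁻¹ * y = y * g⁻¹ := by
      calc g⁻¹ * y = g⁻¹ * (y * g) * g⁻¹ := by group
        _ = g⁻¹ * (g * y) * g⁻¹ := by rw [h]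
        _ = y * g⁻¹ := by group
    calc y * (g * x * g⁻¹) = (y * g) * x * g⁻¹ := by group
      _ = (g * y) * x * g⁻¹ := by rw [h]
      _ = g * (y * x) * g⁻¹ := by group
      _ = g * (x * y) * g⁻¹ := by rw [h1]
      _ = g * x * (y * g⁻¹) := by group
      _ = g * x * (g⁻¹ * y) := by rw [h2]
      _ = g * x * g⁻¹ * y := by group
  rw [Subgroup.mem_normalizer_iff]
  intro x
  constructor
  · exact key g h x
  · intro hx
    have h' : g⁻¹ * z = z * g⁻¹ := by
      calc g⁻¹ * z = g⁻¹ * (z * g) * g⁻¹ := by group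
        _ = g⁻¹ * (g * z) * g⁻¹ := by rw [h]
        _ = z * g⁻¹ := by group
    have := key g⁻¹ h' _ hx
    have e : g⁻¹ * (g * x * g⁻¹) * g⁻¹⁻¹ = x := by group
    rwa [e] at this

/-- **Core control.** `G = HP` with `H` a normal `p'`-subgroup, `P` a `p`-subgroup, `[H, P]` solvable,
`z` a `q`-element of `C_H(P)`.  Then
`(O_{q'}(C_H(z)) ∩ O_{q'}(C_H(P))) [O_{q'}(C_H(z)), P] ≤ O_{q'}(H)`. -/
theorem core_control {G : Type*} [Group G] [Finite G] {p : ℕ} [hp : Fact p.Prime] (H P : Subgroup G)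
    [hHn : H.Normal] (hP : IsPGroup p P) (hHp : (Nat.card H).Coprime p) (hPH : H ⊔ P = ⊤)
    (hsol : Group.IsSolvable ↥⁅H, P⁆) {q : ℕ} [hq : Fact q.Prime] (z : G) (hzH : z ∈ H)
    (hzP : z ∈ centralizer (P : Set G)) (k : ℕ) (hz : z ^ (q ^ k) = 1) :
    (ppOf q (H ⊓ centralizer ({z} : Set G)) ⊓ ppOf q (H ⊓ centralizer (P : Set G))) ⊔
      ⁅ppOf q (H ⊓ centralizer ({z} : Set G)), P⁆ ≤ ppOf q H := by
  classical
  have hqp := hq.out
  obtain ⟨Cz, hCz⟩ : ∃ Cz, Cz = H ⊓ centralizer ({z} : Set G) := ⟨_, rfl⟩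
  obtain ⟨CP, hCP⟩ : ∃ CP, CP = H ⊓ centralizer (P : Set G) := ⟨_, rfl⟩
  obtain ⟨H₁, hH₁⟩ : ∃ H₁, H₁ = ⁅H, P⁆ := ⟨_, rfl⟩
  obtain ⟨Y, hY⟩ : ∃ Y, Y = ppOf q Cz := ⟨_, rfl⟩
  obtain ⟨T, hT⟩ : ∃ T, T = ppOf q CP := ⟨_, rfl⟩
  obtain ⟨N₁, hN₁⟩ : ∃ N₁, N₁ = ppOf q H₁ := ⟨_, rfl⟩
  rw [← hCz, ← hCP, ← hY, ← hT]
  rw [← hH₁] at hsol
  -- basic facts
  have hnH : ∀ g : G, g ∈ normalizer (H : Set G) := by
    intro g; rw [Subgroup.normalizer_eq_top]; exact Subgroup.mem_top g
  have hPnH : P ≤ normalizer (H : Set G) := fun g _ => hnH g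
  haveI hH₁n : H₁.Normal := by
    rw [← Subgroup.normalizer_eq_top_iff, hH₁]
    exact top_le_iff.mp (hPH ▸ Cfsg.Agent.Lib.Helper13.le_normalizer_commutator H P)
  have hnH₁ : ∀ g : G, g ∈ normalizer (H₁ : Set G) := by
    intro g; rw [Subgroup.normalizer_eq_top]; exact Subgroup.mem_top g
  have hH₁H : H₁ ≤ H := hH₁ ▸ Cfsg.Agent.Lib.Helper13.commutator_le_of_le_normalizer H P hPnH
  have hnN₁ : ∀ g : G, g ∈ normalizer (N₁ : Set G) := by
    intro g; rw [hN₁]; exact normalizer_le_normalizer_ppOf q H₁ (hnH₁ g)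
  haveI hN₁n : N₁.Normal := by
    rw [← Subgroup.normalizer_eq_top_iff]
    exact top_le_iff.mp (fun g _ => hnN₁ g)
  have hN₁H₁ : N₁ ≤ H₁ := hN₁ ▸ ppOf_le q H₁
  have hN₁q : (Nat.card N₁).Coprime q := hN₁ ▸ ppOf_coprime q H₁
  have hN₁N : N₁ ≤ ppOf q H :=
    le_ppOf q H N₁ (hN₁H₁.trans hH₁H) (fun g _ => hnN₁ g) hN₁q
  have hYCz : Y ≤ Cz := hY ▸ ppOf_le q Cz
  have hCzY : Cz ≤ normalizer (Y : Set G) := hY ▸ le_normalizer_ppOf q Cz
  have hYq : (Nat.card Y).Coprime q := hY ▸ ppOf_coprime q Cz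
  have hCzH : Cz ≤ H := hCz ▸ inf_le_left
  have hCzz : ∀ c ∈ Cz, c * z = z * c := by
    intro c hc
    rw [hCz] at hc
    exact (Subgroup.mem_centralizer_iff.mp (Subgroup.mem_inf.mp hc).2 z rfl).symm
  have hmemCz : ∀ c : G, c ∈ H → c * z = z * c → c ∈ Cz := by
    intro c hcH hcz
    rw [hCz]
    refine Subgroup.mem_inf.mpr ⟨hcH, ?_⟩
    rw [Subgroup.mem_centralizer_iff]
    intro y hy
    rw [Set.mem_singleton_iff] at hy
    rw [hy]; exact hcz.symm
  have hYz : ∀ y ∈ Y, y * z = z * y := fun y hy => hCzz y (hYCz hy)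
  have hPz : ∀ g ∈ P, g * z = z * g := by
    intro g hg
    exact Subgroup.mem_centralizer_iff.mp hzP g hg
  have hPCz : P ≤ normalizer (Cz : Set G) := by
    intro g hg
    rw [hCz]
    exact mem_normalizer_inf (hnH g) (mem_normalizer_centralizer_singleton (hPz g hg))
  have hPY : P ≤ normalizer (Y : Set G) := by
    intro g hg
    rw [hY]
    exact normalizer_le_normalizer_ppOf q Cz (hPCz hg)
  have hzp : IsPGroup q (Subgroup.zpowers z) := isPGroup_zpowers q z k hz
  have hzN₁ : ¬ q ∣ Nat.card N₁ := by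
    intro hd
    have h1 : q ∣ Nat.gcd (Nat.card N₁) q := Nat.dvd_gcd hd dvd_rfl
    rw [hN₁q] at h1
    exact hqp.one_lt.ne' (Nat.dvd_one.mp h1)
  refine sup_le ?_ ?_
  · -- Part 2
    obtain ⟨π, hπ⟩ : ∃ π : G →* G ⧸ N₁, π = QuotientGroup.mk' N₁ := ⟨_, rfl⟩
    have hπs : Function.Surjective π := hπ ▸ QuotientGroup.mk'_surjective N₁
    have hπker : ∀ x : G, π x = 1 ↔ x ∈ N₁ := by
      intro x; rw [hπ]; exact QuotientGroup.eq_one_iff x
    obtain ⟨L, hLdef⟩ : ∃ L : Subgroup (G ⧸ N₁), L = H₁.map π := ⟨_, rfl⟩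
    obtain ⟨D, hDdef⟩ : ∃ D : Subgroup G, D = Y ⊓ T := ⟨_, rfl⟩
    rw [← hDdef]
    haveI hLn : L.Normal := by rw [hLdef]; exact Subgroup.Normal.map hH₁n π hπs
    have hLs : Group.IsSolvable ↥L := by
      rw [hLdef]
      haveI := hsol
      exact Group.isSolvable_of_surjective (MonoidHom.subgroupMap_surjective π H₁)
    have hDY : D ≤ Y := hDdef ▸ inf_le_left
    have hDT : D ≤ T := hDdef ▸ inf_le_right
    have hDq : (Nat.card (D.map π)).Coprime q :=
      Nat.Coprime.coprime_dvd_left ((Subgroup.card_map_dvd _ _).trans (Subgroup.card_dvd_of_le hDY)) hYq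
    have hcent : D.map π ≤ centralizer (L : Set (G ⧸ N₁)) := by
      apply centralizes_of_fix q L (D.map π) hLs ?_ hDq (π z) k (by rw [← map_pow, hz, map_one])
      · rintro _ ⟨d, hd, rfl⟩
        rw [← map_mul, ← map_mul, hYz d (hDY hd)]
      · rintro c hcL hcz _ ⟨d, hd, rfl⟩
        rw [hLdef] at hcL
        obtain ⟨r, hr, rfl⟩ := hcL
        have hy : r⁻¹ * (z * r * z⁻¹) ∈ N₁ := by
          rw [← hπker]
          simp only [map_mul, map_inv]
          rw [← hcz]; group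
        obtain ⟨n, hn, hfixed⟩ := exists_fixed_in_coset q z r k hz N₁ hzN₁ (hnN₁ z) hy
        obtain ⟨c, hcdef⟩ : ∃ c : G, c = r * n := ⟨_, rfl⟩
        rw [← hcdef] at hfixed
        have hcH₁ : c ∈ H₁ := hcdef ▸ H₁.mul_mem hr (hN₁H₁ hn)
        have hcz' : c * z = z * c := by
          calc c * z = (z * c * z⁻¹) * z := by rw [hfixed]
            _ = z * c := by group
        have hcCz : c ∈ Cz := hmemCz c (hH₁H hcH₁) hcz'
        have hπc : π c = π r := by
          rw [hcdef, map_mul, (hπker n).mpr hn, mul_one]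
        have hcomm : ⁅c, d⁆ ∈ Y := by
          have h1 : c * d * c⁻¹ ∈ Y :=
            (Subgroup.mem_normalizer_iff.mp (hCzY hcCz) d).mp (hDY hd)
          rw [commutatorElement_def]
          exact Y.mul_mem h1 (Y.inv_mem (hDY hd))
        have h2 : orderOf ⁅c, d⁆ ∣ Nat.card Y := by
          have := orderOf_dvd_natCard (⟨_, hcomm⟩ : ↥Y)
          rwa [Subgroup.orderOf_mk] at this
        have h3 : ⁅π r, π d⁆ = π ⁅c, d⁆ := by
          rw [map_commutatorElement, hπc]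
        rw [h3]
        exact Nat.Coprime.coprime_dvd_left ((orderOf_map_dvd π _).trans h2) hYq
      · -- O_{q'}(L) = 1
        intro M hML hLM hMq
        obtain ⟨M', hM'⟩ : ∃ M' : Subgroup G, M' = M.comap π ⊓ H₁ := ⟨_, rfl⟩
        have hM'N₁ : M' ≤ N₁ := by
          rw [hN₁]
          apply le_ppOf q H₁ M' (hM' ▸ inf_le_right)
          · intro h hh
            rw [hM']
            refine mem_normalizer_inf ?_ (hnH₁ h)
            apply Subgroup.le_normalizer_comap π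
            rw [Subgroup.mem_comap]
            apply hLM
            rw [hLdef]
            exact ⟨h, hh, rfl⟩
          · rw [Nat.coprime_comm, Nat.Prime.coprime_iff_not_dvd hqp]
            intro hd
            obtain ⟨x, hx⟩ := exists_prime_orderOf_dvd_card' (G := ↥M') q hd
            have hxM : (x : G) ∈ M.comap π := by
              have hle : M' ≤ M.comap π := hM' ▸ inf_le_left
              exact hle x.2
            rw [Subgroup.mem_comap] at hxM
            have h1 : (π (x : G)) ^ (Nat.card M) = 1 := by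
              have h0 : (⟨π (x : G), hxM⟩ : ↥M) ^ (Nat.card ↥M) = 1 := pow_card_eq_one'
              have h' := congrArg Subtype.val h0
              rw [Subgroup.coe_pow, Subgroup.coe_one] at h'
              exact h'
            rw [← map_pow, hπker] at h1
            have h2 : ((x : G) ^ (Nat.card M)) ^ (Nat.card N₁) = 1 := by
              have h0 : (⟨_, h1⟩ : ↥N₁) ^ (Nat.card ↥N₁) = 1 := pow_card_eq_one'
              have h' := congrArg Subtype.val h0
              rw [Subgroup.coe_pow, Subgroup.coe_one] at h'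
              exact h'
            rw [← pow_mul] at h2
            have h3 : orderOf (x : G) ∣ Nat.card M * Nat.card N₁ := orderOf_dvd_of_pow_eq_one h2
            rw [Subgroup.orderOf_coe, hx] at h3
            rcases (Nat.Prime.dvd_mul hqp).mp h3 with h4 | h4
            · have h5 : q ∣ Nat.gcd (Nat.card M) q := Nat.dvd_gcd h4 dvd_rfl
              rw [hMq] at h5
              exact hqp.one_lt.ne' (Nat.dvd_one.mp h5)
            · exact hzN₁ h4
        rw [eq_bot_iff]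
        intro m hm
        have hmL := hML hm
        rw [hLdef] at hmL
        obtain ⟨h, hh, rfl⟩ := hmL
        have : h ∈ M' := by
          rw [hM']; exact Subgroup.mem_inf.mpr ⟨Subgroup.mem_comap.mpr hm, hh⟩
        rw [Subgroup.mem_bot, hπker]
        exact hM'N₁ this
    -- the final step
    obtain ⟨D₁, hD₁⟩ : ∃ D₁ : Subgroup G, D₁ = T ⊓ (centralizer (L : Set (G ⧸ N₁))).comap π :=
      ⟨_, rfl⟩
    have hDD₁ : D ≤ D₁ := by
      intro d hd
      rw [hD₁]
      exact Subgroup.mem_inf.mpr ⟨hDT hd, Subgroup.mem_comap.mpr (hcent ⟨d, hd, rfl⟩)⟩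
    have hTCP : T ≤ CP := hT ▸ ppOf_le q CP
    have hCPT : CP ≤ normalizer (T : Set G) := hT ▸ le_normalizer_ppOf q CP
    have hTq : (Nat.card T).Coprime q := hT ▸ ppOf_coprime q CP
    have hCPH : CP ≤ H := hCP ▸ inf_le_left
    have hcommN₁ : ∀ h ∈ H₁, ∀ t ∈ D₁, h * t * h⁻¹ * t⁻¹ ∈ N₁ := by
      intro h hh t ht
      rw [hD₁] at ht
      have h1 := Subgroup.mem_comap.mp (Subgroup.mem_inf.mp ht).2
      rw [Subgroup.mem_centralizer_iff] at h1
      have h2 : π h * π t = π t * π h := h1 (π h) (by rw [hLdef]; exact ⟨h, hh, rfl⟩)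
      rw [← hπker]
      simp only [map_mul, map_inv]
      rw [h2]; group
    obtain ⟨W, hW⟩ : ∃ W : Subgroup G, W = D₁ ⊔ N₁ := ⟨_, rfl⟩
    have hWH : W ≤ H := by
      rw [hW]
      refine sup_le ?_ (hN₁H₁.trans hH₁H)
      rw [hD₁]
      exact inf_le_left.trans (hTCP.trans hCPH)
    have hWq : (Nat.card W).Coprime q := by
      rw [hW]
      refine Nat.Coprime.coprime_dvd_left (card_sup_dvd_mul D₁ N₁) ?_
      refine Nat.Coprime.mul_left ?_ hN₁q
      exact Nat.Coprime.coprime_dvd_left (Subgroup.card_dvd_of_le (hD₁ ▸ inf_le_left)) hTq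
    have hHdecomp : H₁ ⊔ CP = H := by
      rw [hH₁, hCP]
      haveI : Group.IsNilpotent ↥P := hP.isNilpotent
      apply Cfsg.Agent.Lib.Helper13.coprime_commutator_sup_centralizer P H hPnH _ (Or.inl inferInstance)
      obtain ⟨n, hn⟩ := IsPGroup.iff_card.mp hP
      rw [hn]
      exact (Nat.Coprime.pow_right n hHp).symm
    have hHW : H ≤ normalizer (W : Set G) := by
      rw [← hHdecomp]
      refine sup_le ?_ ?_
      · intro h hh
        apply mem_normalizer_of_conj_mem'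
        intro w hw
        rw [hW] at hw ⊢
        obtain ⟨t, ht, n, hn, rfl⟩ := Subgroup.mem_sup_of_normal_right.mp hw
        have h1 := hcommN₁ h hh t ht
        have h2 : h * n * h⁻¹ ∈ N₁ := hN₁n.conj_mem n hn h
        have e : h * (t * n) * h⁻¹ = (h * t * h⁻¹ * t⁻¹) * (t * (h * n * h⁻¹)) := by group
        rw [e]
        exact Subgroup.mul_mem _ (Subgroup.mem_sup_right h1)
          (Subgroup.mul_mem _ (Subgroup.mem_sup_left ht) (Subgroup.mem_sup_right h2))
      · intro g hg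
        rw [hW]
        refine mem_normalizer_sup ?_ (hnN₁ g)
        rw [hD₁]
        refine mem_normalizer_inf (hCPT hg) ?_
        haveI : (centralizer (L : Set (G ⧸ N₁))).Normal := inferInstance
        haveI : ((centralizer (L : Set (G ⧸ N₁))).comap π).Normal := inferInstance
        rw [Subgroup.normalizer_eq_top]; exact Subgroup.mem_top g
    have hWN : W ≤ ppOf q H := le_ppOf q H W hWH hHW hWq
    exact (hDD₁.trans (hW ▸ le_sup_left)).trans hWN
  · -- Part 1
    have h1 : ⁅Y, P⁆ ≤ Y := Cfsg.Agent.Lib.Helper13.commutator_le_of_le_normalizer Y P hPY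
    have h2 : ⁅Y, P⁆ ≤ H₁ := hH₁ ▸ Subgroup.commutator_mono (hYCz.trans hCzH) le_rfl
    obtain ⟨X, hX⟩ : ∃ X : Subgroup G, X = H₁ ⊔ Subgroup.zpowers z := ⟨_, rfl⟩
    have hzs : Group.IsSolvable ↥(Subgroup.zpowers z) := by
      apply Group.isSolvable_of_comm
      intro a b
      apply Subtype.ext
      obtain ⟨i, hi⟩ := Subgroup.mem_zpowers_iff.mp a.2
      obtain ⟨j, hj⟩ := Subgroup.mem_zpowers_iff.mp b.2
      show (a : G) * b = b * a
      rw [← hi, ← hj, ← zpow_add, ← zpow_add, add_comm]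
    haveI hXs : Group.IsSolvable ↥X := by
      rw [hX]
      exact isSolvable_sup_of_le_normalizer H₁ (Subgroup.zpowers z) (fun g _ => hnH₁ g) hsol hzs
    have hXH : X ≤ H := by
      rw [hX]
      refine sup_le hH₁H ?_
      rw [Subgroup.zpowers_le]; exact hzH
    obtain ⟨K', hK'⟩ : ∃ K' : Subgroup G, K' = Y ⊓ H₁ := ⟨_, rfl⟩
    have hK'X : K' ≤ ppOf q X := by
      apply lemmaA X q (Subgroup.zpowers z) K' (hX ▸ le_sup_right)
        (hK' ▸ inf_le_right.trans (hX ▸ le_sup_left)) hzp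
      · exact Nat.Coprime.coprime_dvd_left (Subgroup.card_dvd_of_le (hK' ▸ inf_le_left)) hYq
      · apply zpowers_le_centralizer_of_commute
        intro s hs
        rw [hK'] at hs
        exact hYz s (Subgroup.mem_inf.mp hs).1
      · intro x hx
        obtain ⟨hxX, hxC⟩ := Subgroup.mem_inf.mp hx
        have hxz : x * z = z * x :=
          (Subgroup.mem_centralizer_iff.mp hxC z (Subgroup.mem_zpowers z)).symm
        have hxCz : x ∈ Cz := hmemCz x (hXH hxX) hxz
        rw [hK']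
        exact mem_normalizer_inf (hCzY hxCz) (hnH₁ x)
    obtain ⟨M₁, hM₁⟩ : ∃ M₁ : Subgroup G, M₁ = ppOf q X ⊓ H₁ := ⟨_, rfl⟩
    have hM₁N₁ : M₁ ≤ N₁ := by
      rw [hN₁]
      apply le_ppOf q H₁ M₁ (hM₁ ▸ inf_le_right)
      · intro h hh
        rw [hM₁]
        refine mem_normalizer_inf ?_ (hnH₁ h)
        apply le_normalizer_ppOf q X
        rw [hX]; exact Subgroup.mem_sup_left hh
      · exact Nat.Coprime.coprime_dvd_left (Subgroup.card_dvd_of_le (hM₁ ▸ inf_le_left))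
          (ppOf_coprime q X)
    have h3 : ⁅Y, P⁆ ≤ M₁ := by
      rw [hM₁]
      refine le_inf ?_ h2
      refine le_trans ?_ hK'X
      rw [hK']
      exact le_inf h1 h2
    exact (h3.trans hM₁N₁).trans hN₁N

end Cfsg.Agent.Lib.Helper13.CoreControl
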