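import Mathlib
import Cfsg.Agent.Lib.Helper13.Baer
import Cfsg.Agent.Lib.Helper13.Coprime
import Cfsg.Agent.Lib.Helper13.SZConjA
import Cfsg.Agent.Lib.Helper13.ThompsonTransfer
import Cfsg.Agent.Lib.Helper20.AxB

/-!
# A generalized `A × B`-lemma for odd primes (helper13)

`gen_AxB`: let `p` be odd, `A` a `p`-group normalizing the `p'`-group `K`, both normalizing the
`p`-group `R`.  If `K` centralizes `C_R(A)` then `K` centralizes `R`.
(For `p = 2` this fails: `Q₈ ⋊ S₃`.)
-/

set_option autoImplicit false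
set_option linter.style.haveILetI false

universe u

namespace Cfsg.Agent.Lib.Helper13

open scoped commutatorElement
open Subgroup

section

variable {H : Type u} [Group H]

/-- conjugation action of the normalizer of `R` on `R`. -/
def conjAut (R : Subgroup H) : ↥(Subgroup.normalizer (R : Set H)) →* MulAut ↥R where
  toFun g :=
    { toFun := fun x => ⟨(g : H) * x * (g : H)⁻¹, (Subgroup.mem_normalizer_iff.mp g.2 x).mp x.2⟩
      invFun := fun x => ⟨(g : H)⁻¹ * x * (g : H), by
        have := (Subgroup.mem_normalizer_iff.mp (Subgroup.inv_mem _ g.2) x).mp x.2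
        simpa using this⟩
      left_inv := fun x => by apply Subtype.ext; simp [mul_assoc]
      right_inv := fun x => by apply Subtype.ext; simp [mul_assoc]
      map_mul' := fun x y => by apply Subtype.ext; simp [mul_assoc] }
  map_one' := by ext x; simp
  map_mul' := fun g h => by ext x; simp [mul_assoc]

theorem conjAut_apply (R : Subgroup H) (g : ↥(Subgroup.normalizer (R : Set H))) (x : ↥R) :
    ((conjAut R g x : ↥R) : H) = (g : H) * x * (g : H)⁻¹ := rfl

theorem mem_normalizer_commutator {a : H} {X Y : Subgroup H}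
    (hX : a ∈ normalizer (X : Set H)) (hY : a ∈ normalizer (Y : Set H)) :
    a ∈ normalizer ((⁅X, Y⁆ : Subgroup H) : Set H) := by
  rw [Subgroup.mem_normalizer_iff_map_conj_eq] at *
  rw [Subgroup.map_commutator, hX, hY]

end

/-- **Generalized `A × B`-lemma** (odd `p`). -/
theorem gen_AxB {H : Type u} [Group H] [Finite H] (p : ℕ) [hp : Fact p.Prime] (hp2 : p ≠ 2)
    (A K : Subgroup H) (hA : IsPGroup p A) (hK : (Nat.card K).Coprime p)
    (hAK : A ≤ normalizer (K : Set H)) :
    ∀ n : ℕ, ∀ R : Subgroup H, Nat.card R = n → IsPGroup p R → A ≤ normalizer (R : Set H) →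
      K ≤ normalizer (R : Set H) → R ⊓ centralizer (A : Set H) ≤ centralizer (K : Set H) →
      R ≤ centralizer (K : Set H) := by
  intro n
  induction n using Nat.strong_induction_on with
  | _ n ih =>
  intro R hn hR hAR hKR hfix
  have hcopKR : (Nat.card K).Coprime (Nat.card R) := by
    obtain ⟨m, hm⟩ := IsPGroup.iff_card.mp hR
    rw [hm]; exact Nat.Coprime.pow_right m hK
  -- `R₀ = [R, K]`
  have hR₀R : ⁅R, K⁆ ≤ R := commutator_le_of_le_normalizer R K hKR
  have hR₀A : A ≤ normalizer ((⁅R, K⁆ : Subgroup H) : Set H) :=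
    fun a ha => mem_normalizer_commutator (hAR ha) (hAK ha)
  have hR₀K : K ≤ normalizer ((⁅R, K⁆ : Subgroup H) : Set H) :=
    le_sup_right.trans (le_normalizer_commutator R K)
  by_cases hlt : Nat.card ↥⁅R, K⁆ < n
  · have h1 := ih _ hlt ⁅R, K⁆ rfl (hR.to_le hR₀R) hR₀A hR₀K
      ((inf_le_inf_right _ hR₀R).trans hfix)
    have h2 : ⁅⁅R, K⁆, K⁆ = ⊥ := Subgroup.commutator_eq_bot_iff_le_centralizer.mpr h1
    have h3 := Helper20.commutator_eq_bot_of_commutator_commutator_eq_bot p R K hR hK hKR h2
    exact Subgroup.commutator_eq_bot_iff_le_centralizer.mp h3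
  · -- `R = [R, K]`
    have hRK : ⁅R, K⁆ = R := by
      apply Subgroup.eq_of_le_of_card_ge hR₀R
      rw [hn]; omega
    by_cases hRbot : R = ⊥
    · rw [hRbot]; exact bot_le
    -- the derived subgroup is centralized by `K`
    have hR'lt : Nat.card ↥⁅R, R⁆ < n := by
      rw [← hn]
      exact Helper20.card_commutator_lt_of_isPGroup p R R hR hR Subgroup.le_normalizer hRbot
    have hR'R : ⁅R, R⁆ ≤ R := commutator_le_of_le_normalizer R R Subgroup.le_normalizer
    have hR'K : ⁅R, R⁆ ≤ centralizer (K : Set H) :=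
      ih _ hR'lt ⁅R, R⁆ rfl (hR.to_le hR'R)
        (fun a ha => mem_normalizer_commutator (hAR ha) (hAR ha))
        (fun k hk => mem_normalizer_commutator (hKR hk) (hKR hk))
        ((inf_le_inf_right _ hR'R).trans hfix)
    -- class at most two
    have hcl2 : ⁅R, ⁅R, R⁆⁆ = ⊥ := by
      have h1 : ⁅⁅K, ⁅R, R⁆⁆, R⁆ = ⊥ := by
        have : ⁅K, ⁅R, R⁆⁆ = ⊥ := by
          rw [Subgroup.commutator_comm]
          exact Subgroup.commutator_eq_bot_iff_le_centralizer.mpr hR'K
        rw [this, Subgroup.commutator_bot_left]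
      have h2 : ⁅⁅⁅R, R⁆, R⁆, K⁆ = ⊥ := by
        rw [eq_bot_iff]
        calc ⁅⁅⁅R, R⁆, R⁆, K⁆ ≤ ⁅⁅R, R⁆, K⁆ := Subgroup.commutator_mono
              (commutator_le_of_le_normalizer _ R
                (fun r hr => mem_normalizer_commutator (Subgroup.le_normalizer hr)
                  (Subgroup.le_normalizer hr))) le_rfl
          _ = ⊥ := Subgroup.commutator_eq_bot_iff_le_centralizer.mpr hR'K
      have h3 := Subgroup.commutator_commutator_eq_bot_of_rotate h1 h2
      rw [hRK] at h3
      exact h3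
    have hclass : IsClass2 ↥R := by
      intro x y z
      apply Subtype.ext
      have h1 : (⁅x, y⁆ : ↥R).1 ∈ ⁅R, R⁆ := by
        have : ((⁅x, y⁆ : ↥R) : H) = ⁅(x : H), (y : H)⁆ := by
          simp [commutatorElement_def]
        rw [this]
        exact Subgroup.commutator_mem_commutator x.2 y.2
      have h2 : ⁅R, R⁆ ≤ centralizer (R : Set H) := by
        rw [← Subgroup.commutator_eq_bot_iff_le_centralizer, Subgroup.commutator_comm]
        exact hcl2
      have h3 := Subgroup.mem_centralizer_iff.mp (h2 h1) z z.2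
      simpa using h3.symm
    have hodd : Odd (Nat.card R) := by
      obtain ⟨m, hm⟩ := IsPGroup.iff_card.mp hR
      rw [hm]
      exact (hp.out.odd_of_ne_two hp2).pow
    -- transport to `MulAut R`
    haveI : Finite (MulAut ↥R) := Finite.of_injective (fun φ : MulAut ↥R => (φ : ↥R → ↥R))
      (fun φ ψ h => MulEquiv.ext (fun x => congrFun h x))
    obtain ⟨K', hK'def⟩ : ∃ K' : Subgroup (MulAut ↥R),
        K' = (K.subgroupOf (normalizer (R : Set H))).map (conjAut R) := ⟨_, rfl⟩
    obtain ⟨A', hA'def⟩ : ∃ A' : Subgroup (MulAut ↥R),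
        A' = (A.subgroupOf (normalizer (R : Set H))).map (conjAut R) := ⟨_, rfl⟩
    have hK'cop : (Nat.card K').Coprime (Nat.card R) := by
      apply Nat.Coprime.coprime_dvd_left _ hcopKR
      rw [hK'def]
      exact (Subgroup.card_map_dvd _ _).trans (by rw [card_subgroupOf_of_le hKR])
    have hA'p : IsPGroup p A' := by
      rw [hA'def]
      exact (hA.comap_subtype).map _
    have hA'K' : A' ≤ normalizer (K' : Set (MulAut ↥R)) := by
      rw [hA'def, hK'def]
      rintro _ ⟨a, ha, rfl⟩
      apply mem_normalizer_of_conj_mem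
      rintro _ ⟨k, hk, rfl⟩
      refine ⟨a * k * a⁻¹, ?_, by simp⟩
      rw [SetLike.mem_coe, Subgroup.mem_subgroupOf] at ha hk ⊢
      exact (Subgroup.mem_normalizer_iff.mp (hAK ha) _).mp hk
    have key := baer_fix p hodd hclass hR K' A' hK'cop hA'p hA'K' (by
      intro x hx k' hk'
      rw [hK'def] at hk'
      obtain ⟨k, hk, rfl⟩ := hk'
      rw [SetLike.mem_coe, Subgroup.mem_subgroupOf] at hk
      have hxA : (x : H) ∈ R ⊓ centralizer (A : Set H) := by
        refine ⟨x.2, Subgroup.mem_centralizer_iff.mpr ?_⟩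
        intro a ha
        have h1 := hx (conjAut R ⟨a, hAR ha⟩) (by
          rw [hA'def]
          exact ⟨⟨a, hAR ha⟩, Subgroup.mem_subgroupOf.mpr ha, rfl⟩)
        have h2 := congrArg Subtype.val h1
        rw [conjAut_apply] at h2
        calc a * (x : H) = a * x * a⁻¹ * a := by group
          _ = x * a := by rw [h2]
      have hxK := Subgroup.mem_centralizer_iff.mp (hfix hxA) (k : H) hk
      apply Subtype.ext
      rw [conjAut_apply, hxK, mul_inv_cancel_right])
    intro x hx
    rw [Subgroup.mem_centralizer_iff]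
    intro k hk
    have h1 := key (conjAut R ⟨k, hKR hk⟩) (by
      rw [hK'def]
      exact ⟨⟨k, hKR hk⟩, Subgroup.mem_subgroupOf.mpr hk, rfl⟩) ⟨x, hx⟩
    have h2 := congrArg Subtype.val h1
    rw [conjAut_apply] at h2
    calc k * x = k * x * k⁻¹ * k := by group
      _ = x * k := by rw [h2]

end Cfsg.Agent.Lib.Helper13
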