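import Mathlib
import Cfsg.Agent.Lib.Helper13.GenAxB
import Cfsg.Agent.Lib.Helper20.Bender
import Cfsg.Agent.Lib.Helper20.CoprimeLift
import Cfsg.Agent.Lib.Helper20.Cores
import Cfsg.Agent.Lib.Helper2.Cores

/-!
# Invariant `p'`-subgroups lie in `O_{p'}` (helper13)

`invariant_le_pPrimeCore`: `p` odd, `H` solvable, `B` a `p`-subgroup containing every `p`-element of
`C_H(B)`, `K` a `B`-invariant `p'`-subgroup.  Then `K ≤ O_{p'}(H)`.
-/

set_option autoImplicit false
set_option linter.style.haveILetI false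

universe u

namespace Cfsg.Agent.Lib.Helper13

open scoped commutatorElement
open Subgroup

/-- the `p`-part trick: an element `x̄` of `p`-power order which is the image of `y` is the image of a
power of `y` of `p`-power order. -/
theorem exists_pow_isPGroup {G Q : Type*} [Group G] [Finite G] [Group Q] (p : ℕ) [hp : Fact p.Prime]
    (f : G →* Q) (y : G) (j : ℕ) (hj : (f y) ^ p ^ j = 1) :
    ∃ e : ℕ, f (y ^ e) = f y ∧ IsPGroup p (Subgroup.zpowers (y ^ e)) := by
  have hNpos : 0 < orderOf y := orderOf_pos y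
  obtain ⟨a, m, hm, hN⟩ := Nat.exists_eq_pow_mul_and_not_dvd hNpos.ne' p hp.out.ne_one
  have hcop : (p ^ j).Coprime m :=
    Nat.Coprime.pow_left j ((Nat.Prime.coprime_iff_not_dvd hp.out).mpr hm)
  obtain ⟨e, he1, he0⟩ := Nat.chineseRemainder hcop 1 0
  refine ⟨e, ?_, ?_⟩
  · rw [map_pow]
    have h1 : (f y) ^ e = (f y) ^ (e % p ^ j) := pow_eq_pow_mod e hj
    have h2 : (f y) ^ 1 = (f y) ^ (1 % p ^ j) := pow_eq_pow_mod 1 hj
    rw [h1, he1, ← h2, pow_one]
  · have hme : m ∣ e := (Nat.modEq_zero_iff_dvd).mp he0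
    obtain ⟨s, rfl⟩ := hme
    have h3 : (y ^ (m * s)) ^ p ^ a = 1 := by
      rw [← pow_mul]
      have : m * s * p ^ a = orderOf y * s := by rw [hN]; ring
      rw [this, pow_mul, pow_orderOf_eq_one, one_pow]
    have h4 : orderOf (y ^ (m * s)) ∣ p ^ a := orderOf_dvd_of_pow_eq_one h3
    obtain ⟨i, -, hi⟩ := (Nat.dvd_prime_pow hp.out).mp h4
    apply IsPGroup.of_card (n := i)
    rw [Nat.card_zpowers, hi]

/-- **Invariant `p'`-subgroups lie in `O_{p'}`.** -/
theorem invariant_le_pPrimeCore {H : Type u} [Group H] [Finite H] [Group.IsSolvable H] (p : ℕ)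
    [hp : Fact p.Prime] (hp2 : p ≠ 2) (B K : Subgroup H) (hBp : IsPGroup p B)
    (hBfull : ∀ y ∈ centralizer (B : Set H), IsPGroup p (Subgroup.zpowers y) → y ∈ B)
    (hK : (Nat.card K).Coprime p) (hBK : B ≤ normalizer (K : Set H)) :
    K ≤ Cfsg.pPrimeCore p H := by
  obtain ⟨O, hOdef⟩ : ∃ O : Subgroup H, O = Cfsg.pPrimeCore p H := ⟨_, rfl⟩
  rw [← hOdef]
  haveI hOn : O.Normal := by rw [hOdef]; exact Helper2.pPrimeCore_normal p
  have hOcop : (Nat.card O).Coprime p := by rw [hOdef]; exact Helper2.pPrimeCore_coprime p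
  have hOnd : ¬ p ∣ Nat.card O := (Nat.Prime.coprime_iff_not_dvd hp.out).mp hOcop.symm
  have hcore : Cfsg.pPrimeCore p (H ⧸ O) = ⊥ := by
    subst hOdef
    exact Helper20.pPrimeCore_quotient_eq_bot p
  obtain ⟨π, hπdef⟩ : ∃ π : H →* H ⧸ O, π = QuotientGroup.mk' O := ⟨_, rfl⟩
  have hπsurj : Function.Surjective π := by rw [hπdef]; exact QuotientGroup.mk'_surjective O
  have hπker : π.ker = O := by rw [hπdef]; exact QuotientGroup.ker_mk' O
  obtain ⟨R, hRdef⟩ : ∃ R : Subgroup (H ⧸ O), R = Cfsg.pCore p (H ⧸ O) := ⟨_, rfl⟩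
  haveI hRn : R.Normal := by rw [hRdef]; exact Helper2.pCore_normal p
  have hRp : IsPGroup p R := by rw [hRdef]; exact Helper2.pCore_isPGroup p
  have hCR : centralizer (R : Set (H ⧸ O)) ≤ R := by
    rw [hRdef]; exact Helper20.solvable_centralizer_pCore_le p hcore
  have hKbar : (Nat.card (K.map π)).Coprime p :=
    Nat.Coprime.coprime_dvd_left (Subgroup.card_map_dvd K π) hK
  have hBKbar : B.map π ≤ normalizer ((K.map π : Subgroup (H ⧸ O)) : Set (H ⧸ O)) :=
    (Subgroup.map_mono hBK).trans (Subgroup.le_normalizer_map π)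
  have hdisj : ∀ x : H ⧸ O, x ∈ R → x ∈ K.map π → x = 1 := by
    intro x hxR hxK
    have h1 : orderOf x ∣ Nat.card (K.map π) := Subgroup.orderOf_dvd_natCard _ hxK
    obtain ⟨j, hj⟩ := (IsPGroup.iff_orderOf.mp hRp) ⟨x, hxR⟩
    have h2 : orderOf x = p ^ j := by rw [← hj]; exact (Subgroup.orderOf_mk x hxR).symm
    have h3 : orderOf x = 1 := by
      apply Nat.eq_one_of_dvd_coprimes (hKbar.pow_right j) h1
      rw [h2]
    exact orderOf_eq_one_iff.mp h3
  have key := gen_AxB p hp2 (B.map π) (K.map π) (hBp.map π) hKbar hBKbar _ R rfl hRp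
    (by rw [Subgroup.normalizer_eq_top R]; exact le_top)
    (by rw [Subgroup.normalizer_eq_top R]; exact le_top)
    (by
      rintro x ⟨hxR, hxC⟩
      -- `x ∈ B̄`
      have hxC' : x ∈ (centralizer (B : Set H)).map (QuotientGroup.mk' O) := by
        rw [← Helper20.centralizer_map_mk'_of_coprime p O hOnd B hBp, ← hπdef]
        exact hxC
      rw [← hπdef] at hxC'
      obtain ⟨y, hyC, rfl⟩ := hxC'
      obtain ⟨j, hj⟩ := hRp ⟨π y, hxR⟩
      have hj' : (π y) ^ p ^ j = 1 := by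
        have := congrArg Subtype.val hj
        simpa using this
      obtain ⟨e, he1, he2⟩ := exists_pow_isPGroup p π y j hj'
      have hyeB : y ^ e ∈ B := hBfull _ (Subgroup.pow_mem _ hyC e) he2
      have hxB : π y ∈ B.map π := by rw [← he1]; exact Subgroup.mem_map_of_mem π hyeB
      rw [Subgroup.mem_centralizer_iff]
      intro k hk
      -- the commutator lies in `R ∩ K̄`
      have h1 : ⁅π y, k⁆ ∈ R := by
        rw [commutatorElement_def]
        have : π y * k * (π y)⁻¹ * k⁻¹ = π y * (k * (π y)⁻¹ * k⁻¹) := by group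
        rw [this]
        exact R.mul_mem hxR (hRn.conj_mem _ (R.inv_mem hxR) k)
      have h2 : ⁅π y, k⁆ ∈ K.map π := by
        rw [commutatorElement_def]
        exact Subgroup.mul_mem _
          ((Subgroup.mem_normalizer_iff.mp (hBKbar hxB) k).mp hk) (Subgroup.inv_mem _ hk)
      have h3 := hdisj _ h1 h2
      exact (commutatorElement_eq_one_iff_commute.mp h3).eq.symm)
  -- `K̄ ≤ C(R) ≤ R`
  have hKR : K.map π ≤ R := by
    refine le_trans ?_ hCR
    intro k hk
    rw [Subgroup.mem_centralizer_iff]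
    intro r hr
    exact (Subgroup.mem_centralizer_iff.mp (key hr) k hk).symm
  intro k hk
  have h1 : π k = 1 := hdisj _ (hKR (Subgroup.mem_map_of_mem π hk)) (Subgroup.mem_map_of_mem π hk)
  rw [← hπker, MonoidHom.mem_ker]
  exact h1

end Cfsg.Agent.Lib.Helper13
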