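import Mathlib
import Cfsg.Agent.Lib.Helper13.InvPrime
import Cfsg.Agent.Lib.Helper13.RankThree
import Cfsg.Agent.Lib.Helper13.CoprimeSylow
import Cfsg.Agent.Lib.Helper13.CoprimeSylow2
import Cfsg.Agent.Lib.Helper13.Glauberman
import Cfsg.Agent.Lib.Helper13.SZBasic
import Cfsg.Agent.Lib.Helper13.SZConjA
import Cfsg.Agent.Lib.Helper13.SZConjB

/-!
# Thompson's transitivity theorem (helper13)

`transitivity`: `B` an abelian `p`-subgroup (p odd) containing every `p`-element of its centralizer and an elementary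
abelian subgroup of order `p³`; all `p`-local subgroups solvable.  Then the maximal `B`-invariant
`q`-subgroups are conjugate under `C(B)`.
-/

set_option autoImplicit false
set_option linter.style.haveILetI false

universe u

namespace Cfsg.Agent.Lib.Helper13

open Subgroup
open scoped Pointwise

variable {X : Type u} [Group X]

/-- `Q` is maximal among the `B`-invariant `q`-subgroups. -/
def IsMaxInv (B : Subgroup X) (q : ℕ) (Q : Subgroup X) : Prop :=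
  IsPGroup q Q ∧ B ≤ normalizer (Q : Set X) ∧
    ∀ R : Subgroup X, IsPGroup q R → B ≤ normalizer (R : Set X) → Q ≤ R → R = Q

/-- conjugate under the centralizer of `B`. -/
def CConj (B Q Q' : Subgroup X) : Prop :=
  ∃ c ∈ centralizer (B : Set X), Q' = MulAut.conj c • Q

theorem CConj.refl (B Q : Subgroup X) : CConj B Q Q := ⟨1, one_mem _, (cj_one Q).symm⟩

theorem CConj.symm {B Q Q' : Subgroup X} (h : CConj B Q Q') : CConj B Q' Q := by
  obtain ⟨c, hc, h⟩ := h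
  exact ⟨c⁻¹, inv_mem hc, by rw [h, ← cj_mul, inv_mul_cancel, cj_one]⟩

theorem CConj.trans {B Q Q' Q'' : Subgroup X} (h : CConj B Q Q') (h' : CConj B Q' Q'') :
    CConj B Q Q'' := by
  obtain ⟨c, hc, h⟩ := h
  obtain ⟨d, hd, h'⟩ := h'
  exact ⟨d * c, mul_mem hd hc, by rw [h', h, cj_mul]⟩

theorem le_normalizer_cj_of_mem_centralizer {B Q : Subgroup X} {c : X}
    (hc : c ∈ centralizer (B : Set X)) (h : B ≤ normalizer (Q : Set X)) :
    B ≤ normalizer ((MulAut.conj c • Q : Subgroup X) : Set X) := by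
  have h1 := cj_le_normalizer_cj (g := c) h
  rwa [cj_eq_self_iff_mem_normalizer.mpr (Subgroup.centralizer_le_normalizer _ hc)] at h1

theorem isPGroup_cj {q : ℕ} {Q : Subgroup X} (c : X) (h : IsPGroup q Q) :
    IsPGroup q (MulAut.conj c • Q : Subgroup X) :=
  h.map (MulAut.conj c).toMonoidHom

theorem IsMaxInv.cj {B : Subgroup X} {q : ℕ} {Q : Subgroup X} (h : IsMaxInv B q Q) {c : X}
    (hc : c ∈ centralizer (B : Set X)) : IsMaxInv B q (MulAut.conj c • Q) := by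
  refine ⟨isPGroup_cj c h.1, le_normalizer_cj_of_mem_centralizer hc h.2.1, ?_⟩
  intro R hR hBR hle
  have h1 : Q ≤ MulAut.conj c⁻¹ • R := by
    have := cj_le_cj (g := c⁻¹) hle
    rwa [← cj_mul, inv_mul_cancel, cj_one] at this
  have h2 := h.2.2 _ (isPGroup_cj c⁻¹ hR)
    (le_normalizer_cj_of_mem_centralizer (inv_mem hc) hBR) h1
  rw [← h2, ← cj_mul, mul_inv_cancel, cj_one]

theorem exists_isMaxInv_ge [Finite X] {B : Subgroup X} {q : ℕ} {T : Subgroup X} (hT : IsPGroup q T)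
    (hBT : B ≤ normalizer (T : Set X)) : ∃ Q, T ≤ Q ∧ IsMaxInv B q Q := by
  obtain ⟨Q, hTQ, hmax⟩ := (Set.toFinite {Q : Subgroup X | IsPGroup q Q ∧
    B ≤ normalizer (Q : Set X)}).exists_le_maximal (a := T) ⟨hT, hBT⟩
  refine ⟨Q, hTQ, hmax.1.1, hmax.1.2, ?_⟩
  intro R hR hBR hle
  exact le_antisymm (hmax.2 ⟨hR, hBR⟩ hle) hle

theorem le_normalizer_sup' {A C D : Subgroup X} (hC : A ≤ normalizer (C : Set X))
    (hD : A ≤ normalizer (D : Set X)) : A ≤ normalizer ((C ⊔ D : Subgroup X) : Set X) := by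
  intro a ha
  rw [← cj_eq_self_iff_mem_normalizer, Subgroup.smul_sup,
    cj_eq_self_iff_mem_normalizer.mpr (hC ha), cj_eq_self_iff_mem_normalizer.mpr (hD ha)]

/-- In a `q`-group `Q`, a proper subgroup `D` is properly contained in `N_Q(D)`. -/
theorem exists_mem_normalizer_not_mem [Finite X] {q : ℕ} [Fact q.Prime] {Q D : Subgroup X}
    (hQ : IsPGroup q Q) (hDQ : D ≤ Q) (hne : D ≠ Q) :
    ¬ (Q ⊓ normalizer (D : Set X) ≤ D) := by
  intro hcon
  have hHtop : D.subgroupOf Q ≠ ⊤ := by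
    intro h1
    exact hne (le_antisymm hDQ (Subgroup.subgroupOf_eq_top.mp h1))
  haveI : Group.IsNilpotent Q := hQ.isNilpotent
  have hlt := Group.normalizerCondition_of_isNilpotent (G := Q) _ (lt_top_iff_ne_top.mpr hHtop)
  obtain ⟨y, hyN, hyH⟩ := SetLike.exists_of_lt hlt
  apply hyH
  rw [Subgroup.mem_subgroupOf]
  apply hcon
  refine ⟨y.2, ?_⟩
  show (y : X) ∈ normalizer (D : Set X)
  rw [Subgroup.mem_normalizer_iff]
  intro x
  constructor
  · intro hx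
    have h1 : (⟨x, hDQ hx⟩ : Q) ∈ D.subgroupOf Q := by
      rw [Subgroup.mem_subgroupOf]; exact hx
    have h2 := (Subgroup.mem_normalizer_iff.mp hyN _).mp h1
    rw [Subgroup.mem_subgroupOf] at h2
    simpa using h2
  · intro hx
    have hxQ : x ∈ Q := by
      have h3 : x = (y : X)⁻¹ * ((y : X) * x * (y : X)⁻¹) * (y : X) := by group
      rw [h3]
      exact Q.mul_mem (Q.mul_mem (Q.inv_mem y.2) (hDQ hx)) y.2
    have h1 : y * (⟨x, hxQ⟩ : Q) * y⁻¹ ∈ D.subgroupOf Q := by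
      rw [Subgroup.mem_subgroupOf]; simpa using hx
    have h2 := (Subgroup.mem_normalizer_iff.mp hyN _).mpr h1
    rw [Subgroup.mem_subgroupOf] at h2
    exact h2

theorem centralizer_singleton_le_normalizer_zpowers (b : X) :
    centralizer ({b} : Set X) ≤ normalizer ((zpowers b : Subgroup X) : Set X) := by
  intro x hx
  have hxb : Commute x b := (Subgroup.mem_centralizer_iff.mp hx b rfl).symm
  rw [Subgroup.mem_normalizer_iff]
  intro y
  constructor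
  · intro hy
    obtain ⟨k, rfl⟩ := Subgroup.mem_zpowers_iff.mp hy
    have h1 : x * b ^ k * x⁻¹ = b ^ k := by
      rw [(hxb.zpow_right k).eq, mul_inv_cancel_right]
    rw [h1]; exact hy
  · intro hy
    obtain ⟨k, hk⟩ := Subgroup.mem_zpowers_iff.mp hy
    have h1 : y = b ^ k := by
      have h2 : y = x⁻¹ * (x * y * x⁻¹) * x := by group
      rw [h2, ← hk, mul_assoc, ← (hxb.zpow_right k).eq, inv_mul_cancel_left]
    rw [h1]; exact Subgroup.zpow_mem_zpowers b k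

/-- The key step of the transitivity theorem. -/
theorem transitivity_step [Finite X] (p : ℕ) [hp : Fact p.Prime] (hp2 : p ≠ 2)
    (hloc : ∀ T : Subgroup X, IsPGroup p T → T ≠ ⊥ →
      Group.IsSolvable (normalizer (T : Set X)))
    (B : Subgroup X) (hBp : IsPGroup p B) (hBab : ∀ x ∈ B, ∀ y ∈ B, x * y = y * x)
    (hBfull : ∀ y ∈ centralizer (B : Set X), IsPGroup p (zpowers y) → y ∈ B)
    (E₀ : Subgroup X) (hE₀B : E₀ ≤ B) (hexp : ∀ x ∈ E₀, x ^ p = 1) (hcard : Nat.card E₀ = p ^ 3)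
    (q : ℕ) [hq : Fact q.Prime] (hqp : q ≠ p) (Q₁ Q₂ : Subgroup X)
    (h₁ : IsMaxInv B q Q₁) (h₂ : IsMaxInv B q Q₂) (hne₁ : Q₁ ⊓ Q₂ ≠ Q₁) (hne₂ : Q₁ ⊓ Q₂ ≠ Q₂) :
    ∃ Q₁' Q₂', IsMaxInv B q Q₁' ∧ IsMaxInv B q Q₂' ∧ CConj B Q₁' Q₂' ∧
      Q₁ ⊓ Q₂ < Q₁ ⊓ Q₁' ∧ Q₁ ⊓ Q₂ < Q₂' ⊓ Q₂ := by
  obtain ⟨D, hDdef⟩ : ∃ D, D = Q₁ ⊓ Q₂ := ⟨_, rfl⟩
  rw [← hDdef] at hne₁ hne₂ ⊢
  have hDQ₁ : D ≤ Q₁ := hDdef ▸ inf_le_left
  have hDQ₂ : D ≤ Q₂ := hDdef ▸ inf_le_right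
  have hDq : IsPGroup q D := h₁.1.to_le hDQ₁
  have hBD : B ≤ normalizer (D : Set X) := by
    rw [hDdef]; exact le_normalizer_inf h₁.2.1 h₂.2.1
  have hBND : B ≤ normalizer ((normalizer (D : Set X) : Subgroup X) : Set X) :=
    hBD.trans Subgroup.le_normalizer
  obtain ⟨N₁, hN₁def⟩ : ∃ N₁, N₁ = Q₁ ⊓ normalizer (D : Set X) := ⟨_, rfl⟩
  obtain ⟨N₂, hN₂def⟩ : ∃ N₂, N₂ = Q₂ ⊓ normalizer (D : Set X) := ⟨_, rfl⟩
  have hN₁D : ¬ N₁ ≤ D := by
    rw [hN₁def]; exact exists_mem_normalizer_not_mem h₁.1 hDQ₁ hne₁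
  have hN₂D : ¬ N₂ ≤ D := by
    rw [hN₂def]; exact exists_mem_normalizer_not_mem h₂.1 hDQ₂ hne₂
  have hBN₁ : B ≤ normalizer (N₁ : Set X) := by
    rw [hN₁def]; exact le_normalizer_inf h₁.2.1 hBND
  have hBN₂ : B ≤ normalizer (N₂ : Set X) := by
    rw [hN₂def]; exact le_normalizer_inf h₂.2.1 hBND
  have hN₁q : IsPGroup q N₁ := h₁.1.to_le (hN₁def ▸ inf_le_left)
  have hN₂q : IsPGroup q N₂ := h₂.1.to_le (hN₂def ▸ inf_le_left)
  have hcopq : ∀ K : Subgroup X, IsPGroup q K → (Nat.card K).Coprime p := by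
    intro K hK
    obtain ⟨k, hk⟩ := hK.exists_card_eq
    rw [hk]
    exact Nat.Coprime.pow_left _ ((Nat.coprime_primes hq.out hp.out).mpr hqp)
  have hcop₁ : (Nat.card E₀).Coprime (Nat.card N₁) := by
    rw [hcard]; exact Nat.Coprime.pow_left _ (hcopq N₁ hN₁q).symm
  have hcop₂ : (Nat.card E₀).Coprime (Nat.card N₂) := by
    rw [hcard]; exact Nat.Coprime.pow_left _ (hcopq N₂ hN₂q).symm
  obtain ⟨b, hbE, hb1, hU₁D, hU₂D⟩ := exists_common_fix p E₀ N₁ N₂ D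
    (fun x hx y hy => hBab x (hE₀B hx) y (hE₀B hy)) hexp hcard (hE₀B.trans hBN₁)
    (hE₀B.trans hBN₂) hcop₁ hcop₂ hN₁D hN₂D
  have hbB : b ∈ B := hE₀B hbE
  obtain ⟨U₁, hU₁def⟩ : ∃ U₁, U₁ = N₁ ⊓ centralizer {b} := ⟨_, rfl⟩
  obtain ⟨U₂, hU₂def⟩ : ∃ U₂, U₂ = N₂ ⊓ centralizer {b} := ⟨_, rfl⟩
  rw [← hU₁def] at hU₁D
  rw [← hU₂def] at hU₂D
  obtain ⟨L, hLdef⟩ : ∃ L, L = centralizer {b} ⊓ normalizer (D : Set X) := ⟨_, rfl⟩
  have hLD : L ≤ normalizer (D : Set X) := hLdef ▸ inf_le_right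
  have hBcb : B ≤ centralizer ({b} : Set X) := by
    intro x hx
    rw [Subgroup.mem_centralizer_iff]
    intro y hy
    rw [Set.mem_singleton_iff] at hy
    rw [hy]; exact hBab b hbB x hx
  have hBL : B ≤ L := by
    rw [hLdef]; exact le_inf hBcb hBD
  have hLs : Group.IsSolvable L := by
    have hzp : IsPGroup p (zpowers b) := hBp.to_le (by rw [Subgroup.zpowers_le]; exact hbB)
    have hzne : zpowers b ≠ ⊥ := by
      intro h
      apply hb1
      rw [← Subgroup.mem_bot, ← h]; exact Subgroup.mem_zpowers b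
    have h1 := hloc _ hzp hzne
    refine isSolvable_of_le ?_ h1
    rw [hLdef]
    exact inf_le_left.trans (centralizer_singleton_le_normalizer_zpowers b)
  haveI := hLs
  have hBcc : B ≤ normalizer ((centralizer ({b} : Set X) : Subgroup X) : Set X) :=
    hBcb.trans Subgroup.le_normalizer
  have hBU₁ : B ≤ normalizer (U₁ : Set X) := by
    rw [hU₁def]; exact le_normalizer_inf hBN₁ hBcc
  have hBU₂ : B ≤ normalizer (U₂ : Set X) := by
    rw [hU₂def]; exact le_normalizer_inf hBN₂ hBcc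
  have hU₁L : U₁ ≤ L := by
    rw [hU₁def, hLdef, hN₁def]
    exact le_inf inf_le_right (inf_le_left.trans inf_le_right)
  have hU₂L : U₂ ≤ L := by
    rw [hU₂def, hLdef, hN₂def]
    exact le_inf inf_le_right (inf_le_left.trans inf_le_right)
  have hU₁q : IsPGroup q U₁ := hN₁q.to_le (hU₁def ▸ inf_le_left)
  have hU₂q : IsPGroup q U₂ := hN₂q.to_le (hU₂def ▸ inf_le_left)
  have hcore : ∀ U : Subgroup X, U ≤ L → IsPGroup q U → B ≤ normalizer (U : Set X) →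
      U.subgroupOf L ≤ Cfsg.pPrimeCore p L := by
    intro U hUL hUq hBU
    apply invariant_le_pPrimeCore p hp2 (B.subgroupOf L) (U.subgroupOf L)
    · exact hBp.comap_subtype
    · intro y hy hyp
      rw [Subgroup.mem_subgroupOf]
      apply hBfull
      · rw [Subgroup.mem_centralizer_iff]
        intro h hh
        have h1 : (⟨h, hBL hh⟩ : L) ∈ ((B.subgroupOf L : Subgroup L) : Set L) := by
          rw [SetLike.mem_coe, Subgroup.mem_subgroupOf]; exact hh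
        have h2 := Subgroup.mem_centralizer_iff.mp hy _ h1
        exact congrArg Subtype.val h2
      · have h3 : zpowers (y : X) = (zpowers y).map L.subtype := by
          rw [MonoidHom.map_zpowers]; rfl
        rw [h3]; exact hyp.map _
    · rw [card_subgroupOf_of_le hUL]; exact hcopq U hUq
    · intro x hx
      rw [Subgroup.mem_subgroupOf] at hx
      rw [Subgroup.mem_normalizer_iff]
      intro y
      rw [Subgroup.mem_subgroupOf, Subgroup.mem_subgroupOf]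
      have := Subgroup.mem_normalizer_iff.mp (hBU hx) (y : X)
      simpa using this
  obtain ⟨M₀, hM₀def⟩ : ∃ M₀ : Subgroup X, M₀ = (Cfsg.pPrimeCore p L).map L.subtype := ⟨_, rfl⟩
  have hM₀L : M₀ ≤ L := by rw [hM₀def]; exact Subgroup.map_subtype_le _
  have hLM₀ : L ≤ normalizer (M₀ : Set X) := by
    haveI : (Cfsg.pPrimeCore p L).Normal := Helper2.pPrimeCore_normal p
    have h1 := Subgroup.le_normalizer_map (H := Cfsg.pPrimeCore p L) L.subtype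
    rw [Subgroup.normalizer_eq_top, ← MonoidHom.range_eq_map, Subgroup.range_subtype] at h1
    rw [hM₀def]; exact h1
  have hM₀cop : (Nat.card M₀).Coprime p := by
    rw [hM₀def, Subgroup.card_map_of_injective L.subtype_injective]
    exact Helper2.pPrimeCore_coprime p
  have hcopM : (Nat.card B).Coprime (Nat.card M₀) := by
    obtain ⟨k, hk⟩ := hBp.exists_card_eq
    rw [hk]
    exact Nat.Coprime.pow_left _ hM₀cop.symm
  have hM₀s : Group.IsSolvable M₀ := isSolvable_of_le hM₀L hLs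
  have hBM₀ : B ≤ normalizer (M₀ : Set X) := hBL.trans hLM₀
  have hUM₀ : ∀ U : Subgroup X, U ≤ L → IsPGroup q U → B ≤ normalizer (U : Set X) → U ≤ M₀ := by
    intro U hUL hUq hBU x hx
    rw [hM₀def]
    refine ⟨⟨x, hUL hx⟩, ?_, rfl⟩
    apply hcore U hUL hUq hBU
    rw [Subgroup.mem_subgroupOf]; exact hx
  have hU₁M₀ := hUM₀ U₁ hU₁L hU₁q hBU₁
  have hU₂M₀ := hUM₀ U₂ hU₂L hU₂q hBU₂
  obtain ⟨S₁, hUS₁, hBS₁⟩ := invariant_psubgroup_le_invariant_sylow B M₀ hBM₀ hcopM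
    (Or.inr hM₀s) q U₁ hU₁M₀ hU₁q hBU₁
  obtain ⟨S₂, hUS₂, hBS₂⟩ := invariant_psubgroup_le_invariant_sylow B M₀ hBM₀ hcopM
    (Or.inr hM₀s) q U₂ hU₂M₀ hU₂q hBU₂
  obtain ⟨c, hcB, hc⟩ := invariant_sylow_conj B M₀ hBM₀ hcopM (Or.inr hM₀s) q S₁ S₂ hBS₁ hBS₂
  obtain ⟨T₁, hT₁def⟩ : ∃ T₁ : Subgroup X, T₁ = (S₁ : Subgroup M₀).map M₀.subtype := ⟨_, rfl⟩
  obtain ⟨T₂, hT₂def⟩ : ∃ T₂ : Subgroup X, T₂ = (S₂ : Subgroup M₀).map M₀.subtype := ⟨_, rfl⟩
  rw [← hT₁def] at hUS₁ hBS₁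
  rw [← hT₂def] at hUS₂ hBS₂
  have hcT : MulAut.conj (c : X) • T₁ = T₂ := by
    rw [hT₁def, hT₂def, ← hc, Sylow.pointwise_smul_def]
    exact (map_cj M₀.subtype c _).symm
  have hT₁q : IsPGroup q T₁ := by rw [hT₁def]; exact S₁.2.map _
  have hT₂q : IsPGroup q T₂ := by rw [hT₂def]; exact S₂.2.map _
  have hT₁L : T₁ ≤ L := by rw [hT₁def]; exact (Subgroup.map_subtype_le _).trans hM₀L
  have hT₂L : T₂ ≤ L := by rw [hT₂def]; exact (Subgroup.map_subtype_le _).trans hM₀L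
  have hcD : MulAut.conj (c : X) • D = D :=
    cj_eq_self_iff_mem_normalizer.mpr (hLD (hM₀L c.2))
  obtain ⟨W₁, hW₁def⟩ : ∃ W₁ : Subgroup X, W₁ = D ⊔ T₁ := ⟨_, rfl⟩
  obtain ⟨W₂, hW₂def⟩ : ∃ W₂ : Subgroup X, W₂ = D ⊔ T₂ := ⟨_, rfl⟩
  have hW₁q : IsPGroup q W₁ := by
    rw [hW₁def]; exact IsPGroup.to_sup_of_normal_left' hDq hT₁q (hT₁L.trans hLD)
  have hBW₁ : B ≤ normalizer (W₁ : Set X) := by
    rw [hW₁def]; exact le_normalizer_sup' hBD hBS₁
  have hcW : MulAut.conj (c : X) • W₁ = W₂ := by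
    rw [hW₁def, hW₂def, Subgroup.smul_sup, hcD, hcT]
  obtain ⟨Q₁', hWQ₁', hQ₁'⟩ := exists_isMaxInv_ge hW₁q hBW₁
  refine ⟨Q₁', MulAut.conj (c : X) • Q₁', hQ₁', hQ₁'.cj hcB, ⟨c, hcB, rfl⟩, ?_, ?_⟩
  · apply lt_of_le_not_ge
    · exact le_inf hDQ₁ ((le_sup_left.trans (le_of_eq hW₁def.symm)).trans hWQ₁')
    · intro hle
      apply hU₁D
      refine le_trans (le_inf ?_ ?_) hle
      · rw [hU₁def, hN₁def]; exact inf_le_left.trans inf_le_left
      · exact (hUS₁.trans (le_sup_right.trans (le_of_eq hW₁def.symm))).trans hWQ₁'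
  · have hW₂Q : W₂ ≤ MulAut.conj (c : X) • Q₁' := by
      rw [← hcW]; exact cj_le_cj hWQ₁'
    apply lt_of_le_not_ge
    · exact le_inf ((le_sup_left.trans (le_of_eq hW₂def.symm)).trans hW₂Q) hDQ₂
    · intro hle
      apply hU₂D
      refine le_trans (le_inf ?_ ?_) hle
      · exact (hUS₂.trans (le_sup_right.trans (le_of_eq hW₂def.symm))).trans hW₂Q
      · rw [hU₂def, hN₂def]; exact inf_le_left.trans inf_le_left

/-- **Thompson's transitivity theorem** (solvable `p`-locals, `p` odd). -/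
theorem transitivity [Finite X] (p : ℕ) [hp : Fact p.Prime] (hp2 : p ≠ 2)
    (hloc : ∀ T : Subgroup X, IsPGroup p T → T ≠ ⊥ →
      Group.IsSolvable (normalizer (T : Set X)))
    (B : Subgroup X) (hBp : IsPGroup p B) (hBab : ∀ x ∈ B, ∀ y ∈ B, x * y = y * x)
    (hBfull : ∀ y ∈ centralizer (B : Set X), IsPGroup p (zpowers y) → y ∈ B)
    (E₀ : Subgroup X) (hE₀B : E₀ ≤ B) (hexp : ∀ x ∈ E₀, x ^ p = 1) (hcard : Nat.card E₀ = p ^ 3)
    (q : ℕ) [hq : Fact q.Prime] (hqp : q ≠ p) (Q₁ Q₂ : Subgroup X)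
    (h₁ : IsMaxInv B q Q₁) (h₂ : IsMaxInv B q Q₂) : CConj B Q₁ Q₂ := by
  by_contra hcon
  obtain ⟨S, hSdef⟩ : ∃ S : Set (Subgroup X × Subgroup X),
      S = {pr | IsMaxInv B q pr.1 ∧ IsMaxInv B q pr.2 ∧ ¬ CConj B pr.1 pr.2} := ⟨_, rfl⟩
  have hne : S.Nonempty := ⟨(Q₁, Q₂), by rw [hSdef]; exact ⟨h₁, h₂, hcon⟩⟩
  obtain ⟨⟨R₁, R₂⟩, hR, hmax⟩ := Set.exists_max_image S
    (fun pr => Nat.card (pr.1 ⊓ pr.2 : Subgroup X)) (Set.toFinite S) hne
  rw [hSdef] at hR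
  obtain ⟨hR₁, hR₂, hRc⟩ := hR
  have hne₁ : R₁ ⊓ R₂ ≠ R₁ := by
    intro h
    have hle : R₁ ≤ R₂ := inf_eq_left.mp h
    have h3 := hR₁.2.2 R₂ hR₂.1 hR₂.2.1 hle
    apply hRc; rw [h3]; exact CConj.refl _ _
  have hne₂ : R₁ ⊓ R₂ ≠ R₂ := by
    intro h
    have hle : R₂ ≤ R₁ := inf_eq_right.mp h
    have h3 := hR₂.2.2 R₁ hR₁.1 hR₁.2.1 hle
    apply hRc; rw [h3]; exact CConj.refl _ _
  obtain ⟨R₁', R₂', h₁', h₂', hc', hlt₁, hlt₂⟩ := transitivity_step p hp2 hloc B hBp hBab hBfull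
    E₀ hE₀B hexp hcard q hqp R₁ R₂ hR₁ hR₂ hne₁ hne₂
  have hc₁ : CConj B R₁ R₁' := by
    by_contra h
    have h3 := hmax (R₁, R₁') (by rw [hSdef]; exact ⟨hR₁, h₁', h⟩)
    exact absurd (card_lt_of_lt hlt₁) (not_lt.mpr h3)
  have hc₂ : CConj B R₂' R₂ := by
    by_contra h
    have h3 := hmax (R₂', R₂) (by rw [hSdef]; exact ⟨h₂', hR₂, h⟩)
    exact absurd (card_lt_of_lt hlt₂) (not_lt.mpr h3)
  exact hRc (hc₁.trans (hc'.trans hc₂))

end Cfsg.Agent.Lib.Helper13
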