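import Mathlib
import Cfsg.Agent.Lib.Helper13.Transitivity

/-!
# Thompson's transitivity theorem, abstract form (helper13)

`transitivity_abstract`: `B` an abelian `p`-subgroup containing an elementary abelian subgroup `E₀` of order `p³`,
such that for every `b ∈ E₀ \ 1` all `B`-invariant `p'`-subgroups of `C(b)` lie in one `B`-invariant `p'`-subgroup.
Then the maximal `B`-invariant `q`-subgroups are conjugate under any subgroup `Z ≤ C(B)` containing the `p'`-elements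
of `C(B)`.
-/

set_option autoImplicit false
set_option linter.style.haveILetI false

universe u

namespace Cfsg.Agent.Lib.Helper13

open Subgroup
open scoped Pointwise

variable {X : Type u} [Group X]

/-- conjugate under the subgroup `Z`. -/
def CConjZ (Z Q Q' : Subgroup X) : Prop :=
  ∃ c ∈ Z, Q' = MulAut.conj c • Q

theorem CConjZ.refl (Z Q : Subgroup X) : CConjZ Z Q Q := ⟨1, one_mem _, (cj_one Q).symm⟩

theorem CConjZ.symm {Z Q Q' : Subgroup X} (h : CConjZ Z Q Q') : CConjZ Z Q' Q := by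
  obtain ⟨c, hc, h⟩ := h
  exact ⟨c⁻¹, inv_mem hc, by rw [h, ← cj_mul, inv_mul_cancel, cj_one]⟩

theorem CConjZ.trans {Z Q Q' Q'' : Subgroup X} (h : CConjZ Z Q Q') (h' : CConjZ Z Q' Q'') :
    CConjZ Z Q Q'' := by
  obtain ⟨c, hc, h⟩ := h
  obtain ⟨d, hd, h'⟩ := h'
  exact ⟨d * c, mul_mem hd hc, by rw [h', h, cj_mul]⟩

/-- The key step of the transitivity theorem (abstract form). -/
theorem transitivity_step_abstract [Finite X] (p : ℕ) [hp : Fact p.Prime]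
    (B : Subgroup X) (hBp : IsPGroup p B) (hBab : ∀ x ∈ B, ∀ y ∈ B, x * y = y * x)
    (E₀ : Subgroup X) (hE₀B : E₀ ≤ B) (hexp : ∀ x ∈ E₀, x ^ p = 1) (hcard : Nat.card E₀ = p ^ 3)
    (Z : Subgroup X)
    (hZ : ∀ c ∈ centralizer (B : Set X), (orderOf c).Coprime p → c ∈ Z)
    (hM : ∀ b ∈ E₀, b ≠ 1 → ∃ M : Subgroup X, (Nat.card M).Coprime p ∧
      B ≤ normalizer (M : Set X) ∧ ∀ K : Subgroup X, K ≤ centralizer ({b} : Set X) →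
        (Nat.card K).Coprime p → B ≤ normalizer (K : Set X) → K ≤ M)
    (q : ℕ) [hq : Fact q.Prime] (hqp : q ≠ p) (Q₁ Q₂ : Subgroup X)
    (h₁ : IsMaxInv B q Q₁) (h₂ : IsMaxInv B q Q₂) (hne₁ : Q₁ ⊓ Q₂ ≠ Q₁) (hne₂ : Q₁ ⊓ Q₂ ≠ Q₂) :
    ∃ Q₁' Q₂', IsMaxInv B q Q₁' ∧ IsMaxInv B q Q₂' ∧ CConjZ Z Q₁' Q₂' ∧
      Q₁ ⊓ Q₂ < Q₁ ⊓ Q₁' ∧ Q₁ ⊓ Q₂ < Q₂' ⊓ Q₂ := by
  obtain ⟨D, hDdef⟩ : ∃ D, D = Q₁ ⊓ Q₂ := ⟨_, rfl⟩
  rw [← hDdef] at hne₁ hne₂ ⊢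
  have hDQ₁ : D ≤ Q₁ := hDdef ▸ inf_le_left
  have hDQ₂ : D ≤ Q₂ := hDdef ▸ inf_le_right
  have hDq : IsPGroup q D := h₁.1.to_le hDQ₁
  have hBD : B ≤ normalizer (D : Set X) := by
    rw [hDdef]; exact le_normalizer_inf h₁.2.1 h₂.2.1
  have hBND : B ≤ normalizer ((normalizer (D : Set X) : Subgroup X) : Set X) :=
    hBD.trans Subgroup.le_normalizer
  obtain ⟨N₁, hN₁def⟩ : ∃ N₁, N₁ = Q₁ ⊓ normalizer (D : Set X) := ⟨_, rfl⟩
  obtain ⟨N₂, hN₂def⟩ : ∃ N₂, N₂ = Q₂ ⊓ normalizer (D : Set X) := ⟨_, rfl⟩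
  have hN₁D : ¬ N₁ ≤ D := by
    rw [hN₁def]; exact exists_mem_normalizer_not_mem h₁.1 hDQ₁ hne₁
  have hN₂D : ¬ N₂ ≤ D := by
    rw [hN₂def]; exact exists_mem_normalizer_not_mem h₂.1 hDQ₂ hne₂
  have hBN₁ : B ≤ normalizer (N₁ : Set X) := by
    rw [hN₁def]; exact le_normalizer_inf h₁.2.1 hBND
  have hBN₂ : B ≤ normalizer (N₂ : Set X) := by
    rw [hN₂def]; exact le_normalizer_inf h₂.2.1 hBND
  have hN₁q : IsPGroup q N₁ := h₁.1.to_le (hN₁def ▸ inf_le_left)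
  have hN₂q : IsPGroup q N₂ := h₂.1.to_le (hN₂def ▸ inf_le_left)
  have hcopq : ∀ K : Subgroup X, IsPGroup q K → (Nat.card K).Coprime p := by
    intro K hK
    obtain ⟨k, hk⟩ := hK.exists_card_eq
    rw [hk]
    exact Nat.Coprime.pow_left _ ((Nat.coprime_primes hq.out hp.out).mpr hqp)
  have hcop₁ : (Nat.card E₀).Coprime (Nat.card N₁) := by
    rw [hcard]; exact Nat.Coprime.pow_left _ (hcopq N₁ hN₁q).symm
  have hcop₂ : (Nat.card E₀).Coprime (Nat.card N₂) := by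
    rw [hcard]; exact Nat.Coprime.pow_left _ (hcopq N₂ hN₂q).symm
  obtain ⟨b, hbE, hb1, hU₁D, hU₂D⟩ := exists_common_fix p E₀ N₁ N₂ D
    (fun x hx y hy => hBab x (hE₀B hx) y (hE₀B hy)) hexp hcard (hE₀B.trans hBN₁)
    (hE₀B.trans hBN₂) hcop₁ hcop₂ hN₁D hN₂D
  have hbB : b ∈ B := hE₀B hbE
  obtain ⟨U₁, hU₁def⟩ : ∃ U₁, U₁ = N₁ ⊓ centralizer {b} := ⟨_, rfl⟩
  obtain ⟨U₂, hU₂def⟩ : ∃ U₂, U₂ = N₂ ⊓ centralizer {b} := ⟨_, rfl⟩
  rw [← hU₁def] at hU₁D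
  rw [← hU₂def] at hU₂D
  have hBcb : B ≤ centralizer ({b} : Set X) := by
    intro x hx
    rw [Subgroup.mem_centralizer_iff]
    intro y hy
    rw [Set.mem_singleton_iff] at hy
    rw [hy]; exact hBab b hbB x hx
  have hBcc : B ≤ normalizer ((centralizer ({b} : Set X) : Subgroup X) : Set X) :=
    hBcb.trans Subgroup.le_normalizer
  have hBU₁ : B ≤ normalizer (U₁ : Set X) := by
    rw [hU₁def]; exact le_normalizer_inf hBN₁ hBcc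
  have hBU₂ : B ≤ normalizer (U₂ : Set X) := by
    rw [hU₂def]; exact le_normalizer_inf hBN₂ hBcc
  have hU₁q : IsPGroup q U₁ := hN₁q.to_le (hU₁def ▸ inf_le_left)
  have hU₂q : IsPGroup q U₂ := hN₂q.to_le (hU₂def ▸ inf_le_left)
  obtain ⟨M, hMcop, hBM, hMmax⟩ := hM b hbE hb1
  obtain ⟨M₀, hM₀def⟩ : ∃ M₀ : Subgroup X, M₀ = M ⊓ normalizer (D : Set X) := ⟨_, rfl⟩
  have hM₀D : M₀ ≤ normalizer (D : Set X) := hM₀def ▸ inf_le_right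
  have hM₀cop : (Nat.card M₀).Coprime p :=
    Nat.Coprime.coprime_dvd_left (Subgroup.card_dvd_of_le (hM₀def ▸ inf_le_left)) hMcop
  have hcopM : (Nat.card B).Coprime (Nat.card M₀) := by
    obtain ⟨k, hk⟩ := hBp.exists_card_eq
    rw [hk]
    exact Nat.Coprime.pow_left _ hM₀cop.symm
  have hBs : Group.IsSolvable B := by
    haveI : Group.IsNilpotent B := hBp.isNilpotent
    infer_instance
  have hBM₀ : B ≤ normalizer (M₀ : Set X) := by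
    rw [hM₀def]; exact le_normalizer_inf hBM hBND
  have hU₁M₀ : U₁ ≤ M₀ := by
    rw [hM₀def]
    refine le_inf (hMmax U₁ (hU₁def ▸ inf_le_right) (hcopq U₁ hU₁q) hBU₁) ?_
    rw [hU₁def, hN₁def]; exact inf_le_left.trans inf_le_right
  have hU₂M₀ : U₂ ≤ M₀ := by
    rw [hM₀def]
    refine le_inf (hMmax U₂ (hU₂def ▸ inf_le_right) (hcopq U₂ hU₂q) hBU₂) ?_
    rw [hU₂def, hN₂def]; exact inf_le_left.trans inf_le_right
  obtain ⟨S₁, hUS₁, hBS₁⟩ := invariant_psubgroup_le_invariant_sylow B M₀ hBM₀ hcopM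
    (Or.inl hBs) q U₁ hU₁M₀ hU₁q hBU₁
  obtain ⟨S₂, hUS₂, hBS₂⟩ := invariant_psubgroup_le_invariant_sylow B M₀ hBM₀ hcopM
    (Or.inl hBs) q U₂ hU₂M₀ hU₂q hBU₂
  obtain ⟨c, hcB, hc⟩ := invariant_sylow_conj B M₀ hBM₀ hcopM (Or.inl hBs) q S₁ S₂ hBS₁ hBS₂
  have hcZ : (c : X) ∈ Z := by
    apply hZ _ hcB
    apply Nat.Coprime.coprime_dvd_left _ hM₀cop
    exact Subgroup.orderOf_dvd_natCard _ c.2
  obtain ⟨T₁, hT₁def⟩ : ∃ T₁ : Subgroup X, T₁ = (S₁ : Subgroup M₀).map M₀.subtype := ⟨_, rfl⟩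
  obtain ⟨T₂, hT₂def⟩ : ∃ T₂ : Subgroup X, T₂ = (S₂ : Subgroup M₀).map M₀.subtype := ⟨_, rfl⟩
  rw [← hT₁def] at hUS₁ hBS₁
  rw [← hT₂def] at hUS₂ hBS₂
  have hcT : MulAut.conj (c : X) • T₁ = T₂ := by
    rw [hT₁def, hT₂def, ← hc, Sylow.pointwise_smul_def]
    exact (map_cj M₀.subtype c _).symm
  have hT₁q : IsPGroup q T₁ := by rw [hT₁def]; exact S₁.2.map _
  have hT₂q : IsPGroup q T₂ := by rw [hT₂def]; exact S₂.2.map _
  have hT₁L : T₁ ≤ M₀ := by rw [hT₁def]; exact Subgroup.map_subtype_le _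
  have hT₂L : T₂ ≤ M₀ := by rw [hT₂def]; exact Subgroup.map_subtype_le _
  have hcD : MulAut.conj (c : X) • D = D :=
    cj_eq_self_iff_mem_normalizer.mpr (hM₀D c.2)
  obtain ⟨W₁, hW₁def⟩ : ∃ W₁ : Subgroup X, W₁ = D ⊔ T₁ := ⟨_, rfl⟩
  obtain ⟨W₂, hW₂def⟩ : ∃ W₂ : Subgroup X, W₂ = D ⊔ T₂ := ⟨_, rfl⟩
  have hW₁q : IsPGroup q W₁ := by
    rw [hW₁def]; exact IsPGroup.to_sup_of_normal_left' hDq hT₁q (hT₁L.trans hM₀D)
  have hBW₁ : B ≤ normalizer (W₁ : Set X) := by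
    rw [hW₁def]; exact le_normalizer_sup' hBD hBS₁
  have hcW : MulAut.conj (c : X) • W₁ = W₂ := by
    rw [hW₁def, hW₂def, Subgroup.smul_sup, hcD, hcT]
  obtain ⟨Q₁', hWQ₁', hQ₁'⟩ := exists_isMaxInv_ge hW₁q hBW₁
  refine ⟨Q₁', MulAut.conj (c : X) • Q₁', hQ₁', hQ₁'.cj hcB, ⟨c, hcZ, rfl⟩, ?_, ?_⟩
  · apply lt_of_le_not_ge
    · exact le_inf hDQ₁ ((le_sup_left.trans (le_of_eq hW₁def.symm)).trans hWQ₁')
    · intro hle
      apply hU₁D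
      refine le_trans (le_inf ?_ ?_) hle
      · rw [hU₁def, hN₁def]; exact inf_le_left.trans inf_le_left
      · exact (hUS₁.trans (le_sup_right.trans (le_of_eq hW₁def.symm))).trans hWQ₁'
  · have hW₂Q : W₂ ≤ MulAut.conj (c : X) • Q₁' := by
      rw [← hcW]; exact cj_le_cj hWQ₁'
    apply lt_of_le_not_ge
    · exact le_inf ((le_sup_left.trans (le_of_eq hW₂def.symm)).trans hW₂Q) hDQ₂
    · intro hle
      apply hU₂D
      refine le_trans (le_inf ?_ ?_) hle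
      · exact (hUS₂.trans (le_sup_right.trans (le_of_eq hW₂def.symm))).trans hW₂Q
      · rw [hU₂def, hN₂def]; exact inf_le_left.trans inf_le_left

/-- **Thompson's transitivity theorem** (abstract form). -/
theorem transitivity_abstract [Finite X] (p : ℕ) [hp : Fact p.Prime]
    (B : Subgroup X) (hBp : IsPGroup p B) (hBab : ∀ x ∈ B, ∀ y ∈ B, x * y = y * x)
    (E₀ : Subgroup X) (hE₀B : E₀ ≤ B) (hexp : ∀ x ∈ E₀, x ^ p = 1) (hcard : Nat.card E₀ = p ^ 3)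
    (Z : Subgroup X)
    (hZ : ∀ c ∈ centralizer (B : Set X), (orderOf c).Coprime p → c ∈ Z)
    (hM : ∀ b ∈ E₀, b ≠ 1 → ∃ M : Subgroup X, (Nat.card M).Coprime p ∧
      B ≤ normalizer (M : Set X) ∧ ∀ K : Subgroup X, K ≤ centralizer ({b} : Set X) →
        (Nat.card K).Coprime p → B ≤ normalizer (K : Set X) → K ≤ M)
    (q : ℕ) [hq : Fact q.Prime] (hqp : q ≠ p) (Q₁ Q₂ : Subgroup X)
    (h₁ : IsMaxInv B q Q₁) (h₂ : IsMaxInv B q Q₂) : CConjZ Z Q₁ Q₂ := by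
  by_contra hcon
  obtain ⟨S, hSdef⟩ : ∃ S : Set (Subgroup X × Subgroup X),
      S = {pr | IsMaxInv B q pr.1 ∧ IsMaxInv B q pr.2 ∧ ¬ CConjZ Z pr.1 pr.2} := ⟨_, rfl⟩
  have hne : S.Nonempty := ⟨(Q₁, Q₂), by rw [hSdef]; exact ⟨h₁, h₂, hcon⟩⟩
  obtain ⟨⟨R₁, R₂⟩, hR, hmax⟩ := Set.exists_max_image S
    (fun pr => Nat.card (pr.1 ⊓ pr.2 : Subgroup X)) (Set.toFinite S) hne
  rw [hSdef] at hR
  obtain ⟨hR₁, hR₂, hRc⟩ := hR
  have hne₁ : R₁ ⊓ R₂ ≠ R₁ := by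
    intro h
    have hle : R₁ ≤ R₂ := inf_eq_left.mp h
    have h3 := hR₁.2.2 R₂ hR₂.1 hR₂.2.1 hle
    apply hRc; rw [h3]; exact CConjZ.refl _ _
  have hne₂ : R₁ ⊓ R₂ ≠ R₂ := by
    intro h
    have hle : R₂ ≤ R₁ := inf_eq_right.mp h
    have h3 := hR₂.2.2 R₁ hR₁.1 hR₁.2.1 hle
    apply hRc; rw [h3]; exact CConjZ.refl _ _
  obtain ⟨R₁', R₂', h₁', h₂', hc', hlt₁, hlt₂⟩ := transitivity_step_abstract p B hBp hBab
    E₀ hE₀B hexp hcard Z hZ hM q hqp R₁ R₂ hR₁ hR₂ hne₁ hne₂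
  have hc₁ : CConjZ Z R₁ R₁' := by
    by_contra h
    have h3 := hmax (R₁, R₁') (by rw [hSdef]; exact ⟨hR₁, h₁', h⟩)
    exact absurd (card_lt_of_lt hlt₁) (not_lt.mpr h3)
  have hc₂ : CConjZ Z R₂' R₂ := by
    by_contra h
    have h3 := hmax (R₂', R₂) (by rw [hSdef]; exact ⟨h₂', hR₂, h⟩)
    exact absurd (card_lt_of_lt hlt₂) (not_lt.mpr h3)
  exact hRc (hc₁.trans (hc'.trans hc₂))

end Cfsg.Agent.Lib.Helper13
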