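import Mathlib
import Cfsg.Prelude.Def_OddOrder
import Cfsg.Prelude.Def_OddOrderLocal
import Cfsg.Agent.Lib.Helper13.Transitivity2

/-!
# Bender–Glauberman §7: the transitivity hypothesis (helper13)

`bg_linked_conj` (BG Theorem 7.2): under the transitivity hypothesis on `A` in a minimal simple group of odd order,
two maximal `A`-invariant `q`-subgroups meeting a common proper subgroup `H ≥ A` nontrivially are conjugate under
`O_{π(A)'}(C_G(A))`.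
-/

set_option autoImplicit false
set_option linter.style.haveILetI false

universe u

namespace Cfsg.Agent.Lib.Helper13

open Subgroup
open scoped Pointwise commutatorElement

section

variable {G : Type u} [Group G] [Finite G]

theorem isPGroup_iff_primes_mem (q : ℕ) [hq : Fact q.Prime] (R : Subgroup G) :
    IsPGroup q R ↔ ∀ r : ℕ, r.Prime → r ∣ Nat.card R → r ∈ ({q} : Set ℕ) := by
  constructor
  · intro h r hr hrd
    obtain ⟨k, hk⟩ := h.exists_card_eq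
    rw [hk] at hrd
    exact Nat.prime_eq_prime_of_dvd_pow hr hq.out hrd
  · intro h
    have h1 := Nat.eq_prime_pow_of_unique_prime_dvd (n := Nat.card R) (p := q)
      Nat.card_pos.ne' (fun {d} hd hdd => h d hd hdd)
    exact IsPGroup.of_card h1

theorem isMaxInv_of_mem_maxInv (q : ℕ) [hq : Fact q.Prime]
    (E Q : Subgroup G) (h : Q ∈ Cfsg.maxInvSubgroups ⊤ E {q}) : IsMaxInv E q Q := by
  obtain ⟨⟨-, hQq, hEQ⟩, hmax⟩ := h
  refine ⟨(isPGroup_iff_primes_mem q Q).mpr hQq, hEQ, ?_⟩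
  intro R hR hER hQR
  exact hmax R ⟨le_top, (isPGroup_iff_primes_mem q R).mp hR, hER⟩ hQR

theorem mem_maxInv_of_isMaxInv (q : ℕ) [hq : Fact q.Prime]
    (E Q : Subgroup G) (h : IsMaxInv E q Q) : Q ∈ Cfsg.maxInvSubgroups ⊤ E {q} := by
  refine ⟨⟨le_top, (isPGroup_iff_primes_mem q Q).mp h.1, h.2.1⟩, ?_⟩
  rintro R ⟨-, hR, hER⟩ hQR
  exact h.2.2 R ((isPGroup_iff_primes_mem q R).mpr hR) hER hQR

theorem piCore_mem' {H : Type*} [Group H] [Finite H] (π : Set ℕ) :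
    Cfsg.piCore π H ∈ {N : Subgroup H | N.Normal ∧ ∀ p : ℕ, p.Prime → p ∣ Nat.card N → p ∈ π} := by
  apply SupClosed.sSup_mem _ (Set.toFinite _) _ (le_refl _)
  · rintro H ⟨hHn, hHc⟩ K ⟨hKn, hKc⟩
    refine ⟨inferInstance, ?_⟩
    intro p hp hpd
    have h1 := hpd.trans (Cfsg.Agent.Lib.Helper2.card_sup_dvd_of_normal H K)
    rcases (Nat.Prime.dvd_mul hp).1 h1 with h | h
    · exact hHc p hp h
    · exact hKc p hp h
  · refine ⟨inferInstance, ?_⟩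
    intro p hp hpd
    rw [Subgroup.card_bot] at hpd
    exact absurd (Nat.dvd_one.1 hpd) hp.one_lt.ne'

theorem piCoreOf_le (π : Set ℕ) (X : Subgroup G) : Cfsg.piCoreOf π X ≤ X :=
  Subgroup.map_subtype_le _

theorem piCoreOf_primes (π : Set ℕ) (X : Subgroup G) :
    ∀ r : ℕ, r.Prime → r ∣ Nat.card (Cfsg.piCoreOf π X) → r ∈ π := by
  intro r hr hrd
  unfold Cfsg.piCoreOf at hrd
  rw [Subgroup.card_map_of_injective X.subtype_injective] at hrd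
  exact (piCore_mem' (H := ↥X) π).2 r hr hrd

theorem le_normalizer_piCoreOf (π : Set ℕ) (X : Subgroup G) :
    X ≤ normalizer ((Cfsg.piCoreOf π X : Subgroup G) : Set G) := by
  haveI : (Cfsg.piCore π ↥X).Normal := (piCore_mem' (H := ↥X) π).1
  have h1 := Subgroup.le_normalizer_map (H := Cfsg.piCore π ↥X) X.subtype
  rw [Subgroup.normalizer_eq_top, ← MonoidHom.range_eq_map, Subgroup.range_subtype] at h1
  exact h1

theorem le_piCoreOf (π : Set ℕ) (X Y : Subgroup G) (hYX : Y ≤ X)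
    (hXY : X ≤ normalizer (Y : Set G)) (hY : ∀ r : ℕ, r.Prime → r ∣ Nat.card Y → r ∈ π) :
    Y ≤ Cfsg.piCoreOf π X := by
  have hn : (Y.subgroupOf X).Normal := (Subgroup.normal_subgroupOf_iff_le_normalizer hYX).mpr hXY
  have h1 : Y.subgroupOf X ≤ Cfsg.piCore π ↥X := by
    apply le_sSup
    refine ⟨hn, ?_⟩
    rw [card_subgroupOf_of_le hYX]
    exact hY
  intro y hy
  exact ⟨⟨y, hYX hy⟩, h1 (Subgroup.mem_subgroupOf.mpr hy), rfl⟩

theorem coprime_of_primesNotDvd (n : ℕ) (M : Subgroup G)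
    (h : ∀ r : ℕ, r.Prime → r ∣ Nat.card M → r ∈ Cfsg.primesNotDvd n) :
    n.Coprime (Nat.card M) := by
  apply Nat.coprime_of_dvd
  intro k hk hkn hkM
  exact (h k hk hkM).2 hkn

/-- Under the transitivity hypothesis every `π(A)'`-element of `C_G(A)` lies in `O_{π(A)'}(C_G(A))`. -/
theorem mem_piCoreOf_centralizer_of_coprime (hG : Cfsg.IsMinSimpleOddOrder G) (A : Subgroup G)
    (hA : Cfsg.TransitivityHypothesis A) (c : G) (hc : c ∈ centralizer (A : Set G))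
    (hcop : (orderOf c).Coprime (Nat.card A)) :
    c ∈ Cfsg.piCoreOf (Cfsg.primesNotDvd (Nat.card A)) (centralizer (A : Set G)) := by
  obtain ⟨hAbot, hAtop, hAhyp⟩ := hA
  haveI hsimple : IsSimpleGroup G := hG.2.1
  obtain ⟨X, hXdef⟩ : ∃ X : Subgroup G, X = A ⊔ centralizer (A : Set G) := ⟨_, rfl⟩
  have hAX : A ≤ X := hXdef ▸ le_sup_left
  have hCX : centralizer (A : Set G) ≤ X := hXdef ▸ le_sup_right
  have hXA : X ≤ normalizer (A : Set G) := by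
    rw [hXdef]; exact sup_le Subgroup.le_normalizer (Subgroup.centralizer_le_normalizer _)
  have hXtop : X ≠ ⊤ := by
    intro h
    have hn : A.Normal := by
      rw [← Subgroup.normalizer_eq_top_iff]
      exact top_le_iff.mp (h ▸ hXA)
    rcases hn.eq_bot_or_eq_top with h1 | h1
    · exact hAbot h1
    · exact hAtop h1
  obtain ⟨π', hπ'def⟩ : ∃ π' : Set ℕ, π' = Cfsg.primesNotDvd (Nat.card A) := ⟨_, rfl⟩
  rw [← hπ'def]
  have hhyp := hAhyp X hXtop hAX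
  rw [← hπ'def] at hhyp
  obtain ⟨Y, hYdef⟩ : ∃ Y : Subgroup G, Y = Cfsg.piCoreOf π' X := ⟨_, rfl⟩
  have hzY : zpowers c ≤ Y := by
    rw [hYdef, ← hhyp]
    apply le_sSup
    refine ⟨(Subgroup.zpowers_le.mpr hc).trans hCX, ?_, ?_⟩
    · intro r hr hrd
      rw [hπ'def]
      refine ⟨hr, ?_⟩
      intro hrA
      rw [Nat.card_zpowers] at hrd
      have := Nat.dvd_gcd hrd hrA
      rw [hcop] at this
      exact hr.one_lt.ne' (Nat.dvd_one.mp this)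
    · intro a ha
      apply centralizer_singleton_le_normalizer_zpowers c
      rw [Subgroup.mem_centralizer_iff]
      intro y hy
      rw [Set.mem_singleton_iff] at hy
      rw [hy]
      exact (Subgroup.mem_centralizer_iff.mp hc a ha).symm
  have hYX : Y ≤ X := hYdef ▸ piCoreOf_le π' X
  have hXY : X ≤ normalizer (Y : Set G) := hYdef ▸ le_normalizer_piCoreOf π' X
  have hYprimes : ∀ r : ℕ, r.Prime → r ∣ Nat.card Y → r ∈ π' := hYdef ▸ piCoreOf_primes π' X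
  have hYA : Y ⊓ A = ⊥ := by
    apply disjoint_iff.mp
    apply Subgroup.disjoint_of_coprime_natCard
    exact (coprime_of_primesNotDvd (Nat.card A) Y (hπ'def ▸ hYprimes)).symm
  have hYC : Y ≤ centralizer (A : Set G) := by
    intro y hy
    rw [Subgroup.mem_centralizer_iff]
    intro a ha
    have h1 : ⁅y, a⁆ ∈ Y := by
      rw [commutatorElement_def]
      have h2 : a * y⁻¹ * a⁻¹ ∈ Y :=
        (Subgroup.mem_normalizer_iff.mp (hXY (hAX ha)) y⁻¹).mp (Y.inv_mem hy)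
      have : y * a * y⁻¹ * a⁻¹ = y * (a * y⁻¹ * a⁻¹) := by group
      rw [this]; exact Y.mul_mem hy h2
    have h2 : ⁅y, a⁆ ∈ A := by
      rw [commutatorElement_def]
      have h3 : y * a * y⁻¹ ∈ A :=
        (Subgroup.mem_normalizer_iff.mp (hXA (hYX hy)) a).mp ha
      exact A.mul_mem h3 (A.inv_mem ha)
    have h3 : ⁅y, a⁆ ∈ Y ⊓ A := ⟨h1, h2⟩
    rw [hYA, Subgroup.mem_bot] at h3
    exact (commutatorElement_eq_one_iff_commute.mp h3).eq.symm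
  have hYK : Y ≤ Cfsg.piCoreOf π' (centralizer (A : Set G)) :=
    le_piCoreOf π' _ Y hYC (hCX.trans hXY) hYprimes
  exact hYK (hzY (Subgroup.mem_zpowers c))

/-- one step of BG Theorem 7.2. -/
theorem bg_step (hG : Cfsg.IsMinSimpleOddOrder G) (A : Subgroup G)
    (hA : Cfsg.TransitivityHypothesis A) (q : ℕ) [hq : Fact q.Prime] (hqA : ¬ q ∣ Nat.card A)
    (Q₁ Q₂ : Subgroup G) (h₁ : IsMaxInv A q Q₁) (h₂ : IsMaxInv A q Q₂) (H : Subgroup G)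
    (hH : H ≠ ⊤) (hAH : A ≤ H) :
    ∃ Q₃ Q₄, IsMaxInv A q Q₃ ∧ IsMaxInv A q Q₄ ∧
      CConjZ (Cfsg.piCoreOf (Cfsg.primesNotDvd (Nat.card A)) (centralizer (A : Set G))) Q₃ Q₄ ∧
      H ⊓ Q₁ ≤ Q₃ ∧ H ⊓ Q₂ ≤ Q₄ := by
  have hAhyp := hA.2.2 H hH hAH
  obtain ⟨π', hπ'def⟩ : ∃ π' : Set ℕ, π' = Cfsg.primesNotDvd (Nat.card A) := ⟨_, rfl⟩
  rw [← hπ'def] at hAhyp ⊢
  obtain ⟨M, hMdef⟩ : ∃ M : Subgroup G, M = Cfsg.piCoreOf π' H := ⟨_, rfl⟩
  have hqπ' : q ∈ π' := by rw [hπ'def]; exact ⟨hq.out, hqA⟩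
  have hUM : ∀ U : Subgroup G, U ≤ H → IsPGroup q U → A ≤ normalizer (U : Set G) → U ≤ M := by
    intro U hUH hUq hAU
    rw [hMdef, ← hAhyp]
    apply le_sSup
    refine ⟨hUH, ?_, hAU⟩
    intro r hr hrd
    have := (isPGroup_iff_primes_mem q U).mp hUq r hr hrd
    rw [Set.mem_singleton_iff] at this
    rw [this]; exact hqπ'
  have hMH : M ≤ H := hMdef ▸ piCoreOf_le π' H
  have hAM : A ≤ normalizer (M : Set G) := hAH.trans (hMdef ▸ le_normalizer_piCoreOf π' H)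
  have hMprimes : ∀ r : ℕ, r.Prime → r ∣ Nat.card M → r ∈ π' := hMdef ▸ piCoreOf_primes π' H
  have hcopM : (Nat.card A).Coprime (Nat.card M) :=
    coprime_of_primesNotDvd (Nat.card A) M (hπ'def ▸ hMprimes)
  have hHs : Group.IsSolvable H := hG.2.2.2 H hH
  have hMs : Group.IsSolvable M := isSolvable_of_le hMH hHs
  have hAHn : A ≤ normalizer (H : Set G) := hAH.trans Subgroup.le_normalizer
  obtain ⟨U₁, hU₁def⟩ : ∃ U₁ : Subgroup G, U₁ = H ⊓ Q₁ := ⟨_, rfl⟩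
  obtain ⟨U₂, hU₂def⟩ : ∃ U₂ : Subgroup G, U₂ = H ⊓ Q₂ := ⟨_, rfl⟩
  rw [← hU₁def, ← hU₂def]
  have hAU₁ : A ≤ normalizer (U₁ : Set G) := by
    rw [hU₁def]; exact le_normalizer_inf hAHn h₁.2.1
  have hAU₂ : A ≤ normalizer (U₂ : Set G) := by
    rw [hU₂def]; exact le_normalizer_inf hAHn h₂.2.1
  have hU₁q : IsPGroup q U₁ := h₁.1.to_le (hU₁def ▸ inf_le_right)
  have hU₂q : IsPGroup q U₂ := h₂.1.to_le (hU₂def ▸ inf_le_right)
  have hU₁M : U₁ ≤ M := hUM U₁ (hU₁def ▸ inf_le_left) hU₁q hAU₁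
  have hU₂M : U₂ ≤ M := hUM U₂ (hU₂def ▸ inf_le_left) hU₂q hAU₂
  obtain ⟨S₁, hUS₁, hAS₁⟩ := invariant_psubgroup_le_invariant_sylow A M hAM hcopM
    (Or.inr hMs) q U₁ hU₁M hU₁q hAU₁
  obtain ⟨S₂, hUS₂, hAS₂⟩ := invariant_psubgroup_le_invariant_sylow A M hAM hcopM
    (Or.inr hMs) q U₂ hU₂M hU₂q hAU₂
  obtain ⟨c, hcA, hc⟩ := invariant_sylow_conj A M hAM hcopM (Or.inr hMs) q S₁ S₂ hAS₁ hAS₂
  have hcK : (c : G) ∈ Cfsg.piCoreOf π' (centralizer (A : Set G)) := by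
    rw [hπ'def]
    apply mem_piCoreOf_centralizer_of_coprime hG A hA _ hcA
    apply Nat.Coprime.coprime_dvd_left _ hcopM.symm
    exact Subgroup.orderOf_dvd_natCard _ c.2
  obtain ⟨T₁, hT₁def⟩ : ∃ T₁ : Subgroup G, T₁ = (S₁ : Subgroup M).map M.subtype := ⟨_, rfl⟩
  obtain ⟨T₂, hT₂def⟩ : ∃ T₂ : Subgroup G, T₂ = (S₂ : Subgroup M).map M.subtype := ⟨_, rfl⟩
  rw [← hT₁def] at hUS₁ hAS₁
  rw [← hT₂def] at hUS₂ hAS₂
  have hcT : MulAut.conj (c : G) • T₁ = T₂ := by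
    rw [hT₁def, hT₂def, ← hc, Sylow.pointwise_smul_def]
    exact (map_cj M.subtype c _).symm
  have hT₁q : IsPGroup q T₁ := by rw [hT₁def]; exact S₁.2.map _
  obtain ⟨Q₃, hTQ₃, hQ₃⟩ := exists_isMaxInv_ge hT₁q hAS₁
  refine ⟨Q₃, MulAut.conj (c : G) • Q₃, hQ₃, hQ₃.cj hcA, ⟨c, hcK, rfl⟩, hUS₁.trans hTQ₃, ?_⟩
  refine hUS₂.trans ?_
  rw [← hcT]
  exact cj_le_cj hTQ₃

/-- **BG Theorem 7.2.** -/
theorem bg_linked_conj (hG : Cfsg.IsMinSimpleOddOrder G) (A : Subgroup G)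
    (hA : Cfsg.TransitivityHypothesis A) (q : ℕ) [hq : Fact q.Prime] (hqA : ¬ q ∣ Nat.card A)
    (Q₁ Q₂ : Subgroup G) (h₁ : IsMaxInv A q Q₁) (h₂ : IsMaxInv A q Q₂) (H : Subgroup G)
    (hH : H ≠ ⊤) (hAH : A ≤ H) (hH₁ : H ⊓ Q₁ ≠ ⊥) (hH₂ : H ⊓ Q₂ ≠ ⊥) :
    CConjZ (Cfsg.piCoreOf (Cfsg.primesNotDvd (Nat.card A)) (centralizer (A : Set G))) Q₁ Q₂ := by
  obtain ⟨K, hKdef⟩ : ∃ K : Subgroup G,
      K = Cfsg.piCoreOf (Cfsg.primesNotDvd (Nat.card A)) (centralizer (A : Set G)) := ⟨_, rfl⟩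
  rw [← hKdef]
  by_contra hcon
  obtain ⟨S, hSdef⟩ : ∃ S : Set (Subgroup G × Subgroup G),
      S = {pr | IsMaxInv A q pr.1 ∧ IsMaxInv A q pr.2 ∧
        (∃ H : Subgroup G, H ≠ ⊤ ∧ A ≤ H ∧ H ⊓ pr.1 ≠ ⊥ ∧ H ⊓ pr.2 ≠ ⊥) ∧
        ¬ CConjZ K pr.1 pr.2} := ⟨_, rfl⟩
  have hne : S.Nonempty :=
    ⟨(Q₁, Q₂), by rw [hSdef]; exact ⟨h₁, h₂, ⟨H, hH, hAH, hH₁, hH₂⟩, hcon⟩⟩
  obtain ⟨⟨R₁, R₂⟩, hR, hmax⟩ := Set.exists_max_image S
    (fun pr => Nat.card (pr.1 ⊓ pr.2 : Subgroup G)) (Set.toFinite S) hne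
  rw [hSdef] at hR
  obtain ⟨hR₁, hR₂, ⟨H₀, hH₀, hAH₀, hH₀₁, hH₀₂⟩, hRc⟩ := hR
  obtain ⟨D, hDdef⟩ : ∃ D : Subgroup G, D = R₁ ⊓ R₂ := ⟨_, rfl⟩
  have hDR₁ : D ≤ R₁ := hDdef ▸ inf_le_left
  have hDR₂ : D ≤ R₂ := hDdef ▸ inf_le_right
  have hne₁ : D ≠ R₁ := by
    intro h
    have hle : R₁ ≤ R₂ := h ▸ hDR₂
    have h3 := hR₁.2.2 R₂ hR₂.1 hR₂.2.1 hle
    apply hRc; rw [h3]; exact CConjZ.refl _ _
  have hne₂ : D ≠ R₂ := by
    intro h
    have hle : R₂ ≤ R₁ := h ▸ hDR₁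
    have h3 := hR₂.2.2 R₁ hR₁.1 hR₁.2.1 hle
    apply hRc; rw [h3]; exact CConjZ.refl _ _
  have hH' : ∃ H' : Subgroup G, H' ≠ ⊤ ∧ A ≤ H' ∧ D < H' ⊓ R₁ ∧ D < H' ⊓ R₂ := by
    by_cases hD : D = ⊥
    · refine ⟨H₀, hH₀, hAH₀, ?_, ?_⟩
      · rw [hD]; exact bot_lt_iff_ne_bot.mpr hH₀₁
      · rw [hD]; exact bot_lt_iff_ne_bot.mpr hH₀₂
    · have hAD : A ≤ normalizer (D : Set G) := by
        rw [hDdef]; exact le_normalizer_inf hR₁.2.1 hR₂.2.1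
      refine ⟨normalizer (D : Set G), ?_, hAD, ?_, ?_⟩
      · intro htop
        haveI hsimple : IsSimpleGroup G := hG.2.1
        have hn : D.Normal := by
          rw [← Subgroup.normalizer_eq_top_iff]; exact htop
        rcases hn.eq_bot_or_eq_top with h1 | h1
        · exact hD h1
        · -- then `A` is a `q`-group
          have hR₁top : R₁ = ⊤ := top_le_iff.mp (h1 ▸ hDR₁)
          have hAq : IsPGroup q A := hR₁.1.to_le (hR₁top ▸ le_top)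
          obtain ⟨j, hj⟩ := hAq.exists_card_eq
          rcases Nat.eq_zero_or_pos j with h0 | h0
          · rw [h0, pow_zero] at hj
            exact hA.1 (Subgroup.card_eq_one.mp hj)
          · apply hqA
            rw [hj]; exact dvd_pow_self q h0.ne'
      · apply lt_of_le_not_ge (le_inf Subgroup.le_normalizer hDR₁)
        rw [inf_comm]
        exact exists_mem_normalizer_not_mem hR₁.1 hDR₁ hne₁
      · apply lt_of_le_not_ge (le_inf Subgroup.le_normalizer hDR₂)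
        rw [inf_comm]
        exact exists_mem_normalizer_not_mem hR₂.1 hDR₂ hne₂
  obtain ⟨H', hH'top, hAH', hlt₁, hlt₂⟩ := hH'
  obtain ⟨Q₃, Q₄, hQ₃, hQ₄, hc', hle₁, hle₂⟩ := bg_step hG A hA q hqA R₁ R₂ hR₁ hR₂ H' hH'top hAH'
  rw [← hKdef] at hc'
  have hc₁ : CConjZ K R₁ Q₃ := by
    by_contra h
    have hmem : (R₁, Q₃) ∈ S := by
      rw [hSdef]
      refine ⟨hR₁, hQ₃, ⟨H', hH'top, hAH', ne_bot_of_gt hlt₁, ?_⟩, h⟩
      intro hbot
      have h4 : H' ⊓ R₁ ≤ H' ⊓ Q₃ := le_inf inf_le_left hle₁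
      rw [hbot] at h4
      exact (ne_bot_of_gt hlt₁) (le_bot_iff.mp h4)
    have h3 := hmax (R₁, Q₃) hmem
    have h5 : Nat.card D < Nat.card (H' ⊓ R₁ : Subgroup G) := card_lt_of_lt hlt₁
    have h6 : Nat.card (H' ⊓ R₁ : Subgroup G) ≤ Nat.card (R₁ ⊓ Q₃ : Subgroup G) :=
      Nat.le_of_dvd Nat.card_pos (Subgroup.card_dvd_of_le (le_inf inf_le_right hle₁))
    rw [hDdef] at h5
    simp only at h3
    omega
  have hc₂ : CConjZ K Q₄ R₂ := by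
    by_contra h
    have hmem : (Q₄, R₂) ∈ S := by
      rw [hSdef]
      refine ⟨hQ₄, hR₂, ⟨H', hH'top, hAH', ?_, ne_bot_of_gt hlt₂⟩, h⟩
      intro hbot
      have h4 : H' ⊓ R₂ ≤ H' ⊓ Q₄ := le_inf inf_le_left hle₂
      rw [hbot] at h4
      exact (ne_bot_of_gt hlt₂) (le_bot_iff.mp h4)
    have h3 := hmax (Q₄, R₂) hmem
    have h5 : Nat.card D < Nat.card (H' ⊓ R₂ : Subgroup G) := card_lt_of_lt hlt₂
    have h6 : Nat.card (H' ⊓ R₂ : Subgroup G) ≤ Nat.card (Q₄ ⊓ R₂ : Subgroup G) :=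
      Nat.le_of_dvd Nat.card_pos (Subgroup.card_dvd_of_le (le_inf hle₂ inf_le_right))
    rw [hDdef] at h5
    simp only at h3
    omega
  exact hRc (hc₁.trans (hc'.trans hc₂))

end

end Cfsg.Agent.Lib.Helper13
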