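import Mathlib
import Cfsg.Agent.Lib.Helper13.TransHyp

/-!
# Bender–Glauberman §7: Theorem 7.5 (helper13)
-/

set_option autoImplicit false
set_option linter.style.haveILetI false

universe u

namespace Cfsg.Agent.Lib.Helper13

open Subgroup
open scoped Pointwise commutatorElement

section

variable {G : Type u} [Group G] [Finite G]

theorem normalizer_le_normalizer_centralizer (B : Subgroup G) :
    normalizer (B : Set G) ≤ normalizer ((centralizer (B : Set G) : Subgroup G) : Set G) := by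
  intro g hg
  apply mem_normalizer_of_conj_mem
  intro c hc
  rw [Subgroup.mem_centralizer_iff]
  intro b hb
  have h1 : g⁻¹ * b * g ∈ B := by
    have := (Subgroup.mem_normalizer_iff.mp (Subgroup.inv_mem _ hg) b).mp hb
    rwa [inv_inv] at this
  have h2 : (g⁻¹ * b * g) * c = c * (g⁻¹ * b * g) :=
    Subgroup.mem_centralizer_iff.mp hc _ h1
  calc b * (g * c * g⁻¹) = g * ((g⁻¹ * b * g) * c) * g⁻¹ := by group
    _ = g * (c * (g⁻¹ * b * g)) * g⁻¹ := by rw [h2]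
    _ = g * c * g⁻¹ * b := by group

theorem normalizer_le_normalizer_piCoreOf (π : Set ℕ) (X : Subgroup G) :
    normalizer (X : Set G) ≤ normalizer ((Cfsg.piCoreOf π X : Subgroup G) : Set G) := by
  intro g hg
  rw [← cj_eq_self_iff_mem_normalizer]
  have hgX : MulAut.conj g • X = X := cj_eq_self_iff_mem_normalizer.mpr hg
  apply Subgroup.eq_of_le_of_card_ge
  · apply le_piCoreOf π X
    · have := cj_le_cj (g := g) (piCoreOf_le π X)
      rwa [hgX] at this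
    · have := cj_le_normalizer_cj (g := g) (le_normalizer_piCoreOf π X)
      rwa [hgX] at this
    · rw [card_cj]; exact piCoreOf_primes π X
  · rw [card_cj]

theorem IsMaxInv.cj' {B : Subgroup G} {q : ℕ} {Q : Subgroup G} (h : IsMaxInv B q Q) {x : G}
    (hx : x ∈ normalizer (B : Set G)) : IsMaxInv B q (MulAut.conj x • Q) := by
  have hxB : MulAut.conj x • B = B := cj_eq_self_iff_mem_normalizer.mpr hx
  have hxB' : MulAut.conj x⁻¹ • B = B :=
    cj_eq_self_iff_mem_normalizer.mpr (Subgroup.inv_mem _ hx)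
  refine ⟨isPGroup_cj x h.1, ?_, ?_⟩
  · have := cj_le_normalizer_cj (g := x) h.2.1
    rwa [hxB] at this
  · intro R hR hBR hle
    have h1 : Q ≤ MulAut.conj x⁻¹ • R := by
      have := cj_le_cj (g := x⁻¹) hle
      rwa [← cj_mul, inv_mul_cancel, cj_one] at this
    have h3 : B ≤ normalizer ((MulAut.conj x⁻¹ • R : Subgroup G) : Set G) := by
      have := cj_le_normalizer_cj (g := x⁻¹) hBR
      rwa [hxB'] at this
    have h2 := h.2.2 _ (isPGroup_cj x⁻¹ hR) h3 h1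
    rw [← h2, ← cj_mul, mul_inv_cancel, cj_one]

/-- **BG Theorem 7.5(a).** -/
theorem bg_centralizer_inf (hG : Cfsg.IsMinSimpleOddOrder G) (A : Subgroup G)
    (hA : Cfsg.TransitivityHypothesis A) (P : Subgroup G) (hAP : A ≤ P) :
    Cfsg.piCoreOf (Cfsg.primesNotDvd (Nat.card A)) (centralizer (A : Set G)) ⊓
        centralizer (P : Set G) =
      Cfsg.piCoreOf (Cfsg.primesNotDvd (Nat.card A)) (centralizer (P : Set G)) := by
  obtain ⟨π', hπ'def⟩ : ∃ π' : Set ℕ, π' = Cfsg.primesNotDvd (Nat.card A) := ⟨_, rfl⟩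
  rw [← hπ'def]
  have hCPA : centralizer (P : Set G) ≤ centralizer (A : Set G) := Subgroup.centralizer_le hAP
  apply le_antisymm
  · apply le_piCoreOf π' _ _ inf_le_right
    · apply le_normalizer_inf
      · exact hCPA.trans (le_normalizer_piCoreOf π' _)
      · exact Subgroup.le_normalizer
    · intro r hr hrd
      exact piCoreOf_primes π' _ r hr (hrd.trans (Subgroup.card_dvd_of_le inf_le_left))
  · apply le_inf _ (piCoreOf_le π' _)
    intro c hc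
    rw [hπ'def]
    apply mem_piCoreOf_centralizer_of_coprime hG A hA c (hCPA (piCoreOf_le π' _ hc))
    have h1 : orderOf c ∣ Nat.card (Cfsg.piCoreOf π' (centralizer (P : Set G))) :=
      Subgroup.orderOf_dvd_natCard _ hc
    apply Nat.Coprime.coprime_dvd_left h1
    exact (coprime_of_primesNotDvd (Nat.card A) _ (hπ'def ▸ piCoreOf_primes π' _)).symm

theorem normalizer_ne_top_of_inv (hG : Cfsg.IsMinSimpleOddOrder G) (A : Subgroup G)
    (hA1 : A ≠ ⊥) (q : ℕ) [hq : Fact q.Prime] (hqA : ¬ q ∣ Nat.card A) (D : Subgroup G)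
    (hDq : IsPGroup q D) (hD1 : D ≠ ⊥) : normalizer (D : Set G) ≠ ⊤ := by
  intro htop
  haveI hsimple : IsSimpleGroup G := hG.2.1
  have hn : D.Normal := by
    rw [← Subgroup.normalizer_eq_top_iff]; exact htop
  rcases hn.eq_bot_or_eq_top with h1 | h1
  · exact hD1 h1
  · have hAq : IsPGroup q A := hDq.to_le (h1 ▸ le_top)
    obtain ⟨j, hj⟩ := hAq.exists_card_eq
    rcases Nat.eq_zero_or_pos j with h0 | h0
    · rw [h0, pow_zero] at hj
      exact hA1 (Subgroup.card_eq_one.mp hj)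
    · apply hqA
      rw [hj]; exact dvd_pow_self q h0.ne'

/-- maximal `P`-invariant `q`-subgroups are maximal `A`-invariant, provided some maximal `A`-invariant
`q`-subgroup is `P`-invariant. -/
theorem bg_isMaxInv_of_overgroup (hG : Cfsg.IsMinSimpleOddOrder G) (A : Subgroup G)
    (hA : Cfsg.TransitivityHypothesis A) (q : ℕ) [hq : Fact q.Prime] (hqA : ¬ q ∣ Nat.card A)
    (P : Subgroup G) (hPπ : ∀ r : ℕ, r.Prime → r ∣ Nat.card P → r ∣ Nat.card A) (hAP : A ≤ P)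
    (hne : ∃ Q₀, IsMaxInv A q Q₀ ∧ P ≤ normalizer (Q₀ : Set G)) (Q₁ : Subgroup G)
    (h₁ : IsMaxInv P q Q₁) : IsMaxInv A q Q₁ := by
  obtain ⟨Q₀, hQ₀, hPQ₀⟩ := hne
  by_cases hQ₁bot : Q₁ = ⊥
  · have h3 := h₁.2.2 Q₀ hQ₀.1 hPQ₀ (hQ₁bot ▸ bot_le)
    rw [← h3]; exact hQ₀
  obtain ⟨Q, hQ₁Q, hQ⟩ := exists_isMaxInv_ge (B := A) h₁.1 (hAP.trans h₁.2.1)
  suffices hEq : Q = Q₁ by rw [← hEq]; exact hQ
  by_contra hneQ
  have hneQ' : Q₁ ≠ Q := fun h => hneQ h.symm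
  obtain ⟨N, hNdef⟩ : ∃ N : Subgroup G, N = normalizer (Q₁ : Set G) := ⟨_, rfl⟩
  have hNtop : N ≠ ⊤ := hNdef ▸ normalizer_ne_top_of_inv hG A hA.1 q hqA Q₁ h₁.1 hQ₁bot
  have hPN : P ≤ N := hNdef ▸ h₁.2.1
  have hAN : A ≤ N := hAP.trans hPN
  have hAhyp := hA.2.2 N hNtop hAN
  obtain ⟨π', hπ'def⟩ : ∃ π' : Set ℕ, π' = Cfsg.primesNotDvd (Nat.card A) := ⟨_, rfl⟩
  rw [← hπ'def] at hAhyp
  obtain ⟨M, hMdef⟩ : ∃ M : Subgroup G, M = Cfsg.piCoreOf π' N := ⟨_, rfl⟩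
  have hqπ' : q ∈ π' := by rw [hπ'def]; exact ⟨hq.out, hqA⟩
  have hUM : ∀ U : Subgroup G, U ≤ N → IsPGroup q U → A ≤ normalizer (U : Set G) → U ≤ M := by
    intro U hUH hUq hAU
    rw [hMdef, ← hAhyp]
    apply le_sSup
    refine ⟨hUH, ?_, hAU⟩
    intro r hr hrd
    have := (isPGroup_iff_primes_mem q U).mp hUq r hr hrd
    rw [Set.mem_singleton_iff] at this
    rw [this]; exact hqπ'
  have hMN : M ≤ N := hMdef ▸ piCoreOf_le π' N
  have hNM : N ≤ normalizer (M : Set G) := hMdef ▸ le_normalizer_piCoreOf π' N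
  have hMprimes : ∀ r : ℕ, r.Prime → r ∣ Nat.card M → r ∈ π' := hMdef ▸ piCoreOf_primes π' N
  have hcopM : (Nat.card P).Coprime (Nat.card M) := by
    apply Nat.coprime_of_dvd
    intro k hk hkP hkM
    have := hMprimes k hk hkM
    rw [hπ'def] at this
    exact this.2 (hPπ k hk hkP)
  have hNs : Group.IsSolvable N := hG.2.2.2 N hNtop
  have hMs : Group.IsSolvable M := isSolvable_of_le hMN hNs
  -- `U = N_Q(Q₁)`
  obtain ⟨U, hUdef⟩ : ∃ U : Subgroup G, U = Q ⊓ N := ⟨_, rfl⟩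
  have hANn : A ≤ normalizer (N : Set G) := hAN.trans Subgroup.le_normalizer
  have hAU : A ≤ normalizer (U : Set G) := by
    rw [hUdef]; exact le_normalizer_inf hQ.2.1 hANn
  have hUq : IsPGroup q U := hQ.1.to_le (hUdef ▸ inf_le_left)
  have hUN : U ≤ N := hUdef ▸ inf_le_right
  have hUMle : U ≤ M := hUM U hUN hUq hAU
  have hQ₁N : Q₁ ≤ N := hNdef ▸ Subgroup.le_normalizer
  have hQ₁M : Q₁ ≤ M := hUM Q₁ hQ₁N h₁.1 (hAP.trans h₁.2.1)
  obtain ⟨S, hQ₁S, hPS⟩ := invariant_psubgroup_le_invariant_sylow P M (hPN.trans hNM) hcopM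
    (Or.inr hMs) q Q₁ hQ₁M h₁.1 h₁.2.1
  have hSQ₁ : (S : Subgroup M).map M.subtype = Q₁ := h₁.2.2 _ (S.2.map _) hPS hQ₁S
  -- `Q₁ ⊔ U` is a `q`-subgroup of `M` containing the Sylow subgroup
  have hUnQ₁ : U ≤ normalizer (Q₁ : Set G) := hNdef ▸ hUN
  have hsupq : IsPGroup q (Q₁ ⊔ U : Subgroup G) :=
    IsPGroup.to_sup_of_normal_left' h₁.1 hUq hUnQ₁
  have hmax := S.is_maximal' (Q := (Q₁ ⊔ U).subgroupOf M) hsupq.comap_subtype (by
    intro s hs
    rw [Subgroup.mem_subgroupOf]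
    apply Subgroup.mem_sup_left
    rw [← hSQ₁]
    exact ⟨s, hs, rfl⟩)
  have hUQ₁ : U ≤ Q₁ := by
    intro u hu
    have h4 : (⟨u, hUMle hu⟩ : M) ∈ (Q₁ ⊔ U).subgroupOf M := by
      rw [Subgroup.mem_subgroupOf]; exact Subgroup.mem_sup_right hu
    rw [hmax] at h4
    rw [← hSQ₁]
    exact ⟨⟨u, hUMle hu⟩, h4, rfl⟩
  apply exists_mem_normalizer_not_mem hQ.1 hQ₁Q hneQ'
  rw [← hNdef, ← hUdef]
  exact hUQ₁

/-- the inductive property along the subnormal chain. -/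
def BGGood (A : Subgroup G) (q : ℕ) (B : Subgroup G) : Prop :=
  (∃ Q, IsMaxInv A q Q ∧ B ≤ normalizer (Q : Set G)) ∧
    ∀ Q₁ Q₂ : Subgroup G, IsMaxInv A q Q₁ → B ≤ normalizer (Q₁ : Set G) → IsMaxInv A q Q₂ →
      B ≤ normalizer (Q₂ : Set G) →
      CConjZ (Cfsg.piCoreOf (Cfsg.primesNotDvd (Nat.card A)) (centralizer (A : Set G)) ⊓
        centralizer (B : Set G)) Q₁ Q₂

theorem bg_good_step (hG : Cfsg.IsMinSimpleOddOrder G) (A : Subgroup G)
    (hA : Cfsg.TransitivityHypothesis A) (q : ℕ) [hq : Fact q.Prime] (hqA : ¬ q ∣ Nat.card A)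
    (B B' : Subgroup G) (hAB : A ≤ B) (hBB' : B ≤ B') (hB'n : B' ≤ normalizer (B : Set G))
    (hB'top : B' ≠ ⊤) (hB'π : ∀ r : ℕ, r.Prime → r ∣ Nat.card B' → r ∣ Nat.card A)
    (hgood : BGGood A q B) : BGGood A q B' := by
  obtain ⟨hne, htr⟩ := hgood
  obtain ⟨K, hKdef⟩ : ∃ K : Subgroup G,
      K = Cfsg.piCoreOf (Cfsg.primesNotDvd (Nat.card A)) (centralizer (A : Set G)) := ⟨_, rfl⟩
  unfold BGGood
  rw [← hKdef] at htr ⊢
  have hBπ : ∀ r : ℕ, r.Prime → r ∣ Nat.card B → r ∣ Nat.card A :=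
    fun r hr hrd => hB'π r hr (hrd.trans (Subgroup.card_dvd_of_le hBB'))
  have hKA : K ≤ centralizer (A : Set G) := hKdef ▸ piCoreOf_le _ _
  obtain ⟨KB, hKBdef⟩ : ∃ KB : Subgroup G, KB = K ⊓ centralizer (B : Set G) := ⟨_, rfl⟩
  rw [← hKBdef] at htr
  have hKBeq : KB = Cfsg.piCoreOf (Cfsg.primesNotDvd (Nat.card A)) (centralizer (B : Set G)) := by
    rw [hKBdef, hKdef]; exact bg_centralizer_inf hG A hA B hAB
  have hB'KB : B' ≤ normalizer (KB : Set G) := by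
    rw [hKBeq]
    exact hB'n.trans ((normalizer_le_normalizer_centralizer B).trans
      (normalizer_le_normalizer_piCoreOf _ _))
  have hcop : (Nat.card B').Coprime (Nat.card KB) := by
    apply Nat.coprime_of_dvd
    intro k hk hkB hkK
    rw [hKBeq] at hkK
    have := piCoreOf_primes _ _ k hk hkK
    exact this.2 (hB'π k hk hkB)
  have hB's : Group.IsSolvable B' := hG.2.2.2 B' hB'top
  -- membership in Ω
  have hΩiff : ∀ Q : Subgroup G, (IsMaxInv A q Q ∧ B ≤ normalizer (Q : Set G)) ↔ IsMaxInv B q Q := by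
    intro Q
    constructor
    · rintro ⟨hQ, hBQ⟩
      refine ⟨hQ.1, hBQ, ?_⟩
      intro R hR hBR hQR
      exact hQ.2.2 R hR (hAB.trans hBR) hQR
    · intro hQ
      exact ⟨bg_isMaxInv_of_overgroup hG A hA q hqA B hBπ hAB hne Q hQ, hQ.2.1⟩
  let _ : MulAction G (Subgroup G) := MulAction.compHom (Subgroup G) (MulAut.conj : G →* MulAut G)
  have hsmul : ∀ (g : G) (P : Subgroup G), g • P = MulAut.conj g • P := fun _ _ => rfl
  obtain ⟨Ω, hΩdef⟩ : ∃ Ω : Set (Subgroup G),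
      Ω = {Q | IsMaxInv A q Q ∧ B ≤ normalizer (Q : Set G)} := ⟨_, rfl⟩
  have hΩne : Ω.Nonempty := by
    obtain ⟨Q, hQ⟩ := hne
    exact ⟨Q, by rw [hΩdef]; exact hQ⟩
  have htrans : ∀ x ∈ Ω, ∀ y ∈ Ω, ∃ k ∈ KB, k • x = y := by
    intro x hx y hy
    rw [hΩdef] at hx hy
    obtain ⟨c, hc, hcy⟩ := htr x y hx.1 hx.2 hy.1 hy.2
    exact ⟨c, hc, by rw [hsmul]; exact hcy.symm⟩
  have hKΩ : ∀ k ∈ KB, ∀ x ∈ Ω, k • x ∈ Ω := by
    intro k hk x hx
    rw [hΩdef] at hx ⊢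
    rw [hKBdef] at hk
    rw [hsmul]
    exact ⟨hx.1.cj (hKA hk.1), le_normalizer_cj_of_mem_centralizer hk.2 hx.2⟩
  have hAΩ : ∀ a ∈ B', ∀ x ∈ Ω, a • x ∈ Ω := by
    intro a ha x hx
    rw [hΩdef] at hx ⊢
    rw [hsmul]
    exact (hΩiff _).mpr (((hΩiff x).mp hx).cj' (hB'n ha))
  constructor
  · obtain ⟨Q, hQΩ, hQfix⟩ := glauberman_exists B' KB hB'KB hcop (Or.inl hB's) Ω hΩne htrans hKΩ hAΩ
    rw [hΩdef] at hQΩ
    refine ⟨Q, hQΩ.1, ?_⟩
    intro a ha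
    have := hQfix a ha
    rw [hsmul] at this
    exact cj_eq_self_iff_mem_normalizer.mp this
  · intro Q₁ Q₂ hQ₁ hB'Q₁ hQ₂ hB'Q₂
    have hx : ∀ a ∈ B', a • Q₁ = Q₁ := by
      intro a ha
      rw [hsmul]; exact cj_eq_self_iff_mem_normalizer.mpr (hB'Q₁ ha)
    have hy : ∀ a ∈ B', a • Q₂ = Q₂ := by
      intro a ha
      rw [hsmul]; exact cj_eq_self_iff_mem_normalizer.mpr (hB'Q₂ ha)
    have hxy : ∃ k ∈ KB, k • Q₁ = Q₂ :=
      htrans Q₁ (by rw [hΩdef]; exact ⟨hQ₁, hBB'.trans hB'Q₁⟩) Q₂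
        (by rw [hΩdef]; exact ⟨hQ₂, hBB'.trans hB'Q₂⟩)
    obtain ⟨c, hc, hcQ⟩ := glauberman_conj B' KB hB'KB hcop (Or.inl hB's) Q₁ Q₂ hx hy hxy
    refine ⟨c, ⟨?_, hc.2⟩, ?_⟩
    · rw [hKBdef] at hc; exact hc.1.1
    · rw [hsmul] at hcQ; exact hcQ.symm

theorem bg_good_of_subnormal (hG : Cfsg.IsMinSimpleOddOrder G) (A : Subgroup G)
    (hA : Cfsg.TransitivityHypothesis A) (q : ℕ) [hq : Fact q.Prime] (hqA : ¬ q ∣ Nat.card A)
    (P : Subgroup G) (hP : P ≠ ⊤) (hPπ : ∀ r : ℕ, r.Prime → r ∣ Nat.card P → r ∣ Nat.card A)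
    (hAP : A ≤ P) (hsn : (A.subgroupOf P).IsSubnormal)
    (htr : ∀ Q₁ Q₂ : Subgroup G, IsMaxInv A q Q₁ → IsMaxInv A q Q₂ →
      CConjZ (Cfsg.piCoreOf (Cfsg.primesNotDvd (Nat.card A)) (centralizer (A : Set G))) Q₁ Q₂) :
    BGGood A q P := by
  obtain ⟨n, f, hmono, hnorm, hf0, hfn⟩ := hsn.exists_chain
  have hmapP : ∀ i, (f i).map P.subtype ≤ P := fun i => Subgroup.map_subtype_le _
  have key : ∀ i, BGGood A q ((f i).map P.subtype) := by
    intro i
    induction i with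
    | zero =>
      rw [hf0, Subgroup.map_subgroupOf_eq_of_le hAP]
      constructor
      · obtain ⟨Q, -, hQ⟩ := exists_isMaxInv_ge (B := A) (q := q) (T := ⊥) IsPGroup.of_bot
          (by rw [Subgroup.normalizer_eq_top]; exact le_top)
        exact ⟨Q, hQ, hQ.2.1⟩
      · intro Q₁ Q₂ hQ₁ _ hQ₂ _
        obtain ⟨c, hc, hcQ⟩ := htr Q₁ Q₂ hQ₁ hQ₂
        exact ⟨c, ⟨hc, piCoreOf_le _ _ hc⟩, hcQ⟩
    | succ i ih =>
      have hAB : A ≤ (f i).map P.subtype := by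
        have := Subgroup.map_mono (f := P.subtype) (hmono (Nat.zero_le i))
        rwa [hf0, Subgroup.map_subgroupOf_eq_of_le hAP] at this
      have hBB' : (f i).map P.subtype ≤ (f (i + 1)).map P.subtype :=
        Subgroup.map_mono (hmono (Nat.le_succ i))
      have hB'n : (f (i + 1)).map P.subtype ≤
          normalizer (((f i).map P.subtype : Subgroup G) : Set G) := by
        have h1 := (Subgroup.normal_subgroupOf_iff_le_normalizer (hmono (Nat.le_succ i))).mp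
          (hnorm i)
        exact (Subgroup.map_mono h1).trans (Subgroup.le_normalizer_map P.subtype)
      have hB'top : (f (i + 1)).map P.subtype ≠ ⊤ := by
        intro h
        apply hP
        exact top_le_iff.mp (h ▸ hmapP (i + 1))
      have hB'π : ∀ r : ℕ, r.Prime → r ∣ Nat.card ((f (i + 1)).map P.subtype) →
          r ∣ Nat.card A :=
        fun r hr hrd => hPπ r hr (hrd.trans (Subgroup.card_dvd_of_le (hmapP (i + 1))))
      exact bg_good_step hG A hA q hqA _ _ hAB hBB' hB'n hB'top hB'π ih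
  have := key n
  rwa [hfn, ← MonoidHom.range_eq_map, Subgroup.range_subtype] at this

/-- In a group `N = K L` with `K` normal, `N' ≤ K L'`. -/
theorem commutator_le_sup_of_sup_eq_top {N : Type*} [Group N] (K L : Subgroup N) [K.Normal]
    (h : K ⊔ L = ⊤) : _root_.commutator N ≤ ⁅L, L⁆ ⊔ K := by
  obtain ⟨φ, hφdef⟩ : ∃ φ : N →* N ⧸ K, φ = QuotientGroup.mk' K := ⟨_, rfl⟩
  have hφker : φ.ker = K := by rw [hφdef]; exact QuotientGroup.ker_mk' K
  have hφsurj : Function.Surjective φ := by rw [hφdef]; exact QuotientGroup.mk'_surjective K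
  have hLtop : L.map φ = ⊤ := by
    have h1 : (K ⊔ L).map φ = ⊤ := by
      rw [h]; exact Subgroup.map_top_of_surjective φ hφsurj
    rw [Subgroup.map_sup] at h1
    have h2 : K.map φ = ⊥ := by
      rw [Subgroup.map_eq_bot_iff, hφker]
    rwa [h2, bot_sup_eq] at h1
  have h3 : (_root_.commutator N).map φ = (⁅L, L⁆).map φ := by
    rw [_root_.commutator_def, Subgroup.map_commutator, Subgroup.map_commutator,
      Subgroup.map_top_of_surjective φ hφsurj, hLtop]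
  calc _root_.commutator N ≤ ((_root_.commutator N).map φ).comap φ := Subgroup.le_comap_map _ _
    _ = ((⁅L, L⁆).map φ).comap φ := by rw [h3]
    _ = ⁅L, L⁆ ⊔ K := by rw [Subgroup.comap_map_eq, hφker]

/-- **BG Theorem 7.5.** -/
theorem bg_theorem_7_5 (hG : Cfsg.IsMinSimpleOddOrder G) (A : Subgroup G)
    (hA : Cfsg.TransitivityHypothesis A) (q : ℕ) [hq : Fact q.Prime] (hqA : ¬ q ∣ Nat.card A)
    (P : Subgroup G) (hP : P ≠ ⊤) (hPπ : ∀ r : ℕ, r.Prime → r ∣ Nat.card P → r ∣ Nat.card A)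
    (hAP : A ≤ P) (hsn : (A.subgroupOf P).IsSubnormal)
    (htr : ∀ Q₁ Q₂ : Subgroup G, IsMaxInv A q Q₁ → IsMaxInv A q Q₂ →
      CConjZ (Cfsg.piCoreOf (Cfsg.primesNotDvd (Nat.card A)) (centralizer (A : Set G))) Q₁ Q₂) :
    (∀ Q₁ Q₂ : Subgroup G, IsMaxInv P q Q₁ → IsMaxInv P q Q₂ →
      CConjZ (Cfsg.piCoreOf (Cfsg.primesNotDvd (Nat.card A)) (centralizer (P : Set G))) Q₁ Q₂) ∧
    (∀ Q : Subgroup G, IsMaxInv P q Q → IsMaxInv A q Q) ∧
    ∀ Q : Subgroup G, IsMaxInv P q Q →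
      P ⊓ ⁅normalizer (P : Set G), normalizer (P : Set G)⁆ ≤
        ⁅normalizer (Q : Set G), normalizer (Q : Set G)⁆ ∧
      normalizer (P : Set G) =
        Cfsg.piCoreOf (Cfsg.primesNotDvd (Nat.card A)) (centralizer (P : Set G)) ⊔
          (normalizer (P : Set G) ⊓ normalizer (Q : Set G)) := by
  obtain ⟨hne, hconj⟩ := bg_good_of_subnormal hG A hA q hqA P hP hPπ hAP hsn htr
  rw [bg_centralizer_inf hG A hA P hAP] at hconj
  obtain ⟨KP, hKPdef⟩ : ∃ KP : Subgroup G,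
      KP = Cfsg.piCoreOf (Cfsg.primesNotDvd (Nat.card A)) (centralizer (P : Set G)) := ⟨_, rfl⟩
  rw [← hKPdef] at hconj ⊢
  have hc : ∀ Q : Subgroup G, IsMaxInv P q Q → IsMaxInv A q Q :=
    fun Q hQ => bg_isMaxInv_of_overgroup hG A hA q hqA P hPπ hAP hne Q hQ
  have hb : ∀ Q₁ Q₂ : Subgroup G, IsMaxInv P q Q₁ → IsMaxInv P q Q₂ → CConjZ KP Q₁ Q₂ :=
    fun Q₁ Q₂ h₁ h₂ => hconj Q₁ Q₂ (hc Q₁ h₁) h₁.2.1 (hc Q₂ h₂) h₂.2.1
  refine ⟨hb, hc, ?_⟩
  intro Q hQ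
  obtain ⟨N, hNdef⟩ : ∃ N : Subgroup G, N = normalizer (P : Set G) := ⟨_, rfl⟩
  obtain ⟨L, hLdef⟩ : ∃ L : Subgroup G, L = N ⊓ normalizer (Q : Set G) := ⟨_, rfl⟩
  rw [← hNdef, ← hLdef]
  have hKPC : KP ≤ centralizer (P : Set G) := hKPdef ▸ piCoreOf_le _ _
  have hKPN : KP ≤ N := hNdef ▸ hKPC.trans (Subgroup.centralizer_le_normalizer _)
  have hNKP : N ≤ normalizer (KP : Set G) := by
    rw [hNdef, hKPdef]
    exact (normalizer_le_normalizer_centralizer P).trans (normalizer_le_normalizer_piCoreOf _ _)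
  have hLN : L ≤ N := hLdef ▸ inf_le_left
  -- (d1)
  have hd1 : N = KP ⊔ L := by
    apply le_antisymm _ (sup_le hKPN hLN)
    intro g hg
    have hgQ : IsMaxInv P q (MulAut.conj g • Q) := hQ.cj' (hNdef ▸ hg)
    obtain ⟨c, hcK, hcQ⟩ := hb Q _ hQ hgQ
    have h1 : c⁻¹ * g ∈ normalizer (Q : Set G) := by
      rw [← cj_eq_self_iff_mem_normalizer, cj_mul, hcQ, ← cj_mul, inv_mul_cancel, cj_one]
    have h2 : c⁻¹ * g ∈ L := by
      rw [hLdef]
      exact ⟨N.mul_mem (N.inv_mem (hKPN hcK)) hg, h1⟩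
    have h3 : g = c * (c⁻¹ * g) := by group
    rw [h3]
    exact Subgroup.mul_mem_sup hcK h2
  refine ⟨?_, hd1⟩
  -- (d2)
  rintro x ⟨hxP, hxN'⟩
  have hPL : P ≤ L := by
    rw [hLdef, hNdef]; exact le_inf Subgroup.le_normalizer hQ.2.1
  have hxL : x ∈ L := hPL hxP
  -- decompose in `↥N`
  haveI hKPn : (KP.subgroupOf N).Normal :=
    (Subgroup.normal_subgroupOf_iff_le_normalizer hKPN).mpr hNKP
  have hsup : KP.subgroupOf N ⊔ L.subgroupOf N = ⊤ := by
    rw [← Subgroup.subgroupOf_sup hKPN hLN, ← hd1, Subgroup.subgroupOf_self]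
  have hcomm := commutator_le_sup_of_sup_eq_top (KP.subgroupOf N) (L.subgroupOf N) hsup
  have hxN : x ∈ N := hLN hxL
  have hx' : (⟨x, hxN⟩ : N) ∈ _root_.commutator N := by
    rw [_root_.commutator_def]
    have h1 : (⁅(⊤ : Subgroup ↥N), (⊤ : Subgroup ↥N)⁆ : Subgroup ↥N).map N.subtype = ⁅N, N⁆ := by
      rw [Subgroup.map_commutator, ← MonoidHom.range_eq_map, Subgroup.range_subtype]
    rw [← h1] at hxN'
    obtain ⟨y, hy, hyx⟩ := hxN'
    have : y = ⟨x, hxN⟩ := Subtype.ext hyx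
    rw [← this]; exact hy
  have hx'' := hcomm hx'
  rw [sup_comm] at hx''
  obtain ⟨k, hk, d, hd, hkd⟩ := Subgroup.mem_sup_of_normal_left.mp hx''
  rw [Subgroup.mem_subgroupOf] at hk
  have hdL : (d : G) ∈ ⁅L, L⁆ := by
    have h1 : (⁅L.subgroupOf N, L.subgroupOf N⁆ : Subgroup ↥N).map N.subtype = ⁅L, L⁆ := by
      rw [Subgroup.map_commutator, Subgroup.map_subgroupOf_eq_of_le hLN]
    rw [← h1]; exact ⟨d, hd, rfl⟩
  have hxkd : x = (k : G) * (d : G) := by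
    have := congrArg Subtype.val hkd
    simpa using this.symm
  have hLL : ⁅L, L⁆ ≤ L := commutator_le_of_le_normalizer L L Subgroup.le_normalizer
  have hdL' : (d : G) ∈ L := hLL hdL
  have hkL : (k : G) ∈ L := by
    have h1 : (k : G) = x * (d : G)⁻¹ := by rw [hxkd]; group
    rw [h1]; exact L.mul_mem hxL (L.inv_mem hdL')
  -- abelianization of `L`
  have hcommL : (_root_.commutator L).map L.subtype = ⁅L, L⁆ := by
    rw [_root_.commutator_def, Subgroup.map_commutator, ← MonoidHom.range_eq_map,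
      Subgroup.range_subtype]
  have hd₁ : (⟨(d : G), hdL'⟩ : L) ∈ _root_.commutator L := by
    rw [← hcommL] at hdL
    obtain ⟨y, hy, hyd⟩ := hdL
    have : y = ⟨(d : G), hdL'⟩ := Subtype.ext hyd
    rw [← this]; exact hy
  have hof : Abelianization.of (⟨x, hxL⟩ : L) = Abelianization.of (⟨(k : G), hkL⟩ : L) := by
    have h1 : (⟨x, hxL⟩ : L) = ⟨(k : G), hkL⟩ * ⟨(d : G), hdL'⟩ := Subtype.ext hxkd
    rw [h1, map_mul]
    have h2 : Abelianization.of (⟨(d : G), hdL'⟩ : L) = 1 := by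
      rw [← MonoidHom.mem_ker, Abelianization.ker_of]; exact hd₁
    rw [h2, mul_one]
  have ho1 : orderOf (Abelianization.of (⟨x, hxL⟩ : L)) ∣ Nat.card P := by
    refine (orderOf_map_dvd _ _).trans ?_
    rw [Subgroup.orderOf_mk]
    exact Subgroup.orderOf_dvd_natCard _ hxP
  have ho2 : orderOf (Abelianization.of (⟨x, hxL⟩ : L)) ∣ Nat.card KP := by
    rw [hof]
    refine (orderOf_map_dvd _ _).trans ?_
    rw [Subgroup.orderOf_mk]
    exact Subgroup.orderOf_dvd_natCard _ hk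
  have hcop : (Nat.card P).Coprime (Nat.card KP) := by
    apply Nat.coprime_of_dvd
    intro r hr hrP hrK
    rw [hKPdef] at hrK
    have := piCoreOf_primes _ _ r hr hrK
    exact this.2 (hPπ r hr hrP)
  have ho3 : orderOf (Abelianization.of (⟨x, hxL⟩ : L)) = 1 :=
    Nat.eq_one_of_dvd_coprimes hcop ho1 ho2
  have hxker : (⟨x, hxL⟩ : L) ∈ _root_.commutator L := by
    rw [← Abelianization.ker_of, MonoidHom.mem_ker]
    exact orderOf_eq_one_iff.mp ho3
  have hxLL : x ∈ ⁅L, L⁆ := by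
    rw [← hcommL]; exact ⟨⟨x, hxL⟩, hxker, rfl⟩
  have hLQ : L ≤ normalizer (Q : Set G) := hLdef ▸ inf_le_right
  exact Subgroup.commutator_mono hLQ hLQ hxLL

end

end Cfsg.Agent.Lib.Helper13
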