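import Mathlib
import Cfsg.Prelude.Def_OddOrder
import Cfsg.Agent.Lib.Helper13.CNBasic
import Cfsg.Agent.Lib.Helper13.NPC
import Cfsg.Agent.Lib.Helper13.ThompsonTransfer
import Cfsg.Agent.Lib.Helper15.SylowIn
import Cfsg.Agent.S0108
import Cfsg.Agent.Lib.Helper13.TransHyp3
import Cfsg.Agent.Lib.Helper13.CoreControl

/-! Basic consequences of `IsMinSimpleOddOrder`; a maximal subgroup is not nilpotent. -/

set_option autoImplicit false
open Cfsg

namespace Cfsg.Agent.Lib.Helper13.CNMin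

open Subgroup

universe u

variable {G : Type u} [Group G] [Finite G]

theorem odd_card_sub (hG : IsMinSimpleOddOrder G) (H : Subgroup G) : Odd (Nat.card H) :=
  Odd.of_dvd_nat hG.1 (Subgroup.card_subgroup_dvd_card H)

theorem solvable_of_ne_top (hG : IsMinSimpleOddOrder G) {H : Subgroup G} (h : H ≠ ⊤) :
    Group.IsSolvable H := hG.2.2.2 H h

theorem not_solvable (hG : IsMinSimpleOddOrder G) : ¬ Group.IsSolvable G := by
  intro h
  haveI := hG.2.1
  apply hG.2.2.1
  exact ⟨⟨IsSimpleGroup.comm_iff_isSolvable.mpr h⟩⟩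

theorem not_nilpotent (hG : IsMinSimpleOddOrder G) : ¬ Group.IsNilpotent G := by
  intro h
  haveI := h
  exact not_solvable hG inferInstance

theorem not_isPGroup (hG : IsMinSimpleOddOrder G) (p : ℕ) [Fact p.Prime] : ¬ IsPGroup p G :=
  fun h => not_nilpotent hG h.isNilpotent

theorem nontrivial (hG : IsMinSimpleOddOrder G) : Nontrivial G := by
  haveI := hG.2.1
  exact IsSimpleGroup.toNontrivial

theorem normalizer_ne_top (hG : IsMinSimpleOddOrder G) {Q : Subgroup G} (h1 : Q ≠ ⊥) (h2 : Q ≠ ⊤) :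
    normalizer (Q : Set G) ≠ ⊤ := by
  intro h
  haveI := hG.2.1
  have hn : Q.Normal := normalizer_eq_top_iff.mp h
  rcases hn.eq_bot_or_eq_top with h' | h'
  · exact h1 h'
  · exact h2 h'

theorem ne_top_of_isPGroup (hG : IsMinSimpleOddOrder G) {p : ℕ} [Fact p.Prime] {Q : Subgroup G}
    (hQ : IsPGroup p Q) : Q ≠ ⊤ := by
  intro h
  apply not_isPGroup hG p
  rw [h] at hQ
  exact hQ.of_equiv Subgroup.topEquiv

theorem ne_top_of_nilpotent (hG : IsMinSimpleOddOrder G) {Q : Subgroup G}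
    (hQ : Group.IsNilpotent Q) : Q ≠ ⊤ := by
  intro h
  apply not_nilpotent hG
  rw [h] at hQ
  haveI := hQ
  exact Group.nilpotent_of_mulEquiv (Subgroup.topEquiv (G := G))

theorem normalizer_ne_top_of_isPGroup (hG : IsMinSimpleOddOrder G) {p : ℕ} [Fact p.Prime]
    {Q : Subgroup G} (hQ : IsPGroup p Q) (h1 : Q ≠ ⊥) : normalizer (Q : Set G) ≠ ⊤ :=
  normalizer_ne_top hG h1 (ne_top_of_isPGroup hG hQ)

theorem eq_of_coatom_le {M N : Subgroup G} (hM : IsCoatom M) (h : M ≤ N) (hN : N ≠ ⊤) : N = M := by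
  by_contra hne
  exact hN (hM.2 N (lt_of_le_of_ne h (Ne.symm hne)))

theorem exists_coatom_ge {H : Subgroup G} (h : H ≠ ⊤) : ∃ M : Subgroup G, IsCoatom M ∧ H ≤ M :=
  (eq_top_or_exists_le_coatom H).resolve_left h

theorem no_npc (hG : IsMinSimpleOddOrder G) (p : ℕ) [Fact p.Prime] (hp : p ∣ Nat.card G) :
    ¬ HasNormalPComplement p G := by
  rintro ⟨P, N, hN, hc⟩
  haveI := hG.2.1
  rcases hN.eq_bot_or_eq_top with h | h
  · rw [h, isComplement'_bot_left] at hc
    exact ne_top_of_isPGroup hG P.isPGroup' hc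
  · rw [h, isComplement'_top_left] at hc
    have h1 := P.card_eq_multiplicity
    rw [hc, Subgroup.card_bot] at h1
    have hpos := (Fact.out : p.Prime).factorization_pos_of_dvd Nat.card_pos.ne' hp
    have h2 : 1 < p ^ (Nat.card G).factorization p :=
      Nat.one_lt_pow hpos.ne' (Fact.out : p.Prime).one_lt
    omega

/-- a finite nilpotent group has a normal `p`-complement -/
theorem npc_of_nilpotent {K : Type u} [Group K] [Finite K] [hK : Group.IsNilpotent K] (p : ℕ)
    [Fact p.Prime] : NPC p K := by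
  have hsyl := ((Group.isNilpotent_of_finite_tfae (G := K)).out 0 3).mp hK
  obtain ⟨P⟩ : Nonempty (Sylow p K) := inferInstance
  haveI hPn : (P : Subgroup K).Normal := hsyl p ‹_› P
  obtain ⟨H, hH⟩ := Subgroup.exists_right_complement'_of_coprime P.card_coprime_index
  have hcardH : (P : Subgroup K).index = Nat.card H := hH.symm.index_eq_card
  have hcopH : (Nat.card H).Coprime p := by
    rw [← hcardH]
    exact ((Fact.out : p.Prime).coprime_iff_not_dvd.mpr P.not_dvd_index).symm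
  have hHn : H.Normal := by
    constructor
    intro h hh k
    obtain ⟨⟨⟨x, hx⟩, ⟨h', hh'⟩⟩, hxk, -⟩ := (isComplement'_def.mp hH).existsUnique k
    simp only at hxk
    have hu : h' * h * h'⁻¹ ∈ H := H.mul_mem (H.mul_mem hh' hh) (H.inv_mem hh')
    have hcop : (orderOf x).Coprime (orderOf (h' * h * h'⁻¹)) := by
      obtain ⟨j, hj⟩ := Cfsg.Agent.Lib.Helper13.CNBasic.pow_of_mem_isPGroup P.isPGroup' hx
      have h1 : orderOf x ∣ p ^ j := orderOf_dvd_of_pow_eq_one hj
      have h2 : orderOf (h' * h * h'⁻¹) ∣ Nat.card H := by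
        have := orderOf_dvd_natCard (⟨_, hu⟩ : H)
        rwa [Subgroup.orderOf_mk] at this
      exact Nat.Coprime.coprime_dvd_left h1
        (Nat.Coprime.coprime_dvd_right h2 (Nat.Coprime.pow_left _ hcopH.symm))
    have hcomm := Cfsg.Agent.Lib.Helper2.commute_of_coprime_orderOf x (h' * h * h'⁻¹) hcop
    have : k * h * k⁻¹ = h' * h * h'⁻¹ := by
      rw [← hxk]
      calc x * h' * h * (x * h')⁻¹ = x * (h' * h * h'⁻¹) * x⁻¹ := by group
        _ = (h' * h * h'⁻¹) * x * x⁻¹ := by rw [hcomm]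
        _ = h' * h * h'⁻¹ := by group
    rw [this]
    exact hu
  obtain ⟨k, hk⟩ := IsPGroup.iff_card.mp P.isPGroup'
  exact ⟨H, hHn, hcopH, k, by rw [← hk]; exact hH.index_eq_card⟩

theorem npc_of_nilpotent_subgroup {M : Subgroup G} (hM : Group.IsNilpotent M) (p : ℕ)
    [Fact p.Prime] : HasNormalPComplement p M := by
  haveI := hM
  exact npc_iff.mpr (npc_of_nilpotent p)

/-- `q`-elements of a nilpotent subgroup lie in (the image of) any of its Sylow `q`-subgroups -/
theorem mem_map_sylow_of_nilpotent (H : Subgroup G) (hH : Group.IsNilpotent H) {q : ℕ}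
    [Fact q.Prime] (Q₀ : Sylow q H) (a : G) (haH : a ∈ H) (ha : ∃ k : ℕ, a ^ (q ^ k) = 1) :
    a ∈ (Q₀ : Subgroup H).map H.subtype := by
  have hsyl := ((Group.isNilpotent_of_finite_tfae (G := H)).out 0 3).mp hH
  have hap : IsPGroup q (Subgroup.zpowers (⟨a, haH⟩ : H)) := by
    apply Cfsg.Agent.S1473.isPGroup_zpowers
    obtain ⟨k, hk⟩ := ha
    exact ⟨k, Subtype.ext (by simpa using hk)⟩
  obtain ⟨R₀, hR₀⟩ := hap.exists_le_sylow
  haveI : (Q₀ : Subgroup H).Normal := hsyl q ‹_› Q₀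
  obtain ⟨g, hg⟩ := MulAction.exists_smul_eq H Q₀ R₀
  rw [Sylow.smul_eq_of_normal] at hg
  refine ⟨⟨a, haH⟩, ?_, rfl⟩
  rw [hg]
  exact hR₀ (Subgroup.mem_zpowers _)

theorem map_sylow_le_normalizer (H : Subgroup G) (hH : Group.IsNilpotent H) {q : ℕ}
    [Fact q.Prime] (Q₀ : Sylow q H) :
    H ≤ normalizer (((Q₀ : Subgroup H).map H.subtype : Subgroup G) : Set G) := by
  have hsyl := ((Group.isNilpotent_of_finite_tfae (G := H)).out 0 3).mp hH
  haveI : (Q₀ : Subgroup H).Normal := hsyl q ‹_› Q₀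
  intro m hm
  apply mem_normalizer_of_conj_mem
  rintro _ ⟨y, hy, rfl⟩
  exact ⟨⟨m, hm⟩ * y * ⟨m, hm⟩⁻¹, ‹(Q₀ : Subgroup H).Normal›.conj_mem y hy ⟨m, hm⟩, by simp⟩

/-- **a maximal subgroup of a minimal simple group of odd order is not nilpotent** -/
theorem not_nilpotent_coatom (hG : IsMinSimpleOddOrder G) (M : Subgroup G) (hM : IsCoatom M) :
    ¬ Group.IsNilpotent M := by
  intro hnil
  haveI := nontrivial hG
  have hMbot : M ≠ ⊥ := by
    intro hbot
    obtain ⟨g, hg⟩ := exists_ne (1 : G)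
    have h1 : zpowers g ≠ ⊥ := by
      intro h
      exact hg (Subgroup.zpowers_eq_bot.mp h)
    have h2 : zpowers g = ⊤ := hM.2 _ (by rw [hbot]; exact bot_lt_iff_ne_bot.mpr h1)
    haveI : IsCyclic G := ⟨g, fun x => by
      have : x ∈ (⊤ : Subgroup G) := mem_top x
      rwa [← h2] at this⟩
    exact hG.2.2.1 IsCyclic.isMulCommutative
  have hcard1 : Nat.card M ≠ 1 := fun h => hMbot (Subgroup.card_eq_one.mp h)
  obtain ⟨p, hp, hpM⟩ := Nat.exists_prime_and_dvd hcard1
  haveI : Fact p.Prime := ⟨hp⟩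
  have hpG : p ∣ Nat.card G := hpM.trans (Subgroup.card_subgroup_dvd_card M)
  have hp2 : p ≠ 2 := by
    rintro rfl
    have := hG.1
    rw [Nat.odd_iff] at this
    have h2 := Nat.mod_eq_zero_of_dvd hpG
    omega
  obtain ⟨P₀⟩ : Nonempty (Sylow p M) := inferInstance
  obtain ⟨P, hP⟩ : ∃ P : Subgroup G, P = (P₀ : Subgroup M).map M.subtype := ⟨_, rfl⟩
  have hPp : IsPGroup p P := hP ▸ P₀.isPGroup'.map _
  have hPM : P ≤ M := hP ▸ Subgroup.map_subtype_le _
  have hPbot : P ≠ ⊥ := by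
    intro h
    have h1 := P₀.card_eq_multiplicity
    rw [← Subgroup.card_map_of_injective M.subtype_injective, ← hP, h, Subgroup.card_bot] at h1
    have hpos := hp.factorization_pos_of_dvd Nat.card_pos.ne' hpM
    have h2 : 1 < p ^ (Nat.card M).factorization p := Nat.one_lt_pow hpos.ne' hp.one_lt
    omega
  have hMP : M ≤ normalizer (P : Set G) := hP ▸ map_sylow_le_normalizer M hnil P₀
  have hNP : normalizer (P : Set G) = M :=
    eq_of_coatom_le hM hMP (normalizer_ne_top_of_isPGroup hG hPp hPbot)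
  obtain ⟨S, hPS⟩ := hPp.exists_le_sylow
  have hSP : (S : Subgroup G) = P := by
    by_contra hne
    have hlt : P < (S : Subgroup G) := lt_of_le_of_ne hPS (Ne.symm hne)
    have h1 := Cfsg.Agent.Lib.Helper15.lt_inf_normalizer_of_lt (S : Subgroup G) P S.isPGroup' hlt
    obtain ⟨x, hx, hxP⟩ := Set.exists_of_ssubset h1
    obtain ⟨hxS, hxN⟩ := Subgroup.mem_inf.mp hx
    rw [hNP] at hxN
    apply hxP
    show x ∈ P
    rw [hP]
    exact mem_map_sylow_of_nilpotent M hnil P₀ x hxN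
      (Cfsg.Agent.Lib.Helper13.CNBasic.pow_of_mem_isPGroup S.isPGroup' hxS)
  have hSbot : (S : Subgroup G) ≠ ⊥ := hSP ▸ hPbot
  have hNS : normalizer ((S : Subgroup G) : Set G) = M := by rw [hSP]; exact hNP
  -- the Thompson subgroup
  have hJbot := thompsonSubgroupOf_ne_bot (S : Subgroup G) S.isPGroup' hSbot
  have hJp : IsPGroup p (Cfsg.thompsonSubgroupOf p (S : Subgroup G)) :=
    S.isPGroup'.to_le (Cfsg.Agent.Lib.Helper17.thompsonSubgroupOf_le_self _)
  have hNJ : normalizer ((Cfsg.thompsonSubgroupOf p (S : Subgroup G) : Subgroup G) : Set G) = M := by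
    apply eq_of_coatom_le hM _ (normalizer_ne_top_of_isPGroup hG hJp hJbot)
    rw [← hNS]
    exact Cfsg.Agent.Lib.Helper17.normalizer_le_normalizer_thompsonSubgroupOf _
  -- the centre
  have hZbot := inf_centralizer_ne_bot_of_isPGroup (S : Subgroup G) S.isPGroup' hSbot
  have hZp : IsPGroup p ↥((S : Subgroup G) ⊓ centralizer ((S : Subgroup G) : Set G)) :=
    S.isPGroup'.to_le inf_le_left
  have hNZ : normalizer ((((S : Subgroup G) ⊓ centralizer ((S : Subgroup G) : Set G)) :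
      Subgroup G) : Set G) = M := by
    apply eq_of_coatom_le hM _ (normalizer_ne_top_of_isPGroup hG hZp hZbot)
    rw [← hNS]
    intro g hg
    exact Cfsg.Agent.Lib.Helper13.CoreControl.mem_normalizer_inf hg
      (normalizer_le_normalizer_centralizer _ hg)
  have hCZ : centralizer ((((S : Subgroup G) ⊓ centralizer ((S : Subgroup G) : Set G)) :
      Subgroup G) : Set G) ≤ M := by
    rw [← hNZ]
    exact Subgroup.centralizer_le_normalizer _
  have h1 : Group.IsNilpotent ↥(normalizer ((Cfsg.thompsonSubgroupOf p (S : Subgroup G) :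
      Subgroup G) : Set G)) := by
    rw [hNJ]; exact hnil
  have h2 : Group.IsNilpotent ↥(centralizer ((((S : Subgroup G) ⊓
      centralizer ((S : Subgroup G) : Set G)) : Subgroup G) : Set G)) :=
    Cfsg.Agent.S1473.nilpotent_of_le hCZ hnil
  exact no_npc hG p hpG ((Cfsg.Agent.S0108.result hp2 S).mpr
    ⟨npc_of_nilpotent_subgroup h1 p, npc_of_nilpotent_subgroup h2 p⟩)

end Cfsg.Agent.Lib.Helper13.CNMin
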