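import Mathlib
import Cfsg.Prelude.Def_PLocal
import Cfsg.Agent.Lib.Lead.GlaubermanZJ
import Cfsg.Agent.Lib.Lead.ZJFunctor
import Cfsg.Agent.Lib.Lead.PLocalZJ
import Cfsg.Agent.Lib.Helper15.QuadInternal
import Cfsg.Agent.Lib.Helper15.SylowIn
import Cfsg.Agent.Lib.Helper13.ThompsonTransfer
import Cfsg.Agent.Lib.Helper20.Bender
import Cfsg.Agent.Lib.Helper20.Cores
import Cfsg.Agent.Lib.Helper13.BenderB

/-!
# Glauberman's ZJ-theorem for solvable groups of odd order, in the forms used for the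
Bender–Glauberman local analysis
-/

set_option autoImplicit false

namespace Cfsg.Agent.Lib.Helper13.OddZJ

open Subgroup Cfsg.Agent.Lib.Helper20 Cfsg.Agent.Lib.Helper13.BenderA
  Cfsg.Agent.Lib.Helper13.BenderB Cfsg.Agent.Lib.Helper15
  Cfsg.Agent.Lib.Lead.GlaubermanRepl Cfsg.Agent.Lib.Lead.GlaubermanZJ
  Cfsg.Agent.Lib.Lead.ZJFunctor
open scoped commutatorElement

section abstract

variable {H : Type*} [Group H] [Finite H]

theorem sylow_two_comm_of_odd (hodd : Odd (Nat.card H)) (T : Sylow 2 H) :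
    IsMulCommutative T := by
  have h1 : (T : Subgroup H) = ⊥ := by
    obtain ⟨n, hn⟩ := IsPGroup.iff_card.mp T.isPGroup'
    have h2 : Nat.card (T : Subgroup H) ∣ Nat.card H := Subgroup.card_subgroup_dvd_card _
    rcases Nat.eq_zero_or_pos n with h0 | h0
    · rw [h0, pow_zero] at hn; exact Subgroup.card_eq_one.mp hn
    · exfalso
      rw [hn] at h2
      have : 2 ∣ Nat.card H := (dvd_pow_self 2 h0.ne').trans h2
      exact (Nat.not_even_iff_odd.mpr hodd) (even_iff_two_dvd.mpr this)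
  refine ⟨⟨fun a b => ?_⟩⟩
  apply Subtype.ext
  have h2 : ∀ x ∈ (T : Subgroup H), x = 1 := by
    intro x hx
    rw [h1] at hx
    exact Subgroup.mem_bot.mp hx
  have ha : (a : H) = 1 := h2 _ a.2
  have hb : (b : H) = 1 := h2 _ b.2
  simp [ha, hb]

/-- `p`-stability of groups of odd order on normal `p`-subgroups -/
theorem isPStableOn_pgroup (p : ℕ) [Fact p.Prime] (hp2 : p ≠ 2) (hodd : Odd (Nat.card H))
    (P : Subgroup H) [P.Normal] (hP : IsPGroup p P) : Cfsg.IsPStableOn p P := by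
  intro a hq
  obtain ⟨D, hDn, hCD, haD, hDp⟩ := Cfsg.Agent.Lib.Helper15.QuadInternal.core_pgroup p hp2 P hP
    (sylow_two_comm_of_odd hodd) a hq
  have hNn : (D.map (QuotientGroup.mk' (centralizer (P : Set H)))).Normal :=
    hDn.map _ (QuotientGroup.mk'_surjective _)
  have hNp : IsPGroup p (D.map (QuotientGroup.mk' (centralizer (P : Set H)))) := by
    rintro ⟨_, d, hd, rfl⟩
    obtain ⟨k, hk⟩ := hDp d hd
    refine ⟨k, ?_⟩
    apply Subtype.ext
    simp only [Subgroup.coe_pow, Subgroup.coe_one]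
    rw [← map_pow]
    exact (QuotientGroup.eq_one_iff _).mpr hk
  exact (le_sSup ⟨hNn, hNp⟩ :
    D.map (QuotientGroup.mk' (centralizer (P : Set H))) ≤ Cfsg.pCore p _) ⟨a, haD, rfl⟩

/-- **Glauberman's ZJ-theorem** for solvable groups of odd order with `O_{p'} = 1`. -/
theorem odd_ZJ_normal [Group.IsSolvable H] (p : ℕ) [Fact p.Prime] (hp2 : p ≠ 2)
    (hodd : Odd (Nat.card H)) (h : Cfsg.pPrimeCore p H = ⊥) (S : Sylow p H) :
    (ZJ (S : Subgroup H)).Normal :=
  ZJ_normal hp2 (solvable_centralizer_pCore_le p h)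
    (fun P _ hP => isPStableOn_pgroup p hp2 hodd P hP) S

/-- an abelian normal subgroup of a Sylow `p`-subgroup lies in `O_p` when `O_{p'} = 1` -/
theorem abelian_normal_le_pCore [Group.IsSolvable H] (p : ℕ) [hp : Fact p.Prime] (hp2 : p ≠ 2)
    (hodd : Odd (Nat.card H)) (h : Cfsg.pPrimeCore p H = ⊥) (S : Sylow p H)
    (A : Subgroup H) (hAc : ∀ a ∈ A, ∀ b ∈ A, a * b = b * a)
    (hSA : (S : Subgroup H) ≤ normalizer (A : Set H)) : A ≤ Cfsg.pCore p H := by
  classical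
  have hc := solvable_centralizer_pCore_le (G := H) p h
  obtain ⟨O, hO⟩ : ∃ O, O = Cfsg.pCore p H := ⟨_, rfl⟩
  rw [← hO] at hc ⊢
  haveI hOn : O.Normal := hO ▸ Cfsg.pCore_normal p H
  have hOp : IsPGroup p O := hO ▸ pCore_isPGroup' p
  have hOS : O ≤ S := by
    rw [hO]; exact Cfsg.Agent.Lib.Helper16.pCore_le_sylow S
  obtain ⟨C, hC⟩ : ∃ C, C = centralizer (O : Set H) := ⟨_, rfl⟩
  obtain ⟨L, hL⟩ : ∃ L : Subgroup H, L = (Cfsg.pCore p (H ⧸ centralizer (O : Set H))).comap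
      (QuotientGroup.mk' (centralizer (O : Set H))) := ⟨_, rfl⟩
  haveI hLn : L.Normal := hL ▸ (Cfsg.pCore_normal p (H ⧸ centralizer (O : Set H))).comap _
  have hLp : IsPGroup p L := by
    rintro ⟨l, hl⟩
    rw [hL, Subgroup.mem_comap] at hl
    obtain ⟨k, hk⟩ := (pCore_isPGroup' (G := H ⧸ centralizer (O : Set H)) p) ⟨_, hl⟩
    have h1 := congrArg Subtype.val hk
    simp only [Subgroup.coe_pow, Subgroup.coe_one, QuotientGroup.mk'_apply] at h1
    rw [← QuotientGroup.mk_pow] at h1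
    have h2 : l ^ p ^ k ∈ O := hc ((QuotientGroup.eq_one_iff _).mp h1)
    obtain ⟨k', hk'⟩ := hOp ⟨_, h2⟩
    refine ⟨k + k', ?_⟩
    apply Subtype.ext
    have h3 := congrArg Subtype.val hk'
    simp only [Subgroup.coe_pow, Subgroup.coe_one] at h3 ⊢
    rw [pow_add, pow_mul]
    exact h3
  have hLO : L ≤ O := hO ▸ le_pCore' hLn hLp
  intro z hz
  apply hLO
  have hq : ⁅⁅O, zpowers z⁆, zpowers z⁆ = ⊥ := by
    have h1 : ⁅O, zpowers z⁆ ≤ A := by
      rw [Subgroup.commutator_le]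
      intro o ho t ht
      have ht' : t ∈ A := (zpowers_le.mpr hz) ht
      have h2 : o * t * o⁻¹ ∈ A := (Subgroup.mem_normalizer_iff.mp (hSA (hOS ho)) t).mp ht'
      have : ⁅o, t⁆ = (o * t * o⁻¹) * t⁻¹ := by simp only [commutatorElement_def]
      rw [this]
      exact mul_mem h2 (inv_mem ht')
    rw [eq_bot_iff]
    refine (Subgroup.commutator_mono h1 le_rfl).trans ?_
    rw [Subgroup.commutator_le]
    intro u hu t ht
    have ht' : t ∈ A := (zpowers_le.mpr hz) ht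
    rw [Subgroup.mem_bot]
    exact commutatorElement_eq_one_iff_commute.mpr (hAc u hu t ht')
  have := isPStableOn_pgroup p hp2 hodd O hOp z hq
  rw [hL, Subgroup.mem_comap]
  exact this

/-- **Glauberman's factorization** `H = O_{p'}(H) N_H(Z(J(S)))` for solvable `H` of odd order. -/
theorem odd_ZJ_factorization [Group.IsSolvable H] (p : ℕ) [hp : Fact p.Prime] (hp2 : p ≠ 2)
    (hodd : Odd (Nat.card H)) (S : Sylow p H) :
    Cfsg.pPrimeCore p H ⊔ normalizer (ZJ (S : Subgroup H) : Set H) = ⊤ := by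
  obtain ⟨K, hK⟩ : ∃ K, K = Cfsg.pPrimeCore p H := ⟨_, rfl⟩
  rw [← hK]
  haveI hKn : K.Normal := hK ▸ Cfsg.pPrimeCore_normal p H
  have hKc : (Nat.card K).Coprime p := hK ▸ pPrimeCore_coprime' p
  have hsurj : Function.Surjective (QuotientGroup.mk' K) := QuotientGroup.mk'_surjective K
  have hoddq : Odd (Nat.card (H ⧸ K)) := by
    have h1 : Nat.card (H ⧸ K) ∣ Nat.card H := by
      rw [← Subgroup.index_eq_card]; exact Subgroup.index_dvd_card K
    exact Odd.of_dvd_nat hodd h1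
  have hbot : Cfsg.pPrimeCore p (H ⧸ K) = ⊥ := by
    subst hK; exact pPrimeCore_quotient_eq_bot p
  have hn : (ZJ ((S.mapSurjective hsurj : Sylow p (H ⧸ K)) : Subgroup (H ⧸ K))).Normal :=
    odd_ZJ_normal p hp2 hoddq hbot _
  rw [Sylow.coe_mapSurjective, ZJ_map_of_injOn (QuotientGroup.mk' K)
    (Cfsg.Agent.Lib.Helper13.injOn_of_coprime K hKc S S.isPGroup')] at hn
  have hZp : IsPGroup p (ZJ (S : Subgroup H)) :=
    S.isPGroup'.to_le (inf_le_left.trans (JA_le _))
  have h1 := Cfsg.Agent.Lib.Helper13.normalizer_map_le_of_coprime K hKc (ZJ (S : Subgroup H)) hZp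
  rw [Subgroup.normalizer_eq_top] at h1
  rw [eq_top_iff]
  intro g _
  obtain ⟨n, hnN, hng⟩ := h1 (Subgroup.mem_top (QuotientGroup.mk' K g))
  have h2 : n⁻¹ * g ∈ K := by
    rw [← QuotientGroup.ker_mk' K, MonoidHom.mem_ker, map_mul, map_inv, hng, inv_mul_cancel]
  have h3 : g = n * (n⁻¹ * g) := by group
  rw [h3]
  exact mul_mem (le_sup_right (a := K) hnN) (le_sup_left (a := K) h2)

end abstract

section ambient

variable {G : Type*} [Group G] [Finite G]

theorem odd_subgroup (hodd : Odd (Nat.card G)) (X : Subgroup G) : Odd (Nat.card X) :=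
  Odd.of_dvd_nat hodd (Subgroup.card_subgroup_dvd_card X)

/-- a Sylow subgroup of `X` is a maximal `p`-subgroup of `X` -/
theorem IsSylowOf.eq_of_le {p : ℕ} [Fact p.Prime] {X P R : Subgroup G} (h : IsSylowOf p X P)
    (hR : IsPGroup p R) (hRX : R ≤ X) (hPR : P ≤ R) : R = P := by
  have h1 := card_le_of_isPGroup_le X R hR hRX
  rw [← ((isSylowOf_iff_card X P).mp h).2] at h1
  exact (Subgroup.eq_of_le_of_card_ge hPR (Nat.le_of_dvd Nat.card_pos h1)).symm

/-- `ZJ` of a subgroup of `X`, computed in `X` or in `G` -/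
theorem ZJ_map_subtype (X : Subgroup G) (U : Subgroup ↥X) :
    ZJ (U.map X.subtype) = (ZJ U).map X.subtype :=
  ZJ_map_of_injOn X.subtype (fun x _ hx => by
    apply Subtype.ext
    simpa using hx)

/-- **Glauberman** inside `G`: a solvable subgroup `X` of odd order with `O_{p'}(X) = 1` normalizes
`Z(J(R))` for `R` a Sylow `p`-subgroup of `X`. -/
theorem le_normalizer_ZJ (X : Subgroup G) [Group.IsSolvable ↥X] (hodd : Odd (Nat.card X))
    (p : ℕ) [hp : Fact p.Prime] (hp2 : p ≠ 2) (hO : ppOf p X = ⊥) (R : Subgroup G)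
    (hR : IsSylowOf p X R) : X ≤ normalizer ((ZJ R : Subgroup G) : Set G) := by
  obtain ⟨S, rfl⟩ := hR
  have hO' : Cfsg.pPrimeCore p ↥X = ⊥ := by
    unfold ppOf at hO
    rwa [Subgroup.map_eq_bot_iff_of_injective _ X.subtype_injective] at hO
  haveI hn := odd_ZJ_normal p hp2 hodd hO' S
  rw [ZJ_map_subtype]
  have h1 := Subgroup.le_normalizer_map (H := ZJ (S : Subgroup ↥X)) X.subtype
  rw [Subgroup.normalizer_eq_top, ← MonoidHom.range_eq_map, Subgroup.range_subtype] at h1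
  exact h1

/-- **Glauberman's factorization** inside `G`. -/
theorem exists_mul_normalizer_ZJ (X : Subgroup G) [Group.IsSolvable ↥X] (hodd : Odd (Nat.card X))
    (p : ℕ) [hp : Fact p.Prime] (hp2 : p ≠ 2) (R : Subgroup G) (hR : IsSylowOf p X R) :
    ∀ x ∈ X, ∃ k ∈ ppOf p X, ∃ n ∈ X ⊓ normalizer ((ZJ R : Subgroup G) : Set G), x = k * n := by
  obtain ⟨S, rfl⟩ := hR
  intro x hx
  have h1 := odd_ZJ_factorization p hp2 hodd S
  haveI : (Cfsg.pPrimeCore p ↥X).Normal := Cfsg.pPrimeCore_normal p _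
  have h2 : (⟨x, hx⟩ : ↥X) ∈ Cfsg.pPrimeCore p ↥X ⊔ normalizer (ZJ (S : Subgroup ↥X) : Set ↥X) := by
    rw [h1]; exact Subgroup.mem_top _
  rw [← SetLike.mem_coe, Subgroup.normal_mul] at h2
  obtain ⟨k, hk, n, hn, hkn⟩ := Set.mem_mul.mp h2
  refine ⟨k, ⟨k, hk, rfl⟩, n, Subgroup.mem_inf.mpr ⟨n.2, ?_⟩, ?_⟩
  · rw [ZJ_map_subtype]
    exact Subgroup.le_normalizer_map X.subtype ⟨n, hn, rfl⟩
  · have := congrArg Subtype.val hkn
    simpa using this.symm

/-- an abelian normal subgroup of a Sylow `p`-subgroup of `X` lies in `O_p(X)` when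
`O_{p'}(X) = 1` -/
theorem abelian_normal_le_pCoreOf (X : Subgroup G) [Group.IsSolvable ↥X]
    (hodd : Odd (Nat.card X)) (p : ℕ) [hp : Fact p.Prime] (hp2 : p ≠ 2) (hO : ppOf p X = ⊥)
    (R : Subgroup G) (hR : IsSylowOf p X R) (A : Subgroup G) (hAR : A ≤ R)
    (hAc : ∀ a ∈ A, ∀ b ∈ A, a * b = b * a) (hRA : R ≤ normalizer (A : Set G)) :
    A ≤ Cfsg.pCoreOf p X := by
  obtain ⟨S, rfl⟩ := hR
  have hO' : Cfsg.pPrimeCore p ↥X = ⊥ := by
    unfold ppOf at hO
    rwa [Subgroup.map_eq_bot_iff_of_injective _ X.subtype_injective] at hO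
  have hAX : A ≤ X := hAR.trans (Subgroup.map_subtype_le _)
  have h1 : A.subgroupOf X ≤ Cfsg.pCore p ↥X := by
    apply abelian_normal_le_pCore p hp2 hodd hO' S
    · intro a ha b hb
      apply Subtype.ext
      exact hAc _ (Subgroup.mem_subgroupOf.mp ha) _ (Subgroup.mem_subgroupOf.mp hb)
    · intro s hs
      have h2 : (s : G) ∈ normalizer (A : Set G) := hRA ⟨s, hs, rfl⟩
      rw [Subgroup.mem_normalizer_iff] at h2 ⊢
      intro y
      rw [Subgroup.mem_subgroupOf, Subgroup.mem_subgroupOf]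
      exact h2 y
  have h2 := Subgroup.map_mono (f := X.subtype) h1
  rw [Subgroup.subgroupOf_map_subtype, inf_eq_left.mpr hAX] at h2
  exact h2

end ambient

end Cfsg.Agent.Lib.Helper13.OddZJ
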