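import Mathlib
import Cfsg.Agent.Lib.Lead.PLocalZJ
import Cfsg.Agent.Lib.Helper13.OddZJ
import Cfsg.Agent.Lib.Helper13.CNMin
import Cfsg.Agent.Lib.Helper13.BenderB

/-! Strong `p`-embedding of `N_G(Z(J(P)))` in a minimal simple group of odd order in which
centralizers of non-identity `p`-elements are `p`-groups. -/

set_option autoImplicit false
open Cfsg

universe u

namespace Cfsg.Agent.Lib.Helper13.CNStrong

open Subgroup
open Cfsg.Agent.Lib.Lead.GlaubermanRepl Cfsg.Agent.Lib.Lead.GlaubermanZJ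
open Cfsg.Agent.Lib.Lead.PStableConv Cfsg.Agent.Lib.Lead.ZJFunctor
open Cfsg.Agent.Lib.Lead.FunctorNPC
open Cfsg.Agent.Lib.Lead.PLocalZJ (exists_sylow_normalizer ZJ_ne_bot ZJ_le
  normalizer_le_normalizer_ZJ)
open scoped commutatorElement

variable {G : Type u} [Group G] [Finite G] {p : ℕ} [hp : Fact p.Prime]

/-- the abstract local hypothesis: every `p`-local normalizes `Z(J)` of its Sylow `p`-subgroups -/
def FactOne (p : ℕ) (G : Type u) [Group G] : Prop :=
  ∀ Q : Subgroup G, IsPGroup p Q → Q ≠ ⊥ → ∀ R₀ : Sylow p ↥(normalizer (Q : Set G)),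
    normalizer (Q : Set G) ≤
      normalizer (ZJ ((R₀ : Subgroup ↥(normalizer (Q : Set G))).map
        (normalizer (Q : Set G)).subtype) : Set G)

/-- Lemma L -/
theorem lemma_L (hF : FactOne p G) (d : ℕ)
    (hC : ∀ P P' : Sylow p G, d < Nat.card ↥((P : Subgroup G) ⊓ P') → ZJ (P : Subgroup G) = ZJ (P' : Subgroup G)) :
    ∀ k : ℕ, ∀ R : Subgroup G, IsPGroup p R → R ≠ ⊥ → d ≤ Nat.card R → Nat.card G - Nat.card R = k →
      ∀ P₁ : Sylow p G, R ≤ P₁ → normalizer (ZJ R : Set G) ≤ normalizer (ZJ (P₁ : Subgroup G) : Set G) := by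
  intro k
  induction k using Nat.strong_induction_on with
  | _ k ih =>
  intro R hRp hR1 hdR hk P₁ hRP₁
  by_cases hRP : R = (P₁ : Subgroup G)
  · rw [hRP]
  have hlt : R < (P₁ : Subgroup G) := lt_of_le_of_ne hRP₁ hRP
  have hltX := Cfsg.Agent.Lib.Helper15.lt_inf_normalizer_of_lt (P₁ : Subgroup G) R P₁.isPGroup' hlt
  set X := (P₁ : Subgroup G) ⊓ normalizer (R : Set G) with hX
  have hXp : IsPGroup p X := P₁.isPGroup'.to_le inf_le_left
  have hcardX : Nat.card R < Nat.card X := by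
    by_contra hge
    push Not at hge
    exact hltX.ne (Subgroup.eq_of_le_of_card_ge hltX.le hge)
  have hD₁p : IsPGroup p (ZJ R) := hRp.to_le (ZJ_le R)
  have hD₁1 : ZJ R ≠ ⊥ := ZJ_ne_bot hRp hR1
  have hXN₁ : X ≤ normalizer (ZJ R : Set G) := inf_le_right.trans (normalizer_le_normalizer_ZJ R)
  obtain ⟨R₁₀, hXR₁⟩ := exists_sylow_normalizer (ZJ R) X hXp hXN₁
  set R₁ := (R₁₀ : Subgroup ↥(normalizer (ZJ R : Set G))).map (normalizer (ZJ R : Set G)).subtype with hR₁
  have hR₁p : IsPGroup p R₁ := R₁₀.isPGroup'.map _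
  obtain ⟨P₂, hR₁P₂⟩ := hR₁p.exists_le_sylow
  have hXle : X ≤ (P₂ : Subgroup G) ⊓ P₁ := le_inf (hXR₁.trans hR₁P₂) inf_le_left
  have hZ : ZJ (P₂ : Subgroup G) = ZJ (P₁ : Subgroup G) := by
    apply hC
    have := Subgroup.card_le_of_le hXle
    omega
  have hf := hF _ hD₁p hD₁1 R₁₀
  rw [← hR₁] at hf
  have hcardR₁ : Nat.card R < Nat.card R₁ := lt_of_lt_of_le hcardX (Subgroup.card_le_of_le hXR₁)
  have hR₁1 : R₁ ≠ ⊥ := by
    intro h
    rw [h, Subgroup.card_bot] at hcardR₁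
    have : 0 < Nat.card R := Nat.card_pos
    omega
  have hcardG : Nat.card R₁ ≤ Nat.card G := Subgroup.card_le_card_group R₁
  have h2 := ih (Nat.card G - Nat.card R₁) (by omega) R₁ hR₁p hR₁1 (by omega) rfl P₂ hR₁P₂
  rw [hZ] at h2
  exact hf.trans h2

/-- Claim C: Sylow subgroups meeting nontrivially have the same `Z(J)`. -/
theorem claim_C (hF : FactOne p G) :
    ∀ k : ℕ, ∀ P P' : Sylow p G, Nat.card G - Nat.card ↥((P : Subgroup G) ⊓ P') = k →
      (P : Subgroup G) ⊓ P' ≠ ⊥ → ZJ (P : Subgroup G) = ZJ (P' : Subgroup G) := by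
  intro k
  induction k using Nat.strong_induction_on with
  | _ k ih =>
  intro P P' hk hne
  set D := (P : Subgroup G) ⊓ P' with hD
  have hDp : IsPGroup p D := P.isPGroup'.to_le inf_le_left
  have hcardG : ∀ H : Subgroup G, Nat.card H ≤ Nat.card G := fun H => Subgroup.card_le_card_group H
  have hC : ∀ P₁ P₂ : Sylow p G, Nat.card D < Nat.card ↥((P₁ : Subgroup G) ⊓ P₂) →
      ZJ (P₁ : Subgroup G) = ZJ (P₂ : Subgroup G) := by
    intro P₁ P₂ hlt
    have h1 := hcardG ((P₁ : Subgroup G) ⊓ P₂)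
    have h2 := hcardG D
    apply ih (Nat.card G - Nat.card ↥((P₁ : Subgroup G) ⊓ P₂)) (by omega) P₁ P₂ rfl
    intro h
    rw [h, Subgroup.card_bot] at hlt
    have : 0 < Nat.card D := Nat.card_pos
    omega
  by_cases hDP : D = (P : Subgroup G)
  · have h1 : (P : Subgroup G) ≤ P' := hDP ▸ inf_le_right
    have h2 : (P : Subgroup G) = P' := (P.is_maximal' P'.isPGroup' h1).symm
    rw [h2]
  by_cases hDP' : D = (P' : Subgroup G)
  · have h1 : (P' : Subgroup G) ≤ P := hDP' ▸ inf_le_left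
    have h2 : (P' : Subgroup G) = P := (P'.is_maximal' P.isPGroup' h1).symm
    rw [h2]
  have hlt : D < (P : Subgroup G) := lt_of_le_of_ne inf_le_left hDP
  have hlt' : D < (P' : Subgroup G) := lt_of_le_of_ne inf_le_right hDP'
  have hltX := Cfsg.Agent.Lib.Helper15.lt_inf_normalizer_of_lt (P : Subgroup G) D P.isPGroup' hlt
  have hltX' := Cfsg.Agent.Lib.Helper15.lt_inf_normalizer_of_lt (P' : Subgroup G) D P'.isPGroup' hlt'
  set N := normalizer (D : Set G) with hN
  set X := (P : Subgroup G) ⊓ N with hX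
  set X' := (P' : Subgroup G) ⊓ N with hX'
  have hXp : IsPGroup p X := P.isPGroup'.to_le inf_le_left
  have hX'p : IsPGroup p X' := P'.isPGroup'.to_le inf_le_left
  have hcardX : Nat.card D < Nat.card X := by
    by_contra hge
    push Not at hge
    exact hltX.ne (Subgroup.eq_of_le_of_card_ge hltX.le hge)
  have hcardX' : Nat.card D < Nat.card X' := by
    by_contra hge
    push Not at hge
    exact hltX'.ne (Subgroup.eq_of_le_of_card_ge hltX'.le hge)
  obtain ⟨R₀, hXR⟩ := exists_sylow_normalizer D X hXp inf_le_right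
  set R := (R₀ : Subgroup ↥N).map N.subtype with hR
  have hRp : IsPGroup p R := R₀.isPGroup'.map _
  have hRN : R ≤ N := Subgroup.map_subtype_le _
  have hidx : ¬ p ∣ R.relIndex N := by
    have h1 : R.subgroupOf N = (R₀ : Subgroup ↥N) :=
      Subgroup.comap_map_eq_self_of_injective N.subtype_injective _
    show ¬ p ∣ (R.subgroupOf N).index
    rw [h1]
    exact R₀.not_dvd_index
  obtain ⟨P₁, hRP₁⟩ := hRp.exists_le_sylow
  have hZ1 : ZJ (P₁ : Subgroup G) = ZJ (P : Subgroup G) := by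
    apply hC
    have hle : X ≤ (P₁ : Subgroup G) ⊓ P := le_inf (hXR.trans hRP₁) inf_le_left
    have := Subgroup.card_le_of_le hle
    omega
  have hcardR : Nat.card D < Nat.card R := lt_of_lt_of_le hcardX (Subgroup.card_le_of_le hXR)
  have hR1 : R ≠ ⊥ := by
    intro h
    rw [h, Subgroup.card_bot] at hcardR
    have : 0 < Nat.card D := Nat.card_pos
    omega
  have hNle : N ≤ normalizer (ZJ (P₁ : Subgroup G) : Set G) := by
    have hf := hF _ hDp hne R₀
    rw [← hR] at hf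
    exact hf.trans (lemma_L hF (Nat.card D) hC _ R hRp hR1 hcardR.le rfl P₁ hRP₁)
  obtain ⟨c, hcN, hc⟩ := Cfsg.Agent.Lib.Helper17.exists_conj_le_of_not_dvd_relIndex N R X' hRp hidx hX'p
    inf_le_right
  have hX'le : X' ≤ ((c⁻¹ • P₁ : Sylow p G) : Subgroup G) := by
    intro b hb
    rw [Cfsg.Agent.Lib.Helper17.mem_smul_sylow_iff, inv_inv]
    exact hRP₁ (hc b hb)
  have hZ2 : ZJ ((c⁻¹ • P₁ : Sylow p G) : Subgroup G) = ZJ (P' : Subgroup G) := by
    apply hC
    have hle : X' ≤ ((c⁻¹ • P₁ : Sylow p G) : Subgroup G) ⊓ P' := le_inf hX'le inf_le_left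
    have := Subgroup.card_le_of_le hle
    omega
  have hZ3 : ZJ ((c⁻¹ • P₁ : Sylow p G) : Subgroup G) = ZJ (P₁ : Subgroup G) := by
    rw [Cfsg.Agent.Lib.Helper17.coe_smul_sylow_eq_map, ← ZJ_map]
    exact mem_normalizer_iff_map_conj_eq.mp (hNle (inv_mem hcN))
  rw [← hZ1, ← hZ3, hZ2]

theorem ZJ_eq_of_inf_ne_bot (hF : FactOne p G) (P P' : Sylow p G)
    (h : (P : Subgroup G) ⊓ P' ≠ ⊥) : ZJ (P : Subgroup G) = ZJ (P' : Subgroup G) :=
  claim_C hF _ P P' rfl h

/-- control of fusion: if `x ≠ 1` and `g x g⁻¹` both lie in `P` then `g` normalizes `Z(J(P))` -/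
theorem mem_normalizer_ZJ_of_conj (hF : FactOne p G) (P : Sylow p G) (g x : G)
    (hx : x ∈ (P : Subgroup G)) (hx1 : x ≠ 1) (hgx : g * x * g⁻¹ ∈ (P : Subgroup G)) :
    g ∈ normalizer (ZJ (P : Subgroup G) : Set G) := by
  have hne : (P : Subgroup G) ⊓ ((g⁻¹ • P : Sylow p G) : Subgroup G) ≠ ⊥ := by
    intro h
    have : x ∈ (P : Subgroup G) ⊓ ((g⁻¹ • P : Sylow p G) : Subgroup G) := by
      refine Subgroup.mem_inf.mpr ⟨hx, ?_⟩
      rw [Cfsg.Agent.Lib.Helper17.mem_smul_sylow_iff, inv_inv]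
      exact hgx
    rw [h] at this
    exact hx1 (Subgroup.mem_bot.mp this)
  have h1 := ZJ_eq_of_inf_ne_bot hF P (g⁻¹ • P) hne
  rw [Cfsg.Agent.Lib.Helper17.coe_smul_sylow_eq_map, ← ZJ_map] at h1
  have h2 : g⁻¹ ∈ normalizer (ZJ (P : Subgroup G) : Set G) :=
    mem_normalizer_iff_map_conj_eq.mpr h1.symm
  simpa using inv_mem h2

/-- every `p`-local `N_G(Q)`, `1 ≠ Q ≤ P`, normalizes `Z(J(P))` -/
theorem normalizer_le_normalizer_ZJ_of_factOne (hF : FactOne p G) (P : Sylow p G)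
    (Q : Subgroup G) (hQP : Q ≤ (P : Subgroup G)) (hQ1 : Q ≠ ⊥) :
    normalizer (Q : Set G) ≤ normalizer (ZJ (P : Subgroup G) : Set G) := by
  intro g hg
  obtain ⟨⟨x, hx⟩, hx1⟩ := (Subgroup.ne_bot_iff_exists_ne_one).mp hQ1
  apply mem_normalizer_ZJ_of_conj hF P g x (hQP hx) (fun h => hx1 (Subtype.ext h))
  exact hQP ((mem_normalizer_iff.mp hg x).mp hx)

/-- centralizers of non-identity `p`-elements are `p`-groups -/
def PCent (p : ℕ) (G : Type u) [Group G] : Prop :=
  ∀ x y : G, x ≠ 1 → (∃ k : ℕ, x ^ (p ^ k) = 1) → x * y = y * x → (orderOf y).Coprime p → y = 1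

theorem prime_ne_two_of_dvd (hG : IsMinSimpleOddOrder G) (hpG : p ∣ Nat.card G) : p ≠ 2 := by
  rintro rfl
  have := hG.1
  rw [Nat.odd_iff] at this
  have h2 := Nat.mod_eq_zero_of_dvd hpG
  omega

theorem dvd_card_of_isPGroup_ne_bot {Q : Subgroup G} (hQ : IsPGroup p Q) (hQ1 : Q ≠ ⊥) :
    p ∣ Nat.card Q := by
  obtain ⟨k, hk⟩ := IsPGroup.iff_card.mp hQ
  rcases Nat.eq_zero_or_pos k with h0 | h0
  · rw [h0, pow_zero] at hk
    exact absurd (Subgroup.card_eq_one.mp hk) hQ1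
  · rw [hk]
    exact dvd_pow_self p h0.ne'

theorem factOne_of_pCent (hG : IsMinSimpleOddOrder G) (hPC : PCent p G) : FactOne p G := by
  intro Q hQp hQ1 R₀
  obtain ⟨N, hN⟩ : ∃ N : Subgroup G, N = normalizer (Q : Set G) := ⟨_, rfl⟩
  have hNtop : normalizer (Q : Set G) ≠ ⊤ := CNMin.normalizer_ne_top_of_isPGroup hG hQp hQ1
  haveI : Group.IsSolvable ↥(normalizer (Q : Set G)) := CNMin.solvable_of_ne_top hG hNtop
  have hodd : Odd (Nat.card ↥(normalizer (Q : Set G))) := CNMin.odd_card_sub hG _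
  have hpQ := dvd_card_of_isPGroup_ne_bot hQp hQ1
  have hp2 : p ≠ 2 := prime_ne_two_of_dvd hG (hpQ.trans (Subgroup.card_subgroup_dvd_card Q))
  have hO : BenderB.ppOf p (normalizer (Q : Set G)) = ⊥ := by
    have hLN : BenderB.ppOf p (normalizer (Q : Set G)) ≤ normalizer (Q : Set G) :=
      BenderB.ppOf_le _ _
    have hQL : Q ≤ normalizer ((BenderB.ppOf p (normalizer (Q : Set G)) : Subgroup G) : Set G) :=
      Subgroup.le_normalizer.trans (BenderB.le_normalizer_ppOf _ _)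
    have hcop := BenderB.ppOf_coprime p (normalizer (Q : Set G))
    have hdisj : BenderB.ppOf p (normalizer (Q : Set G)) ⊓ Q = ⊥ := by
      obtain ⟨k, hk⟩ := IsPGroup.iff_card.mp hQp
      exact (Subgroup.disjoint_of_coprime_natCard (by
        rw [hk]; exact Nat.Coprime.pow_right _ hcop)).eq_bot
    have hcent := BenderB.le_centralizer_of_mutually_normalizing _ _ hLN hQL hdisj
    obtain ⟨⟨x, hx⟩, hx1⟩ := (Subgroup.ne_bot_iff_exists_ne_one).mp hQ1
    rw [eq_bot_iff]
    intro y hy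
    have h1 := Subgroup.mem_centralizer_iff.mp (hcent hy) x hx
    have h2 : orderOf y ∣ Nat.card (BenderB.ppOf p (normalizer (Q : Set G))) := by
      have := orderOf_dvd_natCard (⟨y, hy⟩ : BenderB.ppOf p (normalizer (Q : Set G)))
      rwa [Subgroup.orderOf_mk] at this
    exact Subgroup.mem_bot.mpr (hPC x y (fun h => hx1 (Subtype.ext h))
      (CNBasic.pow_of_mem_isPGroup hQp hx) h1 (Nat.Coprime.coprime_dvd_left h2 hcop))
  exact OddZJ.le_normalizer_ZJ (normalizer (Q : Set G)) hodd p hp2 hO _ ⟨R₀, rfl⟩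

theorem commutator_eq_top (hG : IsMinSimpleOddOrder G) : commutator G = ⊤ := by
  haveI := hG.2.1
  rcases (inferInstance : (commutator G).Normal).eq_bot_or_eq_top with h | h
  · exfalso
    apply hG.2.2.1
    rw [commutator_eq_bot_iff_center_eq_top] at h
    refine ⟨⟨fun a b => ?_⟩⟩
    have : b ∈ Subgroup.center G := h ▸ Subgroup.mem_top b
    exact Subgroup.mem_center_iff.mp this a
  · exact h

/-- the Sylow `p`-subgroup lies in the derived subgroup of `N_G(Z(J(P)))` -/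
theorem sylow_le_commutator (hG : IsMinSimpleOddOrder G) (hF : FactOne p G) (P : Sylow p G) :
    (P : Subgroup G) ≤ ⁅normalizer (ZJ (P : Subgroup G) : Set G),
      normalizer (ZJ (P : Subgroup G) : Set G)⁆ := by
  have h1 := Subgroup.commutator_inf_eq_focalSubgroup P
  rw [commutator_eq_top hG, top_inf_eq] at h1
  suffices hle : (P : Subgroup G).focalSubgroup ≤ ⁅normalizer (ZJ (P : Subgroup G) : Set G),
      normalizer (ZJ (P : Subgroup G) : Set G)⁆ by
    intro y hy
    apply hle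
    rw [← h1]; exact hy
  rw [Subgroup.focalSubgroup_def, Subgroup.closure_le]
  rintro g ⟨hgP, x, hxP, u, rfl⟩
  by_cases hx1 : x = 1
  · rw [hx1]
    simp
  have hPM : (P : Subgroup G) ≤ normalizer (ZJ (P : Subgroup G) : Set G) :=
    Subgroup.le_normalizer.trans (normalizer_le_normalizer_ZJ _)
  have h2 : u * x * u⁻¹ ∈ (P : Subgroup G) := by
    have h3 : x⁻¹ * ⁅x, u⁆ ∈ (P : Subgroup G) := (P : Subgroup G).mul_mem (inv_mem hxP) hgP
    have h4 : u * x * u⁻¹ = (x⁻¹ * ⁅x, u⁆)⁻¹ := by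
      rw [commutatorElement_def]; group
    rw [h4]
    exact inv_mem h3
  have hu := mem_normalizer_ZJ_of_conj hF P u x hxP hx1 h2
  exact Subgroup.commutator_mem_commutator (hPM hxP) hu

/-- `N_G(Z(J(P)))` has no proper normal subgroup of `p`-power index -/
theorem eq_top_of_index_pow (hG : IsMinSimpleOddOrder G) (hF : FactOne p G) (P : Sylow p G)
    (T : Subgroup ↥(normalizer (ZJ (P : Subgroup G) : Set G))) [hTn : T.Normal] (n : ℕ)
    (hT : T.index = p ^ n) : T = ⊤ := by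
  obtain ⟨M, hM⟩ : ∃ M : Subgroup G, M = normalizer (ZJ (P : Subgroup G) : Set G) := ⟨_, rfl⟩
  subst hM
  have hPM : (P : Subgroup G) ≤ normalizer (ZJ (P : Subgroup G) : Set G) :=
    Subgroup.le_normalizer.trans (normalizer_le_normalizer_ZJ _)
  have hcomm := sylow_le_commutator hG hF P
  rw [← Subgroup.map_subtype_commutator] at hcomm
  have hP₀ : (P : Subgroup G).subgroupOf (normalizer (ZJ (P : Subgroup G) : Set G)) ≤
      commutator ↥(normalizer (ZJ (P : Subgroup G) : Set G)) := by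
    intro y hy
    obtain ⟨z, hz, hzy⟩ := hcomm (Subgroup.mem_subgroupOf.mp hy)
    have : z = y := Subtype.ext hzy
    rwa [← this]
  have hidx : ¬ p ∣ ((P : Subgroup G).subgroupOf (normalizer (ZJ (P : Subgroup G) : Set G))).index := by
    intro hd
    apply P.not_dvd_index
    have := Subgroup.relIndex_mul_index hPM
    rw [← this]
    exact Dvd.dvd.mul_right hd _
  have hsup : (P : Subgroup G).subgroupOf (normalizer (ZJ (P : Subgroup G) : Set G)) ⊔ T = ⊤ := by
    rw [← Subgroup.index_eq_one]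
    have h1 := Subgroup.index_dvd_of_le (le_sup_left :
      (P : Subgroup G).subgroupOf (normalizer (ZJ (P : Subgroup G) : Set G)) ≤
        (P : Subgroup G).subgroupOf (normalizer (ZJ (P : Subgroup G) : Set G)) ⊔ T)
    have h2 := Subgroup.index_dvd_of_le (le_sup_right :
      T ≤ (P : Subgroup G).subgroupOf (normalizer (ZJ (P : Subgroup G) : Set G)) ⊔ T)
    rw [hT] at h2
    have hcop : (((P : Subgroup G).subgroupOf (normalizer (ZJ (P : Subgroup G) : Set G))).index).Coprime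
        (p ^ n) :=
      Nat.Coprime.pow_right _ (((Fact.out : p.Prime).coprime_iff_not_dvd.mpr hidx).symm)
    exact Nat.eq_one_of_dvd_coprimes hcop h1 h2
  have hsup' : commutator ↥(normalizer (ZJ (P : Subgroup G) : Set G)) ⊔ T = ⊤ := by
    rw [eq_top_iff, ← hsup]
    exact sup_le_sup_right hP₀ T
  by_contra hTtop
  have hcardQ : Nat.card (↥(normalizer (ZJ (P : Subgroup G) : Set G)) ⧸ T) = p ^ n := by
    rw [← Subgroup.index_eq_card, hT]
  have hQp : IsPGroup p (↥(normalizer (ZJ (P : Subgroup G) : Set G)) ⧸ T) :=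
    IsPGroup.of_card hcardQ
  haveI : Group.IsNilpotent (↥(normalizer (ZJ (P : Subgroup G) : Set G)) ⧸ T) := hQp.isNilpotent
  haveI : Nontrivial (↥(normalizer (ZJ (P : Subgroup G) : Set G)) ⧸ T) := by
    rw [← Finite.one_lt_card_iff_nontrivial, ← Subgroup.index_eq_card]
    have h1 : T.index ≠ 1 := fun h => hTtop (Subgroup.index_eq_one.mp h)
    have h2 : T.index ≠ 0 := Subgroup.index_ne_zero_of_finite
    omega
  have hlt := Group.IsSolvable.commutator_lt_top_of_nontrivial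
    (↥(normalizer (ZJ (P : Subgroup G) : Set G)) ⧸ T)
  apply hlt.ne
  rw [commutator_def, eq_top_iff]
  have h1 : (⊤ : Subgroup (↥(normalizer (ZJ (P : Subgroup G) : Set G)) ⧸ T)) =
      (⊤ : Subgroup ↥(normalizer (ZJ (P : Subgroup G) : Set G))).map (QuotientGroup.mk' T) :=
    (Subgroup.map_top_of_surjective _ (QuotientGroup.mk'_surjective T)).symm
  rw [h1, ← Subgroup.map_commutator, ← commutator_def, ← hsup', Subgroup.map_sup,
    QuotientGroup.map_mk'_self, sup_bot_eq]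

/-- if the centralizer of one non-identity central element of a Sylow `p`-subgroup of a CN-group is a
`p`-group, then so is the centralizer of every non-identity `p`-element -/
theorem pCent_of_sylow_central (hCN : IsCNGroup G) (P : Sylow p G) (z : G)
    (hzP : z ∈ (P : Subgroup G)) (hz1 : z ≠ 1) (hzc : ∀ u ∈ (P : Subgroup G), u * z = z * u)
    (hz : ∀ y : G, z * y = y * z → (orderOf y).Coprime p → y = 1) : PCent p G := by
  intro x y hx1 hxp hxy hyc
  obtain ⟨P', hP'⟩ := (Cfsg.Agent.S1473.isPGroup_zpowers x hxp).exists_le_sylow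
  obtain ⟨g, hg⟩ := MulAction.exists_smul_eq G P' P
  have hx'P : g * x * g⁻¹ ∈ (P : Subgroup G) := by
    rw [← hg]
    exact Cfsg.Agent.Lib.Helper17.conj_mem_smul_sylow g P' (hP' (Subgroup.mem_zpowers x))
  have hx'1 : g * x * g⁻¹ ≠ 1 := by
    intro h
    apply hx1
    have : x = g⁻¹ * (g * x * g⁻¹) * g := by group
    rw [this, h]; group
  have hcomm : (g * x * g⁻¹) * (g * y * g⁻¹) = (g * y * g⁻¹) * (g * x * g⁻¹) := by
    calc (g * x * g⁻¹) * (g * y * g⁻¹) = g * (x * y) * g⁻¹ := by group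
      _ = g * (y * x) * g⁻¹ := by rw [hxy]
      _ = (g * y * g⁻¹) * (g * x * g⁻¹) := by group
  have hord : orderOf (g * y * g⁻¹) = orderOf y := by
    have := (MulAut.conj g).orderOf_eq y
    rwa [MulAut.conj_apply] at this
  have hzx : z * (g * x * g⁻¹) = (g * x * g⁻¹) * z := (hzc _ hx'P).symm
  have hnil := hCN (g * x * g⁻¹) hx'1
  have hzC : z ∈ centralizer ({g * x * g⁻¹} : Set G) :=
    Subgroup.mem_centralizer_singleton_iff.mpr hzx
  have hyC : g * y * g⁻¹ ∈ centralizer ({g * x * g⁻¹} : Set G) :=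
    Subgroup.mem_centralizer_singleton_iff.mpr hcomm.symm
  have hcop : (orderOf z).Coprime (orderOf (g * y * g⁻¹)) := by
    obtain ⟨j, hj⟩ := CNBasic.pow_of_mem_isPGroup P.isPGroup' hzP
    have h2 : orderOf z ∣ p ^ j := orderOf_dvd_of_pow_eq_one hj
    rw [hord]
    exact Nat.Coprime.coprime_dvd_left h2 (Nat.Coprime.pow_left _ hyc.symm)
  have h3 := Cfsg.Agent.Lib.Helper2.commute_of_coprime_orderOf_of_mem _ hnil z (g * y * g⁻¹)
    hzC hyC hcop
  have h4 := hz (g * y * g⁻¹) h3 (hord ▸ hyc)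
  have : y = g⁻¹ * (g * y * g⁻¹) * g := by group
  rw [this, h4]; group

end Cfsg.Agent.Lib.Helper13.CNStrong
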