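import Mathlib
import Cfsg.Prelude.Def_OddOrderLocal
import Cfsg.Agent.Lib.Helper2.Cores

/-! Three-step groups (for an arbitrary natural number `p`): `C(O_p) ≤ O_p`, `F ≤ O_p`. -/

set_option autoImplicit false
open Cfsg

namespace Cfsg.Agent.Lib.Helper13.CNThree

open Subgroup Cfsg.Agent.Lib.Helper2

universe u

variable {X : Type u} [Group X] [Finite X]

theorem pCore_isPGroup_nat (p : ℕ) : IsPGroup p (pCore p X) := by
  have hs : SupClosed {N : Subgroup X | N.Normal ∧ IsPGroup p N} := by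
    intro a ha b hb
    haveI := ha.1
    haveI := hb.1
    exact ⟨inferInstance, ha.2.to_sup_of_normal_right hb.2⟩
  exact (hs.sSup_mem (Set.toFinite _) ⟨inferInstance, IsPGroup.of_bot⟩ subset_rfl).2

/-- elements of `T = K ⊔ A` centralizing `K = O_p` lie in `K` -/
theorem mem_pCore_of_mem_sup_centralizer {p : ℕ} (A : Subgroup X)
    (hfpf : ∀ a ∈ A, a ≠ 1 → pCore p X ⊓ centralizer ({a} : Set X) = ⊥) (hK : pCore p X ≠ ⊥)
    (c : X) (hcT : c ∈ pCore p X ⊔ A) (hcC : c ∈ centralizer (pCore p X : Set X)) :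
    c ∈ pCore p X := by
  haveI : (pCore p X).Normal := inferInstance
  have hc' : c ∈ ((pCore p X ⊔ A : Subgroup X) : Set X) := hcT
  rw [Subgroup.normal_mul] at hc'
  obtain ⟨k, hk, a, ha, rfl⟩ := Set.mem_mul.mp hc'
  by_cases ha1 : a = 1
  · rw [ha1, mul_one]; exact hk
  exfalso
  have hbot := hfpf a ha ha1
  rw [Subgroup.mem_centralizer_iff] at hcC
  have hk1 : k = 1 := by
    have h1 : k * (k * a) = (k * a) * k := hcC k hk
    have h2 : a * k = k * a := by
      have : k * (a * k) = k * (k * a) := by rw [h1]; group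
      exact mul_left_cancel this
    have : k ∈ pCore p X ⊓ centralizer ({a} : Set X) :=
      Subgroup.mem_inf.mpr ⟨hk, Subgroup.mem_centralizer_singleton_iff.mpr h2.symm⟩
    rw [hbot] at this
    exact Subgroup.mem_bot.mp this
  obtain ⟨⟨w, hw⟩, hw1⟩ := (Subgroup.ne_bot_iff_exists_ne_one).mp hK
  have h1 : w * (k * a) = (k * a) * w := hcC w hw
  rw [hk1, one_mul] at h1
  have : w ∈ pCore p X ⊓ centralizer ({a} : Set X) :=
    Subgroup.mem_inf.mpr ⟨hw, Subgroup.mem_centralizer_singleton_iff.mpr h1⟩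
  rw [hbot] at this
  exact hw1 (Subtype.ext (Subgroup.mem_bot.mp this))

/-- in a three-step group (for any `p`), `C(O_p) ≤ O_p` -/
theorem centralizer_pCore_le {p : ℕ} (h3 : IsThreeStepGroup p X) :
    centralizer (pCore p X : Set X) ≤ pCore p X := by
  obtain ⟨hK, A, -, -, -, -, hTn, -, ⟨n, hn⟩, hfpf, -⟩ := h3
  haveI := hTn
  haveI : (pCore p X).Normal := inferInstance
  apply le_pCore inferInstance
  intro ⟨c, hc⟩
  have h1 : c ^ (p ^ n) ∈ pCore p X ⊔ A := by
    rw [← QuotientGroup.eq_one_iff, QuotientGroup.mk_pow]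
    have := pow_card_eq_one' (G := X ⧸ (pCore p X ⊔ A)) (x := (c : X ⧸ (pCore p X ⊔ A)))
    rwa [← Subgroup.index_eq_card, hn] at this
  have h2 : c ^ (p ^ n) ∈ pCore p X :=
    mem_pCore_of_mem_sup_centralizer A hfpf hK _ h1 (Subgroup.pow_mem _ hc _)
  obtain ⟨j, hj⟩ := pCore_isPGroup_nat p ⟨_, h2⟩
  refine ⟨n + j, Subtype.ext ?_⟩
  have h3 : (c ^ p ^ n) ^ p ^ j = 1 := by simpa using congrArg Subtype.val hj
  simp only [Subgroup.coe_pow, Subgroup.coe_one]
  rw [pow_add, pow_mul, h3]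

/-- in a three-step group (for any `p`), the Fitting subgroup lies in `O_p` -/
theorem fittingSubgroup_le_pCore {p : ℕ} (h3 : IsThreeStepGroup p X) :
    fittingSubgroup X ≤ pCore p X := by
  have hC := centralizer_pCore_le h3
  rw [fittingSubgroup_eq_iSup_pCore]
  apply iSup_le
  rintro ⟨q, hq⟩
  haveI : Fact q.Prime := ⟨hq⟩
  show pCore q X ≤ pCore p X
  haveI : (pCore p X).Normal := inferInstance
  haveI : (pCore q X).Normal := inferInstance
  by_cases hqp : q ∣ p
  · apply le_pCore inferInstance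
    intro g
    obtain ⟨k, hk⟩ := pCore_isPGroup q (G := X) g
    obtain ⟨m, hm⟩ := pow_dvd_pow_of_dvd hqp k
    exact ⟨k, by rw [hm, pow_mul, hk, one_pow]⟩
  · have hcop : Nat.Coprime q p := hq.coprime_iff_not_dvd.mpr hqp
    have hdisj : pCore q X ⊓ pCore p X = ⊥ := by
      rw [eq_bot_iff]
      intro u hu
      obtain ⟨hu1, hu2⟩ := Subgroup.mem_inf.mp hu
      obtain ⟨k, hk⟩ := pCore_isPGroup q (G := X) ⟨u, hu1⟩
      obtain ⟨j, hj⟩ := pCore_isPGroup_nat p (X := X) ⟨u, hu2⟩
      have hk' : u ^ q ^ k = 1 := by simpa using congrArg Subtype.val hk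
      have hj' : u ^ p ^ j = 1 := by simpa using congrArg Subtype.val hj
      have h1 : orderOf u ∣ q ^ k := orderOf_dvd_of_pow_eq_one hk'
      have h2 : orderOf u ∣ p ^ j := orderOf_dvd_of_pow_eq_one hj'
      have h3 : orderOf u = 1 :=
        Nat.eq_one_of_dvd_coprimes (Nat.Coprime.pow k j hcop) h1 h2
      exact Subgroup.mem_bot.mpr (orderOf_eq_one_iff.mp h3)
    have hcomm : ⁅pCore q X, pCore p X⁆ = ⊥ := by
      rw [eq_bot_iff, ← hdisj]
      exact Subgroup.commutator_le_inf _ _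
    have hle : pCore q X ≤ centralizer (pCore p X : Set X) :=
      Subgroup.commutator_eq_bot_iff_le_centralizer.mp hcomm
    exact hle.trans hC

end Cfsg.Agent.Lib.Helper13.CNThree
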