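import Mathlib
import Cfsg.Prelude.Def_OddOrder
import Cfsg.Prelude.Def_OddOrderLocal
import Cfsg.Agent.Lib.Helper13.BenderC

/-!
# Basic facts on the Fitting subgroup of a maximal subgroup of a minimal simple group
-/

set_option autoImplicit false

namespace Cfsg.Agent.Lib.Helper13.FitBasics

open Subgroup Cfsg.Agent.Lib.Helper20 Cfsg.Agent.Lib.Helper13.BenderA
  Cfsg.Agent.Lib.Helper13.BenderB Cfsg.Agent.Lib.Helper13.BenderC
open scoped commutatorElement

/-- every subgroup of a finite nilpotent group is subnormal -/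
theorem isSubnormal_of_isNilpotent {N : Type*} [Group N] [Finite N] [hN : Group.IsNilpotent N] :
    ∀ (n : ℕ) (H : Subgroup N), H.index = n → H.IsSubnormal := by
  intro n
  induction n using Nat.strong_induction_on with
  | _ n ih =>
  intro H hn
  by_cases htop : H = ⊤
  · rw [htop]; exact Subgroup.IsSubnormal.top
  have h1 : H < normalizer (H : Set N) :=
    Group.normalizerCondition_of_isNilpotent H (lt_top_iff_ne_top.mpr htop)
  have h2 : (normalizer (H : Set N)).index < n := by
    rw [← hn]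
    have hdvd := Subgroup.index_dvd_of_le h1.le
    have hpos : 0 < H.index := Nat.pos_of_ne_zero Subgroup.index_ne_zero_of_finite
    rcases Nat.lt_or_ge (normalizer (H : Set N)).index H.index with h | h
    · exact h
    · exfalso
      have heq : (normalizer (H : Set N)).index = H.index :=
        le_antisymm (Nat.le_of_dvd hpos hdvd) h
      have h3 := Subgroup.relIndex_mul_index h1.le
      rw [heq] at h3
      have h4 : H.relIndex (normalizer (H : Set N)) = 1 := by
        have : H.relIndex (normalizer (H : Set N)) * H.index = 1 * H.index := by rw [h3, one_mul]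
        exact Nat.eq_of_mul_eq_mul_right hpos this
      have h5 : normalizer (H : Set N) ≤ H := Subgroup.relIndex_eq_one.mp h4
      exact (lt_irrefl _ (lt_of_lt_of_le h1 h5))
  have h3 := ih _ h2 (normalizer (H : Set N)) rfl
  exact Subgroup.IsSubnormal.step H _ h1.le h3 Subgroup.normal_in_normalizer

variable {G : Type*} [Group G] [Finite G]

/-- `F(X)` (inside `G`) is nilpotent -/
theorem fittingOf_isNilpotent (X : Subgroup G) : Group.IsNilpotent ↥(Cfsg.fittingOf X) := by
  haveI : Group.IsNilpotent (Cfsg.fittingSubgroup ↥X) := fittingSubgroup_isNilpotent'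
  unfold Cfsg.fittingOf
  exact Group.nilpotent_of_mulEquiv
    (Subgroup.equivMapOfInjective (Cfsg.fittingSubgroup ↥X) X.subtype X.subtype_injective)

theorem le_normalizer_fittingOf (X : Subgroup G) :
    X ≤ normalizer ((Cfsg.fittingOf X : Subgroup G) : Set G) := by
  haveI : (Cfsg.fittingSubgroup ↥X).Normal := fittingSubgroup_normal'
  have h1 := Subgroup.le_normalizer_map (H := Cfsg.fittingSubgroup ↥X) X.subtype
  rw [Subgroup.normalizer_eq_top, ← MonoidHom.range_eq_map, Subgroup.range_subtype] at h1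
  exact h1

/-- every subgroup of `F(X)` is subnormal in `F(X)` -/
theorem subgroupOf_fittingOf_isSubnormal (X A : Subgroup G) :
    (A.subgroupOf (Cfsg.fittingOf X)).IsSubnormal := by
  haveI := fittingOf_isNilpotent X
  exact isSubnormal_of_isNilpotent _ _ rfl

/-- a `p`-subgroup of `F(X)` lies in `O_p(X)` -/
theorem le_pCoreOf_of_le_fittingOf {p : ℕ} [hp : Fact p.Prime] (X K : Subgroup G)
    (hK : K ≤ Cfsg.fittingOf X) (hKp : IsPGroup p K) : K ≤ Cfsg.pCoreOf p X := by
  haveI hnil : Group.IsNilpotent (Cfsg.fittingSubgroup ↥X) := fittingSubgroup_isNilpotent'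
  haveI hFn : (Cfsg.fittingSubgroup ↥X).Normal := fittingSubgroup_normal'
  have hKX : K ≤ X := hK.trans (fittingOf_le X)
  -- K as a subgroup of the group `fittingSubgroup X`
  have hK' : K.subgroupOf X ≤ Cfsg.fittingSubgroup ↥X := by
    intro x hx
    have h1 := hK (Subgroup.mem_subgroupOf.mp hx)
    obtain ⟨y, hy, hyx⟩ := h1
    have : y = x := Subtype.ext hyx
    rw [← this]; exact hy
  have hK'p : IsPGroup p ((K.subgroupOf X).subgroupOf (Cfsg.fittingSubgroup ↥X)) :=
    (hKp.comap_subtype).comap_subtype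
  obtain ⟨P, hP⟩ := hK'p.exists_le_sylow
  have hPn : (P : Subgroup (Cfsg.fittingSubgroup ↥X)).Normal := inferInstance
  haveI : (P : Subgroup (Cfsg.fittingSubgroup ↥X)).Characteristic :=
    P.characteristic_of_normal hPn
  have hle : (P : Subgroup (Cfsg.fittingSubgroup ↥X)).map (Cfsg.fittingSubgroup ↥X).subtype ≤
      Cfsg.pCore p ↥X := by
    apply le_pCore'
    · exact ConjAct.normal_of_characteristic_of_normal
    · exact P.isPGroup'.map _
  intro k hk
  have h1 : (⟨k, hKX hk⟩ : ↥X) ∈ K.subgroupOf X := Subgroup.mem_subgroupOf.mpr hk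
  have h2 : (⟨⟨k, hKX hk⟩, hK' h1⟩ : ↥(Cfsg.fittingSubgroup ↥X)) ∈
      (K.subgroupOf X).subgroupOf (Cfsg.fittingSubgroup ↥X) := Subgroup.mem_subgroupOf.mpr h1
  have h3 := hP h2
  have h4 : (⟨k, hKX hk⟩ : ↥X) ∈ Cfsg.pCore p ↥X := hle ⟨_, h3, rfl⟩
  exact ⟨_, h4, rfl⟩

/-- `Z(O_q(X))` as a subgroup of `G` -/
def zOf (q : ℕ) (X : Subgroup G) : Subgroup G :=
  Cfsg.pCoreOf q X ⊓ centralizer ((Cfsg.pCoreOf q X : Subgroup G) : Set G)

theorem zOf_le_pCoreOf (q : ℕ) (X : Subgroup G) : zOf q X ≤ Cfsg.pCoreOf q X := inf_le_left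

theorem zOf_le (q : ℕ) (X : Subgroup G) : zOf q X ≤ X := (zOf_le_pCoreOf q X).trans (pCoreOf_le q X)

theorem zOf_isPGroup (q : ℕ) (X : Subgroup G) : IsPGroup q (zOf q X) :=
  (pCoreOf_isPGroup q X).to_le (zOf_le_pCoreOf q X)

theorem pCoreOf_le_centralizer_zOf (q : ℕ) (X : Subgroup G) :
    Cfsg.pCoreOf q X ≤ centralizer ((zOf q X : Subgroup G) : Set G) := by
  rw [Subgroup.le_centralizer_iff]
  exact inf_le_right

theorem le_normalizer_zOf (q : ℕ) (X : Subgroup G) :
    X ≤ normalizer ((zOf q X : Subgroup G) : Set G) :=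
  (le_normalizer_pCoreOf q X).trans (normalizer_le_normalizer_inf_centralizer _)

theorem fittingOf_le_centralizer_zOf {q : ℕ} (hq : q.Prime) (X : Subgroup G) :
    Cfsg.fittingOf X ≤ centralizer ((zOf q X : Subgroup G) : Set G) := by
  rw [fittingOf_eq_iSup]
  apply iSup_le
  intro r
  by_cases hrq : (r : ℕ) = q
  · rw [hrq]; exact pCoreOf_le_centralizer_zOf q X
  · exact (pCoreOf_le_centralizer_pCoreOf r.2 hq hrq X).trans
      (Subgroup.centralizer_le (zOf_le_pCoreOf q X))

theorem zOf_le_center_fittingOf {q : ℕ} (hq : q.Prime) (X : Subgroup G) :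
    zOf q X ≤ Cfsg.fittingOf X ⊓ centralizer ((Cfsg.fittingOf X : Subgroup G) : Set G) := by
  refine le_inf ((zOf_le_pCoreOf q X).trans (pCoreOf_le_fittingOf hq X)) ?_
  rw [Subgroup.le_centralizer_iff]
  exact fittingOf_le_centralizer_zOf hq X

theorem zOf_ne_bot {q : ℕ} [hq : Fact q.Prime] (X : Subgroup G)
    (hd : q ∣ Nat.card (Cfsg.fittingOf X)) : zOf q X ≠ ⊥ :=
  inf_centralizer_ne_bot _ (pCoreOf_isPGroup q X) (pCoreOf_ne_bot_of_dvd X hd)

theorem centralizer_zOf_le [IsSimpleGroup G] {q : ℕ} [hq : Fact q.Prime] (X : Subgroup G)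
    (hX : IsCoatom X) (hd : q ∣ Nat.card (Cfsg.fittingOf X)) :
    centralizer ((zOf q X : Subgroup G) : Set G) ≤ X := by
  have h1 := normalizer_eq_of_isCoatom X hX (zOf q X) (zOf_ne_bot X hd) (zOf_le q X)
    (le_normalizer_zOf q X)
  exact (Subgroup.centralizer_le_normalizer _).trans h1.le

/-- a subgroup all of whose prime divisors fail to divide its order is trivial -/
theorem eq_bot_of_no_prime {G : Type*} [Group G] [Finite G] (Y : Subgroup G) (h : ∀ r : ℕ, r.Prime → ¬ r ∣ Nat.card Y) : Y = ⊥ := by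
  rw [← Subgroup.card_eq_one]
  by_contra hne
  obtain ⟨r, hr, hrd⟩ := Nat.exists_prime_and_dvd hne
  exact h r hr hrd

end Cfsg.Agent.Lib.Helper13.FitBasics
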