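import Mathlib
import Cfsg.Prelude.Def_CaseTheorems
import Cfsg.Prelude.Def_OddOrder
import Cfsg.Prelude.Def_OddOrderLocal
import Cfsg.Agent.Lib.Helper13.FitBasics
import Cfsg.Agent.Lib.Helper13.TransHyp
import Cfsg.Agent.Lib.Helper13.TransHyp3
import Cfsg.Agent.Lib.Helper13.CoreControl
import Cfsg.Agent.Lib.Helper13.CoprimeSylow2

/-!
# Maximal local subgroups whose Fitting subgroup involves two primes (helper13)

`H` a local subgroup maximal among local subgroups, `F = F(H)` divisible by at least two primes,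
`M ≤ F` with `C_F(M) ≤ M`, `R` solvable normalized by `M` and `C_H(F)`.  Then for `q ∤ |F|`
every `M`-invariant `q`-subgroup of `R` lies in `O_{π(F)'}(R)`, and `C_{O_{π(F)'}(R)}(M) = 1`.
-/

set_option autoImplicit false
set_option maxHeartbeats 1000000
set_option linter.style.haveILetI false

namespace Cfsg.Agent.Lib.Helper13.MaxLocal

open Subgroup Cfsg.Agent.Lib.Helper20 Cfsg.Agent.Lib.Helper13 Cfsg.Agent.Lib.Helper13.BenderA
  Cfsg.Agent.Lib.Helper13.BenderB Cfsg.Agent.Lib.Helper13.BenderC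
  Cfsg.Agent.Lib.Helper13.FitBasics Cfsg.Agent.Lib.Helper13.CoreControl
open scoped commutatorElement

variable {G : Type*} [Group G] [Finite G]

/-- normalizer condition inside a nilpotent subgroup -/
theorem exists_mem_normalizer_not_mem_of_nilpotent {F D : Subgroup G}
    (hF : Group.IsNilpotent ↥F) (hDF : D ≤ F) (hne : D ≠ F) :
    ∃ y ∈ F, y ∈ normalizer (D : Set G) ∧ y ∉ D := by
  have hHtop : D.subgroupOf F ≠ ⊤ := by
    intro h1
    exact hne (le_antisymm hDF (Subgroup.subgroupOf_eq_top.mp h1))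
  have hlt := Group.normalizerCondition_of_isNilpotent (G := F) _ (lt_top_iff_ne_top.mpr hHtop)
  obtain ⟨y, hyN, hyH⟩ := SetLike.exists_of_lt hlt
  refine ⟨(y : G), y.2, ?_, ?_⟩
  · rw [Subgroup.mem_normalizer_iff]
    intro x
    constructor
    · intro hx
      have h1 : (⟨x, hDF hx⟩ : F) ∈ D.subgroupOf F := by
        rw [Subgroup.mem_subgroupOf]; exact hx
      have h2 := (Subgroup.mem_normalizer_iff.mp hyN _).mp h1
      rw [Subgroup.mem_subgroupOf] at h2
      simpa using h2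
    · intro hx
      have hxQ : x ∈ F := by
        have h3 : x = (y : G)⁻¹ * ((y : G) * x * (y : G)⁻¹) * (y : G) := by group
        rw [h3]
        exact F.mul_mem (F.mul_mem (F.inv_mem y.2) (hDF hx)) y.2
      have h1 : y * (⟨x, hxQ⟩ : F) * y⁻¹ ∈ D.subgroupOf F := by
        rw [Subgroup.mem_subgroupOf]; simpa using hx
      have h2 := (Subgroup.mem_normalizer_iff.mp hyN _).mpr h1
      rw [Subgroup.mem_subgroupOf] at h2
      exact h2
  · intro hy
    apply hyH
    rw [Subgroup.mem_subgroupOf]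
    exact hy

/-- coprime version of Thompson's `A × B` lemma for a nilpotent group `F`:  if `K` normalizes `F`,
acts coprimely and centralizes a subgroup `M ≤ F` with `C_F(M) ≤ M`, then `K` centralizes `F`. -/
theorem centralizes_of_centralizes_self_centralizing (F K : Subgroup G)
    (hF : Group.IsNilpotent ↥F) (hKF : K ≤ normalizer (F : Set G))
    (hcop : (Nat.card K).Coprime (Nat.card F)) :
    ∀ (n : ℕ) (M : Subgroup G), Nat.card F - Nat.card M = n → M ≤ F →
      F ⊓ centralizer (M : Set G) ≤ M → K ≤ centralizer (M : Set G) →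
      K ≤ centralizer (F : Set G) := by
  intro n
  induction n using Nat.strong_induction_on with
  | _ n ih =>
  intro M hn hMF hCM hKM
  by_cases hMeq : M = F
  · rw [← hMeq]; exact hKM
  obtain ⟨M₁, hM₁⟩ : ∃ M₁ : Subgroup G, M₁ = F ⊓ normalizer (M : Set G) := ⟨_, rfl⟩
  have hMM₁ : M ≤ M₁ := by rw [hM₁]; exact le_inf hMF Subgroup.le_normalizer
  have hM₁F : M₁ ≤ F := by rw [hM₁]; exact inf_le_left
  have hlt : M < M₁ := by
    refine lt_of_le_of_ne hMM₁ ?_
    intro heq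
    obtain ⟨y, hyF, hyN, hyM⟩ := exists_mem_normalizer_not_mem_of_nilpotent hF hMF hMeq
    apply hyM
    rw [heq, hM₁]
    exact ⟨hyF, hyN⟩
  have hK₁ : K ≤ centralizer (M₁ : Set G) := by
    intro k hk
    rw [Subgroup.mem_centralizer_iff]
    intro y hy
    have hyF : y ∈ F := hM₁F hy
    have hyN : y ∈ normalizer (M : Set G) := by
      have : y ∈ F ⊓ normalizer (M : Set G) := hM₁ ▸ hy
      exact this.2
    have hkM := hKM hk
    rw [Subgroup.mem_centralizer_iff] at hkM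
    -- c = y k y⁻¹ k⁻¹
    obtain ⟨c, hc⟩ : ∃ c : G, c = y * k * y⁻¹ * k⁻¹ := ⟨_, rfl⟩
    have hcF : c ∈ F := by
      rw [hc]
      have h1 : k * y⁻¹ * k⁻¹ ∈ F :=
        (Subgroup.mem_normalizer_iff.mp (hKF hk) y⁻¹).mp (F.inv_mem hyF)
      have : y * k * y⁻¹ * k⁻¹ = y * (k * y⁻¹ * k⁻¹) := by group
      rw [this]; exact F.mul_mem hyF h1
    have hcC : c ∈ centralizer (M : Set G) := by
      rw [Subgroup.mem_centralizer_iff]
      intro m hm
      have hm' : y⁻¹ * m * y ∈ M := by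
        have := (Subgroup.mem_normalizer_iff.mp (inv_mem hyN) m).mp hm
        simpa using this
      have e1 : m * k = k * m := hkM m hm
      have e2 : (y⁻¹ * m * y) * k = k * (y⁻¹ * m * y) := hkM _ hm'
      have e1' : k⁻¹ * m = m * k⁻¹ := by
        rw [inv_mul_eq_iff_eq_mul, ← mul_assoc, ← e1, mul_assoc, mul_inv_cancel, mul_one]
      rw [hc]
      have e3 : y * k * y⁻¹ * k⁻¹ * m = y * (k * (y⁻¹ * m * y)) * y⁻¹ * k⁻¹ := by
        have : y * k * y⁻¹ * k⁻¹ * m = y * k * y⁻¹ * (k⁻¹ * m) := by group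
        rw [this, e1']; group
      rw [e3, ← e2]; group
    have hcM : c ∈ M := hCM ⟨hcF, hcC⟩
    have hkc : k * c = c * k := (hkM c hcM).symm
    -- k y k⁻¹ = c⁻¹ y
    have hconj : k * y * k⁻¹ = c⁻¹ * y := by rw [hc]; group
    have hpow : ∀ j : ℕ, k ^ j * y * (k ^ j)⁻¹ = (c ^ j)⁻¹ * y := by
      intro j
      induction j with
      | zero => simp
      | succ j ihj =>
        have hkcj : k * (c ^ j)⁻¹ = (c ^ j)⁻¹ * k := by
          have h1 : Commute k c := hkc
          exact ((h1.pow_right j).inv_right).eq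
        calc k ^ (j + 1) * y * (k ^ (j + 1))⁻¹
            = k * (k ^ j * y * (k ^ j)⁻¹) * k⁻¹ := by rw [pow_succ']; group
          _ = k * ((c ^ j)⁻¹ * y) * k⁻¹ := by rw [ihj]
          _ = (k * (c ^ j)⁻¹) * (y * k⁻¹) := by group
          _ = (c ^ j)⁻¹ * k * (y * k⁻¹) := by rw [hkcj]
          _ = (c ^ j)⁻¹ * (k * y * k⁻¹) := by group
          _ = (c ^ j)⁻¹ * (c⁻¹ * y) := by rw [hconj]
          _ = (c ^ (j + 1))⁻¹ * y := by rw [pow_succ]; group
    have h1 := hpow (orderOf k)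
    rw [pow_orderOf_eq_one, one_mul, inv_one, mul_one] at h1
    have hck : c ^ orderOf k = 1 := by
      have : (c ^ orderOf k)⁻¹ = 1 := by
        have h2 : (c ^ orderOf k)⁻¹ * y = 1 * y := by rw [one_mul]; exact h1.symm
        exact mul_right_cancel h2
      exact inv_eq_one.mp this
    have hcF' : c ^ Nat.card F = 1 := by
      have h0 : (⟨c, hcF⟩ : ↥F) ^ Nat.card ↥F = 1 := pow_card_eq_one'
      have := congrArg Subtype.val h0
      rwa [Subgroup.coe_pow, Subgroup.coe_one] at this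
    have hkK : orderOf k ∣ Nat.card K := by
      have h0 : (⟨k, hk⟩ : ↥K) ^ Nat.card ↥K = 1 := pow_card_eq_one'
      have := congrArg Subtype.val h0
      rw [Subgroup.coe_pow, Subgroup.coe_one] at this
      exact orderOf_dvd_of_pow_eq_one this
    have hc1 : c = 1 := by
      have hd1 : orderOf c ∣ orderOf k := orderOf_dvd_of_pow_eq_one hck
      have hd2 : orderOf c ∣ Nat.card F := orderOf_dvd_of_pow_eq_one hcF'
      have hd3 : orderOf c ∣ Nat.card K := hd1.trans hkK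
      have : orderOf c = 1 := Nat.eq_one_of_dvd_coprimes hcop hd3 hd2
      exact orderOf_eq_one_iff.mp this
    -- y * k = k * y
    rw [hc1] at hc
    have : y * k = k * y := by
      have h2 : y * k * y⁻¹ * k⁻¹ = 1 := hc.symm
      calc y * k = (y * k * y⁻¹ * k⁻¹) * (k * y) := by group
        _ = k * y := by rw [h2, one_mul]
    exact this
  have hC₁ : F ⊓ centralizer (M₁ : Set G) ≤ M₁ :=
    (inf_le_inf_left F (Subgroup.centralizer_le hMM₁)).trans (hCM.trans hMM₁)
  have hcard : Nat.card F - Nat.card M₁ < n := by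
    rw [← hn]
    have h1 := card_lt_of_lt hlt
    have h2 : Nat.card M₁ ≤ Nat.card F := Subgroup.card_le_of_le hM₁F
    omega
  exact ih _ hcard M₁ rfl hM₁F hC₁ hK₁


/-- a solvable subgroup `R` normalized by `X = C_H(F(H))` meets `X` inside `F(H)` -/
theorem inf_centralizer_fittingOf_le_of_solvable (H R : Subgroup G) (hR : Group.IsSolvable ↥R)
    (hXR : H ⊓ centralizer ((Cfsg.fittingOf H : Subgroup G) : Set G) ≤ normalizer (R : Set G)) :
    R ⊓ (H ⊓ centralizer ((Cfsg.fittingOf H : Subgroup G) : Set G)) ≤ Cfsg.fittingOf H := by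
  obtain ⟨X, hX⟩ : ∃ X : Subgroup G,
      X = H ⊓ centralizer ((Cfsg.fittingOf H : Subgroup G) : Set G) := ⟨_, rfl⟩
  obtain ⟨N, hN⟩ : ∃ N : Subgroup G, N = R ⊓ X := ⟨_, rfl⟩
  rw [← hX] at hXR ⊢
  rw [← hN]
  have hNR : N ≤ R := hN ▸ inf_le_left
  have hNX : N ≤ X := hN ▸ inf_le_right
  have hXH : X ≤ H := hX ▸ inf_le_left
  have hXC : X ≤ centralizer ((Cfsg.fittingOf H : Subgroup G) : Set G) := hX ▸ inf_le_right
  haveI hNsolv : Group.IsSolvable ↥N := isSolvable_of_le hNR hR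
  have hXN : X ≤ normalizer (N : Set G) := by
    intro x hx
    rw [hN]
    exact mem_normalizer_inf (hXR hx) (Subgroup.le_normalizer hx)
  have hHX : H ≤ normalizer (X : Set G) := by
    intro h hh
    rw [hX]
    exact mem_normalizer_inf (Subgroup.le_normalizer hh)
      (normalizer_le_normalizer_centralizer _ (le_normalizer_fittingOf H hh))
  have hcore : ∀ t : ℕ, t.Prime → Cfsg.pCoreOf t N ≤ Cfsg.fittingOf H := by
    intro t ht
    have h1 : Cfsg.pCoreOf t N ≤ Cfsg.pCoreOf t X :=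
      le_pCoreOf t X _ ((pCoreOf_le t N).trans hNX)
        (hXN.trans (normalizer_le_normalizer_pCoreOf t N)) (pCoreOf_isPGroup t N)
    have h2 : Cfsg.pCoreOf t X ≤ Cfsg.pCoreOf t H :=
      le_pCoreOf t H _ ((pCoreOf_le t X).trans hXH)
        (hHX.trans (normalizer_le_normalizer_pCoreOf t X)) (pCoreOf_isPGroup t X)
    exact h1.trans (h2.trans (pCoreOf_le_fittingOf ht H))
  have hFN : Cfsg.fittingOf N ≤ Cfsg.fittingOf H := by
    rw [fittingOf_eq_iSup N]
    apply iSup_le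
    intro t
    exact hcore t t.2
  have h3 : N ≤ centralizer ((Cfsg.fittingOf N : Subgroup G) : Set G) :=
    (hNX.trans hXC).trans (Subgroup.centralizer_le hFN)
  have h4 : N ≤ Cfsg.fittingOf N :=
    (le_inf le_rfl h3).trans (inf_centralizer_fittingOf_le N)
  exact h4.trans hFN

/-- the centralizer of `Z(O_s(H))` lies in `H` for a maximal local subgroup `H` -/
theorem centralizer_zOf_le_of_maxLocal (H : Subgroup G)
    (hHmax : ∀ L : Subgroup G, Cfsg.IsLocalSubgroup L → H ≤ L → L = H)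
    (s : ℕ) [hs : Fact s.Prime] (hsd : s ∣ Nat.card (Cfsg.fittingOf H)) :
    centralizer ((zOf s H : Subgroup G) : Set G) ≤ H := by
  have h1 : normalizer ((zOf s H : Subgroup G) : Set G) = H :=
    hHmax _ ⟨s, zOf s H, hs.out, zOf_isPGroup s H, zOf_ne_bot H hsd, rfl⟩ (le_normalizer_zOf s H)
  exact (Subgroup.centralizer_le_normalizer _).trans h1.le

theorem zOf_le_of_self_centralizing (H M : Subgroup G) (hM : M ≤ Cfsg.fittingOf H)
    (hCM : Cfsg.fittingOf H ⊓ centralizer (M : Set G) ≤ M) (s : ℕ) (hs : s.Prime) :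
    zOf s H ≤ M := by
  refine le_trans ?_ hCM
  have h1 := zOf_le_center_fittingOf hs H
  exact h1.trans (inf_le_inf_left _ (Subgroup.centralizer_le hM))

/-- **Key vanishing lemma.**  An `M`-invariant subgroup of `R` of order prime to `|F(H)|`
centralizing some `Z(O_s(H))`, `s ∈ π(F(H))`, is trivial. -/
theorem eq_bot_of_le_centralizer_zOf (H : Subgroup G)
    (hHmax : ∀ L : Subgroup G, Cfsg.IsLocalSubgroup L → H ≤ L → L = H)
    (M : Subgroup G) (hM : M ≤ Cfsg.fittingOf H)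
    (hCM : Cfsg.fittingOf H ⊓ centralizer (M : Set G) ≤ M)
    (R : Subgroup G) (hR : Group.IsSolvable ↥R)
    (hXR : H ⊓ centralizer ((Cfsg.fittingOf H : Subgroup G) : Set G) ≤ normalizer (R : Set G))
    (s : ℕ) [hs : Fact s.Prime] (hsd : s ∣ Nat.card (Cfsg.fittingOf H))
    (K : Subgroup G) (hKR : K ≤ R) (hKcop : (Nat.card K).Coprime (Nat.card (Cfsg.fittingOf H)))
    (hMK : M ≤ normalizer (K : Set G))
    (hKZ : K ≤ centralizer ((zOf s H : Subgroup G) : Set G)) : K = ⊥ := by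
  have hKH : K ≤ H := hKZ.trans (centralizer_zOf_le_of_maxLocal H hHmax s hsd)
  have hKF : K ≤ normalizer ((Cfsg.fittingOf H : Subgroup G) : Set G) :=
    hKH.trans (le_normalizer_fittingOf H)
  have hinf : K ⊓ Cfsg.fittingOf H = ⊥ := (Subgroup.disjoint_of_coprime_natCard hKcop).eq_bot
  have hKM : K ≤ centralizer (M : Set G) := by
    intro k hk
    rw [Subgroup.mem_centralizer_iff]
    intro m hm
    have h1 : ⁅k, m⁆ ∈ K ⊓ Cfsg.fittingOf H := by
      refine Subgroup.mem_inf.mpr ⟨?_, ?_⟩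
      · have h2 : m * k⁻¹ * m⁻¹ ∈ K :=
          (Subgroup.mem_normalizer_iff.mp (hMK hm) k⁻¹).mp (inv_mem hk)
        have : ⁅k, m⁆ = k * (m * k⁻¹ * m⁻¹) := by rw [commutatorElement_def]; group
        rw [this]; exact mul_mem hk h2
      · have h2 : k * m * k⁻¹ ∈ Cfsg.fittingOf H :=
          (Subgroup.mem_normalizer_iff.mp (hKF hk) m).mp (hM hm)
        rw [commutatorElement_def]; exact mul_mem h2 (inv_mem (hM hm))
    rw [hinf, Subgroup.mem_bot, commutatorElement_def] at h1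
    have : k * m = m * k := by
      calc k * m = (k * m * k⁻¹ * m⁻¹) * (m * k) := by group
        _ = m * k := by rw [h1, one_mul]
    exact this.symm
  have hKCF : K ≤ centralizer ((Cfsg.fittingOf H : Subgroup G) : Set G) :=
    centralizes_of_centralizes_self_centralizing (Cfsg.fittingOf H) K (fittingOf_isNilpotent H)
      hKF hKcop _ M rfl hM hCM hKM
  have h5 : K ≤ Cfsg.fittingOf H :=
    (le_inf hKR (le_inf hKH hKCF)).trans (inf_centralizer_fittingOf_le_of_solvable H R hR hXR)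
  rw [eq_bot_iff, ← hinf]
  exact le_inf le_rfl h5


/-- an `M`-invariant subgroup `Q ≤ R` of order prime to `|F(H)|` lies in `O_{p'}(R)` for each
`p ∈ π(F(H))`, provided a second prime `r ≠ p` divides `|F(H)|`. -/
theorem le_ppOf_of_invariant (H : Subgroup G)
    (hHmax : ∀ L : Subgroup G, Cfsg.IsLocalSubgroup L → H ≤ L → L = H)
    (M : Subgroup G) (hM : M ≤ Cfsg.fittingOf H)
    (hCM : Cfsg.fittingOf H ⊓ centralizer (M : Set G) ≤ M)
    (R : Subgroup G) (hR : Group.IsSolvable ↥R)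
    (hXR : H ⊓ centralizer ((Cfsg.fittingOf H : Subgroup G) : Set G) ≤ normalizer (R : Set G))
    (hMR : M ≤ normalizer (R : Set G))
    (p r : ℕ) [hp : Fact p.Prime] [hr : Fact r.Prime] (hpr : r ≠ p)
    (hpd : p ∣ Nat.card (Cfsg.fittingOf H)) (hrd : r ∣ Nat.card (Cfsg.fittingOf H))
    (Q : Subgroup G) (hQR : Q ≤ R) (hQcop : (Nat.card Q).Coprime (Nat.card (Cfsg.fittingOf H)))
    (hQsolv : Group.IsSolvable ↥Q)
    (hMQ : M ≤ normalizer (Q : Set G)) : Q ≤ ppOf p R := by
  obtain ⟨Zp, hZp⟩ : ∃ Zp : Subgroup G, Zp = zOf p H := ⟨_, rfl⟩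
  obtain ⟨Zr, hZr⟩ : ∃ Zr : Subgroup G, Zr = zOf r H := ⟨_, rfl⟩
  have hZpM : Zp ≤ M := hZp ▸ zOf_le_of_self_centralizing H M hM hCM p hp.out
  have hZrM : Zr ≤ M := hZr ▸ zOf_le_of_self_centralizing H M hM hCM r hr.out
  have hZrF : Zr ≤ Cfsg.fittingOf H := hZrM.trans hM
  -- `C_Q(Zr) = 1`
  have hMZr : M ≤ normalizer (Zr : Set G) :=
    (hM.trans (fittingOf_le H)).trans (hZr ▸ le_normalizer_zOf r H)
  have hCQ : Q ⊓ centralizer (Zr : Set G) = ⊥ := by
    apply eq_bot_of_le_centralizer_zOf H hHmax M hM hCM R hR hXR r hrd _ (inf_le_left.trans hQR)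
    · exact Nat.Coprime.of_dvd_left (Subgroup.card_dvd_of_le inf_le_left) hQcop
    · intro m hm
      exact mem_normalizer_inf (hMQ hm) (normalizer_le_normalizer_centralizer _ (hMZr hm))
    · rw [← hZr]; exact inf_le_right
  -- `Q = [Q, Zr]`
  have hZrQ : Zr ≤ normalizer (Q : Set G) := hZrM.trans hMQ
  have hcopZQ : (Nat.card Zr).Coprime (Nat.card Q) :=
    (Nat.Coprime.of_dvd_right (Subgroup.card_dvd_of_le hZrF) hQcop).symm
  have hQcomm : ⁅Q, Zr⁆ = Q := by
    have h1 := coprime_commutator_sup_centralizer Zr Q hZrQ hcopZQ (Or.inr hQsolv)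
    rw [hCQ, sup_bot_eq] at h1
    exact h1
  -- the solvable group `Y = R (Zp Zr)`
  obtain ⟨Y, hY⟩ : ∃ Y : Subgroup G, Y = R ⊔ (Zp ⊔ Zr) := ⟨_, rfl⟩
  have hRY : R ≤ Y := hY ▸ le_sup_left
  have hZpY : Zp ≤ Y := hY ▸ (le_sup_left.trans le_sup_right)
  have hZrY : Zr ≤ Y := hY ▸ (le_sup_right.trans le_sup_right)
  have hZpp : IsPGroup p Zp := hZp ▸ zOf_isPGroup p H
  have hZrr : IsPGroup r Zr := hZr ▸ zOf_isPGroup r H
  have hZpZr : Zr ≤ centralizer (Zp : Set G) := by
    rw [hZp]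
    exact hZrF.trans (fittingOf_le_centralizer_zOf hp.out H)
  have hZZsolv : Group.IsSolvable ↥(Zp ⊔ Zr) := by
    apply isSolvable_sup_of_le_normalizer Zp Zr
    · exact hZpZr.trans (Subgroup.centralizer_le_normalizer _)
    · haveI := hZpp.isNilpotent; infer_instance
    · haveI := hZrr.isNilpotent; infer_instance
  haveI hYsolv : Group.IsSolvable ↥Y := by
    rw [hY]
    apply isSolvable_sup_of_le_normalizer R (Zp ⊔ Zr) _ hR hZZsolv
    exact sup_le (hZpM.trans hMR) (hZrM.trans hMR)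
  have hZrcop : (Nat.card Zr).Coprime p := by
    obtain ⟨k, hk⟩ := IsPGroup.iff_card.mp hZrr
    rw [hk]
    exact Nat.Coprime.pow_left k ((Nat.coprime_primes hr.out hp.out).mpr hpr)
  have hA : Zr ≤ ppOf p Y := by
    apply lemmaA Y p Zp Zr hZpY hZrY hZpp hZrcop hZpZr
    have h1 : centralizer (Zp : Set G) ≤ H := hZp ▸ centralizer_zOf_le_of_maxLocal H hHmax p hpd
    exact (inf_le_right.trans h1).trans (hZr ▸ le_normalizer_zOf r H)
  have hQY : Q ≤ ppOf p Y := by
    rw [← hQcomm]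
    have h2 : ⁅ppOf p Y, Q⁆ ≤ ppOf p Y :=
      commutator_le_of_le_normalizer (ppOf p Y) Q ((hQR.trans hRY).trans (le_normalizer_ppOf p Y))
    rw [Subgroup.commutator_comm]
    exact (Subgroup.commutator_mono hA le_rfl).trans h2
  have h3 : ppOf p Y ⊓ R ≤ ppOf p R := by
    apply le_ppOf p R _ inf_le_right
    · intro x hx
      exact mem_normalizer_inf (le_normalizer_ppOf p Y (hRY hx)) (Subgroup.le_normalizer hx)
    · exact Nat.Coprime.of_dvd_left (Subgroup.card_dvd_of_le inf_le_left) (ppOf_coprime p Y)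
  exact (le_inf hQY hQR).trans h3


theorem mem_normalizer_iInf {ι : Type*} {g : G} {A : ι → Subgroup G}
    (h : ∀ i, g ∈ normalizer ((A i : Subgroup G) : Set G)) :
    g ∈ normalizer ((⨅ i, A i : Subgroup G) : Set G) := by
  rw [Subgroup.mem_normalizer_iff]
  intro x
  rw [Subgroup.mem_iInf, Subgroup.mem_iInf]
  exact forall_congr' (fun i => Subgroup.mem_normalizer_iff.mp (h i) x)

/-- every `M`-invariant subgroup of `R` of order prime to `|F(H)|` lies in `O_{π(F(H))'}(R)`. -/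
theorem le_piCoreOf_of_invariant (H : Subgroup G)
    (hHmax : ∀ L : Subgroup G, Cfsg.IsLocalSubgroup L → H ≤ L → L = H)
    (hF2 : 2 ≤ (Nat.card (Cfsg.fittingOf H)).primeFactors.card)
    (M : Subgroup G) (hM : M ≤ Cfsg.fittingOf H)
    (hCM : Cfsg.fittingOf H ⊓ centralizer (M : Set G) ≤ M)
    (R : Subgroup G) (hR : Group.IsSolvable ↥R)
    (hXR : H ⊓ centralizer ((Cfsg.fittingOf H : Subgroup G) : Set G) ≤ normalizer (R : Set G))
    (hMR : M ≤ normalizer (R : Set G))
    (Q : Subgroup G) (hQR : Q ≤ R) (hQcop : (Nat.card Q).Coprime (Nat.card (Cfsg.fittingOf H)))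
    (hMQ : M ≤ normalizer (Q : Set G)) :
    Q ≤ Cfsg.piCoreOf (Cfsg.primesNotDvd (Nat.card (Cfsg.fittingOf H))) R := by
  have hQsolv : Group.IsSolvable ↥Q := isSolvable_of_le hQR hR
  obtain ⟨T, hT⟩ : ∃ T : Subgroup G,
      T = ⨅ p : {p : ℕ // p ∈ (Nat.card (Cfsg.fittingOf H)).primeFactors}, ppOf (p : ℕ) R := ⟨_, rfl⟩
  have hTle : ∀ p : ℕ, p ∈ (Nat.card (Cfsg.fittingOf H)).primeFactors → T ≤ ppOf p R := by
    intro p hp
    rw [hT]
    exact iInf_le (fun p : {p : ℕ // p ∈ (Nat.card (Cfsg.fittingOf H)).primeFactors} =>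
      ppOf (p : ℕ) R) ⟨p, hp⟩
  have hQT : Q ≤ T := by
    rw [hT]
    apply le_iInf
    rintro ⟨p, hp⟩
    have hpp : p.Prime := Nat.prime_of_mem_primeFactors hp
    have hpd : p ∣ Nat.card (Cfsg.fittingOf H) := Nat.dvd_of_mem_primeFactors hp
    obtain ⟨r, hr, hrp⟩ := Finset.exists_mem_ne (Nat.lt_of_lt_of_le (by norm_num) hF2) p
    haveI : Fact p.Prime := ⟨hpp⟩
    haveI : Fact r.Prime := ⟨Nat.prime_of_mem_primeFactors hr⟩
    exact le_ppOf_of_invariant H hHmax M hM hCM R hR hXR hMR p r hrp hpd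
      (Nat.dvd_of_mem_primeFactors hr) Q hQR hQcop hQsolv hMQ
  obtain ⟨p₀, hp₀⟩ : ∃ p₀, p₀ ∈ (Nat.card (Cfsg.fittingOf H)).primeFactors := by
    apply Finset.card_pos.mp
    omega
  have hTR : T ≤ R := (hTle p₀ hp₀).trans (ppOf_le p₀ R)
  have hRT : R ≤ normalizer (T : Set G) := by
    intro x hx
    rw [hT]
    apply mem_normalizer_iInf
    intro p
    exact le_normalizer_ppOf (p : ℕ) R hx
  have hTprimes : ∀ t : ℕ, t.Prime → t ∣ Nat.card T →
      t ∈ Cfsg.primesNotDvd (Nat.card (Cfsg.fittingOf H)) := by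
    intro t ht htd
    refine ⟨ht, ?_⟩
    intro htF
    have hmem : t ∈ (Nat.card (Cfsg.fittingOf H)).primeFactors :=
      Nat.mem_primeFactors.mpr ⟨ht, htF, Nat.card_pos.ne'⟩
    have h1 : Nat.card T ∣ Nat.card (ppOf t R) := Subgroup.card_dvd_of_le (hTle t hmem)
    have h2 := ppOf_coprime t R
    have h3 : t ∣ Nat.gcd (Nat.card (ppOf t R)) t := Nat.dvd_gcd (htd.trans h1) dvd_rfl
    rw [h2] at h3
    exact ht.one_lt.ne' (Nat.dvd_one.mp h3)
  exact hQT.trans (le_piCoreOf _ R T hTR hRT hTprimes)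

end Cfsg.Agent.Lib.Helper13.MaxLocal
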