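import Mathlib
import Cfsg.Agent.Lib.Helper13.CNStrong
import Cfsg.Agent.Lib.Helper13.CNThree
import Cfsg.Agent.Lib.Helper13.CNFrob
import Cfsg.Agent.Lib.Helper13.MaxLocal

/-! Maximal subgroups of a minimal simple CN-group of odd order are of Frobenius type. -/

set_option autoImplicit false
open Cfsg

universe u

namespace Cfsg.Agent.Lib.Helper13.CNMax

open Subgroup
open Cfsg.Agent.Lib.Lead.GlaubermanRepl Cfsg.Agent.Lib.Lead.GlaubermanZJ
open Cfsg.Agent.Lib.Lead.PLocalZJ (ZJ_ne_bot ZJ_le normalizer_le_normalizer_ZJ)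
open CNStrong CNMin

variable {G : Type u} [Group G] [Finite G]

theorem cn_sub (hCN : IsCNGroup G) (M : Subgroup G) : IsCNGroup M :=
  Cfsg.Agent.S1473.cn_of_injective M.subtype M.subtype_injective hCN

/-- a maximal subgroup is not a three-step group -/
theorem three_step_coatom_false (hG : IsMinSimpleOddOrder G) (hCN : IsCNGroup G) (M : Subgroup G)
    (hM : IsCoatom M) (p : ℕ) [Fact p.Prime] (h3 : IsThreeStepGroup p ↥M) : False := by
  have hCK₀ := CNThree.centralizer_pCore_le h3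
  have hK₀1 : pCore p ↥M ≠ ⊥ := h3.1
  haveI hK₀n : (pCore p ↥M).Normal := inferInstance
  obtain ⟨K, hK⟩ : ∃ K : Subgroup G, K = (pCore p ↥M).map M.subtype := ⟨_, rfl⟩
  have hKp : IsPGroup p K := hK ▸ (Cfsg.Agent.Lib.Helper2.pCore_isPGroup p).map _
  have hK1 : K ≠ ⊥ := by
    intro h
    apply hK₀1
    rw [hK] at h
    exact (Subgroup.map_eq_bot_iff_of_injective _ M.subtype_injective).mp h
  have hKM : K ≤ M := hK ▸ Subgroup.map_subtype_le _
  have hMK : M ≤ normalizer (K : Set G) := by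
    intro m hm
    apply mem_normalizer_of_conj_mem
    rw [hK]
    rintro _ ⟨y, hy, rfl⟩
    exact ⟨⟨m, hm⟩ * y * ⟨m, hm⟩⁻¹, hK₀n.conj_mem y hy ⟨m, hm⟩, by simp⟩
  have hNK : normalizer (K : Set G) = M :=
    eq_of_coatom_le hM hMK (normalizer_ne_top_of_isPGroup hG hKp hK1)
  have hCK : ∀ y : G, (∀ k ∈ K, k * y = y * k) → y ∈ K := by
    intro y hy
    have hyC : y ∈ centralizer (K : Set G) := Subgroup.mem_centralizer_iff.mpr hy
    have hyM : y ∈ M := hNK ▸ Subgroup.centralizer_le_normalizer _ hyC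
    have h1 : (⟨y, hyM⟩ : M) ∈ centralizer ((pCore p ↥M : Subgroup M) : Set M) := by
      rw [Subgroup.mem_centralizer_iff]
      intro k hk
      apply Subtype.ext
      have : (k : G) ∈ K := hK ▸ ⟨k, hk, rfl⟩
      exact hy _ this
    have h2 := hCK₀ h1
    rw [hK]
    exact ⟨⟨y, hyM⟩, h2, rfl⟩
  obtain ⟨P, hKP⟩ := hKp.exists_le_sylow
  obtain ⟨⟨x, hxK⟩, hx1⟩ := (Subgroup.ne_bot_iff_exists_ne_one).mp hK1
  have hx1' : x ≠ 1 := fun h => hx1 (Subtype.ext h)
  obtain ⟨z, hzP, hz1, hzc⟩ :=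
    Cfsg.Agent.S1474.exists_central (P : Subgroup G) P.isPGroup' x (hKP hxK) hx1'
  have hz : ∀ y : G, z * y = y * z → (orderOf y).Coprime p → y = 1 := by
    intro y hzy hyc
    have hnil := hCN z hz1
    have hyC : y ∈ centralizer ({z} : Set G) := Subgroup.mem_centralizer_singleton_iff.mpr hzy.symm
    have hyK : y ∈ K := by
      apply hCK
      intro k hk
      have hkC : k ∈ centralizer ({z} : Set G) :=
        Subgroup.mem_centralizer_singleton_iff.mpr (hzc k (hKP hk))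
      obtain ⟨j, hj⟩ := CNBasic.pow_of_mem_isPGroup hKp hk
      have h2 : orderOf k ∣ p ^ j := orderOf_dvd_of_pow_eq_one hj
      exact Cfsg.Agent.Lib.Helper2.commute_of_coprime_orderOf_of_mem _ hnil k y hkC hyC
        (Nat.Coprime.coprime_dvd_left h2 (Nat.Coprime.pow_left _ hyc.symm))
    exact eq_one_of_isPGroup_of_coprime hKp hyK hyc
  have hPC := pCent_of_sylow_central hCN P z hzP hz1 hzc hz
  have hF := factOne_of_pCent hG hPC
  have hPbot : (P : Subgroup G) ≠ ⊥ := fun h => hK1 (le_bot_iff.mp (h ▸ hKP))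
  have hS : normalizer (ZJ (P : Subgroup G) : Set G) = M := by
    apply eq_of_coatom_le hM
    · rw [← hNK]
      exact normalizer_le_normalizer_ZJ_of_factOne hF P K hKP hK1
    · exact normalizer_ne_top_of_isPGroup hG (P.isPGroup'.to_le (ZJ_le _))
        (ZJ_ne_bot P.isPGroup' hPbot)
  have h3' : ∀ S : Subgroup G, S = M → IsThreeStepGroup p ↥S := by
    rintro S rfl; exact h3
  obtain ⟨-, A, -, -, -, -, hTn, hTtop, ⟨n, hn⟩, -, -⟩ := h3' _ hS
  haveI := hTn
  exact hTtop (eq_top_of_index_pow hG hF P _ n hn)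

/-- the Frobenius-type structure of a subgroup `M = H ⋊ E`, `H` maximal nilpotent in `G` -/
structure FrobData (M H E : Subgroup G) : Prop where
  nil : Group.IsNilpotent H
  max : ∀ L : Subgroup G, Group.IsNilpotent L → H ≤ L → L = H
  norm : M ≤ normalizer (H : Set G)
  compl : IsComplIn H E M
  hne : H ≠ ⊥
  ene : E ≠ ⊥
  fpf : ∀ e ∈ E, e ≠ 1 → H ⊓ centralizer ({e} : Set G) = ⊥
  comm : ∀ a ∈ E, ∀ b ∈ E, a * b = b * a

theorem FrobData.cent {M H E : Subgroup G} (h : FrobData M H E) (x : G) (hxM : x ∈ M)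
    (hxH : x ∉ H) (w : G) (hw : w ∈ H) (hwx : w * x = x * w) : w = 1 :=
  CNFrob.eq_one_of_commute_of_not_mem h.compl h.norm h.fpf x hxM hxH w hw hwx

theorem FrobData.normalizer_eq (hG : IsMinSimpleOddOrder G) {M H E : Subgroup G}
    (hM : IsCoatom M) (h : FrobData M H E) : normalizer (H : Set G) = M :=
  eq_of_coatom_le hM h.norm (normalizer_ne_top hG h.hne (ne_top_of_nilpotent hG h.nil))

/-- every maximal subgroup is of Frobenius type with kernel `fittingHallOf M` -/
theorem coatom_frobData (hG : IsMinSimpleOddOrder G) (hCN : IsCNGroup G) (M : Subgroup G)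
    (hM : IsCoatom M) : ∃ E : Subgroup G, FrobData M (fittingHallOf M) E := by
  have hnn := not_nilpotent_coatom hG M hM
  haveI : Group.IsSolvable ↥M := solvable_of_ne_top hG hM.1
  have hFH : fittingHall ↥M ≠ ⊥ := by
    intro hFH
    obtain ⟨p, hp, h3⟩ := Cfsg.Agent.S1476.threeStep (cn_sub hCN M) hnn hFH
    haveI : Fact p.Prime := ⟨hp⟩
    exact three_step_coatom_false hG hCN M hM p h3
  obtain ⟨E, hnil, hnorm, hcompl, hne, hene, hfpf, hcomm, -⟩ :=
    CNFrob.frob_of_fittingHall M (cn_sub hCN M) hnn hFH (odd_card_sub hG M)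
  refine ⟨E, ⟨hnil, ?_, hnorm, hcompl, hne, hene, hfpf, hcomm⟩⟩
  -- maximality among nilpotent subgroups
  have hNH : normalizer ((fittingHallOf M : Subgroup G) : Set G) = M :=
    eq_of_coatom_le hM hnorm (normalizer_ne_top hG hne (ne_top_of_nilpotent hG hnil))
  have hcent := CNFrob.eq_one_of_commute_of_not_mem hcompl hnorm hfpf
  intro L hL hHL
  by_contra hne'
  obtain ⟨x, hxL, hxN, hxH⟩ := MaxLocal.exists_mem_normalizer_not_mem_of_nilpotent hL hHL
    (Ne.symm hne')
  rw [hNH] at hxN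
  haveI := hL
  haveI : Nontrivial ↥L := by
    obtain ⟨⟨h, hh⟩, hh1⟩ := (Subgroup.ne_bot_iff_exists_ne_one).mp hne
    exact ⟨⟨⟨h, hHL hh⟩, 1, fun e => hh1 (Subtype.ext (by simpa using congrArg Subtype.val e))⟩⟩
  have hcen := Cfsg.Agent.Lib.Helper2.normal_inf_center_ne_bot (⊤ : Subgroup ↥L) top_ne_bot
  rw [top_inf_eq] at hcen
  obtain ⟨⟨z₀, hz₀⟩, hz₀1⟩ := (Subgroup.ne_bot_iff_exists_ne_one).mp hcen
  have hz1 : (z₀ : G) ≠ 1 := fun e => hz₀1 (Subtype.ext (Subtype.ext e))
  have hzc : ∀ l ∈ L, l * (z₀ : G) = (z₀ : G) * l := by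
    intro l hl
    have := Subgroup.mem_center_iff.mp hz₀ ⟨l, hl⟩
    exact congrArg Subtype.val this
  have hzM : (z₀ : G) ∈ M := by
    rw [← hNH]
    apply Subgroup.centralizer_le_normalizer
    rw [Subgroup.mem_centralizer_iff]
    intro h hh
    exact hzc h (hHL hh)
  have hzH : (z₀ : G) ∈ fittingHallOf M := by
    by_contra hzH
    obtain ⟨⟨h, hh⟩, hh1⟩ := (Subgroup.ne_bot_iff_exists_ne_one).mp hne
    exact hh1 (Subtype.ext (hcent _ hzM hzH h hh (hzc h (hHL hh))))
  exact hz1 (hcent x hxN hxH _ hzH (hzc x hxL).symm)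

theorem ne_bot_of_max_nilpotent (hG : IsMinSimpleOddOrder G) (H : Subgroup G)
    (hmax : ∀ L : Subgroup G, Group.IsNilpotent L → H ≤ L → L = H) : H ≠ ⊥ := by
  intro hbot
  haveI := nontrivial hG
  obtain ⟨g, hg⟩ := exists_ne (1 : G)
  have h1 : Group.IsNilpotent ↥(zpowers g) := by
    let _ : CommGroup ↥(zpowers g) := (Subgroup.isCyclic_zpowers g).commGroup
    exact CommGroup.isNilpotent
  have h2 := hmax (zpowers g) h1 (hbot ▸ bot_le)
  rw [hbot] at h2
  exact hg (Subgroup.zpowers_eq_bot.mp h2)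

/-- every maximal nilpotent subgroup is the Frobenius kernel of a maximal subgroup -/
theorem max_nilpotent_main (hG : IsMinSimpleOddOrder G) (hCN : IsCNGroup G) (H : Subgroup G)
    (hH : Group.IsNilpotent H) (hmax : ∀ L : Subgroup G, Group.IsNilpotent L → H ≤ L → L = H) :
    ∃ M E : Subgroup G, IsCoatom M ∧ FrobData M H E ∧ H = fittingHallOf M := by
  have hHbot := ne_bot_of_max_nilpotent hG H hmax
  have hHall := (Cfsg.Agent.S1477.result hCN H hH hmax).1
  have hcard1 : Nat.card H ≠ 1 := fun h => hHbot (Subgroup.card_eq_one.mp h)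
  obtain ⟨p, hp, hpH⟩ := Nat.exists_prime_and_dvd hcard1
  haveI : Fact p.Prime := ⟨hp⟩
  have hpG : p ∣ Nat.card G := hpH.trans (Subgroup.card_subgroup_dvd_card H)
  obtain ⟨P, hPH⟩ := CNBasic.exists_sylow_le_of_hall H hHall p hpH
  have hPbot : (P : Subgroup G) ≠ ⊥ := by
    intro h
    have h1 := P.card_eq_multiplicity
    rw [h, Subgroup.card_bot] at h1
    have hpos := hp.factorization_pos_of_dvd Nat.card_pos.ne' hpG
    have h2 : 1 < p ^ (Nat.card G).factorization p := Nat.one_lt_pow hpos.ne' hp.one_lt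
    omega
  obtain ⟨⟨x, hxP⟩, hx1⟩ := (Subgroup.ne_bot_iff_exists_ne_one).mp hPbot
  have hx1' : x ≠ 1 := fun h => hx1 (Subtype.ext h)
  obtain ⟨z, hzP, hz1, hzc⟩ :=
    Cfsg.Agent.S1474.exists_central (P : Subgroup G) P.isPGroup' x hxP hx1'
  have hCz := CNBasic.centralizer_eq_of_sylow_central hCN H hH hmax P hPH z hzP hz1 hzc
  have hzcH := CNBasic.central_of_sylow_central H hH P hPH z hzP hzc
  have hHNP : H ≤ normalizer ((P : Subgroup G) : Set G) := by
    intro h hh
    apply mem_normalizer_of_conj_mem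
    intro y hy
    apply CNBasic.mem_sylow_of_nilpotent H hH P hPH _ (H.mul_mem (H.mul_mem hh (hPH hy)) (H.inv_mem hh))
    obtain ⟨k, hk⟩ := CNBasic.pow_of_mem_isPGroup P.isPGroup' hy
    exact ⟨k, by rw [conj_pow, hk]; group⟩
  have hNPtop := normalizer_ne_top_of_isPGroup hG P.isPGroup' hPbot
  obtain ⟨M, hM, hNPM⟩ := exists_coatom_ge hNPtop
  have hHM : H ≤ M := hHNP.trans hNPM
  obtain ⟨E, hFD⟩ := coatom_frobData hG hCN M hM
  by_cases hcase : H ⊓ fittingHallOf M = ⊥
  · exfalso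
    -- elements of `N_G(P) ∩ H'` are trivial
    have htriv : ∀ u ∈ normalizer ((P : Subgroup G) : Set G), u ∈ fittingHallOf M → u = 1 := by
      intro u huN huH'
      have hcomm : ∀ y ∈ (P : Subgroup G), u * y = y * u := by
        intro y hy
        have h1 : u * y * u⁻¹ * y⁻¹ ∈ (P : Subgroup G) :=
          (P : Subgroup G).mul_mem ((mem_normalizer_iff.mp huN y).mp hy) (inv_mem hy)
        have h2 : y * u⁻¹ * y⁻¹ ∈ fittingHallOf M :=
          (mem_normalizer_iff.mp (hFD.norm (hHM (hPH hy))) u⁻¹).mp (inv_mem huH')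
        have h3 : u * y * u⁻¹ * y⁻¹ ∈ fittingHallOf M := by
          have : u * y * u⁻¹ * y⁻¹ = u * (y * u⁻¹ * y⁻¹) := by group
          rw [this]
          exact (fittingHallOf M).mul_mem huH' h2
        have h4 : u * y * u⁻¹ * y⁻¹ ∈ H ⊓ fittingHallOf M := Subgroup.mem_inf.mpr ⟨hPH h1, h3⟩
        rw [hcase] at h4
        have h5 : u * y * u⁻¹ * y⁻¹ = 1 := Subgroup.mem_bot.mp h4
        calc u * y = (u * y * u⁻¹ * y⁻¹) * (y * u) := by group
          _ = y * u := by rw [h5, one_mul]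
      have huz : u ∈ centralizer ({z} : Set G) :=
        Subgroup.mem_centralizer_singleton_iff.mpr (hcomm z hzP)
      rw [hCz] at huz
      have : u ∈ H ⊓ fittingHallOf M := Subgroup.mem_inf.mpr ⟨huz, huH'⟩
      rw [hcase] at this
      exact Subgroup.mem_bot.mp this
    have hab : ∀ n₁ ∈ normalizer ((P : Subgroup G) : Set G),
        ∀ n₂ ∈ normalizer ((P : Subgroup G) : Set G), n₁ * n₂ = n₂ * n₁ := by
      intro n₁ h1 n₂ h2
      have hc := CNFrob.commutator_mem hFD.compl hFD.norm hFD.comm n₁ n₂ (hNPM h1) (hNPM h2)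
      have hN : n₁ * n₂ * n₁⁻¹ * n₂⁻¹ ∈ normalizer ((P : Subgroup G) : Set G) :=
        Subgroup.mul_mem _ (Subgroup.mul_mem _ (Subgroup.mul_mem _ h1 h2) (inv_mem h1)) (inv_mem h2)
      have h5 := htriv _ hN hc
      calc n₁ * n₂ = (n₁ * n₂ * n₁⁻¹ * n₂⁻¹) * (n₂ * n₁) := by group
        _ = n₂ * n₁ := by rw [h5, one_mul]
    have hBurn : normalizer ((P : Subgroup G) : Set G) ≤ centralizer ((P : Subgroup G) : Set G) := by
      intro n hn
      rw [Subgroup.mem_centralizer_iff]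
      intro y hy
      exact hab y (Subgroup.le_normalizer hy) n hn
    exact no_npc hG p hpG ⟨P, _, inferInstance, MonoidHom.ker_transferSylow_isComplement' P hBurn⟩
  · obtain ⟨⟨w, hw⟩, hw1⟩ := (Subgroup.ne_bot_iff_exists_ne_one).mp hcase
    have hw1' : w ≠ 1 := fun h => hw1 (Subtype.ext h)
    obtain ⟨hwH, hwH'⟩ := Subgroup.mem_inf.mp hw
    have hzH' : z ∈ fittingHallOf M := by
      by_contra hzH'
      exact hw1' (hFD.cent z (hHM (hPH hzP)) hzH' w hwH' (hzcH w hwH))
    have hle : H ≤ fittingHallOf M := by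
      intro h hh
      by_contra hhH'
      exact hz1 (hFD.cent h (hHM hh) hhH' z hzH' (hzcH h hh).symm)
    have heq : fittingHallOf M = H := hmax _ hFD.nil hle
    exact ⟨M, E, hM, heq ▸ hFD, heq.symm⟩

/-- maximal nilpotent subgroups are TI -/
theorem ti_of_max_nilpotent (hG : IsMinSimpleOddOrder G) (hCN : IsCNGroup G) (H : Subgroup G)
    (hH : Group.IsNilpotent H) (hmax : ∀ L : Subgroup G, Group.IsNilpotent L → H ≤ L → L = H) :
    ∀ g : G, H.map (MulAut.conj g).toMonoidHom ≠ H → H ⊓ H.map (MulAut.conj g).toMonoidHom = ⊥ := by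
  have hHbot := ne_bot_of_max_nilpotent hG H hmax
  have hcard1 : Nat.card H ≠ 1 := fun h => hHbot (Subgroup.card_eq_one.mp h)
  have hres := Cfsg.Agent.S1477.result hCN H hH hmax
  by_cases hpp : IsPrimePow (Nat.card H)
  · obtain ⟨p, k, hp, hk, hpk⟩ := hpp
    have hp' : p.Prime := Nat.prime_iff.mpr hp
    haveI : Fact p.Prime := ⟨hp'⟩
    have hHp : IsPGroup p H := IsPGroup.of_card hpk.symm
    have hpH : p ∣ Nat.card H := by rw [← hpk]; exact dvd_pow_self p hk.ne'
    obtain ⟨P, hPH⟩ := CNBasic.exists_sylow_le_of_hall H hres.1 p hpH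
    have hPeq : H = (P : Subgroup G) := P.is_maximal' hHp hPH
    have hPbot : (P : Subgroup G) ≠ ⊥ := hPeq ▸ hHbot
    obtain ⟨⟨x, hxP⟩, hx1⟩ := (Subgroup.ne_bot_iff_exists_ne_one).mp hPbot
    have hx1' : x ≠ 1 := fun h => hx1 (Subtype.ext h)
    obtain ⟨z, hzP, hz1, hzc⟩ :=
      Cfsg.Agent.S1474.exists_central (P : Subgroup G) P.isPGroup' x hxP hx1'
    have hCz := CNBasic.centralizer_eq_of_sylow_central hCN H hH hmax P hPH z hzP hz1 hzc
    have hz : ∀ y : G, z * y = y * z → (orderOf y).Coprime p → y = 1 := by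
      intro y hzy hyc
      have hyC : y ∈ centralizer ({z} : Set G) :=
        Subgroup.mem_centralizer_singleton_iff.mpr hzy.symm
      rw [hCz] at hyC
      exact eq_one_of_isPGroup_of_coprime hHp hyC hyc
    have hPC := pCent_of_sylow_central hCN P z hzP hz1 hzc hz
    have hF := factOne_of_pCent hG hPC
    obtain ⟨M, E, hM, hFD, -⟩ := max_nilpotent_main hG hCN H hH hmax
    have hNH := hFD.normalizer_eq hG hM
    have hS : normalizer (ZJ (P : Subgroup G) : Set G) = M := by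
      apply eq_of_coatom_le hM
      · rw [← hNH, hPeq]
        exact normalizer_le_normalizer_ZJ _
      · exact normalizer_ne_top_of_isPGroup hG (P.isPGroup'.to_le (ZJ_le _))
          (ZJ_ne_bot P.isPGroup' hPbot)
    intro g hg
    by_contra hne
    obtain ⟨⟨w, hw⟩, hw1⟩ := (Subgroup.ne_bot_iff_exists_ne_one).mp hne
    obtain ⟨hwH, y, hyH, hyw⟩ := Subgroup.mem_inf.mp hw
    have hyw' : g * y * g⁻¹ = w := by simpa [MulAut.conj_apply] using hyw
    have hy1 : y ≠ 1 := by
      rintro rfl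
      apply hw1
      apply Subtype.ext
      show w = 1
      rw [← hyw']; simp
    have hgM : g ∈ M := by
      rw [← hS]
      apply mem_normalizer_ZJ_of_conj hF P g y (hPeq ▸ hyH) hy1
      rw [hyw']
      exact hPeq ▸ hwH
    rw [← hNH] at hgM
    exact hg (mem_normalizer_iff_map_conj_eq.mp hgM)
  · exact hres.2.1 hpp hcard1

end Cfsg.Agent.Lib.Helper13.CNMax
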