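import Mathlib
import Cfsg.Agent.Lib.Helper13.CNMax

/-! Conjugacy classes of maximal nilpotent subgroups / Frobenius kernels. -/

set_option autoImplicit false
open Cfsg

universe u

namespace Cfsg.Agent.Lib.Helper13.CNConj

open Subgroup CNMax CNMin

variable {G : Type u} [Group G] [Finite G]

theorem map_conj_inv_map_conj (H : Subgroup G) (g : G) :
    (H.map (MulAut.conj g).toMonoidHom).map (MulAut.conj g⁻¹).toMonoidHom = H := by
  ext x
  constructor
  · rintro ⟨_, ⟨y, hy, rfl⟩, rfl⟩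
    simpa [MulAut.conj_apply, mul_assoc] using hy
  · intro hx
    exact ⟨g * x * g⁻¹, ⟨x, hx, by simp [MulAut.conj_apply]⟩, by simp [MulAut.conj_apply, mul_assoc]⟩

theorem map_conj_map_conj_inv (H : Subgroup G) (g : G) :
    (H.map (MulAut.conj g⁻¹).toMonoidHom).map (MulAut.conj g).toMonoidHom = H := by
  have := map_conj_inv_map_conj H g⁻¹
  rwa [inv_inv] at this

theorem nilpotent_map_conj {H : Subgroup G} (hH : Group.IsNilpotent H) (g : G) :
    Group.IsNilpotent ↥(H.map (MulAut.conj g).toMonoidHom) := by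
  haveI := hH
  exact Group.nilpotent_of_mulEquiv
    (Subgroup.equivMapOfInjective H (MulAut.conj g).toMonoidHom (MulAut.conj g).injective)

theorem max_nilpotent_conj {H : Subgroup G}
    (hmax : ∀ L : Subgroup G, Group.IsNilpotent L → H ≤ L → L = H) (g : G) :
    ∀ L : Subgroup G, Group.IsNilpotent L → H.map (MulAut.conj g).toMonoidHom ≤ L →
      L = H.map (MulAut.conj g).toMonoidHom := by
  intro L hL hle
  have h1 : H ≤ L.map (MulAut.conj g⁻¹).toMonoidHom := by
    rw [← map_conj_inv_map_conj H g]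
    exact Subgroup.map_mono hle
  have h2 := hmax _ (nilpotent_map_conj hL g⁻¹) h1
  rw [← h2, map_conj_map_conj_inv]

theorem exists_max_nilpotent_ge (L : Subgroup G) (hL : Group.IsNilpotent L) :
    ∃ H : Subgroup G, Group.IsNilpotent H ∧
      (∀ L' : Subgroup G, Group.IsNilpotent L' → H ≤ L' → L' = H) ∧ L ≤ H := by
  obtain ⟨H, hLH, hH⟩ := Finite.exists_le_maximal (p := fun K : Subgroup G => Group.IsNilpotent K) hL
  exact ⟨H, hH.1, fun L' hL' hle => le_antisymm (hH.2 hL' hle) hle, hLH⟩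

/-- a subgroup has at most one normal subgroup that is maximal nilpotent in `G` -/
theorem max_nilpotent_unique (M H₁ H₂ : Subgroup G)
    (h1 : Group.IsNilpotent H₁) (hm1 : ∀ L : Subgroup G, Group.IsNilpotent L → H₁ ≤ L → L = H₁)
    (h1M : H₁ ≤ M) (hM1 : M ≤ normalizer (H₁ : Set G))
    (h2 : Group.IsNilpotent H₂) (hm2 : ∀ L : Subgroup G, Group.IsNilpotent L → H₂ ≤ L → L = H₂)
    (h2M : H₂ ≤ M) (hM2 : M ≤ normalizer (H₂ : Set G)) : H₁ = H₂ := by
  obtain ⟨F, hF⟩ : ∃ F : Subgroup G, F = (fittingSubgroup ↥M).map M.subtype := ⟨_, rfl⟩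
  have hFnil : Group.IsNilpotent F := by
    rw [hF]
    haveI := Cfsg.Agent.Lib.Helper2.fittingSubgroup_isNilpotent (G := ↥M)
    exact Group.nilpotent_of_mulEquiv
      (Subgroup.equivMapOfInjective (fittingSubgroup ↥M) M.subtype M.subtype_injective)
  have key : ∀ H : Subgroup G, Group.IsNilpotent H → H ≤ M → M ≤ normalizer (H : Set G) →
      H ≤ F := by
    intro H hH hHM hMH h hh
    have hn : (H.subgroupOf M).Normal := Subgroup.normal_subgroupOf_of_le_normalizer hMH
    have hnil : Group.IsNilpotent ↥(H.subgroupOf M) := by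
      haveI := hH
      exact Group.nilpotent_of_mulEquiv (Subgroup.subgroupOfEquivOfLe hHM).symm
    have := Cfsg.Agent.Lib.Helper2.le_fittingSubgroup hn hnil
    rw [hF]
    exact ⟨⟨h, hHM hh⟩, this (Subgroup.mem_subgroupOf.mpr hh), rfl⟩
  have e1 := hm1 F hFnil (key H₁ h1 h1M hM1)
  have e2 := hm2 F hFnil (key H₂ h2 h2M hM2)
  rw [← e1, e2]

/-- every maximal nilpotent subgroup is conjugate to the Frobenius kernel of a representative -/
theorem exists_rep (hG : IsMinSimpleOddOrder G) (hCN : IsCNGroup G) {k : ℕ}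
    (Mrep : Fin k → Subgroup G) (hmax : ∀ i, IsCoatom (Mrep i))
    (hall : ∀ M : Subgroup G, IsCoatom M →
      ∃ i, ∃ g : G, M = (Mrep i).map (MulAut.conj g).toMonoidHom)
    (H₀ : Subgroup G) (hH₀ : Group.IsNilpotent H₀)
    (hm₀ : ∀ L : Subgroup G, Group.IsNilpotent L → H₀ ≤ L → L = H₀) :
    ∃ i, ∃ g : G, H₀ = (fittingHallOf (Mrep i)).map (MulAut.conj g).toMonoidHom := by
  obtain ⟨M, E, hM, hFD, -⟩ := max_nilpotent_main hG hCN H₀ hH₀ hm₀
  obtain ⟨i, g, hMg⟩ := hall M hM
  obtain ⟨Ei, hFDi⟩ := coatom_frobData hG hCN (Mrep i) (hmax i)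
  refine ⟨i, g, ?_⟩
  apply max_nilpotent_unique M _ _ hH₀ hm₀ hFD.compl.1 hFD.norm (nilpotent_map_conj hFDi.nil g)
    (max_nilpotent_conj hFDi.max g)
  · rw [hMg]
    exact Subgroup.map_mono hFDi.compl.1
  · rw [hMg, ← Subgroup.map_equiv_normalizer_eq]
    exact Subgroup.map_mono hFDi.norm

end Cfsg.Agent.Lib.Helper13.CNConj
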