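import Mathlib
import Cfsg.Agent.Lib.Helper15.TwoByTwo
import Cfsg.Agent.S1463

/-!
# Odd-order solvable groups of 2×2 matrices over `ZMod p` (helper13)

If `Y` is a finite solvable group of odd order embedded in the 2×2 matrices over `ZMod p` (`p` odd),
then every element of `Y' = [Y, Y]` of order prime to `p` is trivial.
-/

set_option autoImplicit false
set_option maxHeartbeats 1000000

namespace Cfsg.Agent.Lib.Helper13.GL2Odd

open Matrix Cfsg.Agent.Lib.Helper15.TwoByTwo
open scoped commutatorElement

variable {p : ℕ} [hp : Fact p.Prime] {Y : Type*} [Group Y] [Finite Y]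

theorem two_ne_zero' (hp2 : p ≠ 2) : (2 : ZMod p) ≠ 0 := by
  intro h
  have h1 : ((2 : ℕ) : ZMod p) = 0 := by exact_mod_cast h
  rw [ZMod.natCast_eq_zero_iff] at h1
  exact hp2 ((Nat.prime_dvd_prime_iff_eq hp.out Nat.prime_two).mp h1)

theorem natCast_ne_zero_of_coprime {r : ℕ} (hr : r.Coprime p) : (r : ZMod p) ≠ 0 := by
  intro h
  rw [ZMod.natCast_eq_zero_iff] at h
  have := Nat.Coprime.eq_one_of_dvd hr.symm h
  exact hp.out.one_lt.ne' this

/-- Lemma K: if `g b g⁻¹` commutes with `b` (b a p'-element, g of odd order) then `g b g⁻¹ = b`. -/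
theorem conj_eq_of_commute (hp2 : p ≠ 2) (hodd : Odd (Nat.card Y))
    (μ : Y →* Matrix (Fin 2) (Fin 2) (ZMod p)) (hinj : Function.Injective μ)
    (b g : Y) (hb : (orderOf b).Coprime p) (hcomm : b * (g * b * g⁻¹) = (g * b * g⁻¹) * b) :
    g * b * g⁻¹ = b := by
  have hg : μ g * μ g⁻¹ = 1 := by rw [← map_mul, mul_inv_cancel, map_one]
  have hg' : μ g⁻¹ * μ g = 1 := by rw [← map_mul, inv_mul_cancel, map_one]
  apply hinj
  rw [map_mul, map_mul]
  by_cases hsc : ∃ c : ZMod p, μ b = c • 1
  · obtain ⟨c, hc⟩ := hsc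
    rw [hc, mul_smul_comm, mul_one, smul_mul_assoc, hg]
  · push Not at hsc
    apply conj_eq_self_of_odd (two_ne_zero' hp2) (μ b) (μ g) (μ g⁻¹) hg hg' hsc (orderOf b)
      (natCast_ne_zero_of_coprime hb) (by rw [← map_pow, pow_orderOf_eq_one, map_one])
      (by simp only [← map_mul]; rw [hcomm])
      (Nat.card Y) hodd (by rw [← map_pow, pow_card_eq_one', map_one])

/-- A solvable `p'`-group of odd order inside the 2×2 matrices is abelian. -/
theorem abelian_of_coprime (hp2 : p ≠ 2) (hodd : Odd (Nat.card Y)) (hsolv : Group.IsSolvable Y)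
    (μ : Y →* Matrix (Fin 2) (Fin 2) (ZMod p)) (hinj : Function.Injective μ)
    (hcop : (Nat.card Y).Coprime p) : ∀ a b : Y, a * b = b * a := by
  have hord : ∀ b : Y, (orderOf b).Coprime p := fun b =>
    Nat.Coprime.coprime_dvd_left (orderOf_dvd_natCard b) hcop
  have hstep : ∀ k : ℕ, derivedSeries Y (k + 1) ≤ Subgroup.center Y →
      derivedSeries Y k ≤ Subgroup.center Y := by
    intro k hk
    have h1 : ∀ b ∈ derivedSeries Y k, ∀ c ∈ derivedSeries Y k, c * b * c⁻¹ = b := by
      intro b hb c hc
      apply conj_eq_of_commute hp2 hodd μ hinj b c (hord b)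
      have h2 : ⁅c, b⁆ ∈ Subgroup.center Y := hk (by
        rw [derivedSeries_succ]
        exact Subgroup.commutator_mem_commutator hc hb)
      have h3 : c * b * c⁻¹ = ⁅c, b⁆ * b := by
        rw [commutatorElement_def]; group
      rw [h3]
      have h4 := (Subgroup.mem_center_iff.mp h2) b
      rw [← mul_assoc, h4, mul_assoc]
    intro b hb
    rw [Subgroup.mem_center_iff]
    intro g
    have hn : (derivedSeries Y k).Normal := inferInstance
    have hgb : g * b * g⁻¹ ∈ derivedSeries Y k := hn.conj_mem b hb g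
    have h5 := h1 b hb (g * b * g⁻¹) hgb
    have h6 : b * (g * b * g⁻¹) = (g * b * g⁻¹) * b := by
      calc b * (g * b * g⁻¹) = ((g * b * g⁻¹) * b * (g * b * g⁻¹)⁻¹) * (g * b * g⁻¹) := by rw [h5]
        _ = (g * b * g⁻¹) * b := by group
    have h7 := conj_eq_of_commute hp2 hodd μ hinj b g (hord b) h6
    calc g * b = (g * b * g⁻¹) * g := by group
      _ = b * g := by rw [h7]
  obtain ⟨n, hn⟩ := hsolv.solvable
  have hall : ∀ j : ℕ, j ≤ n → derivedSeries Y (n - j) ≤ Subgroup.center Y := by
    intro j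
    induction j with
    | zero => intro _; rw [Nat.sub_zero, hn]; exact bot_le
    | succ j ih =>
      intro hj
      apply hstep
      have : n - (j + 1) + 1 = n - j := by omega
      rw [this]
      exact ih (by omega)
  have h0 := hall n le_rfl
  rw [Nat.sub_self, derivedSeries_zero] at h0
  intro a b
  exact ((Subgroup.mem_center_iff.mp (h0 (Subgroup.mem_top a))) b).symm

/-- A 2×2 matrix fixing a nonzero vector, with determinant `1`, has `p`-th power `1`. -/
theorem pow_eq_one_of_fix (m : Matrix (Fin 2) (Fin 2) (ZMod p)) (v : Fin 2 → ZMod p) (hv : v ≠ 0)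
    (hmv : m *ᵥ v = v) (hdet : m.det = 1) : m ^ p = 1 := by
  have e0 := congrFun hmv 0
  have e1 := congrFun hmv 1
  simp only [Matrix.mulVec, dotProduct, Fin.sum_univ_two] at e0 e1
  rw [Matrix.det_fin_two] at hdet
  have htr : m 0 0 + m 1 1 = 2 := by
    have hD : (m 0 0 - 1) * (m 1 1 - 1) - m 0 1 * m 1 0 = 0 := by
      by_cases hv0 : v 0 = 0
      · have hv1 : v 1 ≠ 0 := by
          intro hv1
          apply hv
          funext i
          fin_cases i
          · exact hv0
          · exact hv1
        have : ((m 0 0 - 1) * (m 1 1 - 1) - m 0 1 * m 1 0) * v 1 = 0 := by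
          rw [hv0] at e0 e1
          have e0' : m 0 1 * v 1 = 0 := by linear_combination e0
          have e1' : (m 1 1 - 1) * v 1 = 0 := by linear_combination e1
          linear_combination (m 0 0 - 1) * e1' - m 1 0 * e0'
        rcases mul_eq_zero.mp this with h | h
        · exact h
        · exact absurd h hv1
      · have : ((m 0 0 - 1) * (m 1 1 - 1) - m 0 1 * m 1 0) * v 0 = 0 := by
          linear_combination (m 1 1 - 1) * e0 - m 0 1 * e1
        rcases mul_eq_zero.mp this with h | h
        · exact h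
        · exact absurd h hv0
    linear_combination hdet - hD
  obtain ⟨N, hN⟩ : ∃ N : Matrix (Fin 2) (Fin 2) (ZMod p), N = m - 1 := ⟨_, rfl⟩
  have hNN : N * N = 0 := by
    have hc := cayley m
    have htr' : m.trace = 2 := by rw [Matrix.trace_fin_two]; exact htr
    have hdet' : m.det = 1 := by rw [Matrix.det_fin_two]; exact hdet
    rw [htr', hdet', one_smul] at hc
    rw [hN, sub_mul, mul_sub, mul_one, one_mul, hc]
    rw [two_smul]
    abel
  have hm : m = (1 : ZMod p) • (1 : Matrix (Fin 2) (Fin 2) (ZMod p)) + N := by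
    rw [hN, one_smul]; abel
  obtain ⟨n, hn⟩ : ∃ n, p = n + 1 := ⟨p - 1, by have := hp.out.pos; omega⟩
  have hX : ∀ X : Matrix (Fin 2) (Fin 2) (ZMod p), X ^ p = X ^ (n + 1) :=
    fun X => congrArg (fun k => X ^ k) hn
  have hcast : ((n + 1 : ℕ) : ZMod p) = 0 := by
    rw [← hn]; exact ZMod.natCast_self p
  rw [hm, hX, pow_succ_of_sq_zero _ _ hNN, hcast, one_pow, one_pow, mul_one, one_smul, zero_smul,
    add_zero]

/-- If `Y` leaves a line invariant then the elements of `Y'` have `p`-th power `1`. -/
theorem pow_eq_one_of_invariant_line (μ : Y →* Matrix (Fin 2) (Fin 2) (ZMod p))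
    (v : Fin 2 → ZMod p) (hv : v ≠ 0) (hline : ∀ g : Y, ∃ c : ZMod p, μ g *ᵥ v = c • v)
    (y : Y) (hy : y ∈ commutator Y) : μ y ^ p = 1 := by
  choose lam hlam using hline
  have hvi : ∃ i, v i ≠ 0 := by
    by_contra h
    push Not at h
    exact hv (funext h)
  obtain ⟨i, hi⟩ := hvi
  have hinjv : ∀ a b : ZMod p, a • v = b • v → a = b := by
    intro a b hab
    have := congrFun hab i
    simp only [Pi.smul_apply, smul_eq_mul] at this
    exact mul_right_cancel₀ hi this
  let lamHom : Y →* ZMod p :=
    { toFun := lam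
      map_one' := by
        apply hinjv
        rw [← hlam, map_one, Matrix.one_mulVec, one_smul]
      map_mul' := by
        intro a b
        apply hinjv
        rw [← hlam, map_mul, ← Matrix.mulVec_mulVec, hlam b, Matrix.mulVec_smul, hlam a, smul_smul,
          mul_comm] }
  have hker1 : y ∈ (lamHom.toHomUnits).ker := Abelianization.commutator_subset_ker _ hy
  have hker2 : y ∈ ((Matrix.detMonoidHom.comp μ).toHomUnits).ker :=
    Abelianization.commutator_subset_ker _ hy
  have h1 : lam y = 1 := by
    have := congrArg Units.val (MonoidHom.mem_ker.mp hker1)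
    have h' : lamHom y = 1 := by simpa using this
    exact h'
  have h2 : (μ y).det = 1 := by
    have := congrArg Units.val (MonoidHom.mem_ker.mp hker2)
    simpa using this
  apply pow_eq_one_of_fix (μ y) v hv _ h2
  rw [hlam, h1, one_smul]

/-- Main matrix lemma. -/
theorem eq_one_of_mem_commutator (hp2 : p ≠ 2) (hodd : Odd (Nat.card Y)) (hsolv : Group.IsSolvable Y)
    (μ : Y →* Matrix (Fin 2) (Fin 2) (ZMod p)) (hinj : Function.Injective μ)
    (y : Y) (hy : y ∈ commutator Y) (hyo : (orderOf y).Coprime p) : y = 1 := by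
  by_cases hline : ∃ v : Fin 2 → ZMod p, v ≠ 0 ∧ ∀ g : Y, ∃ c : ZMod p, μ g *ᵥ v = c • v
  · obtain ⟨v, hv, hline⟩ := hline
    have h1 := pow_eq_one_of_invariant_line μ v hv hline y hy
    have h2 : y ^ p = 1 := by
      apply hinj
      rw [map_pow, h1, map_one]
    have h3 : orderOf y ∣ p := orderOf_dvd_of_pow_eq_one h2
    have h4 : orderOf y = 1 := Nat.Coprime.eq_one_of_dvd hyo h3
    exact orderOf_eq_one_iff.mp h4
  · push Not at hline
    have hinj' : Function.Injective μ.toHomUnits := by
      intro a b hab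
      apply hinj
      have := congrArg Units.val hab
      simpa using this
    obtain ⟨H, hH⟩ : ∃ H : Subgroup (GL (Fin 2) (ZMod p)), H = μ.toHomUnits.range := ⟨_, rfl⟩
    have e : Y ≃* H := hH ▸ MonoidHom.ofInjective hinj'
    haveI : Finite H := Finite.of_equiv Y e.toEquiv
    have hcard : Nat.card H = Nat.card Y := (Nat.card_congr e.toEquiv).symm
    have hnd : ¬ p ∣ Nat.card H := by
      apply Cfsg.Agent.S1463.result p hp2 H (hcard ▸ hodd)
      intro v hv
      obtain ⟨g, hg⟩ := hline v hv
      refine ⟨μ.toHomUnits g, hH ▸ ⟨g, rfl⟩, ?_⟩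
      intro hmem
      rw [Submodule.mem_span_singleton] at hmem
      obtain ⟨c, hc⟩ := hmem
      exact hg c hc.symm
    have hcop : (Nat.card Y).Coprime p := by
      rw [Nat.coprime_comm, Nat.Prime.coprime_iff_not_dvd hp.out, ← hcard]
      exact hnd
    have hab := abelian_of_coprime hp2 hodd hsolv μ hinj hcop
    have hbot : commutator Y = ⊥ := by
      rw [commutator_def, Subgroup.commutator_eq_bot_iff_le_centralizer]
      intro a _
      rw [Subgroup.mem_centralizer_iff]
      intro b _
      exact hab b a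
    rw [hbot, Subgroup.mem_bot] at hy
    exact hy

end Cfsg.Agent.Lib.Helper13.GL2Odd
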