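import Mathlib
import Cfsg.Agent.Lib.Helper13.GL2Odd

/-!
# Odd-order solvable groups acting on elementary abelian groups of order at most `p²` (helper13)
-/

set_option autoImplicit false
set_option maxHeartbeats 1000000
set_option linter.style.haveILetI false

namespace Cfsg.Agent.Lib.Helper13.GL2Abs

open Matrix

variable {p : ℕ} [hp : Fact p.Prime]

theorem exists_matrix_rep {V : Type*} [Group V] [Finite V]
    (hc : ∀ a b : V, a * b = b * a) (he : ∀ a : V, a ^ p = 1) (hcard : Nat.card V = p ^ 2)
    {X : Type*} [Group X] (φ : X →* MulAut V) :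
    ∃ (c : V → (Fin 2 → ZMod p)) (μ : X →* Matrix (Fin 2) (Fin 2) (ZMod p)),
      Function.Injective c ∧ ∀ (g : X) (w : V), c (φ g w) = μ g *ᵥ c w := by
  letI cg : CommGroup V := { (inferInstance : Group V) with mul_comm := hc }
  have hexp : ∀ x : Additive V, p • x = 0 := by
    intro x
    have h1 : (Additive.toMul x) ^ p = 1 := he _
    have h2 := ofMul_pow p (Additive.toMul x)
    rw [h1] at h2
    simpa using h2.symm
  obtain ⟨inst⟩ : Nonempty (Module (ZMod p) (Additive V)) := ⟨AddCommGroup.zmodModule hexp⟩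
  haveI : Module.Finite (ZMod p) (Additive V) := Module.Finite.of_finite
  have hfr : Module.finrank (ZMod p) (Additive V) = 2 := by
    have h1 := Module.natCard_eq_pow_finrank (K := ZMod p) (V := Additive V)
    rw [Nat.card_zmod] at h1
    have h2 : Nat.card (Additive V) = Nat.card V := Nat.card_congr Additive.toMul
    rw [h2, hcard] at h1
    exact (Nat.pow_right_injective hp.out.two_le h1).symm
  obtain ⟨𝔟⟩ : Nonempty (Module.Basis (Fin 2) (ZMod p) (Additive V)) :=
    ⟨Module.finBasisOfFinrankEq (ZMod p) (Additive V) hfr⟩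
  obtain ⟨ρ, hρ⟩ : ∃ ρ : X →* Module.End (ZMod p) (Additive V),
      ∀ (g : X) (w : V), ρ g (Additive.ofMul w) = Additive.ofMul (φ g w) := ⟨
    { toFun := fun g => (MulEquiv.toAdditive (φ g)).toAddMonoidHom.toZModLinearMap p
      map_one' := by
        apply LinearMap.ext
        intro x
        rw [Module.End.one_apply]
        simp
      map_mul' := fun g h => by
        apply LinearMap.ext
        intro x
        rw [Module.End.mul_apply]
        simp [map_mul] }, fun g w => rfl⟩
  let μ : X →* Matrix (Fin 2) (Fin 2) (ZMod p) :=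
    ((LinearMap.toMatrixAlgEquiv 𝔟 : Module.End (ZMod p) (Additive V) ≃ₐ[ZMod p] _) :
      Module.End (ZMod p) (Additive V) →* Matrix (Fin 2) (Fin 2) (ZMod p)).comp ρ
  refine ⟨fun w => ⇑(𝔟.repr (Additive.ofMul w)), μ, ?_, ?_⟩
  · intro w₁ w₂ h
    have h1 : 𝔟.repr (Additive.ofMul w₁) = 𝔟.repr (Additive.ofMul w₂) := DFunLike.coe_injective h
    have h2 := 𝔟.repr.injective h1
    exact Additive.ofMul.injective h2
  · intro g w
    show ⇑(𝔟.repr (Additive.ofMul (φ g w))) = μ g *ᵥ ⇑(𝔟.repr (Additive.ofMul w))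
    rw [← hρ]
    exact (LinearMap.toMatrix_mulVec_repr 𝔟 𝔟 (ρ g) (Additive.ofMul w)).symm

/-- The abstract `GL₂` lemma: an odd-order solvable group acting on an elementary abelian `p`-group
of order at most `p²`: the `p'`-elements of the derived group act trivially. -/
theorem act_trivial_of_mem_commutator {V : Type*} [Group V] [Finite V] (hp2 : p ≠ 2)
    (hc : ∀ a b : V, a * b = b * a) (he : ∀ a : V, a ^ p = 1) (hcard : Nat.card V ≤ p ^ 2)
    {X : Type*} [Group X] [Finite X] (hodd : Odd (Nat.card X)) (hsolv : Group.IsSolvable X)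
    (φ : X →* MulAut V) (x : X) (hx : x ∈ commutator X) (hxo : (orderOf x).Coprime p) :
    φ x = 1 := by
  have hV : IsPGroup p V := fun a => ⟨1, by rw [pow_one]; exact he a⟩
  obtain ⟨k, hk⟩ := IsPGroup.iff_card.mp hV
  have hk2 : k ≤ 2 := by
    rw [hk] at hcard
    exact (Nat.pow_le_pow_iff_right hp.out.one_lt).mp hcard
  have hcomm : ∀ f : X →* MulAut V, (∀ a b : MulAut V, a * b = b * a) → f x = 1 := by
    intro f hab
    letI : CommGroup (MulAut V) := { (inferInstance : Group (MulAut V)) with mul_comm := hab }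
    exact MonoidHom.mem_ker.mp (Abelianization.commutator_subset_ker f hx)
  interval_cases k
  · -- trivial V
    rw [pow_zero] at hk
    haveI : Subsingleton V := (Nat.card_eq_one_iff_unique.mp hk).1
    apply MulEquiv.ext
    intro v
    exact Subsingleton.elim _ _
  · -- cyclic of order p
    rw [pow_one] at hk
    haveI : IsCyclic V := isCyclic_of_prime_card hk
    apply hcomm φ
    intro a b
    have e := IsCyclic.mulAutMulEquiv V
    apply e.injective
    rw [map_mul, map_mul, mul_comm]
  · -- order p²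
    obtain ⟨c, μ, hcinj, hμ⟩ := exists_matrix_rep hc he hk φ
    suffices h : μ x = 1 by
      apply MulEquiv.ext
      intro v
      apply hcinj
      rw [hμ, h, Matrix.one_mulVec]
      rfl
    -- pass to the quotient by the kernel of μ
    obtain ⟨μu, hμu⟩ : ∃ μu : X →* (Matrix (Fin 2) (Fin 2) (ZMod p))ˣ, μu = μ.toHomUnits := ⟨_, rfl⟩
    have hμuv : ∀ g : X, ((μu g : (Matrix (Fin 2) (Fin 2) (ZMod p))ˣ) :
        Matrix (Fin 2) (Fin 2) (ZMod p)) = μ g := by
      intro g; rw [hμu]; rfl
    obtain ⟨Y, hY⟩ : ∃ Y : Type _, Y = (X ⧸ μu.ker) := ⟨_, rfl⟩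
    let ν : (X ⧸ μu.ker) →* Matrix (Fin 2) (Fin 2) (ZMod p) :=
      (Units.coeHom _).comp (QuotientGroup.kerLift μu)
    have hν : ∀ g : X, ν (QuotientGroup.mk g) = μ g := by
      intro g
      show ((QuotientGroup.kerLift μu (QuotientGroup.mk g) : (Matrix (Fin 2) (Fin 2) (ZMod p))ˣ) :
        Matrix (Fin 2) (Fin 2) (ZMod p)) = μ g
      rw [QuotientGroup.kerLift_mk, hμuv]
    have hνinj : Function.Injective ν := by
      intro a b hab
      apply QuotientGroup.kerLift_injective μu
      exact Units.ext hab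
    have hoddq : Odd (Nat.card (X ⧸ μu.ker)) := by
      apply Odd.of_dvd_nat hodd
      exact Subgroup.card_quotient_dvd_card _
    haveI := hsolv
    have hsolvq : Group.IsSolvable (X ⧸ μu.ker) := inferInstance
    have hxq : (QuotientGroup.mk x : X ⧸ μu.ker) ∈ commutator (X ⧸ μu.ker) := by
      have h1 : (commutator X).map (QuotientGroup.mk' μu.ker) = commutator (X ⧸ μu.ker) := by
        rw [commutator_def, commutator_def, Subgroup.map_commutator,
          ← MonoidHom.range_eq_map, MonoidHom.range_eq_top.mpr (QuotientGroup.mk'_surjective _)]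
      rw [← h1]
      exact Subgroup.mem_map_of_mem _ hx
    have hxoq : (orderOf (QuotientGroup.mk x : X ⧸ μu.ker)).Coprime p := by
      apply Nat.Coprime.coprime_dvd_left _ hxo
      exact orderOf_map_dvd (QuotientGroup.mk' μu.ker) x
    have h1 := GL2Odd.eq_one_of_mem_commutator hp2 hoddq hsolvq ν hνinj _ hxq hxoq
    rw [← hν, h1, map_one]

end Cfsg.Agent.Lib.Helper13.GL2Abs
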