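import Mathlib
import Cfsg.Prelude.Def_CaseTheorems
import Cfsg.Agent.Lib.Helper13.GL2Abs
import Cfsg.Agent.Lib.Helper14.RankTwoAut
import Cfsg.Agent.S0093
import Cfsg.Agent.S0120
import Cfsg.Agent.S0121

/-!
# Odd-order solvable groups acting on `p`-groups of rank at most 2 (helper13)

`act_trivial`: if `X` (finite, solvable, odd order) acts on a `p`-group `R` (`p` odd) with no
elementary abelian subgroup of order `p³`, then every `p'`-element of `X'` acts trivially.
-/

set_option autoImplicit false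
set_option maxHeartbeats 1000000
set_option linter.style.haveILetI false

namespace Cfsg.Agent.Lib.Helper13.RankTwoAct

open scoped commutatorElement
open Cfsg.Agent.Lib.Helper14

variable {p : ℕ} [hp : Fact p.Prime]

/-- the automorphisms induced on the quotient by a characteristic subgroup. -/
def quotAut {E : Type*} [Group E] (N : Subgroup E) [hN : N.Characteristic] :
    MulAut E →* MulAut (E ⧸ N) where
  toFun φ := QuotientGroup.congr N N φ (Subgroup.characteristic_iff_map_eq.mp hN φ)
  map_one' := by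
    apply MulEquiv.ext
    intro x
    induction x using QuotientGroup.induction_on
    rfl
  map_mul' a b := by
    apply MulEquiv.ext
    intro x
    induction x using QuotientGroup.induction_on
    rfl

theorem quotAut_mk {E : Type*} [Group E] (N : Subgroup E) [hN : N.Characteristic]
    (φ : MulAut E) (e : E) : quotAut N φ (QuotientGroup.mk e) = QuotientGroup.mk (φ e) := rfl

/-- coprime stability lemma. -/
theorem eq_one_of_stabilizes {E : Type*} [Group E] (N : Subgroup E) (α : MulAut E) (n : ℕ)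
    (hαn : α ^ n = 1) (hN : ∀ z ∈ N, α z = z) (hQ : ∀ e : E, e⁻¹ * α e ∈ N)
    (hcop : ∀ z ∈ N, z ^ n = 1 → z = 1) : α = 1 := by
  apply MulEquiv.ext
  intro e
  have hz := hQ e
  have hk : ∀ k : ℕ, (α ^ k) e = e * (e⁻¹ * α e) ^ k := by
    intro k
    induction k with
    | zero => simp
    | succ k ih =>
      rw [pow_succ', MulAut.mul_apply, ih, map_mul, map_pow, hN _ hz, pow_succ', ← mul_assoc e,
        mul_inv_cancel_left]
  have h1 := hk n
  rw [hαn, MulAut.one_apply] at h1
  have h2 : (e⁻¹ * α e) ^ n = 1 := by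
    have : e * 1 = e * (e⁻¹ * α e) ^ n := by rw [mul_one]; exact h1
    exact (mul_left_cancel this).symm
  have h3 := hcop _ hz h2
  rw [MulAut.one_apply]
  calc α e = e * (e⁻¹ * α e) := by group
    _ = e := by rw [h3, mul_one]

theorem prankLE_subgroup {R : Type*} [Group R] {k : ℕ} (h : Cfsg.PRankLE p k R) (C : Subgroup R) :
    Cfsg.PRankLE p k C := by
  intro B hB hBe
  have hBm : IsMulCommutative (B.map C.subtype) := by
    refine ⟨⟨?_⟩⟩
    rintro ⟨_, ⟨u, hu, rfl⟩⟩ ⟨_, ⟨v, hv, rfl⟩⟩
    apply Subtype.ext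
    have := hB.is_comm.comm ⟨u, hu⟩ ⟨v, hv⟩
    exact congrArg (fun w : B => ((w : C) : R)) this
  have := h (B.map C.subtype) hBm (by
    rintro _ ⟨b, hb, rfl⟩
    have := hBe b hb
    have h' := congrArg Subtype.val this
    simpa using h')
  rwa [Subgroup.card_map_of_injective C.subtype_injective] at this

/-- class-two case: the elements of order dividing `p` are fixed. -/
theorem fix_omega_of_classTwo {K X : Type*} [Group K] [Finite K] [Group X] [Finite X] (hp2 : p ≠ 2)
    (hK : IsPGroup p K) (hcl : ∀ a b : K, ⁅a, b⁆ ∈ Subgroup.center K)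
    (hpow : ∀ a : K, a ^ p ∈ Subgroup.center K) (hrk : Cfsg.PRankLE p 2 K)
    (hodd : Odd (Nat.card X)) (hsolv : Group.IsSolvable X) (ψ : X →* MulAut K) (x : X)
    (hx : x ∈ commutator X) (hxo : (orderOf x).Coprime p) (y : K) (hy : y ^ p = 1) :
    ψ x y = y := by
  classical
  have hpp : p.Prime := hp.out
  have hpab : ∀ a b : K, (a * b) ^ p = a ^ p * b ^ p := mul_pow_prime_of_classTwo hp2 hcl hpow
  let π : K →* K := { toFun := fun a => a ^ p, map_one' := one_pow p, map_mul' := hpab }
  obtain ⟨E, hEdef⟩ : ∃ E : Subgroup K, E = π.ker := ⟨_, rfl⟩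
  have hEmem : ∀ a : K, a ∈ E ↔ a ^ p = 1 := by
    intro a; rw [hEdef, MonoidHom.mem_ker]; rfl
  haveI hEchar : E.Characteristic := by
    rw [Subgroup.characteristic_iff_le_comap]
    intro ϕ a ha
    rw [Subgroup.mem_comap, hEmem]
    rw [hEmem] at ha
    show (ϕ a) ^ p = 1
    rw [← map_pow, ha, map_one]
  have hEp : IsPGroup p E := hK.to_subgroup E
  have hEexp : ∀ u : E, u ^ p = 1 := by
    intro u
    apply Subtype.ext
    rw [Subgroup.coe_pow, Subgroup.coe_one]
    exact (hEmem _).mp u.2
  have hclE : ∀ u v : E, ⁅u, v⁆ ∈ Subgroup.center E := by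
    intro u v
    rw [Subgroup.mem_center_iff]
    intro g
    apply Subtype.ext
    have hmem : ⁅(u : K), (v : K)⁆ ∈ Subgroup.center K := hcl _ _
    exact (Subgroup.mem_center_iff.mp hmem) g
  have hrkE : ∀ B : Subgroup E, IsMulCommutative B → Nat.card B ≤ p ^ 2 := by
    intro B hB
    exact prankLE_subgroup hrk E B hB (fun b _ => hEexp b)
  have hcardE : Nat.card E ≤ p ^ 3 := card_le_cube_of_classTwo hEp hclE hrkE
  -- the action on E
  let ψE : X →* MulAut E := (MulAut.characteristic E).comp ψ
  have hψE : ∀ (g : X) (u : E), ((ψE g u : E) : K) = ψ g u := fun _ _ => rfl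
  -- the centre of E
  obtain ⟨Z, hZdef⟩ : ∃ Z : Subgroup E, Z = Subgroup.center E := ⟨_, rfl⟩
  haveI hZchar : Z.Characteristic := hZdef ▸ Subgroup.centerCharacteristic
  have hZcomm : ∀ a b : Z, a * b = b * a := by
    intro a b
    apply Subtype.ext
    have ha : (a : E) ∈ Subgroup.center E := hZdef ▸ a.2
    exact ((Subgroup.mem_center_iff.mp ha) b).symm
  have hZcard : Nat.card Z ≤ p ^ 2 := hrkE Z ⟨⟨fun a b => hZcomm a b⟩⟩
  let ψZ : X →* MulAut Z := (MulAut.characteristic Z).comp ψE
  have hψZ : ∀ (g : X) (u : Z), ((ψZ g u : Z) : E) = ψE g u := fun _ _ => rfl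
  have hZ1 : ψZ x = 1 := GL2Abs.act_trivial_of_mem_commutator hp2 hZcomm
    (fun a => by apply Subtype.ext; rw [Subgroup.coe_pow, Subgroup.coe_one]; exact hEexp a)
    hZcard hodd hsolv ψZ x hx hxo
  -- the quotient
  have hQcomm : ∀ a b : E ⧸ Z, a * b = b * a := by
    intro a b
    induction a using QuotientGroup.induction_on with
    | H a =>
    induction b using QuotientGroup.induction_on with
    | H b =>
    rw [← QuotientGroup.mk_mul, ← QuotientGroup.mk_mul, QuotientGroup.eq]
    have h1 : (a * b)⁻¹ * (b * a) = ⁅b⁻¹, a⁻¹⁆ := by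
      rw [commutatorElement_def]; group
    rw [h1, hZdef]
    exact hclE _ _
  have hQexp : ∀ a : E ⧸ Z, a ^ p = 1 := by
    intro a
    induction a using QuotientGroup.induction_on with
    | H a => rw [← QuotientGroup.mk_pow, hEexp]; rfl
  have hQcard : Nat.card (E ⧸ Z) ≤ p ^ 2 := by
    have hmul : Nat.card E = Nat.card (E ⧸ Z) * Nat.card Z := Subgroup.card_eq_card_quotient_mul_card_subgroup Z
    obtain ⟨a, ha⟩ := IsPGroup.iff_card.mp (hEp.to_quotient Z)
    obtain ⟨b, hb⟩ := IsPGroup.iff_card.mp (hEp.to_subgroup Z)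
    rw [ha]
    apply Nat.pow_le_pow_right hpp.pos
    by_contra hlt
    push Not at hlt
    have hab : a + b ≤ 3 := by
      rw [hmul, ha, hb, ← pow_add] at hcardE
      exact (Nat.pow_le_pow_iff_right hpp.one_lt).mp hcardE
    have hb0 : b = 0 := by omega
    rw [hb0, pow_zero] at hb
    -- Z trivial, so E trivial
    have hE1 : Nat.card E = 1 := by
      by_contra hne
      haveI : Nontrivial E := by
        rw [← Finite.one_lt_card_iff_nontrivial]
        have := Nat.card_pos (α := E)
        omega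
      haveI := hEp.center_nontrivial
      have : 1 < Nat.card (Subgroup.center E) := Finite.one_lt_card_iff_nontrivial.mpr inferInstance
      rw [← hZdef, hb] at this
      exact lt_irrefl _ this
    rw [hmul, hb, mul_one, ha] at hE1
    have : a = 0 := by
      by_contra h0
      have := Nat.one_lt_pow h0 hpp.one_lt
      omega
    omega
  let ψQ : X →* MulAut (E ⧸ Z) := (quotAut Z).comp ψE
  have hQ1 : ψQ x = 1 := GL2Abs.act_trivial_of_mem_commutator hp2 hQcomm hQexp hQcard hodd hsolv
    ψQ x hx hxo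
  -- conclusion
  have hE1 : ψE x = 1 := by
    apply eq_one_of_stabilizes Z (ψE x) (orderOf x)
    · rw [← map_pow, pow_orderOf_eq_one, map_one]
    · intro z hz
      have := congrArg (fun f : MulAut Z => ((f ⟨z, hz⟩ : Z) : E)) hZ1
      exact this
    · intro e
      have := congrArg (fun f : MulAut (E ⧸ Z) => f (QuotientGroup.mk e)) hQ1
      simp only [MulAut.one_apply] at this
      have h2 : ψQ x (QuotientGroup.mk e) = QuotientGroup.mk (ψE x e) := rfl
      rw [h2] at this
      exact QuotientGroup.eq.mp this.symm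
    · intro z _ hzn
      obtain ⟨k, hk⟩ := hEp z
      have h1 : orderOf z ∣ orderOf x := orderOf_dvd_of_pow_eq_one hzn
      have h2 : orderOf z ∣ p ^ k := orderOf_dvd_of_pow_eq_one hk
      have h3 : (orderOf x).Coprime (p ^ k) := Nat.Coprime.pow_right k hxo
      exact orderOf_eq_one_iff.mp (Nat.eq_one_of_dvd_coprimes h3 h1 h2)
  have := congrArg (fun f : MulAut E => ((f ⟨y, (hEmem y).mpr hy⟩ : E) : K)) hE1
  exact this

/-- Main theorem: an odd-order solvable group acting on a `p`-group of rank at most `2`. -/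
theorem act_trivial {R X : Type*} [Group R] [Finite R] [Group X] [Finite X] (hp2 : p ≠ 2)
    (hR : IsPGroup p R) (hrk : Cfsg.PRankLE p 2 R)
    (hodd : Odd (Nat.card X)) (hsolv : Group.IsSolvable X) (φ : X →* MulAut R) (x : X)
    (hx : x ∈ commutator X) (hxo : (orderOf x).Coprime p) : φ x = 1 := by
  classical
  obtain ⟨C, hCchar, h1, h2, h3⟩ := Cfsg.Agent.S0093.result hR
  haveI := hCchar
  have hCp : IsPGroup p C := hR.to_subgroup C
  have hclC : ∀ a b : C, ⁅a, b⁆ ∈ Subgroup.center C := by
    intro a b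
    rw [Subgroup.mem_center_iff]
    intro g
    apply Subtype.ext
    have hmem : ⁅(a : R), (b : R)⁆ ∈ Subgroup.centralizer (C : Set R) :=
      (h2 (Subgroup.commutator_mem_commutator a.2 (Subgroup.mem_top _))).2
    exact Subgroup.mem_centralizer_iff.mp hmem g g.2
  have hpowC : ∀ a : C, a ^ p ∈ Subgroup.center C := by
    intro a
    have hmemΦ : a ^ p ∈ frattini C := pow_mem_frattini_of_isPGroup' hCp a
    have hc : ((a ^ p : C) : R) ∈ Subgroup.centralizer (C : Set R) := h1 ⟨a ^ p, hmemΦ, rfl⟩
    rw [Subgroup.mem_center_iff]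
    intro g
    apply Subtype.ext
    exact Subgroup.mem_centralizer_iff.mp hc g g.2
  let ψ : X →* MulAut C := (MulAut.characteristic C).comp φ
  have hord : (orderOf (φ x)).Coprime p :=
    Nat.Coprime.coprime_dvd_left (orderOf_map_dvd φ x) hxo
  have hordC : (orderOf (ψ x)).Coprime p :=
    Nat.Coprime.coprime_dvd_left (orderOf_map_dvd ψ x) hxo
  have hfix : ∀ y : C, y ^ p = 1 → ψ x y = y :=
    fix_omega_of_classTwo hp2 hCp hclC hpowC (prankLE_subgroup hrk C) hodd hsolv ψ x hx hxo
  have hψ1 : ψ x = 1 := Cfsg.Agent.S0120.result hp2 hCp (ψ x) hordC hfix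
  apply Cfsg.Agent.S0121.result hR C hCchar h1 h2 h3 (φ x) hord
  intro y hy
  have := congrArg (fun f : MulAut C => ((f ⟨y, hy⟩ : C) : R)) hψ1
  exact this

end Cfsg.Agent.Lib.Helper13.RankTwoAct
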