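import Mathlib
import Cfsg.Agent.Lib.Helper20.Fitting
import Cfsg.Agent.Lib.Helper20.Bender
import Cfsg.Agent.Lib.Helper13.BenderC
import Cfsg.Agent.Lib.Helper13.RankTwoAct

/-!
# `G' ≤ F(G)` for solvable groups whose derived group acts on each `O_q(G)` as a `q`-group (helper13)
-/

set_option autoImplicit false
set_option maxHeartbeats 1000000
set_option linter.style.haveILetI false

namespace Cfsg.Agent.Lib.Helper13.DerivedFitting

open Cfsg Subgroup Cfsg.Agent.Lib.Helper20 Cfsg.Agent.Lib.Helper13.BenderA Cfsg.Agent.Lib.Helper13.BenderC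
open scoped commutatorElement Pointwise

variable {G : Type*} [Group G] [Finite G]

theorem pCore_le_centralizer_pCore {q r : ℕ} [hq : Fact q.Prime] [hr : Fact r.Prime] (hqr : q ≠ r) :
    pCore r G ≤ centralizer (pCore q G : Set G) := by
  have hdis : Disjoint (pCore r G) (pCore q G) := by
    rw [disjoint_iff]
    apply inf_eq_bot_of_isPGroup_of_coprime r _ _ (pCore_isPGroup' (G := G) r)
    obtain ⟨n, hn⟩ := IsPGroup.iff_card.mp (pCore_isPGroup' (G := G) q)
    rw [hn]
    exact Nat.Coprime.pow_left n ((Nat.coprime_primes hq.out hr.out).mpr hqr)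
  intro x hx
  rw [mem_centralizer_iff]
  intro y hy
  exact (Subgroup.commute_of_normal_of_disjoint _ _ (pCore_normal r G) (pCore_normal q G) hdis
    x y hx hy).eq.symm

/-- One step: `L ⊴ G` with `[L, L] ≤ F(G)` whose `q'`-elements centralize `O_q(G)` lies in `F(G)`. -/
theorem le_fitting_of_step (L : Subgroup G) [hL : L.Normal] (hLL : ⁅L, L⁆ ≤ fittingSubgroup G)
    (hyp : ∀ q : ℕ, q.Prime → ∀ y ∈ L, (orderOf y).Coprime q →
      y ∈ centralizer (pCore q G : Set G)) :
    L ≤ fittingSubgroup G := by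
  classical
  obtain ⟨F, hFdef⟩ : ∃ F : Subgroup G, F = fittingSubgroup G := ⟨_, rfl⟩
  rw [← hFdef] at hLL ⊢
  haveI hFn : F.Normal := hFdef ▸ fittingSubgroup_normal'
  have hFsup : F = ⨆ p : Nat.Primes, pCore (p : ℕ) G := hFdef ▸ fittingSubgroup_eq_iSup_pCore'
  have hmain : ∀ (r : Nat.Primes) (R : Sylow (r : ℕ) L), (R : Subgroup L).map L.subtype ≤ F := by
    intro r R
    haveI : Fact (r : ℕ).Prime := ⟨r.2⟩
    obtain ⟨R', hR'def⟩ : ∃ R' : Subgroup G, R' = (R : Subgroup L).map L.subtype := ⟨_, rfl⟩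
    rw [← hR'def]
    have hR'p : IsPGroup (r : ℕ) R' := hR'def ▸ R.isPGroup'.map _
    have hR'L : R' ≤ L := hR'def ▸ Subgroup.map_subtype_le _
    have hcent : ∀ q : ℕ, q.Prime → q ≠ (r : ℕ) → R' ≤ centralizer (pCore q G : Set G) := by
      intro q hq hqr x hx
      apply hyp q hq x (hR'L hx)
      obtain ⟨k, hk⟩ := hR'p ⟨x, hx⟩
      have hk' : x ^ ((r : ℕ) ^ k) = 1 := by
        have := congrArg Subtype.val hk
        simpa using this
      have h1 : orderOf x ∣ (r : ℕ) ^ k := orderOf_dvd_of_pow_eq_one hk'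
      apply Nat.Coprime.coprime_dvd_left h1
      exact Nat.Coprime.pow_left k ((Nat.coprime_primes r.2 hq).mpr (Ne.symm hqr))
    haveI : (pCore (r : ℕ) G).Normal := pCore_normal _ _
    obtain ⟨P, hPdef⟩ : ∃ P : Subgroup G, P = R' ⊔ pCore (r : ℕ) G := ⟨_, rfl⟩
    have hPp : IsPGroup (r : ℕ) P := hPdef ▸ hR'p.to_sup_of_normal_right (pCore_isPGroup' (G := G) r)
    have hR'P : R' ≤ P := hPdef ▸ le_sup_left
    have hOrP : pCore (r : ℕ) G ≤ P := hPdef ▸ le_sup_right
    obtain ⟨V, hVdef⟩ : ∃ V : Subgroup G, V = R' ⊔ F := ⟨_, rfl⟩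
    have hR'V : R' ≤ V := hVdef ▸ le_sup_left
    have hFV : F ≤ V := hVdef ▸ le_sup_right
    have hPV : P ≤ V := by
      rw [hPdef]
      apply sup_le hR'V
      refine le_trans ?_ hFV
      rw [hFsup]
      exact le_iSup (fun p : Nat.Primes => pCore (p : ℕ) G) r
    have hVP : V ≤ normalizer (P : Set G) := by
      rw [hVdef]
      apply sup_le (hR'P.trans le_normalizer)
      rw [hFsup]
      apply iSup_le
      intro q
      haveI : Fact (q : ℕ).Prime := ⟨q.2⟩
      by_cases hqr : (q : ℕ) = (r : ℕ)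
      · rw [hqr]; exact hOrP.trans le_normalizer
      · refine le_trans ?_ (Subgroup.centralizer_le_normalizer (P : Set G))
        rw [Subgroup.le_centralizer_iff, hPdef]
        apply sup_le (hcent q q.2 hqr)
        exact pCore_le_centralizer_pCore hqr
    obtain ⟨M, hMdef⟩ : ∃ M : Subgroup G, M = L ⊔ F := ⟨_, rfl⟩
    haveI hMn : M.Normal := hMdef ▸ Subgroup.sup_normal L F
    have hVM : V ≤ M := by
      rw [hVdef, hMdef]
      exact sup_le_sup_right hR'L F
    have hMV : M ≤ normalizer (V : Set G) := by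
      rw [hMdef]
      apply sup_le _ (hFV.trans le_normalizer)
      intro l hl
      apply mem_normalizer_of_conj_mem'
      intro v hv
      rw [hVdef, ← SetLike.mem_coe, Subgroup.mul_normal] at hv
      obtain ⟨a, ha, b, hb, rfl⟩ := hv
      have h1 : l * (a * b) * l⁻¹ = ⁅l, a⁆ * a * (l * b * l⁻¹) := by
        rw [commutatorElement_def]; group
      rw [h1]
      apply V.mul_mem (V.mul_mem _ (hR'V ha)) (hFV (hFn.conj_mem b hb l))
      exact hFV (hLL (Subgroup.commutator_mem_commutator hl (hR'L ha)))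
    have hsub : P.IsSubnormal :=
      Subgroup.IsSubnormal.step P V hPV
        (Subgroup.IsSubnormal.step V M hVM (Subgroup.Normal.isSubnormal hMn)
          (Subgroup.normal_subgroupOf_of_le_normalizer hMV))
        (Subgroup.normal_subgroupOf_of_le_normalizer hVP)
    have hPF : P ≤ F := hFdef ▸ subnormal_nilpotent_le_fitting P hsub hPp.isNilpotent
    exact hR'P.trans hPF
  intro x hx
  have htop := iSup_sylow_eq_top' (G := L)
  have hle : (⨆ (p : Nat.Primes) (P : Sylow (p : ℕ) L), (P : Subgroup L)) ≤ F.subgroupOf L := by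
    apply iSup_le
    intro r
    apply iSup_le
    intro R y hy
    rw [Subgroup.mem_subgroupOf]
    exact hmain r R ⟨y, hy, rfl⟩
  rw [htop] at hle
  have := hle (Subgroup.mem_top (⟨x, hx⟩ : L))
  rwa [Subgroup.mem_subgroupOf] at this

/-- If in a solvable group the `q'`-elements of `G'` centralize `O_q(G)` for every prime `q`, then
`G' ≤ F(G)`. -/
theorem commutator_le_fitting (hs : Group.IsSolvable G)
    (hyp : ∀ q : ℕ, q.Prime → ∀ y ∈ commutator G, (orderOf y).Coprime q →
      y ∈ centralizer (pCore q G : Set G)) :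
    commutator G ≤ fittingSubgroup G := by
  obtain ⟨n, hn⟩ := hs.solvable
  have hanti : ∀ i : ℕ, derivedSeries G (i + 1) ≤ commutator G := by
    intro i
    have := derivedSeries_antitone G (Nat.succ_le_succ (Nat.zero_le i))
    rw [derivedSeries_one] at this
    exact this
  have hall : ∀ j : ℕ, j ≤ n → derivedSeries G (n - j + 1) ≤ fittingSubgroup G := by
    intro j
    induction j with
    | zero =>
      intro _
      rw [Nat.sub_zero]
      refine le_trans (derivedSeries_antitone G (Nat.le_succ n)) ?_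
      rw [hn]; exact bot_le
    | succ j ih =>
      intro hj
      have h1 : n - (j + 1) + 1 + 1 = n - j + 1 := by omega
      apply le_fitting_of_step (derivedSeries G (n - (j + 1) + 1))
      · rw [← derivedSeries_succ, h1]
        exact ih (by omega)
      · intro q hq y hy
        exact hyp q hq y (hanti _ hy)
  have := hall n le_rfl
  rw [Nat.sub_self, zero_add, derivedSeries_one] at this
  exact this

end Cfsg.Agent.Lib.Helper13.DerivedFitting
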