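import Mathlib
import Cfsg.Agent.Lib.Helper13.TransHyp

/-!
# Bender–Glauberman §7: the transitivity theorems 7.3 and 7.4 (helper13)
-/

set_option autoImplicit false
set_option linter.style.haveILetI false

universe u

namespace Cfsg.Agent.Lib.Helper13

open Subgroup
open scoped Pointwise commutatorElement

section

variable {G : Type u} [Group G] [Finite G]

theorem centralizer_singleton_ne_top (hG : Cfsg.IsMinSimpleOddOrder G) (b : G) (hb : b ≠ 1) :
    centralizer ({b} : Set G) ≠ ⊤ := by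
  intro htop
  haveI hsimple : IsSimpleGroup G := hG.2.1
  have hbc : b ∈ Subgroup.center G := by
    rw [Subgroup.mem_center_iff]
    intro g
    have : g ∈ centralizer ({b} : Set G) := by rw [htop]; trivial
    exact (Subgroup.mem_centralizer_iff.mp this b rfl).symm
  rcases (inferInstance : (Subgroup.center G).Normal).eq_bot_or_eq_top with h | h
  · rw [h, Subgroup.mem_bot] at hbc
    exact hb hbc
  · apply hG.2.2.1
    refine ⟨⟨fun x y => ?_⟩⟩
    have hx : x ∈ Subgroup.center G := by rw [h]; trivial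
    exact (Subgroup.mem_center_iff.mp hx y).symm

/-- an elementary abelian subgroup of large order from `¬ PRankLE`. -/
theorem exists_elementary_of_not_pRankLE (p k : ℕ) (Z : Subgroup G)
    (h : ¬ Cfsg.PRankLE p k ↥Z) :
    ∃ E₀ : Subgroup G, E₀ ≤ Z ∧ (∀ x ∈ E₀, ∀ y ∈ E₀, x * y = y * x) ∧ (∀ x ∈ E₀, x ^ p = 1) ∧
      p ^ k < Nat.card E₀ := by
  unfold Cfsg.PRankLE at h
  push Not at h
  obtain ⟨E', hE'c, hE'exp, hE'card⟩ := h
  refine ⟨E'.map Z.subtype, Subgroup.map_subtype_le _, ?_, ?_, ?_⟩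
  · rintro _ ⟨x, hx, rfl⟩ _ ⟨y, hy, rfl⟩
    have h1 := hE'c.is_comm.comm (⟨x, hx⟩ : E') ⟨y, hy⟩
    have h2 := congrArg (fun t : E' => ((t : Z) : G)) h1
    simpa using h2
  · rintro _ ⟨x, hx, rfl⟩
    have h1 := hE'exp x hx
    have h2 := congrArg Subtype.val h1
    simpa using h2
  · rw [Subgroup.card_map_of_injective Z.subtype_injective]; exact hE'card

/-- an elementary abelian subgroup of order exactly `p ^ 3`. -/
theorem exists_elementary_cube (p : ℕ) [hp : Fact p.Prime] (Z : Subgroup G)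
    (h : ¬ Cfsg.PRankLE p 2 ↥Z) :
    ∃ E₀ : Subgroup G, E₀ ≤ Z ∧ (∀ x ∈ E₀, ∀ y ∈ E₀, x * y = y * x) ∧ (∀ x ∈ E₀, x ^ p = 1) ∧
      Nat.card E₀ = p ^ 3 := by
  obtain ⟨E, hEZ, hEab, hEexp, hEcard⟩ := exists_elementary_of_not_pRankLE p 2 Z h
  have hEp : IsPGroup p E := by
    intro x
    refine ⟨1, ?_⟩
    rw [pow_one]
    exact Subtype.ext (by simpa using hEexp x x.2)
  obtain ⟨k, hk⟩ := hEp.exists_card_eq
  have hk3 : 3 ≤ k := by
    by_contra h
    have h1 : k ≤ 2 := by omega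
    have := Nat.pow_le_pow_right hp.out.pos h1
    rw [hk] at hEcard
    omega
  have hdvd : p ^ 3 ∣ Nat.card E := by
    rw [hk]; exact pow_dvd_pow p hk3
  obtain ⟨K, hK⟩ := Sylow.exists_subgroup_card_pow_prime p hdvd
  have hKE : K.map E.subtype ≤ E := Subgroup.map_subtype_le _
  refine ⟨K.map E.subtype, hKE.trans hEZ, ?_, ?_, ?_⟩
  · intro x hx y hy; exact hEab x (hKE hx) y (hKE hy)
  · intro x hx; exact hEexp x (hKE hx)
  · rw [Subgroup.card_map_of_injective E.subtype_injective, hK]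

/-- **BG Theorem 7.3.** -/
theorem bg_transitivity_rank_three (hG : Cfsg.IsMinSimpleOddOrder G) (A : Subgroup G)
    (hA : Cfsg.TransitivityHypothesis A)
    (hZ : ¬ Cfsg.RankLE 2 ↥(A ⊓ Subgroup.centralizer (A : Set G)))
    (q : ℕ) [hq : Fact q.Prime] (hqA : ¬ q ∣ Nat.card A) (Q₁ Q₂ : Subgroup G)
    (h₁ : IsMaxInv A q Q₁) (h₂ : IsMaxInv A q Q₂) :
    CConjZ (Cfsg.piCoreOf (Cfsg.primesNotDvd (Nat.card A)) (centralizer (A : Set G))) Q₁ Q₂ := by
  by_cases hQ₁ : Q₁ = ⊥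
  · have := h₁.2.2 Q₂ h₂.1 h₂.2.1 (hQ₁ ▸ bot_le)
    rw [this]; exact CConjZ.refl _ _
  by_cases hQ₂ : Q₂ = ⊥
  · have := h₂.2.2 Q₁ h₁.1 h₁.2.1 (hQ₂ ▸ bot_le)
    rw [this]; exact CConjZ.refl _ _
  unfold Cfsg.RankLE at hZ
  push Not at hZ
  obtain ⟨p, hp, hZp⟩ := hZ
  haveI : Fact p.Prime := ⟨hp⟩
  obtain ⟨E₀, hE₀Z, hab, hexp, hcard⟩ := exists_elementary_cube p _ hZp
  have hE₀A : E₀ ≤ A := hE₀Z.trans inf_le_left
  have hE₀C : E₀ ≤ centralizer (A : Set G) := hE₀Z.trans inf_le_right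
  have hpA : p ∣ Nat.card A := by
    have h1 : Nat.card E₀ ∣ Nat.card A := Subgroup.card_dvd_of_le hE₀A
    rw [hcard] at h1
    exact (dvd_pow_self p (by norm_num)).trans h1
  have hqp : q ≠ p := by
    rintro rfl; exact hqA hpA
  have hcopq : ∀ K : Subgroup G, IsPGroup q K → (Nat.card E₀).Coprime (Nat.card K) := by
    intro K hK
    obtain ⟨k, hk⟩ := hK.exists_card_eq
    rw [hk, hcard]
    exact Nat.Coprime.pow _ _ ((Nat.coprime_primes hp hq.out).mpr hqp.symm)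
  obtain ⟨b, hbE, hb1, hU₁, hU₂⟩ := exists_common_fix p E₀ Q₁ Q₂ ⊥ hab hexp hcard
    (hE₀A.trans h₁.2.1) (hE₀A.trans h₂.2.1) (hcopq Q₁ h₁.1) (hcopq Q₂ h₂.1)
    (fun h => hQ₁ (le_bot_iff.mp h)) (fun h => hQ₂ (le_bot_iff.mp h))
  have hAb : A ≤ centralizer ({b} : Set G) := by
    intro a ha
    rw [Subgroup.mem_centralizer_iff]
    intro y hy
    rw [Set.mem_singleton_iff] at hy
    rw [hy]
    exact Subgroup.mem_centralizer_iff.mp (hE₀C hbE) a ha |>.symm
  apply bg_linked_conj hG A hA q hqA Q₁ Q₂ h₁ h₂ (centralizer ({b} : Set G))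
    (centralizer_singleton_ne_top hG b hb1) hAb
  · intro h; apply hU₁; rw [inf_comm, h]
  · intro h; apply hU₂; rw [inf_comm, h]

/-- **BG Theorem 7.4.** -/
theorem bg_transitivity_rank_two (hG : Cfsg.IsMinSimpleOddOrder G) (A : Subgroup G)
    (hA : Cfsg.TransitivityHypothesis A)
    (hZ : ¬ Cfsg.RankLE 1 ↥(A ⊓ Subgroup.centralizer (A : Set G)))
    (q : ℕ) [hq : Fact q.Prime] (hqA : ¬ q ∣ Nat.card A)
    (hqC : q ∣ Nat.card (Subgroup.centralizer (A : Set G))) (Q₁ Q₂ : Subgroup G)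
    (h₁ : IsMaxInv A q Q₁) (h₂ : IsMaxInv A q Q₂) :
    CConjZ (Cfsg.piCoreOf (Cfsg.primesNotDvd (Nat.card A)) (centralizer (A : Set G))) Q₁ Q₂ := by
  unfold Cfsg.RankLE at hZ
  push Not at hZ
  obtain ⟨p, hp, hZp⟩ := hZ
  haveI : Fact p.Prime := ⟨hp⟩
  obtain ⟨E₀, hE₀Z, hab, hexp, hcard⟩ := exists_elementary_of_not_pRankLE p 1 _ hZp
  rw [pow_one] at hcard
  have hE₀A : E₀ ≤ A := hE₀Z.trans inf_le_left
  have hE₀C : E₀ ≤ centralizer (A : Set G) := hE₀Z.trans inf_le_right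
  have hE₀p : IsPGroup p E₀ := by
    intro x
    refine ⟨1, ?_⟩
    rw [pow_one]
    exact Subtype.ext (by simpa using hexp x x.2)
  have hE₀nc : ¬ IsCyclic E₀ := by
    intro hc
    have h1 := card_dvd_of_isCyclic_exp p hc (fun x => Subtype.ext (by simpa using hexp x x.2))
    have := Nat.le_of_dvd hp.pos h1
    omega
  have hpA : p ∣ Nat.card A := by
    have h1 : Nat.card E₀ ∣ Nat.card A := Subgroup.card_dvd_of_le hE₀A
    obtain ⟨k, hk⟩ := hE₀p.exists_card_eq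
    rw [hk] at h1 hcard
    have hk0 : k ≠ 0 := by
      rintro rfl
      rw [pow_zero] at hcard
      exact absurd hcard (by have := hp.one_lt; omega)
    exact (dvd_pow_self p hk0).trans h1
  have hqp : q ≠ p := by
    rintro rfl; exact hqA hpA
  have hcopq : ∀ K : Subgroup G, IsPGroup q K → (Nat.card E₀).Coprime (Nat.card K) := by
    intro K hK
    obtain ⟨k, hk⟩ := hK.exists_card_eq
    obtain ⟨j, hj⟩ := hE₀p.exists_card_eq
    rw [hk, hj]
    exact Nat.Coprime.pow _ _ ((Nat.coprime_primes hp hq.out).mpr hqp.symm)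
  -- an element of order `q` in `C_G(A)`
  obtain ⟨x, hx⟩ := exists_prime_orderOf_dvd_card' (G := ↥(centralizer (A : Set G))) q hqC
  obtain ⟨S₀, hS₀def⟩ : ∃ S₀ : Subgroup G, S₀ = zpowers (x : G) := ⟨_, rfl⟩
  have hxord : orderOf (x : G) = q := by rw [← hx]; exact Subgroup.orderOf_coe x
  have hx1 : (x : G) ≠ 1 := by
    intro h
    rw [h, orderOf_one] at hxord
    exact hq.out.one_lt.ne' hxord.symm
  have hS₀q : IsPGroup q S₀ := by
    apply IsPGroup.of_card (n := 1)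
    rw [hS₀def, Nat.card_zpowers, hxord, pow_one]
  have hAS₀ : A ≤ normalizer (S₀ : Set G) := by
    intro a ha
    rw [hS₀def]
    apply centralizer_singleton_le_normalizer_zpowers (x : G)
    rw [Subgroup.mem_centralizer_iff]
    intro y hy
    rw [Set.mem_singleton_iff] at hy
    rw [hy]
    exact (Subgroup.mem_centralizer_iff.mp x.2 a ha).symm
  obtain ⟨Q₀, hSQ₀, hQ₀⟩ := exists_isMaxInv_ge hS₀q hAS₀
  have hxQ₀ : (x : G) ∈ Q₀ := hSQ₀ (hS₀def ▸ Subgroup.mem_zpowers (x : G))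
  have key : ∀ Q : Subgroup G, IsMaxInv A q Q →
      CConjZ (Cfsg.piCoreOf (Cfsg.primesNotDvd (Nat.card A)) (centralizer (A : Set G))) Q Q₀ := by
    intro Q hQ
    have hQne : Q ≠ ⊥ := by
      intro hQbot
      have h3 := hQ.2.2 S₀ hS₀q hAS₀ (hQbot ▸ bot_le)
      apply hx1
      have : (x : G) ∈ S₀ := hS₀def ▸ Subgroup.mem_zpowers (x : G)
      rw [h3, hQbot, Subgroup.mem_bot] at this
      exact this
    obtain ⟨b, hbE, hb1, hU⟩ := exists_fix_not_le E₀ Q ⊥ hab hE₀nc (hE₀A.trans hQ.2.1)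
      (hcopq Q hQ.1) (fun h => hQne (le_bot_iff.mp h))
    have hAb : A ≤ centralizer ({b} : Set G) := by
      intro a ha
      rw [Subgroup.mem_centralizer_iff]
      intro y hy
      rw [Set.mem_singleton_iff] at hy
      rw [hy]
      exact Subgroup.mem_centralizer_iff.mp (hE₀C hbE) a ha |>.symm
    apply bg_linked_conj hG A hA q hqA Q Q₀ hQ hQ₀ (centralizer ({b} : Set G))
      (centralizer_singleton_ne_top hG b hb1) hAb
    · intro h; apply hU; rw [inf_comm, h]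
    · intro h
      have hxmem : (x : G) ∈ centralizer ({b} : Set G) ⊓ Q₀ := by
        refine ⟨?_, hxQ₀⟩
        show (x : G) ∈ centralizer ({b} : Set G)
        rw [Subgroup.mem_centralizer_iff]
        intro y hy
        rw [Set.mem_singleton_iff] at hy
        rw [hy]
        exact Subgroup.mem_centralizer_iff.mp x.2 b (hE₀A hbE)
      rw [h, Subgroup.mem_bot] at hxmem
      exact hx1 hxmem
  exact (key Q₁ h₁).trans (key Q₂ h₂).symm

end

end Cfsg.Agent.Lib.Helper13
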