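import Mathlib
import Cfsg.Prelude.Def_OddOrder
import Cfsg.Prelude.Def_OddOrderLocal
import Cfsg.Prelude.Def_Transfer
import Cfsg.Agent.Lib.Helper13.FitBasics
import Cfsg.Agent.Lib.Helper13.TransHyp2
import Cfsg.Agent.Lib.Helper13.TransHyp3
import Cfsg.Agent.Lib.Helper13.CoprimeSylow

/-!
# Bender–Glauberman Theorem 8.1(a)
-/

set_option autoImplicit false

namespace Cfsg.Agent.Lib.Helper13.Fit81a

open Subgroup Cfsg.Agent.Lib.Helper20 Cfsg.Agent.Lib.Helper13.BenderA
  Cfsg.Agent.Lib.Helper13.BenderB Cfsg.Agent.Lib.Helper13.BenderC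
  Cfsg.Agent.Lib.Helper13.FitBasics Cfsg.Agent.Lib.Helper13
open scoped commutatorElement Pointwise

universe u

variable {G : Type u} [Group G] [Finite G]

/-- the transitivity hypothesis from containment of invariant subgroups in the core -/
theorem transHyp_of_le (A : Subgroup G) (hA1 : A ≠ ⊥) (hAtop : A ≠ ⊤)
    (h : ∀ X : Subgroup G, X ≠ ⊤ → A ≤ X →
      ∀ Y ∈ Cfsg.invSubgroups X A (Cfsg.primesNotDvd (Nat.card A)),
        Y ≤ Cfsg.piCoreOf (Cfsg.primesNotDvd (Nat.card A)) X) :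
    Cfsg.TransitivityHypothesis A := by
  refine ⟨hA1, hAtop, ?_⟩
  intro X hX hAX
  apply le_antisymm
  · apply sSup_le
    intro Y hY
    exact h X hX hAX Y hY
  · apply le_sSup
    exact ⟨piCoreOf_le _ X, piCoreOf_primes _ X, hAX.trans (le_normalizer_piCoreOf _ X)⟩

theorem le_normalizer_inf' {A Y C : Subgroup G} (h1 : A ≤ normalizer (Y : Set G))
    (h2 : A ≤ normalizer (C : Set G)) : A ≤ normalizer ((Y ⊓ C : Subgroup G) : Set G) := by
  intro a ha
  rw [Subgroup.mem_normalizer_iff]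
  intro x
  rw [Subgroup.mem_inf, Subgroup.mem_inf, ← Subgroup.mem_normalizer_iff.mp (h1 ha) x,
    ← Subgroup.mem_normalizer_iff.mp (h2 ha) x]

/-- a subgroup containing an elementary abelian subgroup of order at least `p ^ 3` has rank at
least three -/
theorem not_rankLE_two_of_le {p : ℕ} [hp : Fact p.Prime] (Z A₀ : Subgroup G) (hA₀Z : A₀ ≤ Z)
    (hc : ∀ a ∈ A₀, ∀ b ∈ A₀, a * b = b * a) (he : ∀ a ∈ A₀, a ^ p = 1)
    (h3 : p ^ 3 ≤ Nat.card A₀) : ¬ Cfsg.RankLE 2 ↥Z := by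
  intro hr
  have h1 := hr p hp.out (A₀.subgroupOf Z)
    ⟨⟨fun a b => by
      apply Subtype.ext
      apply Subtype.ext
      exact hc _ (Subgroup.mem_subgroupOf.mp a.2) _ (Subgroup.mem_subgroupOf.mp b.2)⟩⟩
    (fun a ha => by
      apply Subtype.ext
      have := he _ (Subgroup.mem_subgroupOf.mp ha)
      simpa using this)
  rw [Cfsg.Agent.Lib.Helper13.card_subgroupOf_of_le hA₀Z] at h1
  have h2 : p ^ 2 < p ^ 3 := Nat.pow_lt_pow_right hp.out.one_lt (by norm_num)
  omega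

/-- if `A ≤ F(M)` satisfies the transitivity hypothesis, has a centre of rank at least three, the
same prime divisors as `F(M)`, and `O_{π'}(C_G(A)) = 1`, then `A` normalizes no nontrivial
`π(F(M))'`-subgroup -/
theorem no_invariant (hG : Cfsg.IsMinSimpleOddOrder G) (M : Subgroup G) (hM : IsCoatom M)
    (A : Subgroup G) (hA1 : A ≠ ⊥) (hAF : A ≤ Cfsg.fittingOf M)
    (hprimes : ∀ s : ℕ, s.Prime → (s ∣ Nat.card A ↔ s ∣ Nat.card (Cfsg.fittingOf M)))
    (hKA : Cfsg.piCoreOf (Cfsg.primesNotDvd (Nat.card A)) (centralizer (A : Set G)) = ⊥)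
    (hTH : Cfsg.TransitivityHypothesis A)
    (hZrank : ¬ Cfsg.RankLE 2 ↥(A ⊓ centralizer (A : Set G))) :
    ∀ Y ∈ Cfsg.invSubgroups ⊤ A (Cfsg.primesNotDvd (Nat.card (Cfsg.fittingOf M))), Y = ⊥ := by
  classical
  haveI hsimple : IsSimpleGroup G := hG.2.1
  haveI hMs : Group.IsSolvable ↥M := hG.2.2.2 M hM.1
  obtain ⟨F, hFdef⟩ : ∃ F, F = Cfsg.fittingOf M := ⟨_, rfl⟩
  rw [← hFdef] at hAF hprimes ⊢
  have hFM : F ≤ M := hFdef ▸ fittingOf_le M
  have hAM : A ≤ M := hAF.trans hFM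
  -- uniqueness of maximal invariant subgroups
  have huniq : ∀ q : ℕ, q.Prime → ¬ q ∣ Nat.card A → ∀ Q₁ Q₂ : Subgroup G,
      IsMaxInv A q Q₁ → IsMaxInv A q Q₂ → Q₂ = Q₁ := by
    intro q hq hqA Q₁ Q₂ h₁ h₂
    haveI : Fact q.Prime := ⟨hq⟩
    obtain ⟨c, hc, hcQ⟩ := bg_transitivity_rank_three hG A hTH hZrank q hqA Q₁ Q₂ h₁ h₂
    rw [hKA, Subgroup.mem_bot] at hc
    rw [hcQ, hc, cj_one]
  have hFtop : F ≠ ⊤ := fun h => hM.1 (top_le_iff.mp (h ▸ hFM))
  have hAsolv : Group.IsSolvable ↥A :=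
    Group.isSolvable_of_isSolvable_injective (Subgroup.inclusion_injective hAM)
  -- every invariant q-subgroup is trivial
  have htriv : ∀ q : ℕ, q.Prime → ¬ q ∣ Nat.card A → ∀ Q : Subgroup G, IsPGroup q Q →
      A ≤ normalizer (Q : Set G) → Q = ⊥ := by
    intro q hq hqA Q hQq hAQ
    haveI : Fact q.Prime := ⟨hq⟩
    have htr : ∀ Q₁ Q₂ : Subgroup G, IsMaxInv A q Q₁ → IsMaxInv A q Q₂ →
        CConjZ (Cfsg.piCoreOf (Cfsg.primesNotDvd (Nat.card A)) (centralizer (A : Set G))) Q₁ Q₂ :=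
      fun Q₁ Q₂ h₁ h₂ => bg_transitivity_rank_three hG A hTH hZrank q hqA Q₁ Q₂ h₁ h₂
    obtain ⟨-, hc, -⟩ := bg_theorem_7_5 hG A hTH q hqA F hFtop
      (fun r hr hrd => (hprimes r hr).mpr hrd) hAF
      (hFdef ▸ subgroupOf_fittingOf_isSubnormal M A) htr
    obtain ⟨Q₀, -, hQ₀⟩ := exists_isMaxInv_ge (B := F) (q := q) (T := (⊥ : Subgroup G))
      IsPGroup.of_bot (by
        intro x _
        rw [Subgroup.mem_normalizer_iff]
        intro y
        rw [Subgroup.mem_bot, Subgroup.mem_bot]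
        constructor
        · rintro rfl; simp
        · intro h
          have : y = x⁻¹ * (x * y * x⁻¹) * x := by group
          rw [this, h]; simp)
    have hQ₀A : IsMaxInv A q Q₀ := hc Q₀ hQ₀
    have hMQ₀ : M ≤ normalizer ((Q₀ : Subgroup G) : Set G) := by
      intro m hm
      have hmF : m ∈ normalizer ((F : Subgroup G) : Set G) := by
        rw [hFdef]; exact le_normalizer_fittingOf M hm
      have h1 : IsMaxInv F q (MulAut.conj m • Q₀) := IsMaxInv.cj' hQ₀ hmF
      have h2 := huniq q hq hqA Q₀ _ hQ₀A (hc _ h1)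
      exact cj_eq_self_iff_mem_normalizer.mp h2
    have hQ₀bot : Q₀ = ⊥ := by
      by_contra hQ1
      have hne := normalizer_ne_top_of_inv hG A hA1 q hqA Q₀ hQ₀.1 hQ1
      have hN : normalizer ((Q₀ : Subgroup G) : Set G) = M := (hM.le_iff_eq hne).mp hMQ₀
      have hQ₀M : Q₀ ≤ M := hN ▸ Subgroup.le_normalizer
      have h1 : Q₀ ≤ Cfsg.pCoreOf q M := le_pCoreOf q M Q₀ hQ₀M hMQ₀ hQ₀.1
      rw [pCoreOf_eq_bot_of_not_dvd M
        (fun h => hqA ((hprimes q hq).mpr (hFdef ▸ h)))] at h1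
      exact hQ1 (le_bot_iff.mp h1)
    obtain ⟨Q', hQQ', hQ'⟩ := exists_isMaxInv_ge (B := A) (q := q) hQq hAQ
    have h3 := huniq q hq hqA Q₀ Q' hQ₀A hQ'
    rw [h3, hQ₀bot] at hQQ'
    exact le_bot_iff.mp hQQ'
  -- no invariant π'-subgroups
  have hinv : ∀ Y ∈ Cfsg.invSubgroups ⊤ A (Cfsg.primesNotDvd (Nat.card F)), Y = ⊥ := by
    rintro Y ⟨-, hYπ, hAY⟩
    by_contra hY1
    have hcard : Nat.card Y ≠ 1 := fun h => hY1 (Subgroup.card_eq_one.mp h)
    obtain ⟨q, hq, hqd⟩ := Nat.exists_prime_and_dvd hcard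
    haveI : Fact q.Prime := ⟨hq⟩
    have hqF : ¬ q ∣ Nat.card F := (hYπ q hq hqd).2
    have hqA : ¬ q ∣ Nat.card A := fun h => hqF ((hprimes q hq).mp h)
    have hcop : (Nat.card A).Coprime (Nat.card Y) := by
      have h1 : (Nat.card F).Coprime (Nat.card Y) := coprime_of_primesNotDvd _ Y hYπ
      exact Nat.Coprime.coprime_dvd_left (Subgroup.card_dvd_of_le hAF) h1
    obtain ⟨S, hS⟩ := exists_invariant_sylow A Y hAY hcop (Or.inl hAsolv) q
    have h1 := htriv q hq hqA _ (S.isPGroup'.map Y.subtype) hS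
    rw [Subgroup.map_eq_bot_iff_of_injective _ Y.subtype_injective] at h1
    exact S.ne_bot_of_dvd_card hqd h1
  exact hinv

/-- **BG Theorem 8.1(a).** -/
theorem bg_8_1_a (hG : Cfsg.IsMinSimpleOddOrder G) (M : Subgroup G) (hM : IsCoatom M)
    (p : ℕ) [hp : Fact p.Prime] (A₀ : Subgroup G) (hA₀ : A₀ ≤ Cfsg.fittingOf M)
    (hA₀e : Cfsg.IsElementaryAbelian p A₀) (hA₀3 : p ^ 3 ≤ Nat.card A₀)
    (hnp : ¬ IsPGroup p ↥(Cfsg.fittingOf M)) :
    Cfsg.InUniqueMaximal (Cfsg.fittingOf M ⊓ centralizer (A₀ : Set G)) := by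
  classical
  haveI hsimple : IsSimpleGroup G := hG.2.1
  haveI hMs : Group.IsSolvable ↥M := hG.2.2.2 M hM.1
  obtain ⟨F, hFdef⟩ : ∃ F, F = Cfsg.fittingOf M := ⟨_, rfl⟩
  rw [← hFdef] at hA₀ hnp ⊢
  obtain ⟨A, hAdef⟩ : ∃ A, A = F ⊓ centralizer (A₀ : Set G) := ⟨_, rfl⟩
  rw [← hAdef]
  have hA₀exp : ∀ a ∈ A₀, a ^ p = 1 := hA₀e.2
  have hA₀c : ∀ a ∈ A₀, ∀ b ∈ A₀, a * b = b * a := by
    intro a ha b hb
    have := hA₀e.1.is_comm.comm ⟨a, ha⟩ ⟨b, hb⟩
    exact congrArg Subtype.val this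
  have hA₀p : IsPGroup p A₀ := by
    rintro ⟨a, ha⟩
    refine ⟨1, ?_⟩
    apply Subtype.ext
    simp [hA₀exp a ha]
  have hA₀cent : A₀ ≤ centralizer (A₀ : Set G) := by
    intro a ha
    rw [Subgroup.mem_centralizer_iff]
    intro b hb
    exact hA₀c b hb a ha
  have hA₀A : A₀ ≤ A := hAdef ▸ le_inf hA₀ hA₀cent
  have hA₀1 : A₀ ≠ ⊥ := by
    intro h
    rw [h, Subgroup.card_bot] at hA₀3
    have : 1 < p ^ 3 := Nat.one_lt_pow (by norm_num) hp.out.one_lt
    omega
  have hpA₀ : p ∣ Nat.card A₀ := by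
    obtain ⟨n, hn⟩ := IsPGroup.iff_card.mp hA₀p
    rcases Nat.eq_zero_or_pos n with h0 | h0
    · rw [h0, pow_zero] at hn
      exact absurd (Subgroup.card_eq_one.mp hn) hA₀1
    · rw [hn]; exact dvd_pow_self p h0.ne'
  have hpF : p ∣ Nat.card F := hpA₀.trans (Subgroup.card_dvd_of_le hA₀)
  have hA₀Fp : A₀ ≤ Cfsg.pCoreOf p M := le_pCoreOf_of_le_fittingOf M A₀ (hFdef ▸ hA₀) hA₀p
  have hAF : A ≤ F := hAdef ▸ inf_le_left
  have hFM : F ≤ M := hFdef ▸ fittingOf_le M
  have hAM : A ≤ M := hAF.trans hFM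
  have hACA₀ : A ≤ centralizer (A₀ : Set G) := hAdef ▸ inf_le_right
  have hZFA : F ⊓ centralizer ((F : Subgroup G) : Set G) ≤ A := by
    rw [hAdef]
    exact le_inf inf_le_left (inf_le_right.trans (Subgroup.centralizer_le hA₀))
  have hZsA : ∀ s : ℕ, s.Prime → zOf s M ≤ A := by
    intro s hs
    have := zOf_le_center_fittingOf hs M
    rw [← hFdef] at this
    exact this.trans hZFA
  have hA1 : A ≠ ⊥ := fun h => hA₀1 (le_bot_iff.mp (h ▸ hA₀A))
  have hAtop : A ≠ ⊤ := fun h => hM.1 (top_le_iff.mp (h ▸ hAM))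
  -- primes of A and of F
  have hprimes : ∀ s : ℕ, s.Prime → (s ∣ Nat.card A ↔ s ∣ Nat.card F) := by
    intro s hs
    constructor
    · intro h; exact h.trans (Subgroup.card_dvd_of_le hAF)
    · intro h
      haveI : Fact s.Prime := ⟨hs⟩
      have h1 : zOf s M ≠ ⊥ := zOf_ne_bot M (hFdef ▸ h)
      obtain ⟨n, hn⟩ := IsPGroup.iff_card.mp (zOf_isPGroup s M)
      rcases Nat.eq_zero_or_pos n with h0 | h0
      · rw [h0, pow_zero] at hn
        exact absurd (Subgroup.card_eq_one.mp hn) h1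
      · have : s ∣ Nat.card (zOf s M) := by rw [hn]; exact dvd_pow_self s h0.ne'
        exact this.trans (Subgroup.card_dvd_of_le (hZsA s hs))
  have hπeq : Cfsg.primesNotDvd (Nat.card A) = Cfsg.primesNotDvd (Nat.card F) := by
    ext q
    unfold Cfsg.primesNotDvd
    simp only [Set.mem_ofPred_eq]
    constructor
    · rintro ⟨hq, h⟩; exact ⟨hq, fun h' => h ((hprimes q hq).mpr h')⟩
    · rintro ⟨hq, h⟩; exact ⟨hq, fun h' => h ((hprimes q hq).mp h')⟩
  -- a second prime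
  have hother : ∀ q : ℕ, ∃ s : ℕ, s.Prime ∧ s ∣ Nat.card F ∧ s ≠ q := by
    intro q
    by_cases hqp : q = p
    · by_contra hcon
      push Not at hcon
      apply hnp
      have h1 := Nat.eq_prime_pow_of_unique_prime_dvd (n := Nat.card F) (p := p)
        Nat.card_pos.ne' (fun {d} hd hdd => (hcon d hd hdd).trans hqp)
      exact IsPGroup.of_card h1
    · exact ⟨p, hp.out, hpF, fun h => hqp h.symm⟩
  -- C(A) ≤ M
  have hCAM : centralizer (A : Set G) ≤ M :=
    (Subgroup.centralizer_le (hZsA p hp.out)).trans (centralizer_zOf_le M hM (hFdef ▸ hpF))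
  -- C(A) is a π-group
  have hCAπ : ∀ r : ℕ, r.Prime → r ∣ Nat.card (centralizer (A : Set G)) → r ∣ Nat.card F := by
    intro r hr hrd
    by_contra hrF
    haveI : Fact r.Prime := ⟨hr⟩
    obtain ⟨x, hx⟩ := exists_prime_orderOf_dvd_card' r hrd
    have hxC : (x : G) ∈ centralizer (A : Set G) := x.2
    have hxo : orderOf (x : G) = r := by rw [Subgroup.orderOf_coe]; exact hx
    have hrp : r ≠ p := fun h => hrF (h ▸ hpF)
    have hzx : zpowers (x : G) ≤ centralizer (A : Set G) := zpowers_le.mpr hxC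
    have hAzx : A ≤ centralizer ((zpowers (x : G) : Subgroup G) : Set G) := by
      rw [Subgroup.le_centralizer_iff]; exact hzx
    have hFx : F ≤ centralizer ((zpowers (x : G) : Subgroup G) : Set G) := by
      rw [hFdef, fittingOf_eq_iSup]
      apply iSup_le
      intro s
      by_cases hsp : (s : ℕ) = p
      · rw [hsp]
        have hcomm : ⁅Cfsg.pCoreOf p M, zpowers (x : G)⁆ = ⊥ := by
          apply thompson_AxB p (Cfsg.pCoreOf p M) (zpowers (x : G)) A₀ (pCoreOf_isPGroup p M) hA₀p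
          · rw [Nat.card_zpowers, hxo]
            exact (Nat.coprime_primes hr hp.out).mpr hrp
          · rw [Subgroup.commutator_eq_bot_iff_le_centralizer]
            exact hzx.trans (Subgroup.centralizer_le hA₀A)
          · exact (hzx.trans hCAM).trans (le_normalizer_pCoreOf p M)
          · exact ((hA₀A.trans hAM)).trans (le_normalizer_pCoreOf p M)
          · refine le_trans ?_ hAzx
            rw [hAdef]
            exact le_inf (inf_le_left.trans (hFdef ▸ pCoreOf_le_fittingOf hp.out M)) inf_le_right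
        rw [Subgroup.commutator_eq_bot_iff_le_centralizer] at hcomm
        exact hcomm
      · refine le_trans ?_ hAzx
        rw [hAdef]
        refine le_inf (hFdef ▸ pCoreOf_le_fittingOf s.2 M) ?_
        exact (pCoreOf_le_centralizer_pCoreOf s.2 hp.out hsp M).trans
          (Subgroup.centralizer_le hA₀Fp)
    have hxF : (x : G) ∈ F := by
      have h1 : (x : G) ∈ M ⊓ centralizer ((Cfsg.fittingOf M : Subgroup G) : Set G) := by
        refine Subgroup.mem_inf.mpr ⟨hCAM hxC, ?_⟩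
        rw [← hFdef]
        have h2 : zpowers (x : G) ≤ centralizer ((F : Subgroup G) : Set G) := by
          rw [Subgroup.le_centralizer_iff]; exact hFx
        exact h2 (mem_zpowers _)
      rw [hFdef]
      exact inf_centralizer_fittingOf_le M h1
    apply hrF
    rw [← hxo]
    exact Subgroup.orderOf_dvd_natCard F hxF
  -- the π'-core of C(A) is trivial
  have hKA : Cfsg.piCoreOf (Cfsg.primesNotDvd (Nat.card A)) (centralizer (A : Set G)) = ⊥ := by
    apply eq_bot_of_no_prime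
    intro r hr hrd
    have h1 := piCoreOf_primes _ _ r hr hrd
    have h2 : r ∣ Nat.card (centralizer (A : Set G)) :=
      hrd.trans (Subgroup.card_dvd_of_le (piCoreOf_le _ _))
    exact h1.2 ((hprimes r hr).mpr (hCAπ r hr h2))
  -- the transitivity hypothesis
  have hTH : Cfsg.TransitivityHypothesis A := by
    apply transHyp_of_le A hA1 hAtop
    intro X hX hAX Y hY
    obtain ⟨hYX, hYπ, hAY⟩ := hY
    haveI hXs : Group.IsSolvable ↥X := hG.2.2.2 X hX
    have hYF : (Nat.card F).Coprime (Nat.card Y) :=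
      coprime_of_primesNotDvd _ Y (hπeq ▸ hYπ)
    -- (i)
    have hi : ∀ s : ℕ, s.Prime → s ∣ Nat.card F →
        Y ⊓ centralizer ((zOf s M : Subgroup G) : Set G) = ⊥ := by
      intro s hs hsd
      haveI : Fact s.Prime := ⟨hs⟩
      obtain ⟨Y₁, hY₁⟩ : ∃ Y₁, Y₁ = Y ⊓ centralizer ((zOf s M : Subgroup G) : Set G) := ⟨_, rfl⟩
      rw [← hY₁]
      have hY₁M : Y₁ ≤ M := hY₁ ▸ inf_le_right.trans (centralizer_zOf_le M hM (hFdef ▸ hsd))
      have hAY₁ : A ≤ normalizer ((Y₁ : Subgroup G) : Set G) := by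
        rw [hY₁]
        apply le_normalizer_inf' hAY
        exact (hAM.trans (le_normalizer_zOf s M)).trans (normalizer_le_normalizer_centralizer _)
      have hY₁F : Y₁ ⊓ F = ⊥ := by
        apply inf_eq_bot_of_coprime'
        have h1 : Nat.card Y₁ ∣ Nat.card Y := Subgroup.card_dvd_of_le (hY₁ ▸ inf_le_left)
        exact (Nat.Coprime.coprime_dvd_right h1 hYF).symm
      have hY₁C : Y₁ ≤ centralizer (A : Set G) := by
        intro y hy
        rw [Subgroup.mem_centralizer_iff]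
        intro a ha
        have h1 : ⁅y, a⁆ ∈ Y₁ ⊓ F := by
          refine Subgroup.mem_inf.mpr ⟨?_, ?_⟩
          · have h2 : a * y⁻¹ * a⁻¹ ∈ Y₁ :=
              (Subgroup.mem_normalizer_iff.mp (hAY₁ ha) y⁻¹).mp (inv_mem hy)
            have : ⁅y, a⁆ = y * (a * y⁻¹ * a⁻¹) := by rw [commutatorElement_def]; group
            rw [this]; exact mul_mem hy h2
          · have h2 : y * a * y⁻¹ ∈ F := by
              have h3 := le_normalizer_fittingOf M (hY₁M hy)
              rw [← hFdef] at h3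
              exact (Subgroup.mem_normalizer_iff.mp h3 a).mp (hAF ha)
            rw [commutatorElement_def]; exact mul_mem h2 (inv_mem (hAF ha))
        rw [hY₁F, Subgroup.mem_bot] at h1
        exact (commutatorElement_eq_one_iff_commute.mp h1).eq.symm
      apply eq_bot_of_no_prime
      intro r hr hrd
      have h1 : r ∣ Nat.card Y := hrd.trans (Subgroup.card_dvd_of_le (hY₁ ▸ inf_le_left))
      have h2 : r ∣ Nat.card (centralizer (A : Set G)) :=
        hrd.trans (Subgroup.card_dvd_of_le hY₁C)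
      exact (hYπ r hr h1).2 ((hprimes r hr).mpr (hCAπ r hr h2))
    -- (ii)
    have hii : ∀ q : ℕ, q.Prime → q ∣ Nat.card F → Y ≤ ppOf q X := by
      intro q hq hqd
      haveI : Fact q.Prime := ⟨hq⟩
      obtain ⟨s, hs, hsd, hsq⟩ := hother q
      haveI : Fact s.Prime := ⟨hs⟩
      have hzs : zOf s M ≤ ppOf q X := by
        apply lemmaA X q (zOf q M) (zOf s M) ((hZsA q hq).trans hAX) ((hZsA s hs).trans hAX)
          (zOf_isPGroup q M) (coprime_of_isPGroup_of_ne hs hq hsq _ (zOf_isPGroup s M))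
        · exact (zOf_le_pCoreOf s M).trans ((pCoreOf_le_centralizer_pCoreOf hs hq hsq M).trans
            (Subgroup.centralizer_le (zOf_le_pCoreOf q M)))
        · exact inf_le_right.trans ((centralizer_zOf_le M hM (hFdef ▸ hqd)).trans
            (le_normalizer_zOf s M))
      have hcop : (Nat.card (zOf s M)).Coprime (Nat.card Y) := by
        have h1 : Nat.card (zOf s M) ∣ Nat.card F :=
          Subgroup.card_dvd_of_le ((hZsA s hs).trans hAF)
        exact Nat.Coprime.coprime_dvd_left h1 hYF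
      have hsolv : Group.IsSolvable ↥(zOf s M) := by
        haveI := (zOf_isPGroup s M).isNilpotent
        infer_instance
      have h1 := Cfsg.Agent.Lib.Helper13.coprime_commutator_sup_centralizer (zOf s M) Y
        ((hZsA s hs).trans hAY) hcop (Or.inl hsolv)
      rw [hi s hs hsd, sup_bot_eq] at h1
      rw [← h1, Subgroup.commutator_le]
      intro y hy z hz
      have h2 : y * z * y⁻¹ ∈ ppOf q X :=
        (Subgroup.mem_normalizer_iff.mp (le_normalizer_ppOf q X (hYX hy)) z).mp (hzs hz)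
      rw [commutatorElement_def]
      exact mul_mem h2 (inv_mem (hzs hz))
    -- (iii)
    obtain ⟨W, hW⟩ : ∃ W, W = ⨅ q : {q : ℕ // q.Prime ∧ q ∣ Nat.card F}, ppOf (q : ℕ) X :=
      ⟨_, rfl⟩
    have hYW : Y ≤ W := by
      rw [hW]
      apply le_iInf
      intro q
      exact hii q q.2.1 q.2.2
    have hWq : ∀ q : ℕ, q.Prime → q ∣ Nat.card F → W ≤ ppOf q X := by
      intro q hq hqd
      rw [hW]
      exact iInf_le (fun q : {q : ℕ // q.Prime ∧ q ∣ Nat.card F} => ppOf (q : ℕ) X) ⟨q, hq, hqd⟩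
    refine hYW.trans (le_piCoreOf _ X W ((hWq p hp.out hpF).trans (ppOf_le p X)) ?_ ?_)
    · intro x hx
      apply mem_normalizer_of_conj_mem'
      intro w hw
      rw [hW, Subgroup.mem_iInf] at hw ⊢
      intro q
      exact (Subgroup.mem_normalizer_iff.mp (le_normalizer_ppOf (q : ℕ) X hx) w).mp (hw q)
    · intro r hr hrd
      refine ⟨hr, ?_⟩
      intro hrA
      have hrF := (hprimes r hr).mp hrA
      have h1 : r ∣ Nat.card (ppOf r X) := hrd.trans (Subgroup.card_dvd_of_le (hWq r hr hrF))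
      have h2 := ppOf_coprime r X
      have h3 : r ∣ Nat.gcd (Nat.card (ppOf r X)) r := Nat.dvd_gcd h1 dvd_rfl
      rw [h2] at h3
      exact hr.one_lt.ne' (Nat.dvd_one.mp h3)
  -- rank of the centre of A
  have hZrank : ¬ Cfsg.RankLE 2 ↥(A ⊓ centralizer (A : Set G)) := by
    apply not_rankLE_two_of_le (p := p) _ A₀ _ hA₀c hA₀exp hA₀3
    refine le_inf hA₀A ?_
    rw [Subgroup.le_centralizer_iff]
    exact hACA₀
  have hinv := no_invariant hG M hM A hA1 (hFdef ▸ hAF) (fun s hs => hFdef ▸ hprimes s hs)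
    hKA hTH hZrank
  rw [← hFdef] at hinv
  -- Bender's theorem
  have hF2 : 2 ≤ (Nat.card F).primeFactors.card := by
    obtain ⟨s, hs, hsd, hsp⟩ := hother p
    have h1 : p ∈ (Nat.card F).primeFactors :=
      Nat.mem_primeFactors.mpr ⟨hp.out, hpF, Nat.card_pos.ne'⟩
    have h2 : s ∈ (Nat.card F).primeFactors :=
      Nat.mem_primeFactors.mpr ⟨hs, hsd, Nat.card_pos.ne'⟩
    have := Finset.one_lt_card.mpr ⟨p, h1, s, h2, fun h => hsp h.symm⟩
    omega
  refine ⟨M, ⟨hM, hAM⟩, ?_⟩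
  rintro L ⟨hL, hAL⟩
  exact bender_uniqueness hG M hM (hFdef ▸ hF2) A (hFdef ▸ hZFA) (hFdef ▸ hinv) L hL hAL

end Cfsg.Agent.Lib.Helper13.Fit81a
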