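import Mathlib
import Cfsg.Agent.Lib.Helper13.Baer
import Cfsg.Agent.Lib.Helper13.GenAxB

/-!
# `p'`-automorphisms fixing the elements of order `p` (helper13)

`omega_fix`: `p` odd, `K` a `p'`-group normalizing the `p`-group `R` and centralizing every `x ∈ R` with
`x ^ p = 1`.  Then `K` centralizes `R`.  (Gorenstein 5.3.10.)
-/

set_option autoImplicit false
set_option linter.style.haveILetI false

universe u

namespace Cfsg.Agent.Lib.Helper13

open scoped commutatorElement
open Subgroup

namespace Baer

variable {R : Type*} [Group R] [Finite R] [hodd : Fact (Odd (Nat.card R))] [hc : Fact (IsClass2 R)]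

theorem ext' {x y : Baer R} (h : x.val = y.val) : x = y := by
  cases x; cases y; congr

theorem nsmul_val (n : ℕ) (x : Baer R) : (n • x).val = x.val ^ n := by
  induction n with
  | zero => rw [zero_smul, pow_zero]; rfl
  | succ n ih =>
    rw [succ_nsmul, add_val, ih]
    unfold add'
    have h1 : ⁅x.val, x.val ^ n⁆ = 1 := by
      rw [commutatorElement_eq_one_iff_commute]
      exact (Commute.refl x.val).pow_right n
    rw [h1, half_one, mul_one, pow_succ]

end Baer

section fix

variable {R : Type*} [Group R] [Finite R]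

/-- abstract form of `omega_fix`. -/
theorem baer_omega_fix (p : ℕ) [hp : Fact p.Prime] (hodd : Odd (Nat.card R)) (hcl : IsClass2 R)
    (hR : IsPGroup p R) (K : Subgroup (MulAut R)) (hK : (Nat.card K).Coprime (Nat.card R))
    (hfix : ∀ x : R, x ^ p = 1 → ∀ k ∈ K, k x = x) :
    ∀ k ∈ K, ∀ x : R, k x = x := by
  classical
  haveI : Fact (Odd (Nat.card R)) := ⟨hodd⟩
  haveI : Fact (IsClass2 R) := ⟨hcl⟩
  haveI : Finite (MulAut R) := Finite.of_injective (fun φ : MulAut R => (φ : R → R))
    (fun φ ψ h => MulEquiv.ext (fun x => congrFun h x))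
  obtain ⟨m, hm⟩ := IsPGroup.iff_card.mp hR
  intro k hk
  by_cases hm0 : m = 0
  · intro x
    rw [hm0, pow_zero] at hm
    haveI : Subsingleton R := (Nat.card_eq_one_iff_unique.mp hm).1
    exact Subsingleton.elim _ _
  have hKp : (Nat.card K).Coprime p := by
    rw [hm] at hK
    exact (Nat.coprime_pow_right_iff (Nat.pos_of_ne_zero hm0) _ _).mp hK
  have hcomp : ∀ (φ ψ : MulAut R) (x : Baer R), Baer.ofAut φ (Baer.ofAut ψ x) = Baer.ofAut (φ * ψ) x :=
    fun φ ψ x => rfl
  have hfixB : ∀ w : Baer R, p • w = 0 → ∀ k' ∈ K, Baer.ofAut k' w = w := by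
    intro w hw k' hk'
    apply Baer.ext'
    rw [Baer.ofAut_val]
    apply hfix _ _ k' hk'
    rw [← Baer.nsmul_val, hw]; rfl
  have key : ∀ j : ℕ, ∀ v : Baer R, (p ^ j) • v = 0 → Baer.ofAut k v = v := by
    intro j
    induction j with
    | zero =>
      intro v hv
      rw [pow_zero, one_smul] at hv
      rw [hv, map_zero]
    | succ j ih =>
      intro v hv
      have hu : (p ^ j) • (p • v) = 0 := by
        rw [← mul_smul, ← pow_succ]; exact hv
      have hφu := ih (p • v) hu
      obtain ⟨w, hwdef⟩ : ∃ w : Baer R, w = Baer.ofAut k v - v := ⟨_, rfl⟩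
      have hpw : p • w = 0 := by
        rw [hwdef, smul_sub, ← map_nsmul, hφu, sub_self]
      have hφv : Baer.ofAut k v = v + w := by rw [hwdef]; abel
      have hiter : ∀ n : ℕ, Baer.ofAut (k ^ n) v = v + n • w := by
        intro n
        induction n with
        | zero =>
          rw [pow_zero, zero_smul, add_zero]
          apply Baer.ext'
          rw [Baer.ofAut_val]; rfl
        | succ n ihn =>
          rw [pow_succ, ← hcomp, hφv, map_add, ihn, hfixB w hpw _ (K.pow_mem hk n), succ_nsmul]
          abel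
      have h1 := hiter (orderOf k)
      rw [pow_orderOf_eq_one] at h1
      have h2 : Baer.ofAut (1 : MulAut R) v = v := by
        apply Baer.ext'
        rw [Baer.ofAut_val]; rfl
      rw [h2] at h1
      have h3 : orderOf k • w = 0 := by
        have := h1.symm
        rwa [add_eq_left] at this
      have h4 : addOrderOf w ∣ orderOf k := addOrderOf_dvd_of_nsmul_eq_zero h3
      have h5 : addOrderOf w ∣ p := addOrderOf_dvd_of_nsmul_eq_zero hpw
      have h6 : orderOf k ∣ Nat.card K := by
        have := orderOf_dvd_natCard (⟨k, hk⟩ : K)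
        rwa [Subgroup.orderOf_mk] at this
      have h7 : addOrderOf w = 1 :=
        Nat.eq_one_of_dvd_coprimes hKp (h4.trans h6) h5
      have h8 : w = 0 := AddMonoid.addOrderOf_eq_one_iff.mp h7
      rw [hφv, h8, add_zero]
  intro x
  have h1 : (p ^ m) • (⟨x⟩ : Baer R) = 0 := by
    rw [← hm, ← Baer.card_eq (R := R)]
    exact card_nsmul_eq_zero'
  have h2 := key m ⟨x⟩ h1
  have h3 := congrArg Baer.val h2
  exact h3

end fix

/-- **`p'`-automorphisms trivial on `Ω₁`** (odd `p`). -/
theorem omega_fix {H : Type u} [Group H] [Finite H] (p : ℕ) [hp : Fact p.Prime] (hp2 : p ≠ 2)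
    (K : Subgroup H) (hK : (Nat.card K).Coprime p) :
    ∀ n : ℕ, ∀ R : Subgroup H, Nat.card R = n → IsPGroup p R → K ≤ normalizer (R : Set H) →
      (∀ x ∈ R, x ^ p = 1 → x ∈ centralizer (K : Set H)) →
      R ≤ centralizer (K : Set H) := by
  intro n
  induction n using Nat.strong_induction_on with
  | _ n ih =>
  intro R hn hR hKR hfix
  have hcopKR : (Nat.card K).Coprime (Nat.card R) := by
    obtain ⟨m, hm⟩ := IsPGroup.iff_card.mp hR
    rw [hm]; exact Nat.Coprime.pow_right m hK
  -- `R₀ = [R, K]`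
  have hR₀R : ⁅R, K⁆ ≤ R := commutator_le_of_le_normalizer R K hKR
  have hR₀K : K ≤ normalizer ((⁅R, K⁆ : Subgroup H) : Set H) :=
    le_sup_right.trans (le_normalizer_commutator R K)
  by_cases hlt : Nat.card ↥⁅R, K⁆ < n
  · have h1 := ih _ hlt ⁅R, K⁆ rfl (hR.to_le hR₀R) hR₀K
      (fun x hx hxp => hfix x (hR₀R hx) hxp)
    have h2 : ⁅⁅R, K⁆, K⁆ = ⊥ := Subgroup.commutator_eq_bot_iff_le_centralizer.mpr h1
    have h3 := Helper20.commutator_eq_bot_of_commutator_commutator_eq_bot p R K hR hK hKR h2
    exact Subgroup.commutator_eq_bot_iff_le_centralizer.mp h3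
  · -- `R = [R, K]`
    have hRK : ⁅R, K⁆ = R := by
      apply Subgroup.eq_of_le_of_card_ge hR₀R
      rw [hn]; omega
    by_cases hRbot : R = ⊥
    · rw [hRbot]; exact bot_le
    -- the derived subgroup is centralized by `K`
    have hR'lt : Nat.card ↥⁅R, R⁆ < n := by
      rw [← hn]
      exact Helper20.card_commutator_lt_of_isPGroup p R R hR hR Subgroup.le_normalizer hRbot
    have hR'R : ⁅R, R⁆ ≤ R := commutator_le_of_le_normalizer R R Subgroup.le_normalizer
    have hR'K : ⁅R, R⁆ ≤ centralizer (K : Set H) :=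
      ih _ hR'lt ⁅R, R⁆ rfl (hR.to_le hR'R)
        (fun k hk => mem_normalizer_commutator (hKR hk) (hKR hk))
        (fun x hx hxp => hfix x (hR'R hx) hxp)
    -- class at most two
    have hcl2 : ⁅R, ⁅R, R⁆⁆ = ⊥ := by
      have h1 : ⁅⁅K, ⁅R, R⁆⁆, R⁆ = ⊥ := by
        have : ⁅K, ⁅R, R⁆⁆ = ⊥ := by
          rw [Subgroup.commutator_comm]
          exact Subgroup.commutator_eq_bot_iff_le_centralizer.mpr hR'K
        rw [this, Subgroup.commutator_bot_left]
      have h2 : ⁅⁅⁅R, R⁆, R⁆, K⁆ = ⊥ := by
        rw [eq_bot_iff]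
        calc ⁅⁅⁅R, R⁆, R⁆, K⁆ ≤ ⁅⁅R, R⁆, K⁆ := Subgroup.commutator_mono
              (commutator_le_of_le_normalizer _ R
                (fun r hr => mem_normalizer_commutator (Subgroup.le_normalizer hr)
                  (Subgroup.le_normalizer hr))) le_rfl
          _ = ⊥ := Subgroup.commutator_eq_bot_iff_le_centralizer.mpr hR'K
      have h3 := Subgroup.commutator_commutator_eq_bot_of_rotate h1 h2
      rw [hRK] at h3
      exact h3
    have hclass : IsClass2 ↥R := by
      intro x y z
      apply Subtype.ext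
      have h1 : (⁅x, y⁆ : ↥R).1 ∈ ⁅R, R⁆ := by
        have : ((⁅x, y⁆ : ↥R) : H) = ⁅(x : H), (y : H)⁆ := by
          simp [commutatorElement_def]
        rw [this]
        exact Subgroup.commutator_mem_commutator x.2 y.2
      have h2 : ⁅R, R⁆ ≤ centralizer (R : Set H) := by
        rw [← Subgroup.commutator_eq_bot_iff_le_centralizer, Subgroup.commutator_comm]
        exact hcl2
      have h3 := Subgroup.mem_centralizer_iff.mp (h2 h1) z z.2
      simpa using h3.symm
    have hodd : Odd (Nat.card R) := by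
      obtain ⟨m, hm⟩ := IsPGroup.iff_card.mp hR
      rw [hm]
      exact (hp.out.odd_of_ne_two hp2).pow
    -- transport to `MulAut R`
    haveI : Finite (MulAut ↥R) := Finite.of_injective (fun φ : MulAut ↥R => (φ : ↥R → ↥R))
      (fun φ ψ h => MulEquiv.ext (fun x => congrFun h x))
    obtain ⟨K', hK'def⟩ : ∃ K' : Subgroup (MulAut ↥R),
        K' = (K.subgroupOf (normalizer (R : Set H))).map (conjAut R) := ⟨_, rfl⟩
    have hK'cop : (Nat.card K').Coprime (Nat.card R) := by
      apply Nat.Coprime.coprime_dvd_left _ hcopKR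
      rw [hK'def]
      exact (Subgroup.card_map_dvd _ _).trans (by rw [card_subgroupOf_of_le hKR])
    have key := baer_omega_fix p hodd hclass hR K' hK'cop (by
      intro x hx k' hk'
      rw [hK'def] at hk'
      obtain ⟨k, hk, rfl⟩ := hk'
      rw [SetLike.mem_coe, Subgroup.mem_subgroupOf] at hk
      have hxp : (x : H) ^ p = 1 := by
        have := congrArg Subtype.val hx
        simpa using this
      have hxK := Subgroup.mem_centralizer_iff.mp (hfix x x.2 hxp) (k : H) hk
      apply Subtype.ext
      rw [conjAut_apply, hxK, mul_inv_cancel_right])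
    intro x hx
    rw [Subgroup.mem_centralizer_iff]
    intro k hk
    have h1 := key (conjAut R ⟨k, hKR hk⟩) (by
      rw [hK'def]
      exact ⟨⟨k, hKR hk⟩, Subgroup.mem_subgroupOf.mpr hk, rfl⟩) ⟨x, hx⟩
    have h2 := congrArg Subtype.val h1
    rw [conjAut_apply] at h2
    calc k * x = k * x * k⁻¹ * k := by group
      _ = x * k := by rw [h2]

end Cfsg.Agent.Lib.Helper13
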