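import Mathlib
import Cfsg.Agent.Lib.Helper13.TransHyp
import Cfsg.Agent.Lib.Helper13.OmegaFix
import Cfsg.Agent.Lib.Helper13.InvPrime
import Cfsg.Agent.Lib.Helper6.PLengthOne

/-!
# Bender–Glauberman §7: criteria for the transitivity hypothesis (helper13)
-/

set_option autoImplicit false
set_option linter.style.haveILetI false

universe u

namespace Cfsg.Agent.Lib.Helper13

open Subgroup
open scoped Pointwise commutatorElement

/-- In a solvable group of `p`-length one (`p` odd), with `B` a `p`-subgroup containing every element of order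
dividing `p` of its centralizer, every `B`-invariant `p'`-subgroup lies in the normal `p'`-subgroup `K₀`. -/
theorem invariant_le_of_plength_one {H : Type u} [Group H] [Finite H] [Group.IsSolvable H] (p : ℕ)
    [hp : Fact p.Prime] (hp2 : p ≠ 2) (K₀ : Subgroup H) [hK₀n : K₀.Normal]
    (hK₀ : (Nat.card K₀).Coprime p) (hcore : Cfsg.pPrimeCore p (H ⧸ K₀) = ⊥)
    (hidx : ¬ p ∣ (Cfsg.pCore p (H ⧸ K₀)).index)
    (B Y : Subgroup H) (hBp : IsPGroup p B)
    (hBfull : ∀ y ∈ centralizer (B : Set H), y ^ p = 1 → y ∈ B)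
    (hY : (Nat.card Y).Coprime p) (hBY : B ≤ normalizer (Y : Set H)) : Y ≤ K₀ := by
  have hK₀nd : ¬ p ∣ Nat.card K₀ := (Nat.Prime.coprime_iff_not_dvd hp.out).mp hK₀.symm
  obtain ⟨π, hπdef⟩ : ∃ π : H →* H ⧸ K₀, π = QuotientGroup.mk' K₀ := ⟨_, rfl⟩
  have hπker : π.ker = K₀ := by rw [hπdef]; exact QuotientGroup.ker_mk' K₀
  obtain ⟨R, hRdef⟩ : ∃ R : Subgroup (H ⧸ K₀), R = Cfsg.pCore p (H ⧸ K₀) := ⟨_, rfl⟩
  haveI hRn : R.Normal := by rw [hRdef]; exact Helper2.pCore_normal p
  have hRp : IsPGroup p R := by rw [hRdef]; exact Helper2.pCore_isPGroup p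
  have hCR : centralizer (R : Set (H ⧸ K₀)) ≤ R := by
    rw [hRdef]; exact Helper20.solvable_centralizer_pCore_le p hcore
  have hBR : B.map π ≤ R := by
    apply Helper6.le_of_normal_of_not_dvd_index R _ (B.map π) (hBp.map π)
    rw [hRdef]; exact hidx
  have hYbar : (Nat.card (Y.map π)).Coprime p :=
    Nat.Coprime.coprime_dvd_left (Subgroup.card_map_dvd Y π) hY
  have hBYbar : B.map π ≤ normalizer ((Y.map π : Subgroup (H ⧸ K₀)) : Set (H ⧸ K₀)) :=
    (Subgroup.map_mono hBY).trans (Subgroup.le_normalizer_map π)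
  have hdisj : ∀ x : H ⧸ K₀, x ∈ R → x ∈ Y.map π → x = 1 := by
    intro x hxR hxK
    have h1 : orderOf x ∣ Nat.card (Y.map π) := Subgroup.orderOf_dvd_natCard _ hxK
    obtain ⟨j, hj⟩ := (IsPGroup.iff_orderOf.mp hRp) ⟨x, hxR⟩
    have h2 : orderOf x = p ^ j := by rw [← hj]; exact (Subgroup.orderOf_mk x hxR).symm
    have h3 : orderOf x = 1 := by
      apply Nat.eq_one_of_dvd_coprimes (hYbar.pow_right j) h1
      rw [h2]
    exact orderOf_eq_one_iff.mp h3
  -- (a) `Ȳ` centralizes `B̄`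
  have hYB : Y.map π ≤ centralizer ((B.map π : Subgroup (H ⧸ K₀)) : Set (H ⧸ K₀)) := by
    intro y hy
    rw [Subgroup.mem_centralizer_iff]
    intro b hb
    have h1 : ⁅b, y⁆ ∈ R := by
      rw [commutatorElement_def]
      have : b * y * b⁻¹ * y⁻¹ = b * (y * b⁻¹ * y⁻¹) := by group
      rw [this]
      exact R.mul_mem (hBR hb) (hRn.conj_mem _ (R.inv_mem (hBR hb)) y)
    have h2 : ⁅b, y⁆ ∈ Y.map π := by
      rw [commutatorElement_def]
      exact Subgroup.mul_mem _
        ((Subgroup.mem_normalizer_iff.mp (hBYbar hb) y).mp hy) (Subgroup.inv_mem _ hy)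
    have h3 := hdisj _ h1 h2
    exact (commutatorElement_eq_one_iff_commute.mp h3).eq
  have hBYc : B.map π ≤ centralizer ((Y.map π : Subgroup (H ⧸ K₀)) : Set (H ⧸ K₀)) := by
    intro b hb
    rw [Subgroup.mem_centralizer_iff]
    intro y hy
    exact (Subgroup.mem_centralizer_iff.mp (hYB hy) b hb).symm
  -- (b), (c), (d)
  obtain ⟨C, hCdef⟩ : ∃ C : Subgroup (H ⧸ K₀),
      C = R ⊓ centralizer ((B.map π : Subgroup (H ⧸ K₀)) : Set (H ⧸ K₀)) := ⟨_, rfl⟩
  have hYR : Y.map π ≤ normalizer (R : Set (H ⧸ K₀)) := by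
    rw [Subgroup.normalizer_eq_top R]; exact le_top
  have hBRn : B.map π ≤ normalizer (R : Set (H ⧸ K₀)) := by
    rw [Subgroup.normalizer_eq_top R]; exact le_top
  have hYC : Y.map π ≤ normalizer (C : Set (H ⧸ K₀)) := by
    rw [hCdef]
    exact le_normalizer_inf hYR (hYB.trans Subgroup.le_normalizer)
  have hCfix : ∀ x ∈ C, x ^ p = 1 →
      x ∈ centralizer ((Y.map π : Subgroup (H ⧸ K₀)) : Set (H ⧸ K₀)) := by
    intro x hxC hxp
    apply hBYc
    rw [hCdef] at hxC
    have hxC' : x ∈ (centralizer (B : Set H)).map (QuotientGroup.mk' K₀) := by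
      rw [← Helper20.centralizer_map_mk'_of_coprime p K₀ hK₀nd B hBp, ← hπdef]
      exact hxC.2
    rw [← hπdef] at hxC'
    obtain ⟨y, hyC, rfl⟩ := hxC'
    have hj' : (π y) ^ p ^ 1 = 1 := by rw [pow_one]; exact hxp
    obtain ⟨e, he1, he2⟩ := exists_pow_isPGroup p π y 1 hj'
    have hyeC : y ^ e ∈ centralizer (B : Set H) := Subgroup.pow_mem _ hyC e
    have hyep : (y ^ e) ^ p = 1 := by
      have h1 : (y ^ e) ^ p ∈ K₀ := by
        rw [← hπker, MonoidHom.mem_ker, map_pow, he1]; exact hxp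
      have h2 : orderOf ((y ^ e) ^ p) ∣ Nat.card K₀ := Subgroup.orderOf_dvd_natCard _ h1
      obtain ⟨i, hi⟩ := (IsPGroup.iff_orderOf.mp he2) ⟨y ^ e, Subgroup.mem_zpowers _⟩
      have h3 : orderOf (y ^ e) = p ^ i := by
        rw [← hi]; exact (Subgroup.orderOf_mk _ _).symm
      have h4 : orderOf ((y ^ e) ^ p) ∣ p ^ i := by
        rw [← h3]; exact orderOf_pow_dvd p
      have h5 : orderOf ((y ^ e) ^ p) = 1 :=
        Nat.eq_one_of_dvd_coprimes (hK₀.pow_right i) h2 h4
      exact orderOf_eq_one_iff.mp h5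
    have hyeB : y ^ e ∈ B := hBfull _ hyeC hyep
    rw [← he1]; exact Subgroup.mem_map_of_mem π hyeB
  have hCY : C ≤ centralizer ((Y.map π : Subgroup (H ⧸ K₀)) : Set (H ⧸ K₀)) :=
    omega_fix p hp2 (Y.map π) hYbar _ C rfl (hRp.to_le (hCdef ▸ inf_le_left)) hYC hCfix
  -- (e)
  have hRY : ⁅R, Y.map π⁆ = ⊥ := by
    apply Helper20.thompson_AxB p R (Y.map π) (B.map π) hRp (hBp.map π) hYbar
    · rw [Subgroup.commutator_eq_bot_iff_le_centralizer]; exact hYB
    · exact hYR
    · exact hBRn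
    · rw [← hCdef]; exact hCY
  -- (f)
  have hYcR : Y.map π ≤ R := by
    refine le_trans ?_ hCR
    rw [← Subgroup.commutator_eq_bot_iff_le_centralizer, Subgroup.commutator_comm]
    exact hRY
  intro k hk
  have h1 : π k = 1 :=
    hdisj _ (hYcR (Subgroup.mem_map_of_mem π hk)) (Subgroup.mem_map_of_mem π hk)
  rw [← hπker, MonoidHom.mem_ker]
  exact h1

section

variable {G : Type u} [Group G] [Finite G]

/-- reduction of the transitivity hypothesis for a `p`-subgroup to containment in normal `p'`-subgroups. -/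
theorem transHyp_of_forall (hG : Cfsg.IsMinSimpleOddOrder G) (p : ℕ) [hp : Fact p.Prime]
    (A : Subgroup G) (hAp : IsPGroup p A) (hA1 : A ≠ ⊥)
    (h : ∀ X : Subgroup G, X ≠ ⊤ → A ≤ X → ∀ Y : Subgroup G, Y ≤ X → (Nat.card Y).Coprime p →
      A ≤ normalizer (Y : Set G) → ∃ N : Subgroup G, N ≤ X ∧ X ≤ normalizer (N : Set G) ∧
        (Nat.card N).Coprime p ∧ Y ≤ N) :
    Cfsg.TransitivityHypothesis A := by
  haveI hsimple : IsSimpleGroup G := hG.2.1
  obtain ⟨k, hk⟩ := hAp.exists_card_eq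
  have hk0 : k ≠ 0 := by
    rintro rfl
    rw [pow_zero] at hk
    exact hA1 (Subgroup.card_eq_one.mp hk)
  have hmemπ : ∀ r : ℕ, r.Prime → (r ∈ Cfsg.primesNotDvd (Nat.card A) ↔ r ≠ p) := by
    intro r hr
    constructor
    · rintro ⟨-, h1⟩ rfl
      apply h1; rw [hk]; exact dvd_pow_self r hk0
    · intro hne
      refine ⟨hr, ?_⟩
      intro hd
      rw [hk] at hd
      exact hne (Nat.prime_eq_prime_of_dvd_pow hr hp.out hd)
  have hcop_of : ∀ Y : Subgroup G,
      (∀ r : ℕ, r.Prime → r ∣ Nat.card Y → r ∈ Cfsg.primesNotDvd (Nat.card A)) →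
      (Nat.card Y).Coprime p := by
    intro Y hY
    rw [Nat.coprime_comm, Nat.Prime.coprime_iff_not_dvd hp.out]
    intro hd
    exact (hmemπ p hp.out).mp (hY p hp.out hd) rfl
  have hprimes_of : ∀ Y : Subgroup G, (Nat.card Y).Coprime p →
      (∀ r : ℕ, r.Prime → r ∣ Nat.card Y → r ∈ Cfsg.primesNotDvd (Nat.card A)) := by
    intro Y hY r hr hrd
    rw [hmemπ r hr]
    rintro rfl
    exact (Nat.Prime.coprime_iff_not_dvd hr).mp hY.symm hrd
  refine ⟨hA1, ?_, ?_⟩
  · intro htop
    have hGp : IsPGroup p G := by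
      intro g
      obtain ⟨j, hj⟩ := hAp ⟨g, htop ▸ Subgroup.mem_top g⟩
      refine ⟨j, ?_⟩
      have := congrArg Subtype.val hj
      simpa using this
    haveI : Group.IsNilpotent G := hGp.isNilpotent
    have hs : Group.IsSolvable G := inferInstance
    have hcomm := IsSimpleGroup.comm_iff_isSolvable.mpr hs
    exact hG.2.2.1 ⟨⟨hcomm⟩⟩
  · intro X hX hAX
    apply le_antisymm
    · apply sSup_le
      rintro Y ⟨hYX, hYπ, hAY⟩
      obtain ⟨N, hNX, hXN, hNcop, hYN⟩ := h X hX hAX Y hYX (hcop_of Y hYπ) hAY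
      exact hYN.trans (le_piCoreOf _ X N hNX hXN (hprimes_of N hNcop))
    · apply le_sSup
      exact ⟨piCoreOf_le _ X, piCoreOf_primes _ X, hAX.trans (le_normalizer_piCoreOf _ X)⟩

theorem odd_prime_of_dvd (hG : Cfsg.IsMinSimpleOddOrder G) (p : ℕ) [hp : Fact p.Prime]
    (A : Subgroup G) (hAp : IsPGroup p A) (hA1 : A ≠ ⊥) : p ≠ 2 := by
  rintro rfl
  obtain ⟨k, hk⟩ := hAp.exists_card_eq
  have hk0 : k ≠ 0 := by
    rintro rfl
    rw [pow_zero] at hk
    exact hA1 (Subgroup.card_eq_one.mp hk)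
  have h1 : 2 ∣ Nat.card G := by
    have h2 : Nat.card A ∣ Nat.card G := Subgroup.card_subgroup_dvd_card A
    rw [hk] at h2
    exact (dvd_pow_self 2 hk0).trans h2
  have h3 := hG.1
  rw [Nat.odd_iff] at h3
  omega

/-- **criterion (2)**: a nontrivial `p`-subgroup containing every `p`-element of its centralizer. -/
theorem transHyp_of_full (hG : Cfsg.IsMinSimpleOddOrder G) (p : ℕ) [hp : Fact p.Prime]
    (A : Subgroup G) (hAp : IsPGroup p A) (hA1 : A ≠ ⊥)
    (hfull : ∀ y ∈ centralizer (A : Set G), IsPGroup p (zpowers y) → y ∈ A) :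
    Cfsg.TransitivityHypothesis A := by
  have hp2 := odd_prime_of_dvd hG p A hAp hA1
  apply transHyp_of_forall hG p A hAp hA1
  intro X hX hAX Y hYX hYcop hAY
  haveI hXs : Group.IsSolvable X := hG.2.2.2 X hX
  obtain ⟨N, hNdef⟩ : ∃ N : Subgroup G, N = (Cfsg.pPrimeCore p X).map X.subtype := ⟨_, rfl⟩
  have hXN : X ≤ normalizer (N : Set G) := by
    haveI : (Cfsg.pPrimeCore p X).Normal := Helper2.pPrimeCore_normal p
    have h1 := Subgroup.le_normalizer_map (H := Cfsg.pPrimeCore p X) X.subtype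
    rw [Subgroup.normalizer_eq_top, ← MonoidHom.range_eq_map, Subgroup.range_subtype] at h1
    rw [hNdef]; exact h1
  have hNcop : (Nat.card N).Coprime p := by
    rw [hNdef, Subgroup.card_map_of_injective X.subtype_injective]
    exact Helper2.pPrimeCore_coprime p
  refine ⟨N, hNdef ▸ Subgroup.map_subtype_le _, hXN, hNcop, ?_⟩
  have hcore : Y.subgroupOf X ≤ Cfsg.pPrimeCore p X := by
    apply invariant_le_pPrimeCore p hp2 (A.subgroupOf X) (Y.subgroupOf X)
    · exact hAp.comap_subtype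
    · intro y hy hyp
      rw [Subgroup.mem_subgroupOf]
      apply hfull
      · rw [Subgroup.mem_centralizer_iff]
        intro h hh
        have h1 : (⟨h, hAX hh⟩ : X) ∈ ((A.subgroupOf X : Subgroup X) : Set X) := by
          rw [SetLike.mem_coe, Subgroup.mem_subgroupOf]; exact hh
        have h2 := Subgroup.mem_centralizer_iff.mp hy _ h1
        exact congrArg Subtype.val h2
      · have h3 : zpowers (y : G) = (zpowers y).map X.subtype := by
          rw [MonoidHom.map_zpowers]; rfl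
        rw [h3]; exact hyp.map _
    · rw [card_subgroupOf_of_le hYX]; exact hYcop
    · intro x hx
      rw [Subgroup.mem_subgroupOf] at hx
      rw [Subgroup.mem_normalizer_iff]
      intro y
      rw [Subgroup.mem_subgroupOf, Subgroup.mem_subgroupOf]
      have := Subgroup.mem_normalizer_iff.mp (hAY hx) (y : G)
      simpa using this
  intro x hx
  rw [hNdef]
  refine ⟨⟨x, hYX hx⟩, ?_, rfl⟩
  apply hcore
  rw [Subgroup.mem_subgroupOf]; exact hx

/-- **criterion (1)**: `A` contains every element of order dividing `p` of its centralizer, and proper subgroups have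
`p`-length at most one. -/
theorem transHyp_of_plength_one (hG : Cfsg.IsMinSimpleOddOrder G) (p : ℕ) [hp : Fact p.Prime]
    (A : Subgroup G) (hAp : IsPGroup p A) (hA1 : A ≠ ⊥)
    (hfull : ∀ y ∈ centralizer (A : Set G), y ^ p = 1 → y ∈ A)
    (hpl : ∀ H : Subgroup G, H ≠ ⊤ → Cfsg.PLengthLE p 1 H) :
    Cfsg.TransitivityHypothesis A := by
  have hp2 := odd_prime_of_dvd hG p A hAp hA1
  apply transHyp_of_forall hG p A hAp hA1
  intro X hX hAX Y hYX hYcop hAY
  haveI hXs : Group.IsSolvable X := hG.2.2.2 X hX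
  obtain ⟨K₀, hK₀n, hK₀cop, hcore, hidx⟩ := Helper6.plength_one_quot (hpl X hX)
  haveI := hK₀n
  obtain ⟨N, hNdef⟩ : ∃ N : Subgroup G, N = K₀.map X.subtype := ⟨_, rfl⟩
  have hXN : X ≤ normalizer (N : Set G) := by
    have h1 := Subgroup.le_normalizer_map (H := K₀) X.subtype
    rw [Subgroup.normalizer_eq_top, ← MonoidHom.range_eq_map, Subgroup.range_subtype] at h1
    rw [hNdef]; exact h1
  have hNcop : (Nat.card N).Coprime p := by
    rw [hNdef, Subgroup.card_map_of_injective X.subtype_injective]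
    exact hK₀cop
  refine ⟨N, hNdef ▸ Subgroup.map_subtype_le _, hXN, hNcop, ?_⟩
  have hcoreY : Y.subgroupOf X ≤ K₀ := by
    apply invariant_le_of_plength_one p hp2 K₀ hK₀cop hcore hidx (A.subgroupOf X) (Y.subgroupOf X)
    · exact hAp.comap_subtype
    · intro y hy hyp
      rw [Subgroup.mem_subgroupOf]
      apply hfull
      · rw [Subgroup.mem_centralizer_iff]
        intro h hh
        have h1 : (⟨h, hAX hh⟩ : X) ∈ ((A.subgroupOf X : Subgroup X) : Set X) := by
          rw [SetLike.mem_coe, Subgroup.mem_subgroupOf]; exact hh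
        have h2 := Subgroup.mem_centralizer_iff.mp hy _ h1
        exact congrArg Subtype.val h2
      · have := congrArg Subtype.val hyp
        simpa using this
    · rw [card_subgroupOf_of_le hYX]; exact hYcop
    · intro x hx
      rw [Subgroup.mem_subgroupOf] at hx
      rw [Subgroup.mem_normalizer_iff]
      intro y
      rw [Subgroup.mem_subgroupOf, Subgroup.mem_subgroupOf]
      have := Subgroup.mem_normalizer_iff.mp (hAY hx) (y : G)
      simpa using this
  intro x hx
  rw [hNdef]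
  refine ⟨⟨x, hYX hx⟩, ?_, rfl⟩
  apply hcoreY
  rw [Subgroup.mem_subgroupOf]; exact hx

end

end Cfsg.Agent.Lib.Helper13
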