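import Mathlib
import Cfsg.Prelude.Def_OddOrder
import Cfsg.Prelude.Def_OddOrderLocal
import Cfsg.Prelude.Def_Transfer
import Cfsg.Agent.Lib.Helper13.Fit81a
import Cfsg.Agent.Lib.Helper13.OddZJ
import Cfsg.Agent.S1396

/-!
# Bender–Glauberman Theorem 8.1(b)
-/

set_option autoImplicit false

namespace Cfsg.Agent.Lib.Helper13.Fit81b

open Subgroup Cfsg.Agent.Lib.Helper20 Cfsg.Agent.Lib.Helper13.BenderA
  Cfsg.Agent.Lib.Helper13.BenderB Cfsg.Agent.Lib.Helper13.BenderC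
  Cfsg.Agent.Lib.Helper13.FitBasics Cfsg.Agent.Lib.Helper13 Cfsg.Agent.Lib.Helper13.Fit81a
  Cfsg.Agent.Lib.Helper13.OddZJ Cfsg.Agent.Lib.Helper15
  Cfsg.Agent.Lib.Lead.GlaubermanRepl Cfsg.Agent.Lib.Lead.PLocalZJ
open scoped commutatorElement Pointwise

universe u

variable {G : Type u} [Group G] [Finite G]

/-- the normalizer of a nontrivial `p`-subgroup of a minimal simple group is proper -/
theorem normalizer_ne_top_of_isPGroup (hG : Cfsg.IsMinSimpleOddOrder G) (p : ℕ) [hp : Fact p.Prime]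
    (X : Subgroup G) (hXp : IsPGroup p X) (hX1 : X ≠ ⊥) : normalizer (X : Set G) ≠ ⊤ := by
  intro htop
  haveI hsimple : IsSimpleGroup G := hG.2.1
  have hn : X.Normal := by rw [← Subgroup.normalizer_eq_top_iff]; exact htop
  rcases hn.eq_bot_or_eq_top with h1 | h1
  · exact hX1 h1
  · have hGp : IsPGroup p G := by
      intro g
      obtain ⟨j, hj⟩ := hXp ⟨g, h1 ▸ Subgroup.mem_top g⟩
      refine ⟨j, ?_⟩
      have := congrArg Subtype.val hj
      simpa using this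
    haveI : Group.IsNilpotent G := hGp.isNilpotent
    have hs : Group.IsSolvable G := inferInstance
    have hcomm := IsSimpleGroup.comm_iff_isSolvable.mpr hs
    exact hG.2.2.1 ⟨⟨hcomm⟩⟩

/-- prime divisors of the order of a nontrivial `p`-group -/
theorem prime_dvd_card_iff {p : ℕ} [hp : Fact p.Prime] (X : Subgroup G) (hXp : IsPGroup p X)
    (hX1 : X ≠ ⊥) (s : ℕ) (hs : s.Prime) : s ∣ Nat.card X ↔ s = p := by
  obtain ⟨n, hn⟩ := IsPGroup.iff_card.mp hXp
  have hn0 : n ≠ 0 := by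
    rintro rfl
    rw [pow_zero] at hn
    exact hX1 (Subgroup.card_eq_one.mp hn)
  rw [hn]
  constructor
  · intro h
    exact (Nat.prime_dvd_prime_iff_eq hs hp.out).mp (hs.dvd_of_dvd_pow h)
  · rintro rfl
    exact dvd_pow_self s hn0

theorem exists_coatom_ge (X : Subgroup G) (hX : X ≠ ⊤) : ∃ H : Subgroup G, IsCoatom H ∧ X ≤ H := by
  rcases eq_top_or_exists_le_coatom X with h | h
  · exact absurd h hX
  · exact h

/-- the common setting of Theorem 8.1(b): `F(M)` is a nontrivial `p`-group -/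
structure Setting (M : Subgroup G) (p : ℕ) : Prop where
  hG : Cfsg.IsMinSimpleOddOrder G
  hM : IsCoatom M
  hF1 : Cfsg.fittingOf M ≠ ⊥
  hFp : IsPGroup p ↥(Cfsg.fittingOf M)

section

variable {M : Subgroup G} {p : ℕ} [hp : Fact p.Prime]

theorem Setting.p_dvd (h : Setting M p) : p ∣ Nat.card (Cfsg.fittingOf M) :=
  (prime_dvd_card_iff _ h.hFp h.hF1 p hp.out).mpr rfl

theorem Setting.p_ne_two (h : Setting M p) : p ≠ 2 := by
  rintro rfl
  have h1 : 2 ∣ Nat.card G := h.p_dvd.trans (Subgroup.card_subgroup_dvd_card _)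
  exact (Nat.not_even_iff_odd.mpr h.hG.1) (even_iff_two_dvd.mpr h1)

theorem Setting.odd (h : Setting M p) (X : Subgroup G) : Odd (Nat.card X) := odd_subgroup h.hG.1 X

theorem Setting.solvable (h : Setting M p) : Group.IsSolvable ↥M := h.hG.2.2.2 M h.hM.1

theorem Setting.ppOf_eq_bot (h : Setting M p) : ppOf p M = ⊥ := by
  haveI := h.solvable
  have h1 : ppOf p M ≤ centralizer ((Cfsg.fittingOf M : Subgroup G) : Set G) := by
    apply le_centralizer_of_mutually_normalizing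
    · exact (ppOf_le p M).trans (le_normalizer_fittingOf M)
    · exact (fittingOf_le M).trans (le_normalizer_ppOf p M)
    · rw [inf_comm]
      exact inf_eq_bot_of_isPGroup_of_coprime p _ _ h.hFp (ppOf_coprime p M)
  have h2 : ppOf p M ≤ Cfsg.fittingOf M :=
    (le_inf (ppOf_le p M) h1).trans (inf_centralizer_fittingOf_le M)
  have h3 : ppOf p M ≤ Cfsg.fittingOf M ⊓ ppOf p M := le_inf h2 le_rfl
  rw [inf_eq_bot_of_isPGroup_of_coprime p _ _ h.hFp (ppOf_coprime p M)] at h3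
  exact le_bot_iff.mp h3

theorem Setting.fitting_le_sylow (h : Setting M p) (R : Subgroup G) (hR : IsSylowOf p M R) :
    Cfsg.fittingOf M ≤ R := by
  have h1 : Cfsg.fittingOf M ≤ Cfsg.pCoreOf p M :=
    le_pCoreOf p M _ (fittingOf_le M) (le_normalizer_fittingOf M) h.hFp
  obtain ⟨S, rfl⟩ := hR
  refine h1.trans ?_
  unfold Cfsg.pCoreOf
  exact Subgroup.map_mono (Cfsg.Agent.Lib.Helper16.pCore_le_sylow S)

theorem Setting.normalizer_ZJ (h : Setting M p) (R : Subgroup G) (hR : IsSylowOf p M R) :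
    normalizer ((ZJ R : Subgroup G) : Set G) = M := by
  haveI := h.solvable
  haveI : IsSimpleGroup G := h.hG.2.1
  have hR1 : R ≠ ⊥ := fun hb => h.hF1 (le_bot_iff.mp (hb ▸ h.fitting_le_sylow R hR))
  exact normalizer_eq_of_isCoatom M h.hM (ZJ R) (ZJ_ne_bot hR.isPGroup hR1)
    ((ZJ_le R).trans hR.le) (le_normalizer_ZJ M (h.odd M) p h.p_ne_two h.ppOf_eq_bot R hR)

/-- a Sylow `p`-subgroup of `M` is a maximal `p`-subgroup of `G` -/
theorem Setting.sylow_max (h : Setting M p) (R : Subgroup G) (hR : IsSylowOf p M R)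
    (S : Subgroup G) (hS : IsPGroup p S) (hRS : R ≤ S) : S = R := by
  by_contra hne
  have hlt : R < S := lt_of_le_of_ne hRS (fun e => hne e.symm)
  have h1 := lt_inf_normalizer_of_lt S R hS hlt
  have h2 : S ⊓ normalizer (R : Set G) ≤ M :=
    inf_le_right.trans ((normalizer_le_normalizer_ZJ R).trans (h.normalizer_ZJ R hR).le)
  have h3 := IsSylowOf.eq_of_le hR (hS.to_le inf_le_left) h2 h1.le
  exact absurd h3 (ne_of_gt h1)

theorem Setting.not_dvd_index (h : Setting M p) (R : Subgroup G) (hR : IsSylowOf p M R) :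
    ¬ p ∣ R.index := by
  obtain ⟨Q, hQ⟩ := hR.isPGroup.exists_le_sylow
  have h1 := h.sylow_max R hR Q Q.isPGroup' hQ
  rw [← h1]
  exact Q.not_dvd_index

theorem Setting.scn_le (h : Setting M p) (R : Subgroup G) (hR : IsSylowOf p M R)
    (A : Subgroup G) (hA : Cfsg.IsSCN R A) : A ≤ Cfsg.fittingOf M := by
  haveI := h.solvable
  obtain ⟨hAR, hRA, hRC⟩ := hA
  have hAc : ∀ a ∈ A, ∀ b ∈ A, a * b = b * a := by
    intro a ha b hb
    have h1 : b ∈ R ⊓ centralizer (A : Set G) := by rw [hRC]; exact hb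
    exact Subgroup.mem_centralizer_iff.mp (Subgroup.mem_inf.mp h1).2 a ha
  exact (abelian_normal_le_pCoreOf M (h.odd M) p h.p_ne_two h.ppOf_eq_bot R hR A hAR hAc hRA).trans
    (pCoreOf_le_fittingOf hp.out M)

/-- **BG Theorem 8.1(b)**, the uniqueness part. -/
theorem Setting.scn_unique (h : Setting M p) (R : Subgroup G) (hR : IsSylowOf p M R)
    (A : Subgroup G) (hA : Cfsg.IsSCN R A) (hA3 : ¬ Cfsg.PRankLE p 2 ↥A) :
    Cfsg.InUniqueMaximal A := by
  classical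
  have hG := h.hG
  have hM := h.hM
  haveI hsimple : IsSimpleGroup G := hG.2.1
  haveI hMs := h.solvable
  have hp2 := h.p_ne_two
  have hAF := h.scn_le R hR A hA
  obtain ⟨hAR, hRA, hRC⟩ := hA
  obtain ⟨F, hFdef⟩ : ∃ F, F = Cfsg.fittingOf M := ⟨_, rfl⟩
  have hFp : IsPGroup p F := hFdef ▸ h.hFp
  have hF1 : F ≠ ⊥ := hFdef ▸ h.hF1
  have hFR : F ≤ R := hFdef ▸ h.fitting_le_sylow R hR
  have hFM : F ≤ M := hFdef ▸ fittingOf_le M
  rw [← hFdef] at hAF
  have hAM : A ≤ M := hAF.trans hFM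
  have hAp : IsPGroup p A := hFp.to_le hAF
  have hAcent : A ≤ centralizer (A : Set G) := by
    intro a ha
    have h1 : a ∈ R ⊓ centralizer (A : Set G) := by rw [hRC]; exact ha
    exact (Subgroup.mem_inf.mp h1).2
  have hAc : ∀ a ∈ A, ∀ b ∈ A, a * b = b * a := by
    intro a ha b hb
    exact Subgroup.mem_centralizer_iff.mp (hAcent hb) a ha
  have hA1 : A ≠ ⊥ := by
    intro hbot
    apply hA3
    intro E _ _
    have hsub : Subsingleton ↥A := by rw [hbot]; infer_instance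
    have : Nat.card ↥E = 1 := Nat.card_eq_one_iff_unique.mpr ⟨inferInstance, ⟨1⟩⟩
    rw [this]
    exact Nat.one_le_two_pow.trans (Nat.pow_le_pow_left hp.out.two_le 2)
  have hpF : p ∣ Nat.card F := (prime_dvd_card_iff F hFp hF1 p hp.out).mpr rfl
  have hpG : p ∣ Nat.card G := hpF.trans (Subgroup.card_subgroup_dvd_card _)
  -- R as a Sylow subgroup of G
  obtain ⟨Q, hQ⟩ := hR.isPGroup.exists_le_sylow
  have hQR : (Q : Subgroup G) = R := h.sylow_max R hR Q Q.isPGroup' hQ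
  have hTH : Cfsg.TransitivityHypothesis A := by
    apply Cfsg.Agent.S1396.result hG p hpG A hAp ⟨⟨fun a b => Subtype.ext (hAc a a.2 b b.2)⟩⟩
    refine Or.inr ⟨Q, ⟨hQR ▸ hAR, hQR ▸ hRA, hQR ▸ hRC⟩, ?_⟩
    intro h1
    apply hA3
    intro E hE1 hE2
    exact (h1 E hE1 hE2).trans (Nat.pow_le_pow_right hp.out.pos (by norm_num))
  have hprimes : ∀ s : ℕ, s.Prime → (s ∣ Nat.card A ↔ s ∣ Nat.card (Cfsg.fittingOf M)) := by
    intro s hs
    rw [prime_dvd_card_iff A hAp hA1 s hs, ← hFdef, prime_dvd_card_iff F hFp hF1 s hs]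
  -- C(A) ≤ M
  have hzA : zOf p M ≤ A := by
    have h1 := zOf_le_center_fittingOf hp.out M
    rw [← hFdef] at h1
    refine h1.trans (le_trans ?_ hRC.le)
    exact le_inf (inf_le_left.trans hFR) (inf_le_right.trans (Subgroup.centralizer_le hAF))
  have hCAM : centralizer (A : Set G) ≤ M :=
    (Subgroup.centralizer_le hzA).trans (centralizer_zOf_le M hM (hFdef ▸ hpF))
  have hKA : Cfsg.piCoreOf (Cfsg.primesNotDvd (Nat.card A)) (centralizer (A : Set G)) = ⊥ := by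
    obtain ⟨K, hK⟩ : ∃ K, K = Cfsg.piCoreOf (Cfsg.primesNotDvd (Nat.card A))
      (centralizer (A : Set G)) := ⟨_, rfl⟩
    rw [← hK]
    have hKC : K ≤ centralizer (A : Set G) := hK ▸ piCoreOf_le _ _
    have hKcop : (Nat.card K).Coprime p := by
      rw [Nat.coprime_comm, Nat.Prime.coprime_iff_not_dvd hp.out]
      intro hd
      have h1 := piCoreOf_primes (Cfsg.primesNotDvd (Nat.card A)) (centralizer (A : Set G)) p
        hp.out (hK ▸ hd)
      exact h1.2 ((prime_dvd_card_iff A hAp hA1 p hp.out).mpr rfl)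
    have hMF : M ≤ normalizer ((F : Subgroup G) : Set G) := hFdef ▸ le_normalizer_fittingOf M
    have hcomm : ⁅F, K⁆ = ⊥ := by
      apply thompson_AxB p F K A hFp hAp hKcop
      · rw [Subgroup.commutator_eq_bot_iff_le_centralizer]; exact hKC
      · exact (hKC.trans hCAM).trans hMF
      · exact hAM.trans hMF
      · have h1 : F ⊓ centralizer (A : Set G) ≤ A :=
          (inf_le_inf_right _ hFR).trans hRC.le
        refine h1.trans ?_
        rw [Subgroup.le_centralizer_iff]; exact hKC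
    have hKF : K ≤ centralizer ((F : Subgroup G) : Set G) := by
      rw [Subgroup.commutator_comm, Subgroup.commutator_eq_bot_iff_le_centralizer] at hcomm
      exact hcomm
    have h1 : K ≤ F := by
      have := inf_centralizer_fittingOf_le M
      rw [← hFdef] at this
      exact (le_inf (hKC.trans hCAM) hKF).trans this
    have h2 : K ≤ F ⊓ K := le_inf h1 le_rfl
    rw [inf_eq_bot_of_isPGroup_of_coprime p F K hFp hKcop] at h2
    exact le_bot_iff.mp h2
  have hZrank : ¬ Cfsg.RankLE 2 ↥(A ⊓ centralizer (A : Set G)) := by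
    rw [inf_eq_left.mpr hAcent]
    intro hr
    exact hA3 (hr p hp.out)
  have hinv := no_invariant hG M hM A hA1 (hFdef ▸ hAF) hprimes hKA hTH hZrank
  rw [← hFdef] at hinv
  -- O_{p'}(H) = 1 for H ⊇ A
  have hOH : ∀ H : Subgroup G, A ≤ H → ppOf p H = ⊥ := by
    intro H hAH
    apply hinv
    refine ⟨le_top, ?_, hAH.trans (le_normalizer_ppOf p H)⟩
    intro r hr hrd
    refine ⟨hr, ?_⟩
    rw [prime_dvd_card_iff F hFp hF1 r hr]
    rintro rfl
    have h2 := ppOf_coprime r H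
    have h3 : r ∣ Nat.gcd (Nat.card (ppOf r H)) r := Nat.dvd_gcd hrd dvd_rfl
    rw [h2] at h3
    exact hr.one_lt.ne' (Nat.dvd_one.mp h3)
  refine ⟨M, ⟨hM, hAM⟩, ?_⟩
  rintro L ⟨hL, hAL⟩
  by_contra hLM
  -- a maximal pair
  let α := {HR : Subgroup G × Subgroup G // IsCoatom HR.1 ∧ HR.1 ≠ M ∧ A ≤ HR.2 ∧
    HR.2 ≤ HR.1 ⊓ M ∧ IsPGroup p HR.2}
  haveI : Nonempty α := ⟨⟨(L, A), hL, hLM, le_rfl, le_inf hAL hAM, hAp⟩⟩
  obtain ⟨⟨⟨H, R₀⟩, hH, hHM, hAR₀, hR₀HM, hR₀p⟩, hmax⟩ :=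
    Finite.exists_max (fun x : α => Nat.card (x.1.2 : Subgroup G))
  simp only at hH hHM hAR₀ hR₀HM hR₀p
  have hmax' : ∀ (H' R' : Subgroup G), IsCoatom H' → H' ≠ M → A ≤ R' → R' ≤ H' ⊓ M →
      IsPGroup p R' → Nat.card R' ≤ Nat.card R₀ := by
    intro H' R' h1 h2 h3 h4 h5
    exact hmax ⟨(H', R'), h1, h2, h3, h4, h5⟩
  haveI hHs : Group.IsSolvable ↥H := hG.2.2.2 H hH.1
  have hR₀H : R₀ ≤ H := hR₀HM.trans inf_le_left
  have hR₀M : R₀ ≤ M := hR₀HM.trans inf_le_right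
  have hAH : A ≤ H := hAR₀.trans hR₀H
  have hR₀1 : R₀ ≠ ⊥ := fun hb => hA1 (le_bot_iff.mp (hb ▸ hAR₀))
  obtain ⟨P₁, hP₁, hR₀P₁⟩ := exists_isSylowOf_ge M R₀ hR₀p hR₀M
  have hHle : ∀ R' : Subgroup G, IsSylowOf p H R' → H ≤ normalizer ((ZJ R' : Subgroup G) : Set G) :=
    fun R' hR' => le_normalizer_ZJ H (h.odd H) p hp2 (hOH H hAH) R' hR'
  by_cases hRP : R₀ = P₁
  · -- R₀ is a Sylow subgroup of G
    obtain ⟨S, hS, hle⟩ := exists_isSylowOf_ge H R₀ hR₀p hR₀H
    have h1 : S = P₁ := h.sylow_max P₁ hP₁ S hS.isPGroup (hRP ▸ hle)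
    have h2 : H ≤ M := by
      have := hHle S hS
      rw [h1, h.normalizer_ZJ P₁ hP₁] at this
      exact this
    exact hHM ((hH.le_iff_eq hM.1).mp h2).symm
  · have hlt : R₀ < P₁ := lt_of_le_of_ne hR₀P₁ hRP
    have hlt2 := lt_inf_normalizer_of_lt P₁ R₀ hP₁.isPGroup hlt
    obtain ⟨R₁, hR₁⟩ : ∃ R₁, R₁ = P₁ ⊓ normalizer (R₀ : Set G) := ⟨_, rfl⟩
    rw [← hR₁] at hlt2
    have hR₁p : IsPGroup p R₁ := hP₁.isPGroup.to_le (hR₁ ▸ inf_le_left)
    have hR₁M : R₁ ≤ M := hR₁ ▸ inf_le_left.trans hP₁.le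
    have hR₁N : R₁ ≤ normalizer (R₀ : Set G) := hR₁ ▸ inf_le_right
    have hcardlt : Nat.card R₀ < Nat.card R₁ := Cfsg.Agent.Lib.Helper13.card_lt_of_lt hlt2
    -- normalizers of subgroups X with N(R₀) ≤ N(X) lie in M
    have hclaim : ∀ X : Subgroup G, X ≠ ⊥ → IsPGroup p X →
        normalizer (R₀ : Set G) ≤ normalizer (X : Set G) → normalizer (X : Set G) ≤ M := by
      intro X hX1 hXp hNX
      obtain ⟨H₁, hH₁, hXH₁⟩ := exists_coatom_ge _ (normalizer_ne_top_of_isPGroup hG p X hXp hX1)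
      by_cases hH₁M : H₁ = M
      · exact hH₁M ▸ hXH₁
      · exfalso
        have := hmax' H₁ R₁ hH₁ hH₁M (hAR₀.trans hlt2.le)
          (le_inf ((hR₁N.trans hNX).trans hXH₁) hR₁M) hR₁p
        omega
    have hNR₀ : normalizer (R₀ : Set G) ≤ M := hclaim R₀ hR₀1 hR₀p le_rfl
    -- R₀ is a Sylow subgroup of H
    obtain ⟨S, hS, hle⟩ := exists_isSylowOf_ge H R₀ hR₀p hR₀H
    have hSR₀ : S = R₀ := by
      by_contra hne
      have hlt3 : R₀ < S := lt_of_le_of_ne hle (fun e => hne e.symm)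
      have hlt4 := lt_inf_normalizer_of_lt S R₀ hS.isPGroup hlt3
      have := hmax' H (S ⊓ normalizer (R₀ : Set G)) hH hHM (hAR₀.trans hlt4.le)
        (le_inf (inf_le_left.trans hS.le) (inf_le_right.trans hNR₀))
        (hS.isPGroup.to_le inf_le_left)
      have h2 := Cfsg.Agent.Lib.Helper13.card_lt_of_lt hlt4
      omega
    have h1 : normalizer ((ZJ R₀ : Subgroup G) : Set G) ≤ M :=
      hclaim (ZJ R₀) (ZJ_ne_bot hR₀p hR₀1) (hR₀p.to_le (ZJ_le R₀)) (normalizer_le_normalizer_ZJ R₀)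
    have h2 : H ≤ M := (hHle R₀ (hSR₀ ▸ hS)).trans h1
    exact hHM ((hH.le_iff_eq hM.1).mp h2).symm

end

end Cfsg.Agent.Lib.Helper13.Fit81b
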