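import Mathlib
import Cfsg.Prelude.Def_Transfer
import Cfsg.Agent.Lib.Helper13.ThompsonMin
import Cfsg.Agent.S0031
import Cfsg.Agent.S0032

set_option autoImplicit false

/-!
# Thompson's theorem: a finite group with a fixed-point-free automorphism of prime order is
nilpotent
-/

universe u

namespace Cfsg.Agent.Lib.Helper13

open Subgroup

section toolkit

variable {G : Type*} [Group G] [Finite G] (φ : G ≃* G)

theorem map_eq_of_forall_mem (H : Subgroup G) (h : ∀ x ∈ H, φ x ∈ H) :
    H.map φ.toMonoidHom = H := by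
  symm
  apply Subgroup.eq_of_le_of_card_ge
  · -- H ≤ H.map φ : by cardinality the inclusion map φ H ≤ H is an equality
    have h1 : H.map φ.toMonoidHom ≤ H := by
      rintro _ ⟨x, hx, rfl⟩
      exact h x hx
    have h2 : H.map φ.toMonoidHom = H :=
      Subgroup.eq_of_le_of_card_ge h1
        (by rw [Subgroup.card_map_of_injective φ.injective])
    rw [h2]
  · rw [Subgroup.card_map_of_injective φ.injective]

omit [Finite G] in
theorem mem_of_map_eq {H : Subgroup G} (hH : H.map φ.toMonoidHom = H) {x : G} (hx : x ∈ H) :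
    φ x ∈ H := by
  rw [← hH]; exact Subgroup.mem_map_of_mem _ hx

omit [Finite G] in
theorem exists_preimage_of_map_eq {H : Subgroup G} (hH : H.map φ.toMonoidHom = H) {x : G}
    (hx : x ∈ H) : ∃ y ∈ H, φ y = x := by
  rw [← hH] at hx
  obtain ⟨y, hy, rfl⟩ := Subgroup.mem_map.mp hx
  exact ⟨y, hy, rfl⟩

theorem centralizer_map_eq {H : Subgroup G} (hH : H.map φ.toMonoidHom = H) :
    (centralizer (H : Set G)).map φ.toMonoidHom = centralizer (H : Set G) := by
  apply map_eq_of_forall_mem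
  intro x hx
  rw [Subgroup.mem_centralizer_iff] at hx ⊢
  intro h hh
  obtain ⟨y, hy, rfl⟩ := exists_preimage_of_map_eq φ hH hh
  rw [← map_mul, ← map_mul, hx y hy]

theorem normalizer_map_eq {H : Subgroup G} (hH : H.map φ.toMonoidHom = H) :
    (normalizer (H : Set G)).map φ.toMonoidHom = normalizer (H : Set G) := by
  apply map_eq_of_forall_mem
  intro x hx
  have h1 := Subgroup.le_normalizer_map (H := H) φ.toMonoidHom (Subgroup.mem_map_of_mem _ hx)
  rw [hH] at h1
  exact h1

omit [Finite G] in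
theorem inf_map_eq {H K : Subgroup G} (hH : H.map φ.toMonoidHom = H)
    (hK : K.map φ.toMonoidHom = K) : (H ⊓ K).map φ.toMonoidHom = H ⊓ K := by
  rw [Subgroup.map_inf _ _ _ φ.injective, hH, hK]

/-- The homomorphism induced on an invariant subgroup. -/
def resHom (H : Subgroup G) (hH : H.map φ.toMonoidHom = H) : H →* H where
  toFun h := ⟨φ (h : G), mem_of_map_eq φ hH h.2⟩
  map_one' := Subtype.ext (map_one φ)
  map_mul' a b := Subtype.ext (map_mul φ (a : G) (b : G))

omit [Finite G] in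
theorem resHom_injective (H : Subgroup G) (hH : H.map φ.toMonoidHom = H) :
    Function.Injective (resHom φ H hH) := by
  intro a b hab
  have : φ (a : G) = φ (b : G) := congrArg Subtype.val hab
  exact Subtype.ext (φ.injective this)

/-- The automorphism induced on an invariant subgroup. -/
noncomputable def resAut (H : Subgroup G) (hH : H.map φ.toMonoidHom = H) : H ≃* H :=
  MulEquiv.ofBijective (resHom φ H hH)
    ⟨resHom_injective φ H hH, Finite.injective_iff_surjective.mp (resHom_injective φ H hH)⟩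

theorem resAut_coe (H : Subgroup G) (hH : H.map φ.toMonoidHom = H) (h : H) :
    ((resAut φ H hH h : H) : G) = φ h := rfl

theorem resAut_fpf (hφ : MonoidHom.FixedPointFree (φ : G →* G)) (H : Subgroup G)
    (hH : H.map φ.toMonoidHom = H) :
    MonoidHom.FixedPointFree ((resAut φ H hH : H ≃* H) : H →* H) := by
  intro h hh
  have h1 : φ (h : G) = h := congrArg Subtype.val hh
  exact Subtype.ext (hφ _ h1)

theorem resAut_iterate (H : Subgroup G) (hH : H.map φ.toMonoidHom = H) (k : ℕ) (h : H) :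
    (((⇑(resAut φ H hH))^[k] h : H) : G) = (⇑φ)^[k] h := by
  have hs : Function.Semiconj (Subtype.val : H → G) (⇑(resAut φ H hH)) (⇑φ) := fun x => rfl
  exact hs.iterate_right k h

/-- The automorphism induced on the quotient by an invariant normal subgroup. -/
noncomputable def quotAut (K : Subgroup G) [K.Normal] (hK : K.map φ.toMonoidHom = K) :
    G ⧸ K ≃* G ⧸ K :=
  QuotientGroup.congr K K φ hK

omit [Finite G] in
theorem quotAut_mk (K : Subgroup G) [K.Normal] (hK : K.map φ.toMonoidHom = K) (x : G) :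
    quotAut φ K hK (QuotientGroup.mk' K x) = QuotientGroup.mk' K (φ x) := rfl

theorem quotAut_fpf (hφ : MonoidHom.FixedPointFree (φ : G →* G)) (K : Subgroup G) [K.Normal]
    (hK : K.map φ.toMonoidHom = K) :
    MonoidHom.FixedPointFree ((quotAut φ K hK : G ⧸ K ≃* G ⧸ K) : G ⧸ K →* G ⧸ K) := by
  intro y hy
  obtain ⟨x, rfl⟩ := QuotientGroup.mk'_surjective K y
  have h1 : QuotientGroup.mk' K (φ x) = QuotientGroup.mk' K x := hy
  have h2 : (φ x)⁻¹ * x ∈ K := QuotientGroup.eq.mp h1
  have h3 := Cfsg.Agent.S0032.result φ hφ K (fun n hn => mem_of_map_eq φ hK hn) x h2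
  exact (QuotientGroup.eq_one_iff x).mpr h3

omit [Finite G] in
theorem quotAut_iterate (K : Subgroup G) [K.Normal] (hK : K.map φ.toMonoidHom = K) (k : ℕ)
    (x : G) : (⇑(quotAut φ K hK))^[k] (QuotientGroup.mk' K x) = QuotientGroup.mk' K ((⇑φ)^[k] x) := by
  have hs : Function.Semiconj (⇑(QuotientGroup.mk' K)) (⇑φ) (⇑(quotAut φ K hK)) := fun x => rfl
  exact (hs.iterate_right k x).symm

end toolkit


section star

open scoped IsMulCommutative

variable {G : Type*} [Group G] [Finite G] (φ : G ≃* G)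

omit [Finite G] in
theorem iterate_mem_of_map_eq {H : Subgroup G} (hH : H.map φ.toMonoidHom = H) (k : ℕ) {x : G}
    (hx : x ∈ H) : (⇑φ)^[k] x ∈ H := by
  induction k with
  | zero => exact hx
  | succ k ih =>
    rw [Function.iterate_succ_apply']
    exact mem_of_map_eq φ hH ih

omit [Finite G] in
/-- A point fixed by `φ^[k]` with `k` prime to the period `p` is fixed by `φ`. -/
theorem iterate_fixed_imp_fixed (p : ℕ) (hper : (⇑φ)^[p] = id) (k : ℕ) (hk : k.Coprime p) (g : G)
    (hg : (⇑φ)^[k] g = g) : φ g = g := by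
  have h1 : Function.IsPeriodicPt (⇑φ) k g := hg
  have h2 : Function.IsPeriodicPt (⇑φ) p g := by
    show (⇑φ)^[p] g = g
    rw [hper]; rfl
  have h3 := h1.gcd h2
  rw [hk] at h3
  exact h3

omit [Finite G] in
theorem fixed_of_iterate_fixed (hφ : MonoidHom.FixedPointFree (φ : G →* G)) (p : ℕ)
    (hper : (⇑φ)^[p] = id) (k : ℕ) (hk : k.Coprime p) (g : G) (hg : (⇑φ)^[k] g = g) : g = 1 :=
  hφ g (iterate_fixed_imp_fixed φ p hper k hk g hg)

omit [Finite G] in
theorem mulAut_coe_pow_eq_iterate (k : ℕ) : ⇑(φ ^ k) = (⇑φ)^[k] := by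
  induction k with
  | zero => rfl
  | succ k ih =>
    funext x
    rw [pow_succ', Function.iterate_succ_apply', ← ih]
    rfl

theorem end_sum_apply {A : Type*} [AddCommMonoid A] {ι : Type*} (s : Finset ι)
    (f : ι → AddMonoid.End A) (w : A) : (∑ k ∈ s, f k) w = ∑ k ∈ s, f k w := by
  classical
  induction s using Finset.induction_on with
  | empty => rw [Finset.sum_empty, Finset.sum_empty]; rfl
  | insert a s ha ih =>
    rw [Finset.sum_insert ha, Finset.sum_insert ha, ← ih]; rfl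

variable (N : Subgroup G) [hNn : N.Normal] [hNc : IsMulCommutative N]

/-- The restriction of `φ^[k]` to an invariant abelian normal subgroup, additively. -/
def psi (hN : N.map φ.toMonoidHom = N) (k : ℕ) : AddMonoid.End (Additive N) :=
  MonoidHom.toAdditive
    ({ toFun := fun v => ⟨(⇑φ)^[k] (v : G), iterate_mem_of_map_eq φ hN k v.2⟩
       map_one' := Subtype.ext (iterate_map_one φ k)
       map_mul' := fun a b => Subtype.ext (iterate_map_mul φ k (a : G) (b : G)) } : N →* N)

omit [Finite G] hNn hNc in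
theorem psi_apply (hN : N.map φ.toMonoidHom = N) (k : ℕ) (v : N) :
    psi φ N hN k (Additive.ofMul v) =
      Additive.ofMul (⟨(⇑φ)^[k] (v : G), iterate_mem_of_map_eq φ hN k v.2⟩ : N) := rfl

omit [Finite G] in
theorem psi_mul_conjRep (hN : N.map φ.toMonoidHom = N) (k : ℕ) (x : G) :
    psi φ N hN k * conjRep N x = conjRep N ((⇑φ)^[k] x) * psi φ N hN k := by
  refine DFunLike.ext _ _ (fun w => ?_)
  have hw : ∃ v : N, Additive.ofMul v = w := ⟨Additive.toMul w, rfl⟩
  obtain ⟨v, rfl⟩ := hw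
  show psi φ N hN k (conjRep N x (Additive.ofMul v)) =
    conjRep N ((⇑φ)^[k] x) (psi φ N hN k (Additive.ofMul v))
  rw [conjRep_apply, psi_apply, psi_apply, conjRep_apply]
  apply congrArg Additive.ofMul
  apply Subtype.ext
  show (⇑φ)^[k] (x * (v : G) * x⁻¹) = (⇑φ)^[k] x * (⇑φ)^[k] (v : G) * ((⇑φ)^[k] x)⁻¹
  rw [iterate_map_mul, iterate_map_mul, iterate_map_inv]

omit [Finite G] hNn hNc in
theorem psi_zero (hN : N.map φ.toMonoidHom = N) : psi φ N hN 0 = 1 := by
  refine DFunLike.ext _ _ (fun w => ?_)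
  rfl

omit [Finite G] hNn in
theorem sum_psi_eq_zero (hφ : MonoidHom.FixedPointFree (φ : G →* G)) (p : ℕ)
    (hper : (⇑φ)^[p] = id) (hN : N.map φ.toMonoidHom = N) :
    ∑ k ∈ Finset.range p, psi φ N hN k = 0 := by
  refine DFunLike.ext _ _ (fun w => ?_)
  have hw : ∃ v : N, Additive.ofMul v = w := ⟨Additive.toMul w, rfl⟩
  obtain ⟨v, rfl⟩ := hw
  rw [end_sum_apply]
  simp only [psi_apply]
  rw [← ofMul_prod]
  show Additive.ofMul _ = Additive.ofMul (1 : N)
  apply congrArg Additive.ofMul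
  -- the product is fixed by `φ`
  obtain ⟨a, hadef⟩ : ∃ a : ℕ → N, a = fun k =>
      (⟨(⇑φ)^[k] (v : G), iterate_mem_of_map_eq φ hN k v.2⟩ : N) := ⟨_, rfl⟩
  have hprod : ∏ k ∈ Finset.range p,
      (⟨(⇑φ)^[k] (v : G), iterate_mem_of_map_eq φ hN k v.2⟩ : N) = ∏ k ∈ Finset.range p, a k := by
    rw [hadef]
  rw [hprod]
  have hstep : ∀ k, resHom φ N hN (a k) = a (k + 1) := by
    intro k
    rw [hadef]
    apply Subtype.ext
    show φ ((⇑φ)^[k] (v : G)) = (⇑φ)^[k + 1] (v : G)
    rw [Function.iterate_succ_apply']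
  have hap : a p = a 0 := by
    rw [hadef]
    apply Subtype.ext
    show (⇑φ)^[p] (v : G) = (v : G)
    rw [hper]; rfl
  have h1 : resHom φ N hN (∏ k ∈ Finset.range p, a k) = ∏ k ∈ Finset.range p, a (k + 1) := by
    rw [map_prod]
    exact Finset.prod_congr rfl (fun k _ => hstep k)
  have h2 : (∏ k ∈ Finset.range p, a (k + 1)) * a 0 = (∏ k ∈ Finset.range p, a k) * a p := by
    rw [← Finset.prod_range_succ', Finset.prod_range_succ]
  rw [hap] at h2
  have h3 : resHom φ N hN (∏ k ∈ Finset.range p, a k) = ∏ k ∈ Finset.range p, a k := by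
    rw [h1]; exact mul_right_cancel h2
  have h4 : φ ((∏ k ∈ Finset.range p, a k : N) : G) = ((∏ k ∈ Finset.range p, a k : N) : G) :=
    congrArg Subtype.val h3
  exact Subtype.ext (hφ _ h4)


/-- (★') General form: `∑ ψ_k = 0` on `N` and `φ` fixed-point-free on `R`. -/
theorem le_centralizer_of_coprime_of_sum_psi (p : ℕ)
    (hp : p.Prime) (hper : (⇑φ)^[p] = id) (hN : N.map φ.toMonoidHom = N)
    (hsum : ∑ k ∈ Finset.range p, psi φ N hN k = 0) (R : Subgroup G)
    (hR : R.map φ.toMonoidHom = R) (hRfpf : ∀ y ∈ R, φ y = y → y = 1)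
    (hcop : (Nat.card R).Coprime (Nat.card N)) :
    R ≤ centralizer (N : Set G) := by
  classical
  have : Fintype R := Fintype.ofFinite R
  obtain ⟨TrR, hTr⟩ : ∃ T : AddMonoid.End (Additive N), T = ∑ x : R, conjRep N (x : G) := ⟨_, rfl⟩
  have hR4 : ∀ y ∈ R, TrR * conjRep N y = TrR := by
    intro y hy
    rw [hTr, Finset.sum_mul]
    simp_rw [← map_mul]
    exact Equiv.sum_comp (Equiv.mulRight (⟨y, hy⟩ : R)) (fun x : R => conjRep N (x : G))
  have hA : ∀ k, 0 < k → k < p →
      ∑ x : R, conjRep N ((x : G) * ((⇑φ)^[k] (x : G))⁻¹) = TrR := by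
    intro k hk0 hkp
    have hkcop : k.Coprime p :=
      ((Nat.Prime.coprime_iff_not_dvd hp).mpr (Nat.not_dvd_of_pos_of_lt hk0 hkp)).symm
    obtain ⟨e, hedef⟩ : ∃ e : R → R, e = fun x => ⟨(x : G) * ((⇑φ)^[k] (x : G))⁻¹,
        R.mul_mem x.2 (R.inv_mem (iterate_mem_of_map_eq φ hR k x.2))⟩ := ⟨_, rfl⟩
    have hecoe : ∀ x : R, ((e x : R) : G) = (x : G) * ((⇑φ)^[k] (x : G))⁻¹ := by
      intro x; rw [hedef]
    have hinj : Function.Injective e := by
      intro x y hxy
      have h1 : (x : G) * ((⇑φ)^[k] (x : G))⁻¹ = (y : G) * ((⇑φ)^[k] (y : G))⁻¹ := by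
        rw [← hecoe, ← hecoe, hxy]
      have h2 : (⇑φ)^[k] ((y : G)⁻¹ * x) = (y : G)⁻¹ * x := by
        rw [iterate_map_mul, iterate_map_inv]
        calc ((⇑φ)^[k] (y : G))⁻¹ * (⇑φ)^[k] (x : G)
            = (y : G)⁻¹ * ((y : G) * ((⇑φ)^[k] (y : G))⁻¹) * (⇑φ)^[k] (x : G) := by group
          _ = (y : G)⁻¹ * ((x : G) * ((⇑φ)^[k] (x : G))⁻¹) * (⇑φ)^[k] (x : G) := by rw [h1]
          _ = (y : G)⁻¹ * x := by group
      have h3 := hRfpf _ (R.mul_mem (R.inv_mem y.2) x.2)
        (iterate_fixed_imp_fixed φ p hper k hkcop _ h2)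
      exact Subtype.ext (inv_mul_eq_one.mp h3).symm
    have hbij : Function.Bijective e := ⟨hinj, Finite.injective_iff_surjective.mp hinj⟩
    rw [hTr]
    have := (Equiv.ofBijective e hbij).sum_comp (fun x : R => conjRep N (x : G))
    rw [← this]
    apply Finset.sum_congr rfl
    intro x _
    rw [Equiv.ofBijective_apply, hecoe]
  have h0 : ∑ x : R, conjRep N (x : G) * (∑ k ∈ Finset.range p, psi φ N hN k) *
      conjRep N ((x : G)⁻¹) = 0 := by
    rw [hsum]; simp
  have h1 : ∀ x : R, conjRep N (x : G) * (∑ k ∈ Finset.range p, psi φ N hN k) *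
      conjRep N ((x : G)⁻¹) =
      ∑ k ∈ Finset.range p, conjRep N ((x : G) * ((⇑φ)^[k] (x : G))⁻¹) * psi φ N hN k := by
    intro x
    rw [Finset.mul_sum, Finset.sum_mul]
    apply Finset.sum_congr rfl
    intro k _
    rw [mul_assoc, psi_mul_conjRep, ← mul_assoc, ← map_mul, iterate_map_inv]
  rw [Finset.sum_congr rfl (fun x _ => h1 x), Finset.sum_comm] at h0
  obtain ⟨p', rfl⟩ : ∃ p', p = p' + 1 := ⟨p - 1, by have := hp.pos; omega⟩
  rw [Finset.sum_range_succ'] at h0
  have h2 : ∀ k ∈ Finset.range p',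
      ∑ x : R, conjRep N ((x : G) * ((⇑φ)^[k + 1] (x : G))⁻¹) * psi φ N hN (k + 1) =
        TrR * psi φ N hN (k + 1) := by
    intro k hk
    rw [← Finset.sum_mul, hA (k + 1) (by omega) (by have := Finset.mem_range.mp hk; omega)]
  have h3 : ∑ x : R, conjRep N ((x : G) * ((⇑φ)^[0] (x : G))⁻¹) * psi φ N hN 0 =
      ((Nat.card R : ℕ) : AddMonoid.End (Additive N)) := by
    rw [psi_zero]
    simp [Nat.card_eq_fintype_card]
  rw [Finset.sum_congr rfl h2, h3] at h0
  intro x₀ hx₀
  rw [← conjRep_eq_one_iff]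
  have h4 : (∑ k ∈ Finset.range p', TrR * psi φ N hN (k + 1)) * (conjRep N x₀ - 1) = 0 := by
    rw [Finset.sum_mul]
    apply Finset.sum_eq_zero
    intro k _
    rw [mul_assoc, mul_sub, mul_one, psi_mul_conjRep, ← sub_one_mul, ← mul_assoc, mul_sub,
      mul_one, hR4 _ (iterate_mem_of_map_eq φ hR (k + 1) hx₀), sub_self, zero_mul]
  have h5 : ((Nat.card R : ℕ) : AddMonoid.End (Additive N)) * (conjRep N x₀ - 1) = 0 := by
    have h6 := congrArg (· * (conjRep N x₀ - 1)) h0
    simp only [add_mul, h4, zero_add, zero_mul] at h6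
    exact h6
  refine DFunLike.ext _ _ (fun w => ?_)
  have h7 : (((Nat.card R : ℕ) : AddMonoid.End (Additive N)) * (conjRep N x₀ - 1)) w = 0 := by
    rw [h5]; rfl
  have h8 : (Nat.card R) • ((conjRep N x₀ - 1) w) = 0 := by
    have : (((Nat.card R : ℕ) : AddMonoid.End (Additive N)) * (conjRep N x₀ - 1)) w =
        (Nat.card R) • ((conjRep N x₀ - 1) w) := by
      show ((Nat.card R : ℕ) : AddMonoid.End (Additive N)) ((conjRep N x₀ - 1) w) = _
      rw [AddMonoid.End.natCast_apply]
    rw [← this]; exact h7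
  have h9 : addOrderOf ((conjRep N x₀ - 1) w) ∣ Nat.card R := addOrderOf_dvd_of_nsmul_eq_zero h8
  have h10 : addOrderOf ((conjRep N x₀ - 1) w) ∣ Nat.card N := by
    have := addOrderOf_dvd_natCard ((conjRep N x₀ - 1) w)
    exact this
  have h11 : addOrderOf ((conjRep N x₀ - 1) w) = 1 := Nat.eq_one_of_dvd_coprimes hcop h9 h10
  have h12 : (conjRep N x₀ - 1) w = 0 := AddMonoid.addOrderOf_eq_one_iff.mp h11
  have h13 : (conjRep N x₀ - 1) w = conjRep N x₀ w - w := rfl
  rw [h13, sub_eq_zero] at h12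
  exact h12

/-- (★) An invariant subgroup of order prime to that of an invariant abelian normal subgroup
centralizes it. -/
theorem le_centralizer_of_coprime_of_fpf (hφ : MonoidHom.FixedPointFree (φ : G →* G)) (p : ℕ)
    (hp : p.Prime) (hper : (⇑φ)^[p] = id) (hN : N.map φ.toMonoidHom = N) (R : Subgroup G)
    (hR : R.map φ.toMonoidHom = R) (hcop : (Nat.card R).Coprime (Nat.card N)) :
    R ≤ centralizer (N : Set G) :=
  le_centralizer_of_coprime_of_sum_psi φ N p hp hper hN (sum_psi_eq_zero φ N hφ p hper hN) R hR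
    (fun y _ hy => hφ y hy) hcop

end star


section main

theorem NPC.of_isNilpotent {H : Type u} [Group H] [Finite H] [Group.IsNilpotent H] (r : ℕ)
    [Fact r.Prime] : NPC r H := by
  obtain ⟨P⟩ : Nonempty (Sylow r H) := inferInstance
  obtain ⟨K, hKn, hK⟩ := Helper11.exists_normal_complement_of_fusion P
    (fun x hx g _ => Helper11.exists_sylow_conj_of_isNilpotent P x hx g)
  exact npc_iff.mp ⟨P, K, hKn, hK⟩

theorem le_sylow_of_normal {G : Type*} [Group G] [Finite G] {s : ℕ} [Fact s.Prime]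
    (S₀ : Subgroup G) [hn : S₀.Normal] (hS₀ : IsPGroup s S₀) (T : Sylow s G) :
    S₀ ≤ (T : Subgroup G) := by
  obtain ⟨P', hP'⟩ := hS₀.exists_le_sylow
  obtain ⟨g, hg⟩ := MulAction.exists_smul_eq G P' T
  intro x hx
  rw [← hg, Helper17.mem_smul_sylow_iff]
  apply hP'
  have := hn.conj_mem x hx g⁻¹
  simpa using this

theorem fpf_stepII {G : Type u} [Group G] [Finite G] (φ : G ≃* G)
    (hφ : MonoidHom.FixedPointFree (φ : G →* G)) (p : ℕ) (hp : p.Prime) (hper : (⇑φ)^[p] = id)
    (ihquot : ∀ K : Subgroup G, ∀ [K.Normal], K.map φ.toMonoidHom = K → K ≠ ⊥ →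
      Group.IsNilpotent (G ⧸ K))
    (s : ℕ) [hs : Fact s.Prime] (S₀ : Subgroup G) [S₀.Normal] (hS₀ : IsPGroup s S₀)
    (hne : S₀ ≠ ⊥) (hinv : S₀.map φ.toMonoidHom = S₀) : Group.IsNilpotent G := by
  have hq := ihquot S₀ hinv hne
  obtain ⟨T, hT⟩ := Cfsg.Agent.S0031.result φ hφ s
  have hS₀T : S₀ ≤ (T : Subgroup G) := le_sylow_of_normal S₀ hS₀ T
  have hTn : (T : Subgroup G).Normal := by
    have h1 : ((T.mapSurjective (QuotientGroup.mk'_surjective S₀) : Sylow s (G ⧸ S₀)) :
        Subgroup (G ⧸ S₀)).Normal := inferInstance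
    rw [Sylow.coe_mapSurjective] at h1
    have hcm : ((T : Subgroup G).map (QuotientGroup.mk' S₀)).comap (QuotientGroup.mk' S₀) = T := by
      rw [Subgroup.comap_map_eq, QuotientGroup.ker_mk', sup_eq_left.mpr hS₀T]
    rw [← hcm]
    exact h1.comap _
  have hTne : (T : Subgroup G) ≠ ⊥ := by
    intro h; apply hne; rw [eq_bot_iff, ← h]; exact hS₀T
  obtain ⟨Z, hZdef⟩ : ∃ Z : Subgroup G, Z = (T : Subgroup G) ⊓ centralizer ((T : Subgroup G) : Set G) :=
    ⟨_, rfl⟩
  have hZne : Z ≠ ⊥ := by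
    rw [hZdef]; exact inf_centralizer_ne_bot_of_isPGroup _ T.isPGroup' hTne
  have hZn : Z.Normal := by rw [hZdef]; infer_instance
  have hZinv : Z.map φ.toMonoidHom = Z := by
    rw [hZdef]; exact inf_map_eq φ hT (centralizer_map_eq φ hT)
  have hZc : IsMulCommutative Z := by
    refine ⟨⟨fun a b => ?_⟩⟩
    apply Subtype.ext
    have ha : (a : G) ∈ (T : Subgroup G) ⊓ centralizer ((T : Subgroup G) : Set G) := hZdef ▸ a.2
    have hb : (b : G) ∈ (T : Subgroup G) ⊓ centralizer ((T : Subgroup G) : Set G) := hZdef ▸ b.2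
    exact (Subgroup.mem_centralizer_iff.mp (Subgroup.mem_inf.mp hb).2) a (Subgroup.mem_inf.mp ha).1
  have hZp : IsPGroup s Z := by rw [hZdef]; exact T.isPGroup'.to_le inf_le_left
  have hqZ := ihquot Z hZinv hZne
  have hTZ : (T : Subgroup G) ≤ centralizer (Z : Set G) := by
    intro t ht
    rw [Subgroup.mem_centralizer_iff]
    intro z hz
    rw [hZdef] at hz
    exact ((Subgroup.mem_centralizer_iff.mp (Subgroup.mem_inf.mp hz).2) t ht).symm
  have hcent : centralizer (Z : Set G) = ⊤ := by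
    rw [← Subgroup.index_eq_one]
    by_contra hne1
    obtain ⟨q, hq, hqd⟩ := Nat.exists_prime_and_dvd hne1
    by_cases hqs : q = s
    · subst hqs
      exact T.not_dvd_index (hqd.trans (Subgroup.index_dvd_of_le hTZ))
    · have : Fact q.Prime := ⟨hq⟩
      obtain ⟨R, hR⟩ := Cfsg.Agent.S0031.result φ hφ q
      have hcop : (Nat.card (R : Subgroup G)).Coprime (Nat.card Z) := by
        obtain ⟨a, ha⟩ := IsPGroup.iff_card.mp R.isPGroup'
        obtain ⟨b, hb⟩ := IsPGroup.iff_card.mp hZp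
        rw [ha, hb]
        exact Nat.Coprime.pow a b ((Nat.coprime_primes hq hs.out).mpr hqs)
      have hRZ := le_centralizer_of_coprime_of_fpf φ Z hφ p hp hper hZinv (R : Subgroup G) hR hcop
      exact R.not_dvd_index (hqd.trans (Subgroup.index_dvd_of_le hRZ))
  have hZcenter : Z ≤ center G := by
    intro z hz
    rw [Subgroup.mem_center_iff]
    intro g
    have hg : g ∈ centralizer (Z : Set G) := by rw [hcent]; exact Subgroup.mem_top g
    exact ((Subgroup.mem_centralizer_iff.mp hg) z hz).symm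
  exact Subgroup.isNilpotent_of_ker_le_center (QuotientGroup.mk' Z)
    (by rw [QuotientGroup.ker_mk']; exact hZcenter)


theorem fpf_nilpotent_aux (p : ℕ) (hp : p.Prime) : ∀ n : ℕ, ∀ (G : Type u) [Group G] [Finite G],
    Nat.card G = n → ∀ φ : G ≃* G, MonoidHom.FixedPointFree (φ : G →* G) → (⇑φ)^[p] = id →
    Group.IsNilpotent G := by
  intro n
  induction n using Nat.strong_induction_on with
  | _ n ih =>
  intro G _ _ hn φ hφ hper
  have ihsub : ∀ H : Subgroup G, H.map φ.toMonoidHom = H → H ≠ ⊤ → Group.IsNilpotent H := by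
    intro H hH hne
    have hlt : Nat.card H < n := by
      rw [← hn]
      rcases lt_or_eq_of_le (Subgroup.card_le_card_group H) with h | h
      · exact h
      · exact absurd ((Subgroup.card_eq_iff_eq_top H).mp h) hne
    refine ih _ hlt H rfl (resAut φ H hH) (resAut_fpf φ hφ H hH) ?_
    funext h
    apply Subtype.ext
    rw [resAut_iterate, hper]
    rfl
  have ihquot : ∀ K : Subgroup G, ∀ [K.Normal], K.map φ.toMonoidHom = K → K ≠ ⊥ →
      Group.IsNilpotent (G ⧸ K) := by
    intro K _ hK hne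
    have hlt : Nat.card (G ⧸ K) < n := by
      have h2 := Subgroup.card_eq_card_quotient_mul_card_subgroup K
      have h3 : 1 < Nat.card K := by
        rcases Nat.lt_or_ge 1 (Nat.card K) with h | h
        · exact h
        · exfalso
          apply hne
          have hpos : 0 < Nat.card K := Nat.card_pos
          exact Subgroup.card_eq_one.mp (by omega)
      have hpos : 0 < Nat.card (G ⧸ K) := Nat.card_pos
      rw [← hn, h2]
      nlinarith
    refine ih _ hlt (G ⧸ K) rfl (quotAut φ K hK) (quotAut_fpf φ hφ K hK) ?_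
    funext y
    obtain ⟨x, rfl⟩ := QuotientGroup.mk'_surjective K y
    rw [quotAut_iterate, hper]
    rfl
  by_contra hG
  have hodd : ∃ r : ℕ, r.Prime ∧ r ∣ Nat.card G ∧ r ≠ 2 := by
    by_contra hno
    push Not at hno
    apply hG
    have h2 : IsPGroup 2 G := by
      have h1 := Nat.eq_prime_pow_of_unique_prime_dvd (Nat.card_pos (α := G)).ne'
        (fun {d} hd hdvd => hno d hd hdvd)
      exact IsPGroup.of_card h1
    have : Fact (Nat.Prime 2) := ⟨Nat.prime_two⟩
    exact h2.isNilpotent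
  obtain ⟨r, hr, hrd, hr2⟩ := hodd
  have hrf : Fact r.Prime := ⟨hr⟩
  obtain ⟨R, hR⟩ := Cfsg.Agent.S0031.result φ hφ r
  have hRne : (R : Subgroup G) ≠ ⊥ := R.ne_bot_of_dvd_card hrd
  have hRp := R.isPGroup'
  obtain ⟨RS, hRSdef⟩ : ∃ RS : Subgroup G, RS = (R : Subgroup G) := ⟨_, rfl⟩
  have hRS : RS.map φ.toMonoidHom = RS := by rw [hRSdef]; exact hR
  have hRSp : IsPGroup r RS := by rw [hRSdef]; exact hRp
  have hRSne : RS ≠ ⊥ := by rw [hRSdef]; exact hRne
  have hJinv : (Cfsg.thompsonSubgroupOf r RS).map φ.toMonoidHom = Cfsg.thompsonSubgroupOf r RS := by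
    rw [← Helper17.thompsonSubgroupOf_map, hRS]
  have hZinv : (RS ⊓ centralizer (RS : Set G)).map φ.toMonoidHom = RS ⊓ centralizer (RS : Set G) :=
    inf_map_eq φ hRS (centralizer_map_eq φ hRS)
  by_cases h1 : normalizer (Cfsg.thompsonSubgroupOf r RS : Set G) = ⊤
  · have : (Cfsg.thompsonSubgroupOf r RS).Normal := Subgroup.normalizer_eq_top_iff.mp h1
    exact hG (fpf_stepII φ hφ p hp hper ihquot r (Cfsg.thompsonSubgroupOf r RS)
      (hRSp.to_le (Helper17.thompsonSubgroupOf_le_self _))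
      (thompsonSubgroupOf_ne_bot _ hRSp hRSne) hJinv)
  by_cases h2 : centralizer ((RS ⊓ centralizer (RS : Set G) : Subgroup G) : Set G) = ⊤
  · have : (RS ⊓ centralizer (RS : Set G)).Normal := by
      constructor
      intro z hz g
      have hg : g ∈ centralizer ((RS ⊓ centralizer (RS : Set G) : Subgroup G) : Set G) := by
        rw [h2]; exact Subgroup.mem_top g
      have h3 := (Subgroup.mem_centralizer_iff.mp hg) z hz
      have : g * z * g⁻¹ = z := by rw [← h3, mul_inv_cancel_right]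
      rw [this]; exact hz
    exact hG (fpf_stepII φ hφ p hp hper ihquot r (RS ⊓ centralizer (RS : Set G))
      (hRSp.to_le inf_le_left) (inf_centralizer_ne_bot_of_isPGroup _ hRSp hRSne) hZinv)
  have hX₁ := ihsub _ (normalizer_map_eq φ hJinv) h1
  have hX₂ := ihsub _ (centralizer_map_eq φ hZinv) h2
  have hTh : ThHyp r G (R : Subgroup G) := by
    rw [← hRSdef]
    exact ⟨NPC.of_isNilpotent r, NPC.of_isNilpotent r⟩
  obtain ⟨K, hKn, hcop, k, hk⟩ := thompson_aux hr2 _ G rfl R hTh
  have hKinv : K.map φ.toMonoidHom = K := by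
    apply map_eq_of_forall_mem
    intro x hx
    apply Helper17.mem_of_coprime_index K
    rw [MulEquiv.orderOf_eq, hk]
    apply Nat.Coprime.pow_right
    exact Nat.Coprime.coprime_dvd_left (Subgroup.orderOf_dvd_natCard K hx) hcop
  have hKtop : K ≠ ⊤ := by
    intro h
    rw [h, Subgroup.card_top] at hcop
    exact (Nat.Prime.coprime_iff_not_dvd hr).mp hcop.symm hrd
  have hKnil := ihsub K hKinv hKtop
  by_cases hKbot : K = ⊥
  · apply hG
    rw [hKbot, Subgroup.index_bot] at hk
    exact (IsPGroup.of_card hk).isNilpotent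
  · have hKnt : Nontrivial K := (Subgroup.nontrivial_iff_ne_bot K).mpr hKbot
    have hcne := Group.IsNilpotent.center_ne_bot (G := K)
    obtain ⟨⟨z, hz⟩, hz1⟩ := (Subgroup.ne_bot_iff_exists_ne_one).mp hcne
    have hzZ : (z : G) ∈ K ⊓ centralizer (K : Set G) := by
      refine Subgroup.mem_inf.mpr ⟨z.2, ?_⟩
      rw [Subgroup.mem_centralizer_iff]
      intro u hu
      exact congrArg Subtype.val ((Subgroup.mem_center_iff.mp hz) ⟨u, hu⟩)
    have hZKne : K ⊓ centralizer (K : Set G) ≠ ⊥ := by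
      intro h
      rw [h, Subgroup.mem_bot] at hzZ
      apply hz1
      apply Subtype.ext
      apply Subtype.ext
      exact hzZ
    have hcard : Nat.card ↥(K ⊓ centralizer (K : Set G)) ≠ 1 :=
      fun h => hZKne (Subgroup.card_eq_one.mp h)
    obtain ⟨s, hs, hsd⟩ := Nat.exists_prime_and_dvd hcard
    have hsf : Fact s.Prime := ⟨hs⟩
    obtain ⟨w, hw⟩ := exists_prime_orderOf_dvd_card' s hsd
    have hw1 : (w : G) ^ s = 1 := by
      have : w ^ s = 1 := by rw [← hw]; exact pow_orderOf_eq_one w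
      have := congrArg Subtype.val this
      simpa using this
    have hwS : (w : G) ∈ omegaZ s K := (mem_omegaZ K _).mpr ⟨w.2, hw1⟩
    have hSne : omegaZ s K ≠ ⊥ := by
      intro h
      rw [h, Subgroup.mem_bot] at hwS
      have hw2 : w = 1 := Subtype.ext hwS
      rw [hw2, orderOf_one] at hw
      exact hs.one_lt.ne hw
    have hSn : (omegaZ s K).Normal := omegaZ_normal K
    have hSp : IsPGroup s (omegaZ s K) := by
      intro g
      refine ⟨1, ?_⟩
      apply Subtype.ext
      rw [pow_one]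
      exact ((mem_omegaZ K _).mp g.2).2
    have hSinv : (omegaZ s K).map φ.toMonoidHom = omegaZ s K := by
      apply map_eq_of_forall_mem
      intro x hx
      obtain ⟨hx1, hx2⟩ := (mem_omegaZ K x).mp hx
      refine (mem_omegaZ K _).mpr ⟨?_, ?_⟩
      · exact mem_of_map_eq φ (inf_map_eq φ hKinv (centralizer_map_eq φ hKinv)) hx1
      · rw [← map_pow, hx2, map_one]
    exact hG (fpf_stepII φ hφ p hp hper ihquot s (omegaZ s K) hSp hSne hSinv)

end main

end Cfsg.Agent.Lib.Helper13
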