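import Mathlib
import Cfsg.Agent.Lib.Helper10.SolvableNormal
import Cfsg.Agent.Lib.Helper13.Coprime

/-!
Hall's theorems for finite solvable groups (helper13).
-/

set_option autoImplicit false

namespace Cfsg.Agent.Lib.Helper13

open scoped Pointwise

universe u

/-- `k` is a `π`-number. -/
def PiNum (π : Set ℕ) (k : ℕ) : Prop := ∀ p, p.Prime → p ∣ k → p ∈ π

theorem PiNum.mul {π : Set ℕ} {a b : ℕ} (ha : PiNum π a) (hb : PiNum π b) : PiNum π (a * b) := by
  intro p hp h
  rcases (Nat.Prime.dvd_mul hp).mp h with h | h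
  · exact ha p hp h
  · exact hb p hp h

theorem PiNum.of_dvd {π : Set ℕ} {a b : ℕ} (ha : PiNum π a) (h : b ∣ a) : PiNum π b :=
  fun p hp hpb => ha p hp (hpb.trans h)

theorem piNum_one (π : Set ℕ) : PiNum π 1 := by
  intro p hp h
  exact absurd (Nat.dvd_one.mp h) hp.one_lt.ne'

theorem piNum_card_pgroup {π : Set ℕ} {G : Type*} [Group G] [Finite G] {p : ℕ} [Fact p.Prime]
    (hG : IsPGroup p G) (hp : p ∈ π) : PiNum π (Nat.card G) := by
  obtain ⟨k, hk⟩ := IsPGroup.iff_card.mp hG
  intro q hq h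
  rw [hk] at h
  have := (Nat.prime_dvd_prime_iff_eq hq Fact.out).mp (hq.dvd_of_dvd_pow h)
  rw [this]; exact hp

theorem coprime_of_piNum {π : Set ℕ} {a b : ℕ} (ha : PiNum π a) (hb : PiNum πᶜ b) :
    a.Coprime b := by
  by_contra h
  obtain ⟨p, hp, hpa, hpb⟩ := Nat.Prime.not_coprime_iff_dvd.mp h
  exact hb p hp hpb (ha p hp hpa)

/-- A nontrivial finite solvable group has a nontrivial normal `p`-subgroup. -/
theorem exists_normal_pgroup (G : Type*) [Group G] [Finite G] [Group.IsSolvable G] [Nontrivial G] :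
    ∃ (p : ℕ) (M : Subgroup G), p.Prime ∧ M.Normal ∧ M ≠ ⊥ ∧ IsPGroup p M := by
  have htop : (⊤ : Subgroup G) ≠ ⊥ := top_ne_bot
  have hs : Group.IsSolvable (⊤ : Subgroup G) := inferInstance
  obtain ⟨V, p, hVn, hVne, hp, hVp⟩ :=
    Cfsg.Agent.Lib.Helper10.exists_normal_prime_exponent (⊤ : Subgroup G) htop hs
  exact ⟨p, V, hp, hVn, hVne, fun x => ⟨1, by simpa using hVp x⟩⟩

/-- A normal `p`-subgroup is contained in every subgroup of index prime to `p`. -/
theorem normal_pgroup_le_of_not_dvd_index {G : Type*} [Group G] {p : ℕ} [Fact p.Prime]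
    (M H : Subgroup G) [hMn : M.Normal] (hM : IsPGroup p M) (hH : ¬ p ∣ H.index) : M ≤ H := by
  obtain ⟨q, hq⟩ := hM.nonempty_fixed_point_of_prime_not_dvd_card (G ⧸ H) hH
  induction q using QuotientGroup.induction_on with
  | H g =>
  intro m hm
  have h1 : g * m * g⁻¹ ∈ M := hMn.conj_mem m hm g
  have h2 := hq ⟨g * m * g⁻¹, h1⟩
  have h3 : ((g * m * g⁻¹ * g : G) : G ⧸ H) = (g : G ⧸ H) := h2
  rw [QuotientGroup.eq] at h3
  have : (g * m * g⁻¹ * g)⁻¹ * g = m⁻¹ := by group
  rw [this] at h3
  exact (H.inv_mem_iff).mp h3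

/-- **Hall existence** (π-version, all groups of a universe by induction on the order). -/
theorem hall_exists_aux (π : Set ℕ) (N : ℕ) :
    ∀ (G : Type u) [Group G] [Finite G] [Group.IsSolvable G], Nat.card G = N →
      ∃ H : Subgroup G, PiNum π (Nat.card H) ∧ PiNum πᶜ H.index := by
  induction N using Nat.strong_induction_on with
  | _ N ih =>
  intro G _ _ _ hN
  rcases subsingleton_or_nontrivial G with hsub | hnt
  · refine ⟨⊤, ?_, ?_⟩
    · rw [Subgroup.card_top, Nat.card_unique]
      exact piNum_one π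
    · rw [Subgroup.index_top]; exact piNum_one _
  obtain ⟨p, M, hp, hMn, hMne, hMp⟩ := exists_normal_pgroup G
  have : Fact p.Prime := ⟨hp⟩
  have hMcard : 1 < Nat.card M := M.one_lt_card_iff_ne_bot.mpr hMne
  have hQcard : Nat.card (G ⧸ M) < N := by
    rw [← hN, ← Subgroup.card_mul_index M, ← Subgroup.index_eq_card]
    have : 0 < M.index := Nat.pos_of_ne_zero Subgroup.index_ne_zero_of_finite
    nlinarith
  obtain ⟨Lbar, h1, h2⟩ := ih _ hQcard (G ⧸ M) rfl
  obtain ⟨L, hL⟩ : ∃ L : Subgroup G, L = Lbar.comap (QuotientGroup.mk' M) := ⟨_, rfl⟩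
  have hLcard : Nat.card L = Nat.card M * Nat.card Lbar := by
    rw [hL]; exact QuotientGroup.card_preimage_mk M _
  have hLindex : L.index = Lbar.index := by
    rw [hL]; exact Subgroup.index_comap_of_surjective _ (QuotientGroup.mk'_surjective M)
  by_cases hpπ : p ∈ π
  · refine ⟨L, ?_, ?_⟩
    · rw [hLcard]; exact (piNum_card_pgroup hMp hpπ).mul h1
    · rw [hLindex]; exact h2
  · have hML : M ≤ L := by
      rw [hL]
      intro x hx
      rw [Subgroup.mem_comap, QuotientGroup.mk'_apply, (QuotientGroup.eq_one_iff x).mpr hx]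
      exact Subgroup.one_mem _
    have hpπ' : p ∈ πᶜ := hpπ
    have hM'card : Nat.card (M.subgroupOf L) = Nat.card M := card_subgroupOf_of_le hML
    have hM'index : (M.subgroupOf L).index = Nat.card Lbar := by
      have := Subgroup.card_mul_index (M.subgroupOf L)
      rw [hM'card, hLcard] at this
      exact Nat.eq_of_mul_eq_mul_left Nat.card_pos this
    have hcop : (Nat.card (M.subgroupOf L)).Coprime (M.subgroupOf L).index := by
      rw [hM'card, hM'index]
      exact coprime_of_piNum (π := πᶜ) (piNum_card_pgroup hMp hpπ') (by rwa [compl_compl])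
    obtain ⟨H', hH'⟩ := Subgroup.exists_right_complement'_of_coprime hcop
    have hH'card : Nat.card H' = Nat.card Lbar := by
      rw [← hH'.symm.index_eq_card, hM'index]
    refine ⟨H'.map L.subtype, ?_, ?_⟩
    · rw [Subgroup.card_map_of_injective L.subtype_injective, hH'card]; exact h1
    · have e1 := Subgroup.card_mul_index (H'.map L.subtype)
      rw [Subgroup.card_map_of_injective L.subtype_injective, hH'card] at e1
      have e2 := Subgroup.card_mul_index L
      rw [hLcard, hLindex] at e2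
      have : (H'.map L.subtype).index = Nat.card M * Lbar.index := by
        have hpos : 0 < Nat.card Lbar := Nat.card_pos
        apply Nat.eq_of_mul_eq_mul_left hpos
        rw [e1, ← e2]; ring
      rw [this]
      exact (piNum_card_pgroup hMp hpπ').mul h2

/-- **Hall existence**: a finite solvable group has a Hall `π`-subgroup. -/
theorem hall_exists (π : Set ℕ) (G : Type u) [Group G] [Finite G] [Group.IsSolvable G] :
    ∃ H : Subgroup G, PiNum π (Nat.card H) ∧ PiNum πᶜ H.index :=
  hall_exists_aux π _ G rfl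

/-- **Hall existence**, numeric form. -/
theorem hall_exists_card {G : Type u} [Group G] [Finite G] [Group.IsSolvable G] (m n : ℕ)
    (hG : Nat.card G = m * n) (hmn : m.Coprime n) :
    ∃ H : Subgroup G, Nat.card H = m ∧ H.index = n := by
  obtain ⟨H, h1, h2⟩ := hall_exists {p | p ∣ m} G
  have hm : PiNum {p | p ∣ m} m := fun p _ h => h
  have hn : PiNum {p | p ∣ m}ᶜ n := by
    intro p hp hpn hpm
    exact (Nat.Prime.not_coprime_iff_dvd.mpr ⟨p, hp, hpm, hpn⟩) hmn
  have e := Subgroup.card_mul_index H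
  rw [hG] at e
  have hc1 : (Nat.card H).Coprime n := coprime_of_piNum h1 hn
  have hc2 : m.Coprime H.index := coprime_of_piNum hm h2
  have d1 : Nat.card H ∣ m := hc1.dvd_of_dvd_mul_right (e ▸ Dvd.intro _ rfl)
  have d2 : m ∣ Nat.card H := hc2.dvd_of_dvd_mul_right (e.symm ▸ Dvd.intro _ rfl)
  have hcard : Nat.card H = m := Nat.dvd_antisymm d1 d2
  refine ⟨H, hcard, ?_⟩
  rw [hcard] at e
  have hmpos : 0 < m := by
    rcases Nat.eq_zero_or_pos m with h | h
    · rw [h, zero_mul] at hG
      exact absurd hG Nat.card_pos.ne'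
    · exact h
  exact Nat.eq_of_mul_eq_mul_left hmpos e

end Cfsg.Agent.Lib.Helper13
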