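import Mathlib
import Cfsg.Agent.Lib.Helper13.Hall

/-!
Hall's theorems: dominance and conjugacy (helper13).
-/

set_option autoImplicit false

namespace Cfsg.Agent.Lib.Helper13

open scoped Pointwise

universe u

theorem index_cj {G : Type*} [Group G] [Finite G] (g : G) (H : Subgroup G) :
    (MulAut.conj g • H).index = H.index := by
  have e1 := Subgroup.card_mul_index (MulAut.conj g • H)
  have e2 := Subgroup.card_mul_index H
  rw [card_cj, ← e2] at e1
  exact Nat.eq_of_mul_eq_mul_left Nat.card_pos e1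

/-- **Hall dominance**: in a finite solvable group, if `H` is a Hall subgroup (order coprime to
index) and `K` has order coprime to the index of `H`, then `K` lies in a conjugate of `H`. -/
theorem hall_dominance_aux (N : ℕ) :
    ∀ (G : Type u) [Group G] [Finite G] [Group.IsSolvable G], Nat.card G = N →
      ∀ H K : Subgroup G, (Nat.card H).Coprime H.index → (Nat.card K).Coprime H.index →
        ∃ g : G, K ≤ MulAut.conj g • H := by
  induction N using Nat.strong_induction_on with
  | _ N ih =>
  intro G _ _ _ hN H K hH hK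
  rcases subsingleton_or_nontrivial G with hsub | hnt
  · refine ⟨1, ?_⟩
    rw [Subgroup.eq_bot_of_subsingleton K]
    exact bot_le
  obtain ⟨p, M, hp, hMn, hMne, hMp⟩ := exists_normal_pgroup G
  have : Fact p.Prime := ⟨hp⟩
  have hMcard : 1 < Nat.card M := M.one_lt_card_iff_ne_bot.mpr hMne
  have hQcard : Nat.card (G ⧸ M) < N := by
    rw [← hN, ← Subgroup.card_mul_index M, ← Subgroup.index_eq_card]
    have : 0 < M.index := Nat.pos_of_ne_zero Subgroup.index_ne_zero_of_finite
    nlinarith
  have hsurj := QuotientGroup.mk'_surjective M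
  have hH' : (Nat.card (H.map (QuotientGroup.mk' M))).Coprime (H.map (QuotientGroup.mk' M)).index :=
    Nat.Coprime.of_dvd (Subgroup.card_map_dvd H _) (Subgroup.index_map_dvd H hsurj) hH
  have hK' : (Nat.card (K.map (QuotientGroup.mk' M))).Coprime (H.map (QuotientGroup.mk' M)).index :=
    Nat.Coprime.of_dvd (Subgroup.card_map_dvd K _) (Subgroup.index_map_dvd H hsurj) hK
  obtain ⟨gbar, hg⟩ := ih _ hQcard (G ⧸ M) rfl _ _ hH' hK'
  obtain ⟨g, rfl⟩ := hsurj gbar
  rw [← map_cj, Subgroup.map_le_map_iff, QuotientGroup.ker_mk'] at hg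
  obtain ⟨H₁, hH₁⟩ : ∃ H₁ : Subgroup G, H₁ = MulAut.conj g • H := ⟨_, rfl⟩
  rw [← hH₁] at hg
  have hH₁card : Nat.card H₁ = Nat.card H := by rw [hH₁, card_cj]
  have hH₁index : H₁.index = H.index := by rw [hH₁, index_cj]
  suffices h : ∃ x : G, K ≤ MulAut.conj x • H₁ by
    obtain ⟨x, hx⟩ := h
    refine ⟨x * g, ?_⟩
    rw [cj_mul, ← hH₁]
    exact hx
  by_cases hpi : p ∣ H₁.index
  · -- `p` divides the index: `M` meets `H₁` and `K` trivially
    have hpH : ¬ p ∣ Nat.card H₁ := by
      intro h
      rw [hH₁card, hH₁index] at *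
      exact (Nat.Prime.not_coprime_iff_dvd.mpr ⟨p, hp, h, hpi⟩) hH
    have hpK : ¬ p ∣ Nat.card K := by
      intro h
      rw [hH₁index] at hpi
      exact (Nat.Prime.not_coprime_iff_dvd.mpr ⟨p, hp, h, hpi⟩) hK
    obtain ⟨k, hk⟩ := IsPGroup.iff_card.mp hMp
    have hcopH : (Nat.card M).Coprime (Nat.card H₁) := by
      rw [hk]; exact Nat.Coprime.pow_left k ((Nat.Prime.coprime_iff_not_dvd hp).mpr hpH)
    have hcopK : (Nat.card M).Coprime (Nat.card K) := by
      rw [hk]; exact Nat.Coprime.pow_left k ((Nat.Prime.coprime_iff_not_dvd hp).mpr hpK)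
    obtain ⟨D, hD⟩ : ∃ D : Subgroup G, D = H₁ ⊓ (K ⊔ M) := ⟨_, rfl⟩
    have hDH : D ≤ H₁ := hD ▸ inf_le_left
    have hDL : D ≤ K ⊔ M := hD ▸ inf_le_right
    have hcopD : (Nat.card M).Coprime (Nat.card D) :=
      Nat.Coprime.of_dvd_right (Subgroup.card_dvd_of_le hDH) hcopH
    have hMnorm : ∀ X : Subgroup G, X ≤ Subgroup.normalizer (M : Set G) := by
      intro X
      rw [Subgroup.normalizer_eq_top]
      exact le_top
    have hB : K ≤ M ⊔ D := by
      intro x hx
      obtain ⟨h, hh, m, hm, rfl⟩ := Subgroup.mem_sup_of_normal_right.mp (hg hx)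
      have hhL : h ∈ K ⊔ M := by
        have : h = (h * m) * m⁻¹ := by group
        rw [this]
        exact Subgroup.mul_mem_sup hx (M.inv_mem hm)
      have hhD : h ∈ D := by rw [hD]; exact ⟨hh, hhL⟩
      have : h * m = (h * m * h⁻¹) * h := by group
      rw [this]
      exact Subgroup.mul_mem_sup (hMn.conj_mem m hm h) hhD
    have hL : M ⊔ D = K ⊔ M :=
      le_antisymm (sup_le le_sup_right hDL) (sup_le hB le_sup_left)
    have hL' : M ⊔ K = K ⊔ M := sup_comm M K
    have c1 := isComplement'_subgroupOf_of_le_normalizer (M := M) (H := D) (L := K ⊔ M)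
      le_sup_right hDL (hMnorm _) (Subgroup.disjoint_of_coprime_natCard hcopD).eq_bot hL
    have c2 := isComplement'_subgroupOf_of_le_normalizer (M := M) (H := K) (L := K ⊔ M)
      le_sup_right le_sup_left (hMnorm _) (Subgroup.disjoint_of_coprime_natCard hcopK).eq_bot hL'
    have hcard : Nat.card K = Nat.card D := by
      have e1 := c1.card_mul_card
      have e2 := c2.card_mul_card
      rw [← e2, card_subgroupOf_of_le hDL, card_subgroupOf_of_le (le_sup_left : K ≤ K ⊔ M)] at e1
      exact (Nat.eq_of_mul_eq_mul_left Nat.card_pos e1).symm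
    have hMsolv : Group.IsSolvable M := by
      have : Group.IsNilpotent M := hMp.isNilpotent
      infer_instance
    obtain ⟨x, _, hx⟩ := rel_sz_conj M D K (hMnorm D) hB hcard hcopD (Or.inl hMsolv)
    refine ⟨x, ?_⟩
    rw [← hx]
    exact cj_le_cj hDH
  · -- `p` does not divide the index: `M ≤ H₁`
    have hMH : M ≤ H₁ := normal_pgroup_le_of_not_dvd_index M H₁ hMp hpi
    refine ⟨1, ?_⟩
    rw [cj_one]
    exact hg.trans (sup_le le_rfl hMH)

/-- **Hall dominance**. -/
theorem hall_dominance {G : Type u} [Group G] [Finite G] [Group.IsSolvable G] (H K : Subgroup G)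
    (hH : (Nat.card H).Coprime H.index) (hK : (Nat.card K).Coprime H.index) :
    ∃ g : G, K ≤ MulAut.conj g • H :=
  hall_dominance_aux _ G rfl H K hH hK

/-- **Hall conjugacy**: Hall subgroups of the same order are conjugate. -/
theorem hall_conj {G : Type u} [Group G] [Finite G] [Group.IsSolvable G] (H K : Subgroup G)
    (hH : (Nat.card H).Coprime H.index) (hcard : Nat.card K = Nat.card H) :
    ∃ g : G, MulAut.conj g • H = K := by
  obtain ⟨g, hg⟩ := hall_dominance H K hH (hcard ▸ hH)
  refine ⟨g, (Subgroup.eq_of_le_of_card_ge hg ?_).symm⟩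
  rw [card_cj, hcard]

end Cfsg.Agent.Lib.Helper13
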