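import Mathlib
import Cfsg.Agent.Lib.Helper13.QuadRing
import Cfsg.Agent.Lib.Helper2.NilpotentBasic

set_option autoImplicit false

/-!
# The core computation of the Hughes–Thompson theorem
-/

universe u

namespace Cfsg.Agent.Lib.Helper13

open Subgroup

section ring

/-- Reindexing `j ↦ j * i mod p` on `range p` for `0 < i < p`. -/
theorem sum_pow_mul_eq {E : Type*} [Ring E] (p : ℕ) (hp : p.Prime) (Z : E) (hZp : Z ^ p = 1)
    (i : ℕ) (hi0 : 0 < i) (hip : i < p) :
    ∑ j ∈ Finset.range p, Z ^ (j * i) = ∑ j ∈ Finset.range p, Z ^ j := by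
  have hcop : Nat.Coprime i p :=
    ((Nat.Prime.coprime_iff_not_dvd hp).mpr (Nat.not_dvd_of_pos_of_lt hi0 hip)).symm
  have hinj : Set.InjOn (fun j => (j * i) % p) (Finset.range p : Set ℕ) := by
    intro a ha b hb hab
    have ha' : a < p := Finset.mem_range.mp ha
    have hb' : b < p := Finset.mem_range.mp hb
    have h1 : a * i ≡ b * i [MOD p] := hab
    have h2 : a ≡ b [MOD p] := Nat.ModEq.cancel_right_of_coprime hcop.symm h1
    have h3 : a % p = b % p := h2
    rwa [Nat.mod_eq_of_lt ha', Nat.mod_eq_of_lt hb'] at h3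
  have himg : Finset.image (fun j => (j * i) % p) (Finset.range p) = Finset.range p := by
    apply Finset.eq_of_subset_of_card_le
    · intro k hk
      obtain ⟨j, -, rfl⟩ := Finset.mem_image.mp hk
      exact Finset.mem_range.mpr (Nat.mod_lt _ hp.pos)
    · rw [Finset.card_image_of_injOn hinj]
  calc ∑ j ∈ Finset.range p, Z ^ (j * i)
      = ∑ j ∈ Finset.range p, Z ^ ((j * i) % p) :=
        Finset.sum_congr rfl (fun j _ => pow_eq_pow_mod _ hZp)
    _ = ∑ k ∈ Finset.image (fun j => (j * i) % p) (Finset.range p), Z ^ k :=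
        (Finset.sum_image (f := fun k => Z ^ k) hinj).symm
    _ = ∑ j ∈ Finset.range p, Z ^ j := by rw [himg]

theorem hughes_ring_lemma {E : Type*} [Ring E] (p : ℕ) (hp : p.Prime) (X Z : E)
    (hXZ : X * Z = Z * X) (hZp : Z ^ p = 1)
    (hsum : ∀ j < p, ∑ i ∈ Finset.range p, (X * Z ^ j) ^ i = 0)
    (hcancel : ∀ a : E, (p : E) * a = 0 → a = 0) : Z = 1 := by
  have hcomm : Commute X Z := hXZ
  have h1 : ∀ i j : ℕ, (X * Z ^ j) ^ i = X ^ i * Z ^ (j * i) := by
    intro i j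
    rw [(hcomm.pow_right j).mul_pow, ← pow_mul]
  obtain ⟨TZ, hTZ⟩ : ∃ T : E, T = ∑ j ∈ Finset.range p, Z ^ j := ⟨_, rfl⟩
  have h2 : ∑ j ∈ Finset.range p, ∑ i ∈ Finset.range p, (X * Z ^ j) ^ i = 0 :=
    Finset.sum_eq_zero (fun j hj => hsum j (Finset.mem_range.mp hj))
  rw [Finset.sum_comm] at h2
  have h3 : ∀ i ∈ Finset.range p, ∑ j ∈ Finset.range p, (X * Z ^ j) ^ i =
      X ^ i * ∑ j ∈ Finset.range p, Z ^ (j * i) := by
    intro i _
    rw [Finset.mul_sum]
    exact Finset.sum_congr rfl (fun j _ => h1 i j)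
  rw [Finset.sum_congr rfl h3] at h2
  obtain ⟨p', rfl⟩ : ∃ p', p = p' + 1 := ⟨p - 1, by have := hp.pos; omega⟩
  rw [Finset.sum_range_succ'] at h2
  have h4 : ∀ i ∈ Finset.range p', X ^ (i + 1) * ∑ j ∈ Finset.range (p' + 1), Z ^ (j * (i + 1)) =
      X ^ (i + 1) * TZ := by
    intro i hi
    rw [sum_pow_mul_eq (p' + 1) hp Z hZp (i + 1) (by omega)
      (by have := Finset.mem_range.mp hi; omega), hTZ]
  rw [Finset.sum_congr rfl h4, ← Finset.sum_mul] at h2
  have h5 : ∑ j ∈ Finset.range (p' + 1), Z ^ (j * 0) = ((p' + 1 : ℕ) : E) := by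
    simp
  rw [h5, pow_zero, one_mul] at h2
  have h6 := hsum 0 hp.pos
  rw [pow_zero, mul_one, Finset.sum_range_succ', pow_zero] at h6
  have h7 : ∑ i ∈ Finset.range p', X ^ (i + 1) = -1 := by
    rw [eq_neg_iff_add_eq_zero]; exact h6
  rw [h7, neg_one_mul, neg_add_eq_zero] at h2
  -- `TZ = p`
  have h8 : TZ * (Z - 1) = 0 := by
    rw [hTZ, geom_sum_mul, hZp, sub_self]
  rw [h2] at h8
  have h9 := hcancel _ h8
  exact sub_eq_zero.mp h9

end ring


section group

open scoped IsMulCommutative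

variable {G : Type*} [Group G] [Finite G]

omit [Finite G] in
/-- Elements outside `H` act fixed-point-freely on an abelian `p'`-subgroup of `H`. -/
theorem eq_one_of_commute_of_not_mem (p : ℕ) (H : Subgroup G) (hH : ∀ g, g ∉ H → g ^ p = 1)
    (Z : Subgroup G) (hZH : Z ≤ H) (hcop : (Nat.card Z).Coprime p) (y v : G) (hy : y ∉ H)
    (hv : v ∈ Z) (hyv : y * v = v * y) : v = 1 := by
  have h1 : y * v ∉ H := by
    intro h
    apply hy
    have : y = (y * v) * v⁻¹ := by group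
    rw [this]
    exact H.mul_mem h (H.inv_mem (hZH hv))
  have h2 := hH _ h1
  have hc : Commute y v := hyv
  rw [hc.mul_pow, hH y hy, one_mul] at h2
  have h3 : orderOf v ∣ p := orderOf_dvd_of_pow_eq_one h2
  have h4 : orderOf v ∣ Nat.card Z := Subgroup.orderOf_dvd_natCard Z hv
  have h5 : orderOf v = 1 := Nat.eq_one_of_dvd_coprimes hcop h4 h3
  exact orderOf_eq_one_iff.mp h5

omit [Finite G] in
/-- (GL) -/
theorem mem_centralizer_of_hughes (p : ℕ) (hp : p.Prime) (H : Subgroup G)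
    (hH : ∀ g, g ∉ H → g ^ p = 1) (Z : Subgroup G) [hZn : Z.Normal] [hZc : IsMulCommutative Z]
    (hZH : Z ≤ H) (hcop : (Nat.card Z).Coprime p) (x z : G) (hxz : ∀ j : ℕ, x * z ^ j ∉ H)
    (hzp : z ^ p ∈ centralizer (Z : Set G))
    (hcomm : (z * x)⁻¹ * (x * z) ∈ centralizer (Z : Set G)) : z ∈ centralizer (Z : Set G) := by
  rw [← conjRep_eq_one_iff]
  apply hughes_ring_lemma p hp (conjRep Z x) (conjRep Z z)
  · rw [← map_mul, ← map_mul]
    exact (conjRep_eq_of_mem_centralizer Z hcomm).symm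
  · rw [← map_pow]
    exact (conjRep_eq_one_iff Z _).mpr hzp
  · intro j _
    have hy := hxz j
    have hyp : conjRep Z (x * z ^ j) ^ p = 1 := by
      rw [← map_pow, hH _ hy, map_one]
    have hY : conjRep Z x * conjRep Z z ^ j = conjRep Z (x * z ^ j) := by
      rw [map_mul, map_pow]
    rw [hY]
    obtain ⟨T, hT⟩ : ∃ T : AddMonoid.End (Additive Z),
        T = ∑ i ∈ Finset.range p, conjRep Z (x * z ^ j) ^ i := ⟨_, rfl⟩
    rw [← hT]
    have h1 : (conjRep Z (x * z ^ j) - 1) * T = 0 := by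
      rw [hT, mul_geom_sum, hyp, sub_self]
    refine DFunLike.ext _ _ (fun w => ?_)
    have h2 : ((conjRep Z (x * z ^ j) - 1) * T) w = 0 := by rw [h1]; rfl
    have h3 : conjRep Z (x * z ^ j) (T w) - T w = 0 := h2
    have hw : ∃ v : Z, Additive.ofMul v = T w := ⟨Additive.toMul (T w), rfl⟩
    obtain ⟨v, hv⟩ := hw
    rw [← hv, conjRep_apply, sub_eq_zero] at h3
    have h4 : (⟨(x * z ^ j) * (v : G) * (x * z ^ j)⁻¹, hZn.conj_mem v v.2 _⟩ : Z) = v :=
      Additive.ofMul.injective h3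
    have h5 : (x * z ^ j) * (v : G) * (x * z ^ j)⁻¹ = v := congrArg Subtype.val h4
    have h6 : (x * z ^ j) * (v : G) = (v : G) * (x * z ^ j) := by
      calc (x * z ^ j) * (v : G) = ((x * z ^ j) * (v : G) * (x * z ^ j)⁻¹) * (x * z ^ j) := by
            group
        _ = (v : G) * (x * z ^ j) := by rw [h5]
    have h7 := eq_one_of_commute_of_not_mem p H hH Z hZH hcop _ _ hy v.2 h6
    have h8 : v = 1 := Subtype.ext h7
    rw [← hv, h8]
    rfl
  · intro a ha
    refine DFunLike.ext _ _ (fun w => ?_)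
    have h1 : (((p : ℕ) : AddMonoid.End (Additive Z)) * a) w = 0 := by rw [ha]; rfl
    have h2 : p • (a w) = 0 := by
      have : (((p : ℕ) : AddMonoid.End (Additive Z)) * a) w = p • (a w) := by
        show ((p : ℕ) : AddMonoid.End (Additive Z)) (a w) = _
        rw [AddMonoid.End.natCast_apply]
      rw [← this]; exact h1
    have h3 : addOrderOf (a w) ∣ p := addOrderOf_dvd_of_nsmul_eq_zero h2
    have h4 : addOrderOf (a w) ∣ Nat.card Z := by
      have := addOrderOf_dvd_natCard (a w)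
      exact this
    have h5 : addOrderOf (a w) = 1 := Nat.eq_one_of_dvd_coprimes hcop h4 h3
    exact AddMonoid.addOrderOf_eq_one_iff.mp h5


theorem hughes_core (p : ℕ) [hp : Fact p.Prime] (H : Subgroup G)
    (hH : ∀ g, g ∉ H → g ^ p = 1) (Z : Subgroup G) [hZn : Z.Normal] [hZc : IsMulCommutative Z]
    (hZH : Z ≤ H) (hcop : (Nat.card Z).Coprime p) (P' R' : Subgroup G) (hP' : IsPGroup p P')
    (hR'P' : R' ≤ P') (hnorm : P' ≤ normalizer (R' : Set G))
    (hx : ∀ z ∈ R', z ^ p ∈ centralizer (Z : Set G) → ∃ x ∈ P', ∀ j : ℕ, x * z ^ j ∉ H) :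
    R' ≤ centralizer (Z : Set G) := by
  by_contra hne
  obtain ⟨y₀, hy₀R, hy₀C⟩ := SetLike.not_le_iff_exists.mp hne
  obtain ⟨C, hCdef⟩ : ∃ C : Subgroup G, C = centralizer (Z : Set G) := ⟨_, rfl⟩
  have hCn : C.Normal := by rw [hCdef]; infer_instance
  rw [← hCdef] at hy₀C hx
  have hker : ∀ g : G, QuotientGroup.mk' C g = 1 ↔ g ∈ C := by
    intro g
    rw [← MonoidHom.mem_ker, QuotientGroup.ker_mk']
  obtain ⟨Pb, hPbdef⟩ : ∃ Pb : Subgroup (G ⧸ C), Pb = P'.map (QuotientGroup.mk' C) := ⟨_, rfl⟩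
  obtain ⟨Rb, hRbdef⟩ : ∃ Rb : Subgroup (G ⧸ C), Rb = R'.map (QuotientGroup.mk' C) := ⟨_, rfl⟩
  have hPbp : IsPGroup p Pb := by rw [hPbdef]; exact hP'.map _
  have hRbPb : Rb ≤ Pb := by rw [hRbdef, hPbdef]; exact Subgroup.map_mono hR'P'
  have hnil : Group.IsNilpotent Pb := hPbp.isNilpotent
  have hRbn : (Rb.subgroupOf Pb).Normal := by
    constructor
    intro a ha g
    rw [Subgroup.mem_subgroupOf] at ha ⊢
    have hg : (g : G ⧸ C) ∈ P'.map (QuotientGroup.mk' C) := hPbdef ▸ g.2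
    obtain ⟨y, hy, hyg⟩ := Subgroup.mem_map.mp hg
    have ha' : (a : G ⧸ C) ∈ R'.map (QuotientGroup.mk' C) := hRbdef ▸ ha
    obtain ⟨r, hr, hra⟩ := Subgroup.mem_map.mp ha'
    have h1 : y * r * y⁻¹ ∈ R' := (Subgroup.mem_normalizer_iff.mp (hnorm hy) r).mp hr
    have h2 : ((g * a * g⁻¹ : Pb) : G ⧸ C) = QuotientGroup.mk' C (y * r * y⁻¹) := by
      rw [map_mul, map_mul, map_inv, hyg, hra]
      rfl
    rw [h2, hRbdef]
    exact Subgroup.mem_map_of_mem _ h1
  have hRbne : Rb.subgroupOf Pb ≠ ⊥ := by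
    intro h
    have h1 : (⟨QuotientGroup.mk' C y₀, hPbdef ▸ Subgroup.mem_map_of_mem _ (hR'P' hy₀R)⟩ : Pb) ∈
        Rb.subgroupOf Pb := by
      rw [Subgroup.mem_subgroupOf, hRbdef]
      exact Subgroup.mem_map_of_mem _ hy₀R
    rw [h, Subgroup.mem_bot] at h1
    have h2 : QuotientGroup.mk' C y₀ = 1 := congrArg Subtype.val h1
    exact hy₀C ((hker y₀).mp h2)
  have hWne := Cfsg.Agent.Lib.Helper2.normal_inf_center_ne_bot (Rb.subgroupOf Pb) hRbne
  obtain ⟨W, hWdef⟩ : ∃ W : Subgroup Pb, W = Rb.subgroupOf Pb ⊓ Subgroup.center Pb := ⟨_, rfl⟩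
  rw [← hWdef] at hWne
  have hWp : IsPGroup p W := hPbp.to_subgroup W
  have hdvd : p ∣ Nat.card W := by
    obtain ⟨k, hk⟩ := IsPGroup.iff_card.mp hWp
    rcases Nat.eq_zero_or_pos k with h0 | h0
    · exfalso
      apply hWne
      rw [h0, pow_zero] at hk
      exact Subgroup.card_eq_one.mp hk
    · rw [hk]
      exact dvd_pow_self p h0.ne'
  obtain ⟨w, hw⟩ := exists_prime_orderOf_dvd_card' p hdvd
  have hwW : (w : Pb) ∈ Rb.subgroupOf Pb ⊓ Subgroup.center Pb := hWdef ▸ w.2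
  obtain ⟨hwR, hwZ⟩ := Subgroup.mem_inf.mp hwW
  rw [Subgroup.mem_subgroupOf, hRbdef] at hwR
  obtain ⟨z, hz, hzw⟩ := Subgroup.mem_map.mp hwR
  have hzC : z ∉ C := by
    intro h
    have h1 : ((w : Pb) : G ⧸ C) = 1 := by rw [← hzw]; exact (hker z).mpr h
    have h2 : w = 1 := Subtype.ext (Subtype.ext h1)
    rw [h2, orderOf_one] at hw
    exact hp.out.one_lt.ne hw
  have hzp : z ^ p ∈ C := by
    rw [← hker, map_pow, hzw]
    have h1 : w ^ p = 1 := by rw [← hw]; exact pow_orderOf_eq_one w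
    have h2 := congrArg Subtype.val (congrArg Subtype.val h1)
    simpa using h2
  obtain ⟨x, hxP', hxj⟩ := hx z hz hzp
  have hcomm : (z * x)⁻¹ * (x * z) ∈ C := by
    have h1 := (Subgroup.mem_center_iff.mp hwZ)
      ⟨QuotientGroup.mk' C x, hPbdef ▸ Subgroup.mem_map_of_mem _ hxP'⟩
    have h2 : QuotientGroup.mk' C x * QuotientGroup.mk' C z =
        QuotientGroup.mk' C z * QuotientGroup.mk' C x := by
      have := congrArg Subtype.val h1
      rw [hzw]
      exact this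
    rw [← hker, map_mul, map_inv, map_mul, map_mul, h2, inv_mul_cancel]
  rw [hCdef] at hzp hcomm hzC
  exact hzC (mem_centralizer_of_hughes p hp.out H hH Z hZH hcop x z hxj hzp hcomm)

/-- Hughes–Thompson core: the index of `H` divides `p`. -/
theorem index_dvd_of_hughes (p : ℕ) [hp : Fact p.Prime] (H : Subgroup G) [hHn : H.Normal]
    (hH : ∀ g, g ∉ H → g ^ p = 1) (Z : Subgroup G) [hZn : Z.Normal] [hZc : IsMulCommutative Z]
    (hZH : Z ≤ H) (hZ1 : Z ≠ ⊥) (hcop : (Nat.card Z).Coprime p) : H.index ∣ p := by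
  by_contra hnd
  have hquot : IsPGroup p (G ⧸ H) := by
    intro y
    obtain ⟨g, rfl⟩ := QuotientGroup.mk'_surjective H y
    refine ⟨1, ?_⟩
    rw [pow_one, ← map_pow]
    by_cases hg : g ∈ H
    · exact (QuotientGroup.eq_one_iff _).mpr (H.pow_mem hg p)
    · rw [hH g hg, map_one]
  obtain ⟨k, hk⟩ := IsPGroup.iff_card.mp hquot
  rw [← Subgroup.index_eq_card] at hk
  obtain ⟨P⟩ : Nonempty (Sylow p G) := inferInstance
  have hsup : (P : Subgroup G) ⊔ H = ⊤ := by
    rw [← Subgroup.index_eq_one]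
    by_contra hne1
    obtain ⟨r, hr, hrd⟩ := Nat.exists_prime_and_dvd hne1
    have h1 : r ∣ p ^ k := hk ▸ hrd.trans (Subgroup.index_dvd_of_le le_sup_right)
    have h2 : r = p := (Nat.prime_dvd_prime_iff_eq hr hp.out).mp (hr.dvd_of_dvd_pow h1)
    rw [h2] at hrd
    exact P.not_dvd_index (hrd.trans (Subgroup.index_dvd_of_le le_sup_left))
  have hCH : centralizer (Z : Set G) ≤ H := by
    intro c hc
    by_contra hcH
    obtain ⟨⟨v, hv⟩, hv1⟩ := (Subgroup.ne_bot_iff_exists_ne_one).mp hZ1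
    apply hv1
    apply Subtype.ext
    show v = 1
    have h1 := (Subgroup.mem_centralizer_iff.mp hc) v hv
    exact eq_one_of_commute_of_not_mem p H hH Z hZH hcop c v hcH hv h1.symm
  have hHtop : H ≠ ⊤ := by
    intro h
    apply hnd
    rw [h, Subgroup.index_top]
    exact one_dvd p
  have hPC : (P : Subgroup G) ≤ centralizer (Z : Set G) := by
    apply hughes_core p H hH Z hZH hcop (P : Subgroup G) (P : Subgroup G) P.isPGroup' le_rfl
      Subgroup.le_normalizer
    intro z hz hzp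
    by_contra hno
    push Not at hno
    apply hnd
    have hPle : (P : Subgroup G) ≤ H ⊔ zpowers z := by
      intro x hx
      obtain ⟨j, hj⟩ := hno x hx
      have : x = (x * z ^ j) * (z ^ j)⁻¹ := by group
      rw [this]
      exact Subgroup.mul_mem _ (Subgroup.mem_sup_left hj)
        (Subgroup.inv_mem _ (Subgroup.mem_sup_right (Subgroup.pow_mem _ (Subgroup.mem_zpowers z) j)))
    have htop : H ⊔ zpowers z = ⊤ := by
      rw [eq_top_iff, ← hsup]
      exact sup_le hPle le_sup_left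
    have hall : ∀ y : G ⧸ H, y ∈ zpowers (QuotientGroup.mk' H z) := by
      intro y
      obtain ⟨g, rfl⟩ := QuotientGroup.mk'_surjective H y
      have hg : g ∈ H ⊔ zpowers z := by rw [htop]; exact Subgroup.mem_top g
      obtain ⟨h, hh, u, hu, rfl⟩ := Subgroup.mem_sup_of_normal_left.mp hg
      obtain ⟨n, rfl⟩ := Subgroup.mem_zpowers_iff.mp hu
      have hh1 : QuotientGroup.mk' H h = 1 := (QuotientGroup.eq_one_iff h).mpr hh
      rw [map_mul, hh1, one_mul, map_zpow]
      exact Subgroup.zpow_mem _ (Subgroup.mem_zpowers _) n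
    have hord := orderOf_eq_card_of_forall_mem_zpowers hall
    rw [Subgroup.index_eq_card, ← hord]
    apply orderOf_dvd_of_pow_eq_one
    rw [← map_pow]
    exact (QuotientGroup.eq_one_iff _).mpr (hCH hzp)
  apply hHtop
  rw [eq_top_iff, ← hsup]
  exact sup_le (hPC.trans hCH) le_rfl

/-- A `p`-subgroup not inside `H` meets `H` in a subgroup centralizing `Z`. -/
theorem inf_le_centralizer_of_hughes (p : ℕ) [hp : Fact p.Prime] (H : Subgroup G)
    [hHn : H.Normal] (hH : ∀ g, g ∉ H → g ^ p = 1) (Z : Subgroup G) [hZn : Z.Normal]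
    [hZc : IsMulCommutative Z] (hZH : Z ≤ H) (hcop : (Nat.card Z).Coprime p) (P' : Subgroup G)
    (hP' : IsPGroup p P') (hP'H : ¬ P' ≤ H) : P' ⊓ H ≤ centralizer (Z : Set G) := by
  obtain ⟨x, hxP', hxH⟩ := SetLike.not_le_iff_exists.mp hP'H
  apply hughes_core p H hH Z hZH hcop P' (P' ⊓ H) hP' inf_le_left
  · intro y hy
    rw [Subgroup.mem_normalizer_iff]
    intro h
    constructor
    · intro hh
      obtain ⟨h1, h2⟩ := Subgroup.mem_inf.mp hh
      exact Subgroup.mem_inf.mpr ⟨P'.mul_mem (P'.mul_mem hy h1) (P'.inv_mem hy),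
        hHn.conj_mem h h2 y⟩
    · intro hh
      obtain ⟨h1, h2⟩ := Subgroup.mem_inf.mp hh
      have e : h = y⁻¹ * (y * h * y⁻¹) * y := by group
      rw [e]
      refine Subgroup.mem_inf.mpr ⟨P'.mul_mem (P'.mul_mem (P'.inv_mem hy) h1) hy, ?_⟩
      have := hHn.conj_mem _ h2 y⁻¹
      simpa using this
  · intro z hz _
    refine ⟨x, hxP', ?_⟩
    intro j hj
    apply hxH
    have : x = (x * z ^ j) * (z ^ j)⁻¹ := by group
    rw [this]
    exact H.mul_mem hj (H.inv_mem (H.pow_mem (Subgroup.mem_inf.mp hz).2 j))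

end group

end Cfsg.Agent.Lib.Helper13
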