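import Mathlib
import Cfsg.Agent.Lib.Helper13.HughesCore
import Cfsg.Agent.Lib.Helper13.FpfThompson

set_option autoImplicit false

/-!
# The Hughes–Thompson theorem and Kegel's theorem
-/

universe u

namespace Cfsg.Agent.Lib.Helper13

open Subgroup

section ht

variable {G : Type u} [Group G] [Finite G] (p : ℕ) [hp : Fact p.Prime]

/-- **Hughes–Thompson**: if `G` is not a `p`-group and all elements outside the proper normal
subgroup `H` have order `p`, then `|G : H| = p`. -/
theorem hughes_index (hG : ¬ IsPGroup p G) (H : Subgroup G) [hHn : H.Normal]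
    (hH : ∀ g, g ∉ H → g ^ p = 1) (hHtop : H ≠ ⊤) : H.index = p := by
  -- a prime `q ≠ p` dividing `|G|`
  have hq : ∃ q : ℕ, q.Prime ∧ q ∣ Nat.card G ∧ q ≠ p := by
    by_contra hno
    push Not at hno
    apply hG
    have h1 := Nat.eq_prime_pow_of_unique_prime_dvd (Nat.card_pos (α := G)).ne'
      (fun {d} hd hdvd => hno d hd hdvd)
    exact IsPGroup.of_card h1
  obtain ⟨q, hq, hqd, hqp⟩ := hq
  have hqf : Fact q.Prime := ⟨hq⟩
  obtain ⟨Q⟩ : Nonempty (Sylow q G) := inferInstance
  have hQne : (Q : Subgroup G) ≠ ⊥ := Q.ne_bot_of_dvd_card hqd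
  have hcopqp : Nat.Coprime q p := (Nat.coprime_primes hq hp.out).mpr hqp
  have hQH : (Q : Subgroup G) ≤ H := by
    intro y hy
    by_contra hyH
    have h1 := hH y hyH
    have h2 : y = 1 := by
      apply eq_one_of_isPGroup_of_coprime Q.isPGroup' hy
      have h3 : orderOf y ∣ p := orderOf_dvd_of_pow_eq_one h1
      exact Nat.Coprime.coprime_dvd_left h3 hcopqp.symm
    exact hyH (h2 ▸ H.one_mem)
  have hfrat : normalizer ((Q : Subgroup G) : Set G) ⊔ H = ⊤ := Sylow.normalizer_sup_eq_top' Q hQH
  obtain ⟨N, hNdef⟩ : ∃ N : Subgroup G, N = normalizer ((Q : Subgroup G) : Set G) := ⟨_, rfl⟩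
  rw [← hNdef] at hfrat
  have hQN : (Q : Subgroup G) ≤ N := by rw [hNdef]; exact Subgroup.le_normalizer
  obtain ⟨V, hVdef⟩ : ∃ V : Subgroup G,
      V = (Q : Subgroup G) ⊓ centralizer ((Q : Subgroup G) : Set G) := ⟨_, rfl⟩
  have hVQ : V ≤ (Q : Subgroup G) := by rw [hVdef]; exact inf_le_left
  have hVne : V ≠ ⊥ := by
    rw [hVdef]; exact inf_centralizer_ne_bot_of_isPGroup _ Q.isPGroup' hQne
  have hNV : N ≤ normalizer (V : Set G) := by
    rw [hNdef, hVdef]; exact normalizer_le_normalizer_zsub _
  have hVcomm : ∀ a ∈ V, ∀ b ∈ V, a * b = b * a := by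
    intro a ha b hb
    rw [hVdef] at ha hb
    exact (Subgroup.mem_centralizer_iff.mp (Subgroup.mem_inf.mp hb).2) a (Subgroup.mem_inf.mp ha).1
  -- work inside `N`
  have hV'n : (V.subgroupOf N).Normal := by
    constructor
    intro v hv g
    rw [Subgroup.mem_subgroupOf] at hv ⊢
    exact (Subgroup.mem_normalizer_iff.mp (hNV g.2) v).mp hv
  have hV'c : IsMulCommutative (V.subgroupOf N) := by
    refine ⟨⟨fun a b => ?_⟩⟩
    apply Subtype.ext
    apply Subtype.ext
    exact hVcomm _ (Subgroup.mem_subgroupOf.mp a.2) _ (Subgroup.mem_subgroupOf.mp b.2)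
  have hV'H : V.subgroupOf N ≤ H.subgroupOf N := by
    intro v hv
    rw [Subgroup.mem_subgroupOf] at hv ⊢
    exact hQH (hVQ hv)
  have hV'ne : V.subgroupOf N ≠ ⊥ := by
    intro h
    apply hVne
    rw [eq_bot_iff]
    intro v hv
    have h1 : (⟨v, hQN (hVQ hv)⟩ : N) ∈ V.subgroupOf N := Subgroup.mem_subgroupOf.mpr hv
    rw [h, Subgroup.mem_bot] at h1
    exact congrArg Subtype.val h1
  have hV'card : (Nat.card (V.subgroupOf N)).Coprime p := by
    have h1 : Nat.card (V.subgroupOf N) = Nat.card V :=
      Nat.card_congr (Subgroup.subgroupOfEquivOfLe (hVQ.trans hQN)).toEquiv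
    rw [h1]
    obtain ⟨m, hm⟩ := IsPGroup.iff_card.mp (Q.isPGroup'.to_le hVQ)
    rw [hm]
    exact Nat.Coprime.pow_left m hcopqp
  have hH' : ∀ g : N, g ∉ H.subgroupOf N → g ^ p = 1 := by
    intro g hg
    apply Subtype.ext
    rw [Subgroup.mem_subgroupOf] at hg
    have := hH _ hg
    simpa using this
  have hdvd := index_dvd_of_hughes p (H.subgroupOf N) hH' (V.subgroupOf N) hV'H hV'ne hV'card
  have hidx : (H.subgroupOf N).index = H.index := by
    show H.relIndex N = H.index
    rw [← Subgroup.relIndex_sup_right N H, hfrat, Subgroup.relIndex_top_right]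
  rw [hidx] at hdvd
  rcases (Nat.dvd_prime hp.out).mp hdvd with h1 | h1
  · exact absurd (Subgroup.index_eq_one.mp h1) hHtop
  · exact h1

end ht


section conj

open scoped IsMulCommutative

variable {G : Type u} [Group G]

theorem conj_iterate (x g : G) (k : ℕ) :
    (⇑(MulAut.conj x))^[k] g = x ^ k * g * (x ^ k)⁻¹ := by
  rw [← mulAut_coe_pow_eq_iterate, ← map_pow, MulAut.conj_apply]

theorem conj_iterate_period (x : G) (p : ℕ) (hx : x ^ p = 1) :
    (⇑(MulAut.conj x))^[p] = id := by
  funext g
  rw [conj_iterate, hx]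
  simp

theorem sum_psi_conj_eq_zero (p : ℕ) (H : Subgroup G) (hH : ∀ g, g ∉ H → g ^ p = 1)
    (Z : Subgroup G) [hZc : IsMulCommutative Z] (hZH : Z ≤ H) (x : G)
    (hx : x ∉ H) (hZx : Z.map (MulAut.conj x).toMonoidHom = Z) :
    ∑ k ∈ Finset.range p, psi (MulAut.conj x) Z hZx k = 0 := by
  refine DFunLike.ext _ _ (fun w => ?_)
  have hw : ∃ v : Z, Additive.ofMul v = w := ⟨Additive.toMul w, rfl⟩
  obtain ⟨v, rfl⟩ := hw
  rw [end_sum_apply]
  simp only [psi_apply]
  rw [← ofMul_prod]
  show Additive.ofMul _ = Additive.ofMul (1 : Z)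
  apply congrArg Additive.ofMul
  obtain ⟨a, hadef⟩ : ∃ a : ℕ → Z, a = fun k =>
      (⟨(⇑(MulAut.conj x))^[k] (v : G), iterate_mem_of_map_eq _ hZx k v.2⟩ : Z) := ⟨_, rfl⟩
  have hprod : ∏ k ∈ Finset.range p,
      (⟨(⇑(MulAut.conj x))^[k] (v : G), iterate_mem_of_map_eq _ hZx k v.2⟩ : Z) =
      ∏ k ∈ Finset.range p, a k := by
    rw [hadef]
  rw [hprod]
  have ha : ∀ k, ((a k : Z) : G) = x ^ k * (v : G) * (x ^ k)⁻¹ := by
    intro k
    rw [hadef]
    exact conj_iterate x v k
  have key : ∀ n : ℕ, ((∏ k ∈ Finset.range n, a k : Z) : G) * x ^ n = ((v : G) * x) ^ n := by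
    intro n
    induction n with
    | zero => simp
    | succ n ih =>
      rw [Finset.prod_range_succ, Subgroup.coe_mul, ha n, pow_succ ((v : G) * x), ← ih, pow_succ x]
      group
  have hvx : (v : G) * x ∉ H := by
    intro h
    apply hx
    have : x = (v : G)⁻¹ * ((v : G) * x) := by group
    rw [this]
    exact H.mul_mem (H.inv_mem (hZH v.2)) h
  have h1 := key p
  rw [hH x hx, mul_one, hH _ hvx] at h1
  exact Subtype.ext h1

end conj


section kegel

variable (p : ℕ) [hp : Fact p.Prime]

theorem kegel_stepII {G : Type u} [Group G] [Finite G] (H : Subgroup G) [hHn : H.Normal]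
    (hidx : H.index = p) (hH : ∀ g, g ∉ H → g ^ p = 1)
    (ihquot : ∀ N : Subgroup G, ∀ [N.Normal], N ≤ H → N ≠ ⊥ →
      Group.IsNilpotent ↥(H.map (QuotientGroup.mk' N)))
    (s : ℕ) [hs : Fact s.Prime] (S₀ : Subgroup G) [hS₀n : S₀.Normal] (hS₀H : S₀ ≤ H)
    (hS₀ : IsPGroup s S₀) (hne : S₀ ≠ ⊥) : Group.IsNilpotent H := by
  have hHtop : H ≠ ⊤ := by
    intro h
    rw [h, Subgroup.index_top] at hidx
    exact hp.out.one_lt.ne hidx
  have hq := ihquot S₀ hS₀H hne
  obtain ⟨S⟩ : Nonempty (Sylow s ↥H) := inferInstance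
  -- `S` is normal in `H`
  have hS₀'n : (S₀.subgroupOf H).Normal := inferInstance
  have hS₀'S : S₀.subgroupOf H ≤ (S : Subgroup H) :=
    le_sylow_of_normal (S₀.subgroupOf H) hS₀.comap_subtype S
  have hfsurj := MonoidHom.subgroupMap_surjective (QuotientGroup.mk' S₀) H
  have hker : ((QuotientGroup.mk' S₀).subgroupMap H).ker = S₀.subgroupOf H := by
    ext x
    rw [MonoidHom.mem_ker, Subgroup.mem_subgroupOf]
    constructor
    · intro h
      have h1 : QuotientGroup.mk' S₀ (x : G) = 1 := congrArg Subtype.val h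
      exact (QuotientGroup.eq_one_iff _).mp h1
    · intro h
      apply Subtype.ext
      exact (QuotientGroup.eq_one_iff _).mpr h
  have hSn : (S : Subgroup H).Normal := by
    have h1 : ((S.mapSurjective hfsurj : Sylow s ↥(H.map (QuotientGroup.mk' S₀))) :
        Subgroup ↥(H.map (QuotientGroup.mk' S₀))).Normal := inferInstance
    rw [Sylow.coe_mapSurjective] at h1
    have hcm : ((S : Subgroup H).map ((QuotientGroup.mk' S₀).subgroupMap H)).comap
        ((QuotientGroup.mk' S₀).subgroupMap H) = S := by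
      rw [Subgroup.comap_map_eq, hker, sup_eq_left.mpr hS₀'S]
    rw [← hcm]
    exact h1.comap _
  have hSchar : (S : Subgroup H).Characteristic := Sylow.characteristic_of_normal S hSn
  obtain ⟨T, hTdef⟩ : ∃ T : Subgroup G, T = (S : Subgroup H).map H.subtype := ⟨_, rfl⟩
  have hTn : T.Normal := by rw [hTdef]; infer_instance
  have hTH : T ≤ H := by rw [hTdef]; exact Subgroup.map_subtype_le _
  have hTp : IsPGroup s T := by rw [hTdef]; exact S.isPGroup'.map _
  have hS₀T : S₀ ≤ T := by
    intro x hx
    rw [hTdef]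
    exact Subgroup.mem_map.mpr ⟨⟨x, hS₀H hx⟩, hS₀'S (Subgroup.mem_subgroupOf.mpr hx), rfl⟩
  have hTne : T ≠ ⊥ := by
    intro h; apply hne; rw [eq_bot_iff, ← h]; exact hS₀T
  obtain ⟨Z, hZdef⟩ : ∃ Z : Subgroup G, Z = T ⊓ centralizer (T : Set G) := ⟨_, rfl⟩
  have hZne : Z ≠ ⊥ := by rw [hZdef]; exact inf_centralizer_ne_bot_of_isPGroup _ hTp hTne
  have hZn : Z.Normal := by rw [hZdef]; infer_instance
  have hZH : Z ≤ H := by rw [hZdef]; exact inf_le_left.trans hTH
  have hZp : IsPGroup s Z := by rw [hZdef]; exact hTp.to_le inf_le_left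
  have hZc : IsMulCommutative Z := by
    refine ⟨⟨fun a b => ?_⟩⟩
    apply Subtype.ext
    have ha : (a : G) ∈ T ⊓ centralizer (T : Set G) := hZdef ▸ a.2
    have hb : (b : G) ∈ T ⊓ centralizer (T : Set G) := hZdef ▸ b.2
    exact (Subgroup.mem_centralizer_iff.mp (Subgroup.mem_inf.mp hb).2) a (Subgroup.mem_inf.mp ha).1
  have hTZ : T ≤ centralizer (Z : Set G) := by
    intro t ht
    rw [Subgroup.mem_centralizer_iff]
    intro z hz
    rw [hZdef] at hz
    exact ((Subgroup.mem_centralizer_iff.mp (Subgroup.mem_inf.mp hz).2) t ht).symm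
  have hqZ := ihquot Z hZH hZne
  -- `H` centralizes `Z`
  have hHZ : H ≤ centralizer (Z : Set G) := by
    rw [← Subgroup.relIndex_eq_one]
    by_contra hne1
    obtain ⟨r, hr, hrd⟩ := Nat.exists_prime_and_dvd hne1
    have hrf : Fact r.Prime := ⟨hr⟩
    obtain ⟨R⟩ : Nonempty (Sylow r ↥H) := inferInstance
    have hRle : (R : Subgroup H).map H.subtype ≤ centralizer (Z : Set G) := by
      by_cases hrs : r = s
      · subst hrs
        have := Sylow.unique_of_normal S hSn
        have hRS : R = S := Subsingleton.elim R S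
        rw [hRS, ← hTdef]
        exact hTZ
      · have hfrat := Sylow.normalizer_sup_eq_top R
        obtain ⟨RG, hRGdef⟩ : ∃ RG : Subgroup G, RG = (R : Subgroup H).map H.subtype := ⟨_, rfl⟩
        rw [← hRGdef] at hfrat ⊢
        have hRGH : RG ≤ H := by rw [hRGdef]; exact Subgroup.map_subtype_le _
        have hRGp : IsPGroup r RG := by rw [hRGdef]; exact R.isPGroup'.map _
        have hnH : ¬ normalizer (RG : Set G) ≤ H := by
          intro h
          apply hHtop
          rw [eq_top_iff, ← hfrat]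
          exact sup_le h le_rfl
        obtain ⟨x', hx'N, hx'H⟩ := SetLike.not_le_iff_exists.mp hnH
        have hcoprs : Nat.Coprime r s := (Nat.coprime_primes hr hs.out).mpr hrs
        by_cases hrp : r = p
        · -- `r = p`
          have hx'p : IsPGroup p (zpowers x') := by
            apply IsPGroup.of_card (n := 1)
            rw [Nat.card_zpowers, pow_one]
            have h1 : orderOf x' ∣ p := orderOf_dvd_of_pow_eq_one (hH x' hx'H)
            rcases (Nat.dvd_prime hp.out).mp h1 with h2 | h2
            · exfalso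
              apply hx'H
              rw [orderOf_eq_one_iff.mp h2]
              exact H.one_mem
            · exact h2
          have hP'p : IsPGroup p ↥(zpowers x' ⊔ RG) := by
            apply IsPGroup.to_sup_of_normal_right' hx'p (hrp ▸ hRGp)
            rw [Subgroup.zpowers_le]
            exact hx'N
          have hP'H : ¬ (zpowers x' ⊔ RG) ≤ H := by
            intro h
            exact hx'H (h (Subgroup.mem_sup_left (Subgroup.mem_zpowers x')))
          have hcopZ : (Nat.card Z).Coprime p := by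
            obtain ⟨b, hb⟩ := IsPGroup.iff_card.mp hZp
            rw [hb, ← hrp]
            exact Nat.Coprime.pow_left b hcoprs.symm
          have h1 := inf_le_centralizer_of_hughes p H hH Z hZH hcopZ _ hP'p hP'H
          exact (le_inf le_sup_right hRGH).trans h1
        · -- `r ≠ p`
          have hcoprp : Nat.Coprime r p := (Nat.coprime_primes hr hp.out).mpr hrp
          have hZx : Z.map (MulAut.conj x').toMonoidHom = Z := by
            apply map_eq_of_forall_mem
            intro z hz
            exact hZn.conj_mem z hz x'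
          have hRx : RG.map (MulAut.conj x').toMonoidHom = RG := by
            apply map_eq_of_forall_mem
            intro y hy
            exact (Subgroup.mem_normalizer_iff.mp hx'N y).mp hy
          have hcopRG : (Nat.card RG).Coprime p := by
            obtain ⟨a, ha⟩ := IsPGroup.iff_card.mp hRGp
            rw [ha]
            exact Nat.Coprime.pow_left a hcoprp
          apply le_centralizer_of_coprime_of_sum_psi (MulAut.conj x') Z p hp.out
            (conj_iterate_period x' p (hH x' hx'H)) hZx
            (sum_psi_conj_eq_zero p H hH Z hZH x' hx'H hZx) RG hRx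
          · intro y hy hfix
            have h1 : x' * y * x'⁻¹ = y := hfix
            have h2 : x' * y = y * x' := by
              calc x' * y = (x' * y * x'⁻¹) * x' := by group
                _ = y * x' := by rw [h1]
            exact eq_one_of_commute_of_not_mem p H hH RG hRGH hcopRG x' y hx'H hy h2
          · obtain ⟨a, ha⟩ := IsPGroup.iff_card.mp hRGp
            obtain ⟨b, hb⟩ := IsPGroup.iff_card.mp hZp
            rw [ha, hb]
            exact Nat.Coprime.pow a b hcoprs
    have hRle' : (R : Subgroup H) ≤ (centralizer (Z : Set G)).subgroupOf H := by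
      intro y hy
      rw [Subgroup.mem_subgroupOf]
      exact hRle (Subgroup.mem_map_of_mem _ hy)
    have h1 : ((centralizer (Z : Set G)).subgroupOf H).index ∣ (R : Subgroup H).index :=
      Subgroup.index_dvd_of_le hRle'
    exact R.not_dvd_index (hrd.trans h1)
  -- conclude
  have hker2 : ((QuotientGroup.mk' Z).subgroupMap H).ker ≤ Subgroup.center H := by
    intro x hx
    rw [MonoidHom.mem_ker] at hx
    have h1 : QuotientGroup.mk' Z (x : G) = 1 := congrArg Subtype.val hx
    have h2 : (x : G) ∈ Z := (QuotientGroup.eq_one_iff _).mp h1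
    rw [Subgroup.mem_center_iff]
    intro g
    apply Subtype.ext
    exact ((Subgroup.mem_centralizer_iff.mp (hHZ g.2)) _ h2).symm
  exact Subgroup.isNilpotent_of_ker_le_center ((QuotientGroup.mk' Z).subgroupMap H) hker2


omit hp in
/-- The Thompson hypothesis for a subgroup `H`, from the intersections with `H`. -/
theorem ThHyp.of_subgroup_inf {G : Type u} [Group G] [Finite G] (q : ℕ) [Fact q.Prime]
    (H : Subgroup G) (R₀ : Subgroup H)
    (h1 : NPC q ↥(normalizer (Cfsg.thompsonSubgroupOf q (R₀.map H.subtype) : Set G) ⊓ H))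
    (h2 : NPC q ↥(centralizer (((R₀.map H.subtype) ⊓
      centralizer ((R₀.map H.subtype : Subgroup G) : Set G) : Subgroup G) : Set G) ⊓ H)) :
    ThHyp q ↥H R₀ := by
  have hinj := H.subtype_injective
  constructor
  · have hJ : Cfsg.thompsonSubgroupOf q (R₀.map H.subtype) =
        (Cfsg.thompsonSubgroupOf q R₀).map H.subtype :=
      Helper17.thompsonSubgroupOf_map_of_injOn H.subtype (fun x _ hx => hinj (by rw [hx, map_one]))
    rw [hJ] at h1
    have h3 : (normalizer (Cfsg.thompsonSubgroupOf q R₀ : Set H)).map H.subtype ≤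
        normalizer (((Cfsg.thompsonSubgroupOf q R₀).map H.subtype : Subgroup G) : Set G) ⊓ H :=
      le_inf (Subgroup.le_normalizer_map H.subtype) (Subgroup.map_subtype_le _)
    have h4 := NPC.of_le h3 h1
    exact NPC.of_equiv (Subgroup.equivMapOfInjective _ H.subtype hinj).symm h4
  · have h3 : (centralizer ((R₀ ⊓ centralizer (R₀ : Set H) : Subgroup H) : Set H)).map H.subtype ≤
        centralizer (((R₀.map H.subtype) ⊓
          centralizer ((R₀.map H.subtype : Subgroup G) : Set G) : Subgroup G) : Set G) ⊓ H := by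
      refine le_inf ?_ (Subgroup.map_subtype_le _)
      rintro _ ⟨x, hx, rfl⟩
      rw [Subgroup.mem_centralizer_iff]
      intro z hz
      obtain ⟨hz1, hz2⟩ := Subgroup.mem_inf.mp hz
      obtain ⟨z', hz', rfl⟩ := Subgroup.mem_map.mp hz1
      have hz'c : z' ∈ centralizer (R₀ : Set H) := by
        rw [Subgroup.mem_centralizer_iff]
        intro r hr
        apply hinj
        rw [map_mul, map_mul]
        exact (Subgroup.mem_centralizer_iff.mp hz2) _ (Subgroup.mem_map_of_mem _ hr)
      have := (Subgroup.mem_centralizer_iff.mp hx) z' (Subgroup.mem_inf.mpr ⟨hz', hz'c⟩)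
      rw [← map_mul, ← map_mul, this]
    have h4 := NPC.of_le h3 h2
    exact NPC.of_equiv (Subgroup.equivMapOfInjective _ H.subtype hinj).symm h4

/-- **Kegel**: if `H` is normal of index `p` in `G` and all elements outside `H` have order `p`,
then `H` is nilpotent. -/
theorem kegel_aux : ∀ n : ℕ, ∀ (G : Type u) [Group G] [Finite G], Nat.card G = n →
    ∀ H : Subgroup G, H.Normal → H.index = p → (∀ g, g ∉ H → g ^ p = 1) →
    Group.IsNilpotent H := by
  intro n
  induction n using Nat.strong_induction_on with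
  | _ n ih =>
  intro G _ _ hn H hHn hidx hH
  have hHtop : H ≠ ⊤ := by
    intro h
    rw [h, Subgroup.index_top] at hidx
    exact hp.out.one_lt.ne hidx
  obtain ⟨x₀, hx₀⟩ : ∃ x₀, x₀ ∉ H := by
    by_contra h
    push Not at h
    exact hHtop (eq_top_iff.mpr fun g _ => h g)
  have ihsub : ∀ G' : Subgroup G, G' ≠ ⊤ → ¬ G' ≤ H → ∀ K : Subgroup G, K ≤ H → K ≤ G' →
      Group.IsNilpotent K := by
    intro G' hG' hG'H K hKH hKG'
    have hlt : Nat.card G' < n := by
      rw [← hn]
      rcases lt_or_eq_of_le (Subgroup.card_le_card_group G') with h | h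
      · exact h
      · exact absurd ((Subgroup.card_eq_iff_eq_top G').mp h) hG'
    have hH'n : (H.subgroupOf G').Normal := inferInstance
    have hidx' : (H.subgroupOf G').index = p := by
      have h1 : H.relIndex G' ∣ H.index := Subgroup.relIndex_dvd_index_of_normal H G'
      rw [hidx] at h1
      rcases (Nat.dvd_prime hp.out).mp h1 with h2 | h2
      · exact absurd (Subgroup.relIndex_eq_one.mp h2) hG'H
      · exact h2
    have hnil : Group.IsNilpotent ↥(H.subgroupOf G') :=
      ih _ hlt ↥G' rfl (H.subgroupOf G') hH'n hidx' (fun g hg => by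
        apply Subtype.ext
        rw [Subgroup.mem_subgroupOf] at hg
        have := hH _ hg
        simpa using this)
    obtain ⟨f, hf⟩ : ∃ f : K →* ↥(H.subgroupOf G'), Function.Injective f := by
      refine ⟨{ toFun := fun k => ⟨⟨k, hKG' k.2⟩, Subgroup.mem_subgroupOf.mpr (hKH k.2)⟩
                map_one' := rfl
                map_mul' := fun a b => rfl }, ?_⟩
      intro a b hab
      have h1 := congrArg (fun t : ↥(H.subgroupOf G') => ((t : G') : G)) hab
      exact Subtype.ext h1
    exact Subgroup.isNilpotent_of_ker_le_center f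
      (by rw [(MonoidHom.ker_eq_bot_iff f).mpr hf]; exact bot_le)
  have ihquot : ∀ N : Subgroup G, ∀ [N.Normal], N ≤ H → N ≠ ⊥ →
      Group.IsNilpotent ↥(H.map (QuotientGroup.mk' N)) := by
    intro N _ hNH hNne
    have hlt : Nat.card (G ⧸ N) < n := by
      have h2 := Subgroup.card_eq_card_quotient_mul_card_subgroup N
      have h3 : 1 < Nat.card N := by
        rcases Nat.lt_or_ge 1 (Nat.card N) with h | h
        · exact h
        · exfalso
          apply hNne
          have hpos : 0 < Nat.card N := Nat.card_pos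
          exact Subgroup.card_eq_one.mp (by omega)
      have hpos : 0 < Nat.card (G ⧸ N) := Nat.card_pos
      rw [← hn, h2]
      nlinarith
    have hn' : (H.map (QuotientGroup.mk' N)).Normal :=
      hHn.map _ (QuotientGroup.mk'_surjective N)
    have hidx' : (H.map (QuotientGroup.mk' N)).index = p := by
      rw [Subgroup.index_map_eq _ (QuotientGroup.mk'_surjective N)
        (by rw [QuotientGroup.ker_mk']; exact hNH), hidx]
    exact ih _ hlt (G ⧸ N) rfl _ hn' hidx' (fun y hy => by
      obtain ⟨g, rfl⟩ := QuotientGroup.mk'_surjective N y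
      have hg : g ∉ H := fun h => hy (Subgroup.mem_map_of_mem _ h)
      rw [← map_pow, hH g hg, map_one])
  by_cases hodd : ∃ q : ℕ, q.Prime ∧ q ≠ 2 ∧ q ∣ Nat.card H
  · obtain ⟨q, hq, hq2, hqd⟩ := hodd
    have hqf : Fact q.Prime := ⟨hq⟩
    obtain ⟨Q⟩ : Nonempty (Sylow q ↥H) := inferInstance
    obtain ⟨QG, hQGdef⟩ : ∃ QG : Subgroup G, QG = (Q : Subgroup H).map H.subtype := ⟨_, rfl⟩
    have hQGH : QG ≤ H := by rw [hQGdef]; exact Subgroup.map_subtype_le _
    have hQGp : IsPGroup q QG := by rw [hQGdef]; exact Q.isPGroup'.map _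
    have hQGne : QG ≠ ⊥ := by
      rw [hQGdef]
      intro h
      have h1 := (Subgroup.map_eq_bot_iff_of_injective _ H.subtype_injective).mp h
      exact Q.ne_bot_of_dvd_card hqd h1
    have hfrat := Sylow.normalizer_sup_eq_top Q
    rw [← hQGdef] at hfrat
    have hnH : ∀ X : Subgroup G, normalizer (QG : Set G) ≤ normalizer (X : Set G) →
        ¬ normalizer (X : Set G) ≤ H := by
      intro X hX h
      apply hHtop
      rw [eq_top_iff, ← hfrat]
      exact sup_le (hX.trans h) le_rfl
    by_cases hJ : normalizer (Cfsg.thompsonSubgroupOf q QG : Set G) = ⊤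
    · have : (Cfsg.thompsonSubgroupOf q QG).Normal := Subgroup.normalizer_eq_top_iff.mp hJ
      exact kegel_stepII p H hidx hH ihquot q (Cfsg.thompsonSubgroupOf q QG)
        ((Helper17.thompsonSubgroupOf_le_self QG).trans hQGH)
        (hQGp.to_le (Helper17.thompsonSubgroupOf_le_self QG))
        (thompsonSubgroupOf_ne_bot QG hQGp hQGne)
    by_cases hZ : normalizer ((QG ⊓ centralizer (QG : Set G) : Subgroup G) : Set G) = ⊤
    · have : (QG ⊓ centralizer (QG : Set G)).Normal := Subgroup.normalizer_eq_top_iff.mp hZ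
      exact kegel_stepII p H hidx hH ihquot q (QG ⊓ centralizer (QG : Set G))
        (inf_le_left.trans hQGH) (hQGp.to_le inf_le_left)
        (inf_centralizer_ne_bot_of_isPGroup QG hQGp hQGne)
    have hnil1 := ihsub _ hJ
      (hnH _ (Helper17.normalizer_le_normalizer_thompsonSubgroupOf QG))
      (normalizer (Cfsg.thompsonSubgroupOf q QG : Set G) ⊓ H) inf_le_right inf_le_left
    have hnil2 := ihsub _ hZ (hnH _ (normalizer_le_normalizer_zsub QG))
      (centralizer ((QG ⊓ centralizer (QG : Set G) : Subgroup G) : Set G) ⊓ H) inf_le_right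
      (inf_le_left.trans (Subgroup.centralizer_le_normalizer _))
    have hTh : ThHyp q ↥H (Q : Subgroup H) := by
      apply ThHyp.of_subgroup_inf q H
      · rw [← hQGdef]; exact NPC.of_isNilpotent q
      · rw [← hQGdef]; exact NPC.of_isNilpotent q
    obtain ⟨K', hK'n, hcop, k, hk⟩ := thompson_aux hq2 _ ↥H rfl Q hTh
    by_cases hK'bot : K' = ⊥
    · rw [hK'bot, Subgroup.index_bot] at hk
      exact (IsPGroup.of_card hk).isNilpotent
    obtain ⟨K, hKdef⟩ : ∃ K : Subgroup G, K = K'.map H.subtype := ⟨_, rfl⟩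
    have hKH : K ≤ H := by rw [hKdef]; exact Subgroup.map_subtype_le _
    have hKne : K ≠ ⊥ := by
      rw [hKdef]
      intro h
      exact hK'bot ((Subgroup.map_eq_bot_iff_of_injective _ H.subtype_injective).mp h)
    have hKn : K.Normal := by
      constructor
      intro y hy g
      rw [hKdef] at hy ⊢
      obtain ⟨y', hy', rfl⟩ := Subgroup.mem_map.mp hy
      have hmem : g * (y' : G) * g⁻¹ ∈ H := hHn.conj_mem _ y'.2 g
      have hord : orderOf (⟨g * (y' : G) * g⁻¹, hmem⟩ : H) = orderOf y' := by
        rw [← Subgroup.orderOf_coe, ← Subgroup.orderOf_coe]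
        show orderOf (g * (y' : G) * g⁻¹) = orderOf (y' : G)
        exact orderOf_injective (MulAut.conj g).toMonoidHom (MulAut.conj g).injective (y' : G)
      have h1 : (⟨g * (y' : G) * g⁻¹, hmem⟩ : H) ∈ K' := by
        apply Helper17.mem_of_coprime_index K'
        rw [hord, hk]
        apply Nat.Coprime.pow_right
        exact Nat.Coprime.coprime_dvd_left (Subgroup.orderOf_dvd_natCard K' hy') hcop
      exact Subgroup.mem_map.mpr ⟨_, h1, rfl⟩
    have hKidx : K.index = q ^ k * p := by
      rw [hKdef, Subgroup.index_map_subtype, hk, hidx]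
    have hG'top : K ⊔ zpowers x₀ ≠ ⊤ := by
      intro htop
      have hall : ∀ y : G ⧸ K, y ∈ zpowers (QuotientGroup.mk' K x₀) := by
        intro y
        obtain ⟨g, rfl⟩ := QuotientGroup.mk'_surjective K y
        have hg : g ∈ K ⊔ zpowers x₀ := by rw [htop]; exact Subgroup.mem_top g
        obtain ⟨h, hh, u, hu, rfl⟩ := Subgroup.mem_sup_of_normal_left.mp hg
        obtain ⟨m, rfl⟩ := Subgroup.mem_zpowers_iff.mp hu
        have hh1 : QuotientGroup.mk' K h = 1 := (QuotientGroup.eq_one_iff h).mpr hh
        rw [map_mul, hh1, one_mul, map_zpow]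
        exact Subgroup.zpow_mem _ (Subgroup.mem_zpowers _) m
      have hord := orderOf_eq_card_of_forall_mem_zpowers hall
      have h1 : K.index ∣ p := by
        rw [Subgroup.index_eq_card, ← hord]
        apply orderOf_dvd_of_pow_eq_one
        rw [← map_pow, hH x₀ hx₀, map_one]
      rw [hKidx] at h1
      have h2 : q ^ k = 1 := by
        have h3 : q ^ k * p ∣ 1 * p := by rw [one_mul]; exact h1
        exact Nat.dvd_one.mp (Nat.dvd_of_mul_dvd_mul_right hp.out.pos h3)
      rw [h2] at hk
      have h4 : K' = ⊤ := Subgroup.index_eq_one.mp hk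
      rw [h4, Subgroup.card_top] at hcop
      exact (Nat.Prime.coprime_iff_not_dvd hq).mp hcop.symm hqd
    have hG'H : ¬ K ⊔ zpowers x₀ ≤ H := by
      intro h
      exact hx₀ (h (Subgroup.mem_sup_right (Subgroup.mem_zpowers x₀)))
    have hKnil := ihsub _ hG'top hG'H K hKH le_sup_left
    have hKnt : Nontrivial K := (Subgroup.nontrivial_iff_ne_bot K).mpr hKne
    have hcne := Group.IsNilpotent.center_ne_bot (G := K)
    obtain ⟨⟨z, hz⟩, hz1⟩ := (Subgroup.ne_bot_iff_exists_ne_one).mp hcne
    have hzZ : (z : G) ∈ K ⊓ centralizer (K : Set G) := by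
      refine Subgroup.mem_inf.mpr ⟨z.2, ?_⟩
      rw [Subgroup.mem_centralizer_iff]
      intro u hu
      exact congrArg Subtype.val ((Subgroup.mem_center_iff.mp hz) ⟨u, hu⟩)
    have hZKne : K ⊓ centralizer (K : Set G) ≠ ⊥ := by
      intro h
      rw [h, Subgroup.mem_bot] at hzZ
      apply hz1
      apply Subtype.ext
      apply Subtype.ext
      exact hzZ
    have hcard : Nat.card ↥(K ⊓ centralizer (K : Set G)) ≠ 1 :=
      fun h => hZKne (Subgroup.card_eq_one.mp h)
    obtain ⟨s, hs, hsd⟩ := Nat.exists_prime_and_dvd hcard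
    have hsf : Fact s.Prime := ⟨hs⟩
    obtain ⟨w, hw⟩ := exists_prime_orderOf_dvd_card' s hsd
    have hw1 : (w : G) ^ s = 1 := by
      have : w ^ s = 1 := by rw [← hw]; exact pow_orderOf_eq_one w
      have := congrArg Subtype.val this
      simpa using this
    have hwS : (w : G) ∈ omegaZ s K := (mem_omegaZ K _).mpr ⟨w.2, hw1⟩
    have hSne : omegaZ s K ≠ ⊥ := by
      intro h
      rw [h, Subgroup.mem_bot] at hwS
      have hw2 : w = 1 := Subtype.ext hwS
      rw [hw2, orderOf_one] at hw
      exact hs.one_lt.ne hw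
    have hSn : (omegaZ s K).Normal := omegaZ_normal K
    have hSp : IsPGroup s (omegaZ s K) := by
      intro g
      refine ⟨1, ?_⟩
      apply Subtype.ext
      rw [pow_one]
      exact ((mem_omegaZ K _).mp g.2).2
    have hSH : omegaZ s K ≤ H := by
      intro y hy
      exact hKH (Subgroup.mem_inf.mp ((mem_omegaZ K y).mp hy).1).1
    exact kegel_stepII p H hidx hH ihquot s (omegaZ s K) hSH hSp hSne
  · push Not at hodd
    have h2 : IsPGroup 2 H := by
      have h1 := Nat.eq_prime_pow_of_unique_prime_dvd (Nat.card_pos (α := H)).ne'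
        (fun {d} hd hdvd => by
          by_contra hne
          exact hodd d hd hne hdvd)
      exact IsPGroup.of_card h1
    have : Fact (Nat.Prime 2) := ⟨Nat.prime_two⟩
    exact h2.isNilpotent

end kegel

end Cfsg.Agent.Lib.Helper13
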