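import Mathlib
import Cfsg.Agent.Lib.Helper13.GenAxB
import Cfsg.Agent.Lib.Helper13.GenAxB2
import Cfsg.Agent.Lib.Helper13.InvPrime
import Cfsg.Agent.Lib.Helper20.PConstrained

/-!
# Invariant `p'`-subgroups lie in `O_{p'}`, `p`-constrained version (helper13)

`invariant_le_pPrimeCore_of_constrained`: `H` `p`-constrained, `B` a `p`-subgroup containing every `p`-element of
`C_H(B)`, `K` a `B`-invariant `p'`-subgroup; if `p = 2` the `2`-subgroups have class at most two.
Then `K ≤ O_{p'}(H)`.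
-/

set_option autoImplicit false
set_option linter.style.haveILetI false

universe u

namespace Cfsg.Agent.Lib.Helper13

open scoped commutatorElement
open Subgroup

/-- **Invariant `p'`-subgroups lie in `O_{p'}`** (`p`-constrained groups). -/
theorem invariant_le_pPrimeCore_of_constrained {H : Type u} [Group H] [Finite H] (p : ℕ)
    [hp : Fact p.Prime] (hcon : Cfsg.IsPConstrained p H)
    (hcase : p ≠ 2 ∨ ∀ T : Subgroup H, IsPGroup p T → ∀ x ∈ T, ∀ y ∈ T, ∀ z ∈ T, ⁅⁅x, y⁆, z⁆ = 1)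
    (B K : Subgroup H) (hBp : IsPGroup p B)
    (hBfull : ∀ y ∈ centralizer (B : Set H), IsPGroup p (Subgroup.zpowers y) → y ∈ B)
    (hK : (Nat.card K).Coprime p) (hBK : B ≤ normalizer (K : Set H)) :
    K ≤ Cfsg.pPrimeCore p H := by
  obtain ⟨O, hOdef⟩ : ∃ O : Subgroup H, O = Cfsg.pPrimeCore p H := ⟨_, rfl⟩
  rw [← hOdef]
  haveI hOn : O.Normal := by rw [hOdef]; exact Helper2.pPrimeCore_normal p
  have hCR0 : centralizer ((Cfsg.pCore p (H ⧸ O) : Subgroup (H ⧸ O)) : Set (H ⧸ O)) ≤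
      Cfsg.pCore p (H ⧸ O) := by
    subst hOdef
    exact (Helper20.isPConstrained_iff_centralizer_pCore_le (X := H) p).mp hcon
  have hOcop : (Nat.card O).Coprime p := by rw [hOdef]; exact Helper2.pPrimeCore_coprime p
  have hOnd : ¬ p ∣ Nat.card O := (Nat.Prime.coprime_iff_not_dvd hp.out).mp hOcop.symm
  obtain ⟨π, hπdef⟩ : ∃ π : H →* H ⧸ O, π = QuotientGroup.mk' O := ⟨_, rfl⟩
  have hπsurj : Function.Surjective π := by rw [hπdef]; exact QuotientGroup.mk'_surjective O
  have hπker : π.ker = O := by rw [hπdef]; exact QuotientGroup.ker_mk' O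
  obtain ⟨R, hRdef⟩ : ∃ R : Subgroup (H ⧸ O), R = Cfsg.pCore p (H ⧸ O) := ⟨_, rfl⟩
  haveI hRn : R.Normal := by rw [hRdef]; exact Helper2.pCore_normal p
  have hRp : IsPGroup p R := by rw [hRdef]; exact Helper2.pCore_isPGroup p
  have hCR : centralizer (R : Set (H ⧸ O)) ≤ R := by
    rw [hRdef]; exact hCR0
  have hKbar : (Nat.card (K.map π)).Coprime p :=
    Nat.Coprime.coprime_dvd_left (Subgroup.card_map_dvd K π) hK
  have hBKbar : B.map π ≤ normalizer ((K.map π : Subgroup (H ⧸ O)) : Set (H ⧸ O)) :=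
    (Subgroup.map_mono hBK).trans (Subgroup.le_normalizer_map π)
  have hdisj : ∀ x : H ⧸ O, x ∈ R → x ∈ K.map π → x = 1 := by
    intro x hxR hxK
    have h1 : orderOf x ∣ Nat.card (K.map π) := Subgroup.orderOf_dvd_natCard _ hxK
    obtain ⟨j, hj⟩ := (IsPGroup.iff_orderOf.mp hRp) ⟨x, hxR⟩
    have h2 : orderOf x = p ^ j := by rw [← hj]; exact (Subgroup.orderOf_mk x hxR).symm
    have h3 : orderOf x = 1 := by
      apply Nat.eq_one_of_dvd_coprimes (hKbar.pow_right j) h1
      rw [h2]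
    exact orderOf_eq_one_iff.mp h3
  have hfix : R ⊓ centralizer ((B.map π : Subgroup (H ⧸ O)) : Set (H ⧸ O)) ≤
      centralizer ((K.map π : Subgroup (H ⧸ O)) : Set (H ⧸ O)) := by
    rintro x ⟨hxR, hxC⟩
    -- `x ∈ B̄`
    have hxC' : x ∈ (centralizer (B : Set H)).map (QuotientGroup.mk' O) := by
      rw [← Helper20.centralizer_map_mk'_of_coprime p O hOnd B hBp, ← hπdef]
      exact hxC
    rw [← hπdef] at hxC'
    obtain ⟨y, hyC, rfl⟩ := hxC'
    obtain ⟨j, hj⟩ := hRp ⟨π y, hxR⟩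
    have hj' : (π y) ^ p ^ j = 1 := by
      have := congrArg Subtype.val hj
      simpa using this
    obtain ⟨e, he1, he2⟩ := exists_pow_isPGroup p π y j hj'
    have hyeB : y ^ e ∈ B := hBfull _ (Subgroup.pow_mem _ hyC e) he2
    have hxB : π y ∈ B.map π := by rw [← he1]; exact Subgroup.mem_map_of_mem π hyeB
    rw [Subgroup.mem_centralizer_iff]
    intro k hk
    -- the commutator lies in `R ∩ K̄`
    have h1 : ⁅π y, k⁆ ∈ R := by
      rw [commutatorElement_def]
      have : π y * k * (π y)⁻¹ * k⁻¹ = π y * (k * (π y)⁻¹ * k⁻¹) := by group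
      rw [this]
      exact R.mul_mem hxR (hRn.conj_mem _ (R.inv_mem hxR) k)
    have h2 : ⁅π y, k⁆ ∈ K.map π := by
      rw [commutatorElement_def]
      exact Subgroup.mul_mem _
        ((Subgroup.mem_normalizer_iff.mp (hBKbar hxB) k).mp hk) (Subgroup.inv_mem _ hk)
    have h3 := hdisj _ h1 h2
    exact (commutatorElement_eq_one_iff_commute.mp h3).eq.symm
  have hAR : B.map π ≤ normalizer (R : Set (H ⧸ O)) := by
    rw [Subgroup.normalizer_eq_top R]; exact le_top
  have hKR' : K.map π ≤ normalizer (R : Set (H ⧸ O)) := by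
    rw [Subgroup.normalizer_eq_top R]; exact le_top
  have key : R ≤ centralizer ((K.map π : Subgroup (H ⧸ O)) : Set (H ⧸ O)) := by
    rcases hcase with hp2 | hcl
    · exact gen_AxB p hp2 (B.map π) (K.map π) (hBp.map π) hKbar hBKbar _ R rfl hRp hAR hKR' hfix
    · apply gen_AxB_quad p (B.map π) (K.map π) R (hBp.map π) hKbar hBKbar hRp hAR hKR' hfix
      -- `[R, B̄] ≤ C(B̄)` from class two
      obtain ⟨S, hBS⟩ := hBp.exists_le_sylow
      have hRS : R ≤ S.map π := by
        have := IsPGroup.le_sylow_of_normal hRp (S.mapSurjective hπsurj)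
        rwa [Sylow.coe_mapSurjective] at this
      have hBS' : B.map π ≤ S.map π := Subgroup.map_mono hBS
      have hcl' : ∀ x ∈ (S : Subgroup H).map π, ∀ y ∈ (S : Subgroup H).map π,
          ∀ z ∈ (S : Subgroup H).map π, ⁅⁅x, y⁆, z⁆ = 1 := by
        rintro _ ⟨x, hx, rfl⟩ _ ⟨y, hy, rfl⟩ _ ⟨z, hz, rfl⟩
        rw [← map_commutatorElement, ← map_commutatorElement, hcl S S.2 x hx y hy z hz, map_one]
      rw [Subgroup.commutator_le]
      intro r hr b hb
      rw [Subgroup.mem_centralizer_iff]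
      intro b' hb'
      have h1 := hcl' r (hRS hr) b (hBS' hb) b' (hBS' hb')
      exact (commutatorElement_eq_one_iff_commute.mp h1).eq.symm
  -- `K̄ ≤ C(R) ≤ R`
  have hKR : K.map π ≤ R := by
    refine le_trans ?_ hCR
    intro k hk
    rw [Subgroup.mem_centralizer_iff]
    intro r hr
    exact (Subgroup.mem_centralizer_iff.mp (key hr) k hk).symm
  intro k hk
  have h1 : π k = 1 := hdisj _ (hKR (Subgroup.mem_map_of_mem π hk)) (Subgroup.mem_map_of_mem π hk)
  rw [← hπker, MonoidHom.mem_ker]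
  exact h1

end Cfsg.Agent.Lib.Helper13
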