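import Mathlib
import Cfsg.Agent.Lib.Helper13.SZBasic
import Cfsg.Agent.Lib.Helper13.SZConjB

/-!
Kegel–Wielandt project (helper13), part 1: permutable subgroups and Kegel's lemma.
-/

set_option autoImplicit false

namespace Cfsg.Agent.Lib.Helper13.KW

open Cfsg.Agent.Lib.Helper13
open scoped Pointwise

variable {G : Type*} [Group G]

/-- `X * Y ⊆ Y * X` (for subgroups this means `XY` is a subgroup). -/
def Perm (X Y : Subgroup G) : Prop :=
  ∀ x ∈ X, ∀ y ∈ Y, ∃ y' ∈ Y, ∃ x' ∈ X, x * y = y' * x'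

/-- `H = X Y`. -/
def IsProd (H X Y : Subgroup G) : Prop :=
  X ≤ H ∧ Y ≤ H ∧ ∀ h ∈ H, ∃ x ∈ X, ∃ y ∈ Y, h = x * y

theorem Perm.symm {X Y : Subgroup G} (h : Perm X Y) : Perm Y X := by
  intro y hy x hx
  obtain ⟨y', hy', x', hx', e⟩ := h x⁻¹ (X.inv_mem hx) y⁻¹ (Y.inv_mem hy)
  refine ⟨x'⁻¹, X.inv_mem hx', y'⁻¹, Y.inv_mem hy', ?_⟩
  have : (x⁻¹ * y⁻¹)⁻¹ = (y' * x')⁻¹ := by rw [e]
  simpa [mul_inv_rev] using this

theorem IsProd.symm {H X Y : Subgroup G} (h : IsProd H X Y) : IsProd H Y X := by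
  refine ⟨h.2.1, h.1, ?_⟩
  intro g hg
  obtain ⟨x, hx, y, hy, e⟩ := h.2.2 g⁻¹ (H.inv_mem hg)
  refine ⟨y⁻¹, Y.inv_mem hy, x⁻¹, X.inv_mem hx, ?_⟩
  have : (g⁻¹)⁻¹ = (x * y)⁻¹ := by rw [e]
  simpa [mul_inv_rev] using this

theorem IsProd.perm {H X Y : Subgroup G} (h : IsProd H X Y) : Perm X Y := by
  intro x hx y hy
  have hxy : x * y ∈ H := H.mul_mem (h.1 hx) (h.2.1 hy)
  obtain ⟨y', hy', x', hx', e⟩ := h.symm.2.2 (x * y) hxy
  exact ⟨y', hy', x', hx', e⟩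

/-- the subgroup `XY` of permutable subgroups -/
def prodSubgroup (X Y : Subgroup G) (h : Perm X Y) : Subgroup G where
  carrier := {g | ∃ x ∈ X, ∃ y ∈ Y, g = x * y}
  one_mem' := ⟨1, X.one_mem, 1, Y.one_mem, by simp⟩
  mul_mem' := by
    rintro _ _ ⟨x₁, hx₁, y₁, hy₁, rfl⟩ ⟨x₂, hx₂, y₂, hy₂, rfl⟩
    obtain ⟨x', hx', y', hy', e⟩ := h.symm y₁ hy₁ x₂ hx₂
    refine ⟨x₁ * x', X.mul_mem hx₁ hx', y' * y₂, Y.mul_mem hy' hy₂, ?_⟩
    calc x₁ * y₁ * (x₂ * y₂) = x₁ * (y₁ * x₂) * y₂ := by group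
      _ = x₁ * (x' * y') * y₂ := by rw [e]
      _ = x₁ * x' * (y' * y₂) := by group
  inv_mem' := by
    rintro _ ⟨x, hx, y, hy, rfl⟩
    obtain ⟨x', hx', y', hy', e⟩ := h.symm y⁻¹ (Y.inv_mem hy) x⁻¹ (X.inv_mem hx)
    exact ⟨x', hx', y', hy', by rw [mul_inv_rev, e]⟩

theorem isProd_prodSubgroup (X Y : Subgroup G) (h : Perm X Y) : IsProd (prodSubgroup X Y h) X Y := by
  refine ⟨?_, ?_, ?_⟩
  · intro x hx; exact ⟨x, hx, 1, Y.one_mem, by simp⟩
  · intro y hy; exact ⟨1, X.one_mem, y, hy, by simp⟩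
  · intro g hg; exact hg

theorem Perm.exists_isProd {X Y : Subgroup G} (h : Perm X Y) : ∃ S : Subgroup G, IsProd S X Y :=
  ⟨_, isProd_prodSubgroup X Y h⟩

theorem IsProd.eq_sup {H X Y : Subgroup G} (h : IsProd H X Y) : H = X ⊔ Y := by
  apply le_antisymm
  · intro g hg
    obtain ⟨x, hx, y, hy, rfl⟩ := h.2.2 g hg
    exact (X ⊔ Y).mul_mem (Subgroup.mem_sup_left hx) (Subgroup.mem_sup_right hy)
  · exact sup_le h.1 h.2.1

theorem Perm.cj {X Y : Subgroup G} (h : Perm X Y) (g : G) :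
    Perm (MulAut.conj g • X) (MulAut.conj g • Y) := by
  intro x hx y hy
  rw [mem_cj] at hx hy
  obtain ⟨y', hy', x', hx', e⟩ := h _ hx _ hy
  refine ⟨g * y' * g⁻¹, ?_, g * x' * g⁻¹, ?_, ?_⟩
  · rw [mem_cj]; simpa [mul_assoc] using hy'
  · rw [mem_cj]; simpa [mul_assoc] using hx'
  · have : x * y = g * ((g⁻¹ * x * g) * (g⁻¹ * y * g)) * g⁻¹ := by group
    rw [this, e]; group

theorem pow_left_perm {X Z : Subgroup G} {u : G}
    (hu : ∀ z ∈ Z, ∃ z' ∈ Z, ∃ x' ∈ X, u * z = z' * x') (n : ℕ) :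
    ∀ z ∈ Z, ∃ z' ∈ Z, ∃ x' ∈ X, u ^ n * z = z' * x' := by
  induction n with
  | zero => intro z hz; exact ⟨z, hz, 1, X.one_mem, by simp⟩
  | succ k ih =>
    intro z hz
    obtain ⟨z₁, hz₁, x₁, hx₁, e₁⟩ := hu z hz
    obtain ⟨z₂, hz₂, x₂, hx₂, e₂⟩ := ih z₁ hz₁
    refine ⟨z₂, hz₂, x₂ * x₁, X.mul_mem hx₂ hx₁, ?_⟩
    calc u ^ (k + 1) * z = u ^ k * (u * z) := by rw [pow_succ]; group
      _ = u ^ k * z₁ * x₁ := by rw [e₁]; group
      _ = z₂ * (x₂ * x₁) := by rw [e₂]; group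

/-- a join of subgroups permuting with `Z` permutes with `Z` -/
theorem Perm.sup_left [Finite G] {X Y Z : Subgroup G} (hX : Perm X Z) (hY : Perm Y Z) :
    Perm (X ⊔ Y) Z := by
  intro u hu
  rw [← Subgroup.closure_eq X, ← Subgroup.closure_eq Y, ← Subgroup.closure_union] at hu
  induction hu using Subgroup.closure_induction with
  | mem x hx =>
    intro z hz
    rcases hx with hx | hx
    · obtain ⟨z', hz', x', hx', e⟩ := hX x hx z hz
      exact ⟨z', hz', x', Subgroup.mem_sup_left hx', e⟩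
    · obtain ⟨z', hz', x', hx', e⟩ := hY x hx z hz
      exact ⟨z', hz', x', Subgroup.mem_sup_right hx', e⟩
  | one => intro z hz; exact ⟨z, hz, 1, (X ⊔ Y).one_mem, by simp⟩
  | mul a b _ _ iha ihb =>
    intro z hz
    obtain ⟨z₁, hz₁, x₁, hx₁, e₁⟩ := ihb z hz
    obtain ⟨z₂, hz₂, x₂, hx₂, e₂⟩ := iha z₁ hz₁
    refine ⟨z₂, hz₂, x₂ * x₁, (X ⊔ Y).mul_mem hx₂ hx₁, ?_⟩
    calc a * b * z = a * (b * z) := by group
      _ = a * z₁ * x₁ := by rw [e₁]; group
      _ = z₂ * (x₂ * x₁) := by rw [e₂]; group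
  | inv a _ iha =>
    intro z hz
    have h1 := pow_left_perm (X := X ⊔ Y) (Z := Z) iha (orderOf a - 1) z hz
    have h2 : a ^ (orderOf a - 1) = a⁻¹ := by
      have hpos := orderOf_pos a
      apply eq_inv_of_mul_eq_one_left
      rw [← pow_succ, Nat.sub_add_cancel hpos, pow_orderOf_eq_one]
    rwa [h2] at h1

theorem Perm.sup_right [Finite G] {X Y Z : Subgroup G} (hX : Perm Z X) (hY : Perm Z Y) :
    Perm Z (X ⊔ Y) :=
  (Perm.sup_left hX.symm hY.symm).symm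

theorem cj_sup (g : G) (X Y : Subgroup G) :
    MulAut.conj g • (X ⊔ Y) = MulAut.conj g • X ⊔ MulAut.conj g • Y :=
  Subgroup.smul_sup _ _ _

theorem card_lt_of_lt [Finite G] {X Y : Subgroup G} (h : X < Y) : Nat.card X < Nat.card Y := by
  by_contra hcon
  push Not at hcon
  exact h.ne (Subgroup.eq_of_le_of_card_ge h.le hcon)

/-- **Kegel's lemma** (for simple groups): nontrivial subgroups `X`, `Y` such that `X` permutes
with every conjugate of `Y` satisfy `G = XY`. -/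
theorem kegel_aux [Finite G] [IsSimpleGroup G] (n : ℕ) : ∀ X Y : Subgroup G, X ≠ ⊥ → Y ≠ ⊥ →
    (∀ g : G, Perm X (MulAut.conj g • Y)) →
    2 * Nat.card G - (Nat.card X + Nat.card Y) = n → ∀ g : G, ∃ x ∈ X, ∃ y ∈ Y, g = x * y := by
  induction n using Nat.strong_induction_on with
  | _ n ih =>
  intro X Y hX hY hperm hn
  have hXY : Perm X Y := by
    have h1 := hperm 1
    rwa [cj_one] at h1
  have hcX : Nat.card X ≤ Nat.card G := Subgroup.card_le_card_group X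
  have hcY : Nat.card Y ≤ Nat.card G := Subgroup.card_le_card_group Y
  -- general step: enlarging X
  have stepX : ∀ (Y' : Subgroup G), Y' ≠ ⊥ → Nat.card Y' = Nat.card Y →
      (∀ g : G, Perm X (MulAut.conj g • Y')) →
      (∃ y ∈ Y', MulAut.conj y • X ≠ X) → ∀ g : G, ∃ x ∈ X, ∃ y ∈ Y', g = x * y := by
    intro Y' hY' hcard hperm' ⟨y, hy, hne⟩
    have hXY' : Perm X Y' := by
      have h1 := hperm' 1
      rwa [cj_one] at h1
    obtain ⟨X', hX'⟩ : ∃ X' : Subgroup G, X' = X ⊔ MulAut.conj y • X := ⟨_, rfl⟩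
    have hlt : X < X' := by
      rw [hX']
      refine lt_of_le_of_ne le_sup_left ?_
      intro hcon
      apply hne
      have h1 : MulAut.conj y • X ≤ X := by
        conv_rhs => rw [hcon]
        exact le_sup_right
      exact Subgroup.eq_of_le_of_card_ge h1 (by rw [card_cj])
    have hperm'' : ∀ g : G, Perm X' (MulAut.conj g • Y') := by
      intro g
      rw [hX']
      apply Perm.sup_left (hperm' g)
      have h1 := (hperm' (y⁻¹ * g)).cj y
      rwa [← cj_mul, mul_inv_cancel_left] at h1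
    have hXX' : X ≤ X' := hX' ▸ le_sup_left
    have hX'ne : X' ≠ ⊥ := fun h => hX (le_bot_iff.mp (h ▸ hXX'))
    have hcX' : Nat.card X' ≤ Nat.card G := Subgroup.card_le_card_group X'
    have hm : 2 * Nat.card G - (Nat.card X' + Nat.card Y') < n := by
      have := card_lt_of_lt hlt
      rw [hcard]; omega
    have hall := ih _ hm X' Y' hX'ne hY' hperm'' rfl
    -- X' ≤ S = XY'
    have hS := isProd_prodSubgroup X Y' hXY'
    have hX'S : X' ≤ prodSubgroup X Y' hXY' := by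
      rw [hX']
      apply sup_le hS.1
      intro v hv
      rw [mem_cj] at hv
      have : v = y * (y⁻¹ * v * y) * y⁻¹ := by group
      rw [this]
      exact Subgroup.mul_mem _ (Subgroup.mul_mem _ (hS.2.1 hy) (hS.1 hv)) (Subgroup.inv_mem _ (hS.2.1 hy))
    intro g
    obtain ⟨x', hx', y', hy', rfl⟩ := hall g
    exact hS.2.2 _ (Subgroup.mul_mem _ (hX'S hx') (hS.2.1 hy'))
  by_contra hcon
  push Not at hcon
  obtain ⟨g₀, hg₀⟩ := hcon
  -- every conjugate of Y normalizes X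
  have hnorm : ∀ g : G, ∀ y ∈ MulAut.conj g • Y, MulAut.conj y • X = X := by
    intro g y hy
    by_contra hne
    have hYg : MulAut.conj g • Y ≠ ⊥ := by
      intro h
      apply hY
      have : Nat.card (MulAut.conj g • Y : Subgroup G) = 1 := by rw [h]; simp
      rw [card_cj] at this
      exact Subgroup.card_eq_one.mp this
    have hpermg : ∀ k : G, Perm X (MulAut.conj k • (MulAut.conj g • Y)) := by
      intro k; rw [← cj_mul]; exact hperm _
    have hall := stepX (MulAut.conj g • Y) hYg (card_cj g Y) hpermg ⟨y, hy, hne⟩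
    -- G = X · gYg⁻¹ implies G = XY
    obtain ⟨x, hx, y', hy', e⟩ := hall g⁻¹
    rw [mem_cj] at hy'
    obtain ⟨w, hw⟩ : ∃ w : G, w = g⁻¹ * y' * g := ⟨_, rfl⟩
    rw [← hw] at hy'
    have hg : g = x⁻¹ * w⁻¹ := by
      have h1 : y' = x⁻¹ * g⁻¹ := by rw [e]; group
      rw [hw, h1]; group
    obtain ⟨x₁, hx₁, y₁, hy₁, e₁⟩ := hall (x⁻¹ * g₀ * x)
    rw [mem_cj] at hy₁
    apply hg₀ (x * x₁ * x⁻¹) (X.mul_mem (X.mul_mem hx hx₁) (X.inv_mem hx))
      (w⁻¹ * (g⁻¹ * y₁ * g) * w)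
      (Y.mul_mem (Y.mul_mem (Y.inv_mem hy') hy₁) hy')
    have hg₀' : g₀ = x * (x₁ * y₁) * x⁻¹ := by rw [← e₁]; group
    rw [hg₀', hg]; group
  -- so the normal closure of Y normalizes X
  have hle : Subgroup.normalClosure (Y : Set G) ≤ Subgroup.normalizer (X : Set G) := by
    unfold Subgroup.normalClosure
    rw [Subgroup.closure_le]
    intro v hv
    rw [Group.mem_conjugatesOfSet_iff] at hv
    obtain ⟨b, hb, hconj⟩ := hv
    rw [isConj_iff] at hconj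
    obtain ⟨c, rfl⟩ := hconj
    rw [SetLike.mem_coe, ← cj_eq_self_iff_mem_normalizer]
    apply hnorm c
    rw [mem_cj]
    have : c⁻¹ * (c * b * c⁻¹) * c = b := by group
    rw [this]; exact hb
  have htop : Subgroup.normalClosure (Y : Set G) = ⊤ := by
    rcases (Subgroup.normalClosure_normal (s := (Y : Set G))).eq_bot_or_eq_top with h | h
    · exfalso; apply hY
      exact le_bot_iff.mp (h ▸ Subgroup.le_normalClosure)
    · exact h
  rw [htop] at hle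
  have hXn : X.Normal := by
    rw [← Subgroup.normalizer_eq_top_iff]
    exact top_le_iff.mp hle
  rcases hXn.eq_bot_or_eq_top with h | h
  · exact hX h
  · exact hg₀ g₀ (h ▸ Subgroup.mem_top _) 1 Y.one_mem (by simp)

theorem kegel [Finite G] [IsSimpleGroup G] (X Y : Subgroup G) (hX : X ≠ ⊥) (hY : Y ≠ ⊥)
    (hperm : ∀ g : G, Perm X (MulAut.conj g • Y)) : ∀ g : G, ∃ x ∈ X, ∃ y ∈ Y, g = x * y :=
  kegel_aux _ X Y hX hY hperm rfl

end Cfsg.Agent.Lib.Helper13.KW
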