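import Mathlib
import Cfsg.Agent.Lib.Helper13.KW1
import Cfsg.Agent.Lib.Helper13.Hall
import Cfsg.Agent.Lib.Helper13.Hall2

/-!
Kegel–Wielandt project (helper13), part 2: in a solvable factorized group, normal Hall parts of
the factors permute.
-/

set_option autoImplicit false

namespace Cfsg.Agent.Lib.Helper13.KW

open Cfsg.Agent.Lib.Helper13
open scoped Pointwise

universe u

theorem cj_eq_of_mem_normalizer {G : Type*} [Group G] {g : G} {P : Subgroup G}
    (h : g ∈ Subgroup.normalizer (P : Set G)) : MulAut.conj g • P = P :=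
  cj_eq_self_iff_mem_normalizer.mpr h

theorem perm_of_solvable {H : Type u} [Group H] [Finite H] [Group.IsSolvable H]
    (A B A₀ B₀ : Subgroup H)
    (hfact : ∀ h : H, ∃ a ∈ A, ∃ b ∈ B, h = a * b)
    (hnA : A ≤ Subgroup.normalizer (A₀ : Set H)) (hnB : B ≤ Subgroup.normalizer (B₀ : Set H))
    (n : ℕ) (hcard : Nat.card H = Nat.card A₀ * Nat.card B₀ * n)
    (hcop1 : (Nat.card A₀ * Nat.card B₀).Coprime n)
    (hcop2 : (Nat.card A₀).Coprime (Nat.card B₀)) : Perm A₀ B₀ := by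
  obtain ⟨K, hK1, hK2⟩ := hall_exists_card (G := H) (Nat.card A₀ * Nat.card B₀) n hcard hcop1
  have hKhall : (Nat.card K).Coprime K.index := by rw [hK1, hK2]; exact hcop1
  have hc1 : (Nat.card A₀).Coprime K.index := by
    rw [hK2]; exact Nat.Coprime.coprime_dvd_left (Dvd.intro _ rfl) hcop1
  have hc2 : (Nat.card B₀).Coprime K.index := by
    rw [hK2]; exact Nat.Coprime.coprime_dvd_left (Dvd.intro_left _ rfl) hcop1
  obtain ⟨g₁, h₁⟩ := hall_dominance K A₀ hKhall hc1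
  obtain ⟨g₂, h₂⟩ := hall_dominance K B₀ hKhall hc2
  obtain ⟨a, ha, b, hb, e⟩ := hfact (g₁ * g₂⁻¹)
  have ht : a⁻¹ * g₁ = b * g₂ := by
    have : g₁ = a * b * g₂ := by rw [← e]; group
    rw [this]; group
  have hA₀ : A₀ ≤ MulAut.conj (a⁻¹ * g₁) • K := by
    rw [cj_mul]
    have h3 := cj_le_cj (g := a⁻¹) h₁
    rwa [cj_eq_of_mem_normalizer (hnA (A.inv_mem ha))] at h3
  have hB₀ : B₀ ≤ MulAut.conj (a⁻¹ * g₁) • K := by
    rw [ht, cj_mul]
    have h3 := cj_le_cj (g := b) h₂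
    rwa [cj_eq_of_mem_normalizer (hnB hb)] at h3
  obtain ⟨K', hK'⟩ : ∃ K' : Subgroup H, K' = MulAut.conj (a⁻¹ * g₁) • K := ⟨_, rfl⟩
  rw [← hK'] at hA₀ hB₀
  have hK'card : Nat.card K' = Nat.card A₀ * Nat.card B₀ := by rw [hK', card_cj, hK1]
  have e1 : Nat.card (A₀.subgroupOf K') = Nat.card A₀ :=
    Nat.card_congr (Subgroup.subgroupOfEquivOfLe hA₀).toEquiv
  have e2 : Nat.card (B₀.subgroupOf K') = Nat.card B₀ :=
    Nat.card_congr (Subgroup.subgroupOfEquivOfLe hB₀).toEquiv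
  have hcompl : Subgroup.IsComplement' (B₀.subgroupOf K') (A₀.subgroupOf K') := by
    apply Subgroup.isComplement'_of_coprime
    · rw [e1, e2, hK'card, mul_comm]
    · rw [e1, e2]; exact hcop2.symm
  intro x hx y hy
  have hxy : x * y ∈ K' := K'.mul_mem (hA₀ hx) (hB₀ hy)
  obtain ⟨⟨⟨y', hy'⟩, ⟨x', hx'⟩⟩, hprod, -⟩ :=
    (Subgroup.isComplement_iff_existsUnique.mp hcompl) ⟨x * y, hxy⟩
  refine ⟨y'.1, ?_, x'.1, ?_, ?_⟩
  · exact Subgroup.mem_subgroupOf.mp hy'
  · exact Subgroup.mem_subgroupOf.mp hx'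
  · have := congrArg Subtype.val hprod
    simpa using this.symm

/-- cardinality of a product of subgroups with coprime orders -/
theorem card_of_isProd {G : Type*} [Group G] [Finite G] {H X Y : Subgroup G} (h : IsProd H X Y)
    (hcop : (Nat.card X).Coprime (Nat.card Y)) : Nat.card H = Nat.card X * Nat.card Y := by
  have e1 : Nat.card (X.subgroupOf H) = Nat.card X :=
    Nat.card_congr (Subgroup.subgroupOfEquivOfLe h.1).toEquiv
  have e2 : Nat.card (Y.subgroupOf H) = Nat.card Y :=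
    Nat.card_congr (Subgroup.subgroupOfEquivOfLe h.2.1).toEquiv
  have hdisj : Disjoint (X.subgroupOf H) (Y.subgroupOf H) := by
    apply Subgroup.disjoint_of_coprime_natCard
    rw [e1, e2]; exact hcop
  have hmul : ((X.subgroupOf H : Subgroup H) : Set H) * ((Y.subgroupOf H : Subgroup H) : Set H) = Set.univ := by
    rw [Set.eq_univ_iff_forall]
    rintro ⟨g, hg⟩
    obtain ⟨x, hx, y, hy, e⟩ := h.2.2 g hg
    refine ⟨⟨x, h.1 hx⟩, ?_, ⟨y, h.2.1 hy⟩, ?_, ?_⟩
    · exact Subgroup.mem_subgroupOf.mpr hx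
    · exact Subgroup.mem_subgroupOf.mpr hy
    · exact Subtype.ext e.symm
  have := (Subgroup.isComplement'_of_disjoint_and_mul_eq_univ hdisj hmul).card_mul_card
  rw [e1, e2] at this
  exact this.symm

theorem card_subgroupOf_of_le {G : Type*} [Group G] {X H : Subgroup G} (h : X ≤ H) :
    Nat.card (X.subgroupOf H) = Nat.card X :=
  Nat.card_congr (Subgroup.subgroupOfEquivOfLe h).toEquiv

theorem card_mul_relIndex {G : Type*} [Group G] {X H : Subgroup G} (h : X ≤ H) :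
    Nat.card X * X.relIndex H = Nat.card H := by
  have := (X.subgroupOf H).card_mul_index
  rwa [card_subgroupOf_of_le h] at this

/-- subgroup version of `perm_of_solvable` -/
theorem perm_in_subgroup {G : Type u} [Group G] [Finite G] (H A' B' A₀ B₀ : Subgroup G)
    (hs : Group.IsSolvable H) (hprod : IsProd H A' B') (hA₀ : A₀ ≤ A') (hB₀ : B₀ ≤ B')
    (hnA : A' ≤ Subgroup.normalizer (A₀ : Set G)) (hnB : B' ≤ Subgroup.normalizer (B₀ : Set G))
    (hcop : (Nat.card A').Coprime (Nat.card B'))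
    (hcA : (Nat.card A₀).Coprime (A₀.relIndex A')) (hcB : (Nat.card B₀).Coprime (B₀.relIndex B')) :
    Perm A₀ B₀ := by
  have hA₀H : A₀ ≤ H := hA₀.trans hprod.1
  have hB₀H : B₀ ≤ H := hB₀.trans hprod.2.1
  have eA := card_mul_relIndex hA₀
  have eB := card_mul_relIndex hB₀
  have hcardH := card_of_isProd hprod hcop
  have hdA : Nat.card A₀ ∣ Nat.card A' := Dvd.intro _ eA
  have hdB : Nat.card B₀ ∣ Nat.card B' := Dvd.intro _ eB
  have hrA : A₀.relIndex A' ∣ Nat.card A' := Dvd.intro_left _ eA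
  have hrB : B₀.relIndex B' ∣ Nat.card B' := Dvd.intro_left _ eB
  have key := perm_of_solvable (H := H) (A'.subgroupOf H) (B'.subgroupOf H) (A₀.subgroupOf H)
    (B₀.subgroupOf H) ?_ ?_ ?_ (A₀.relIndex A' * B₀.relIndex B') ?_ ?_ ?_
  · intro x hx y hy
    obtain ⟨y', hy', x', hx', e⟩ := key ⟨x, hA₀H hx⟩ (Subgroup.mem_subgroupOf.mpr hx)
      ⟨y, hB₀H hy⟩ (Subgroup.mem_subgroupOf.mpr hy)
    exact ⟨y'.1, Subgroup.mem_subgroupOf.mp hy', x'.1, Subgroup.mem_subgroupOf.mp hx',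
      congrArg Subtype.val e⟩
  · rintro ⟨h, hh⟩
    obtain ⟨a, ha, b, hb, e⟩ := hprod.2.2 h hh
    exact ⟨⟨a, hprod.1 ha⟩, Subgroup.mem_subgroupOf.mpr ha, ⟨b, hprod.2.1 hb⟩,
      Subgroup.mem_subgroupOf.mpr hb, Subtype.ext e⟩
  · rintro ⟨a, haH⟩ ha
    have ha' : a ∈ A' := Subgroup.mem_subgroupOf.mp ha
    have h1 := hnA ha'
    rw [Subgroup.mem_normalizer_iff] at h1 ⊢
    rintro ⟨h, hh⟩
    rw [Subgroup.mem_subgroupOf, Subgroup.mem_subgroupOf]
    exact h1 h
  · rintro ⟨b, hbH⟩ hb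
    have hb' : b ∈ B' := Subgroup.mem_subgroupOf.mp hb
    have h1 := hnB hb'
    rw [Subgroup.mem_normalizer_iff] at h1 ⊢
    rintro ⟨h, hh⟩
    rw [Subgroup.mem_subgroupOf, Subgroup.mem_subgroupOf]
    exact h1 h
  · rw [card_subgroupOf_of_le hA₀H, card_subgroupOf_of_le hB₀H, hcardH, ← eA, ← eB]; ring
  · rw [card_subgroupOf_of_le hA₀H, card_subgroupOf_of_le hB₀H]
    apply Nat.Coprime.mul_left
    · apply Nat.Coprime.mul_right hcA
      exact Nat.Coprime.coprime_dvd_left hdA (Nat.Coprime.coprime_dvd_right hrB hcop)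
    · apply Nat.Coprime.mul_right _ hcB
      exact Nat.Coprime.coprime_dvd_left hdB (Nat.Coprime.coprime_dvd_right hrA hcop.symm)
  · rw [card_subgroupOf_of_le hA₀H, card_subgroupOf_of_le hB₀H]
    exact Nat.Coprime.coprime_dvd_left hdA (Nat.Coprime.coprime_dvd_right hdB hcop)

end Cfsg.Agent.Lib.Helper13.KW
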