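import Mathlib
import Cfsg.Agent.Lib.Helper13.KW2
import Cfsg.Agent.Lib.Helper2.NilpotentCoprime

/-!
Kegel–Wielandt project (helper13): the `p`-part and `p'`-part of a nilpotent subgroup.
-/

set_option autoImplicit false

namespace Cfsg.Agent.Lib.Helper13.KW

open Cfsg.Agent.Lib.Helper13
open scoped Pointwise

universe u

variable {G : Type u} [Group G] [Finite G]

theorem nilpotent_of_le {K1 K2 : Subgroup G} (h : K1 ≤ K2) (h2 : Group.IsNilpotent K2) :
    Group.IsNilpotent K1 :=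
  haveI := h2
  Subgroup.isNilpotent_of_ker_le_center (Subgroup.inclusion h)
    (by rw [(MonoidHom.ker_eq_bot_iff _).mpr (Subgroup.inclusion_injective h)]; exact bot_le)

theorem sylow_normal_of_nilpotent {A : Type*} [Group A] [Finite A] (hA : Group.IsNilpotent A)
    (p : ℕ) [hp : Fact p.Prime] (P : Sylow p A) : (P : Subgroup A).Normal := by
  have := (Group.isNilpotent_of_finite_tfae (G := A)).out 0 3
  exact this.mp hA p hp P

/-- the `p`-part of a nilpotent subgroup -/
noncomputable def pp (A : Subgroup G) (p : ℕ) [Fact p.Prime] : Subgroup G :=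
  ((default : Sylow p A) : Subgroup A).map A.subtype

open Classical in
/-- the `p'`-part of a nilpotent subgroup -/
noncomputable def pc (A : Subgroup G) (p : ℕ) [Fact p.Prime] : Subgroup G :=
  if h : ∃ K : Subgroup A, Subgroup.IsComplement' ((default : Sylow p A) : Subgroup A) K then
    (Classical.choose h).map A.subtype else ⊥

variable {A : Subgroup G} {p : ℕ} [hp : Fact p.Prime]

theorem mem_pp (hA : Group.IsNilpotent A) {x : G} :
    x ∈ pp A p ↔ x ∈ A ∧ ∃ k : ℕ, x ^ p ^ k = 1 := by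
  constructor
  · rintro ⟨y, hy, rfl⟩
    refine ⟨y.2, ?_⟩
    obtain ⟨k, hk⟩ := (default : Sylow p A).isPGroup' ⟨y, hy⟩
    refine ⟨k, ?_⟩
    have := congrArg (fun t : (default : Sylow p A) => ((t : A) : G)) hk
    simpa using this
  · rintro ⟨hx, k, hk⟩
    have hZ : IsPGroup p (Subgroup.zpowers (⟨x, hx⟩ : A)) := by
      rintro ⟨y, hy⟩
      obtain ⟨n, rfl⟩ := Subgroup.mem_zpowers_iff.mp hy
      refine ⟨k, ?_⟩
      apply Subtype.ext
      apply Subtype.ext
      simp only [Subgroup.coe_pow, Subgroup.coe_zpow, Subgroup.coe_one]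
      rw [← zpow_natCast, ← zpow_mul, mul_comm, zpow_mul, zpow_natCast, hk, one_zpow]
    obtain ⟨Q, hQ⟩ := hZ.exists_le_sylow
    have hn := sylow_normal_of_nilpotent hA p (default : Sylow p A)
    obtain ⟨g, hg⟩ := MulAction.exists_smul_eq A (default : Sylow p A) Q
    rw [Sylow.smul_eq_of_normal] at hg
    refine ⟨⟨x, hx⟩, ?_, rfl⟩
    rw [hg]
    exact hQ (Subgroup.mem_zpowers _)

theorem exists_complement (hA : Group.IsNilpotent A) :
    ∃ K : Subgroup A, Subgroup.IsComplement' ((default : Sylow p A) : Subgroup A) K := by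
  have hn := sylow_normal_of_nilpotent hA p (default : Sylow p A)
  exact Subgroup.exists_right_complement'_of_coprime (default : Sylow p A).card_coprime_index

theorem orderOf_dvd_of_pow {x : G} {k : ℕ} (h : x ^ p ^ k = 1) : ∃ j, orderOf x = p ^ j := by
  have := orderOf_dvd_of_pow_eq_one h
  obtain ⟨j, -, hj⟩ := (Nat.dvd_prime_pow hp.out).mp this
  exact ⟨j, hj⟩

theorem mem_pc (hA : Group.IsNilpotent A) {x : G} :
    x ∈ pc A p ↔ x ∈ A ∧ (orderOf x).Coprime p := by
  have hex := exists_complement (p := p) hA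
  have hK := Classical.choose_spec hex
  have hdef : pc A p = (Classical.choose hex).map A.subtype := by
    unfold pc; rw [dif_pos hex]
  rw [hdef]
  obtain ⟨K, hKdef⟩ : ∃ K : Subgroup A, K = Classical.choose hex := ⟨_, rfl⟩
  rw [← hKdef] at hK ⊢
  have hKcard : (Nat.card K).Coprime p := by
    have h1 := hK.symm.index_eq_card
    rw [← h1]
    exact ((Nat.Prime.coprime_iff_not_dvd hp.out).mpr (default : Sylow p A).not_dvd_index).symm
  have hn := sylow_normal_of_nilpotent hA p (default : Sylow p A)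
  constructor
  · rintro ⟨y, hy, rfl⟩
    refine ⟨y.2, ?_⟩
    have h1 : orderOf (⟨y, hy⟩ : K) ∣ Nat.card K := orderOf_dvd_natCard _
    rw [Subgroup.orderOf_mk] at h1
    have h2 : orderOf ((A.subtype y : G)) = orderOf y := Subgroup.orderOf_coe y
    rw [h2]
    exact Nat.Coprime.coprime_dvd_left h1 hKcard
  · rintro ⟨hx, hcop⟩
    obtain ⟨⟨⟨u, hu⟩, ⟨k, hk⟩⟩, hprod, -⟩ :=
      (Subgroup.isComplement_iff_existsUnique.mp hK) ⟨x, hx⟩
    simp only at hprod
    -- u is a p-element, k a p'-element; they commute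
    obtain ⟨j, hj⟩ := (default : Sylow p A).isPGroup' ⟨u, hu⟩
    have hju : u ^ p ^ j = 1 := by
      have := congrArg (fun t : (default : Sylow p A) => (t : A)) hj
      simpa using this
    have hko : (orderOf k).Coprime p := by
      have h1 : orderOf (⟨k, hk⟩ : K) ∣ Nat.card K := orderOf_dvd_natCard _
      rw [Subgroup.orderOf_mk] at h1
      exact Nat.Coprime.coprime_dvd_left h1 hKcard
    have huo : ∃ i, orderOf u = p ^ i := by
      have := orderOf_dvd_of_pow_eq_one hju
      obtain ⟨i, -, hi⟩ := (Nat.dvd_prime_pow hp.out).mp this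
      exact ⟨i, hi⟩
    obtain ⟨i, hi⟩ := huo
    have hcomm : u * k = k * u := by
      haveI := hA
      apply Cfsg.Agent.Lib.Helper2.commute_of_coprime_orderOf
      rw [hi]
      exact (Nat.Coprime.pow_right i hko).symm
    have hord : orderOf (u * k) = orderOf u * orderOf k := by
      apply Commute.orderOf_mul_eq_mul_orderOf_of_coprime hcomm
      rw [hi]; exact (Nat.Coprime.pow_right i hko).symm
    have hxo : orderOf (u * k) = orderOf x := by
      rw [hprod, Subgroup.orderOf_mk]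
    have hu1 : u = 1 := by
      rw [← orderOf_eq_one_iff, hi]
      have h3 : p ^ i ∣ orderOf x := by rw [← hxo, hord, hi]; exact Dvd.intro _ rfl
      have h4 : (p ^ i).Coprime p := Nat.Coprime.coprime_dvd_left h3 hcop
      rcases Nat.eq_zero_or_pos i with h0 | h0
      · rw [h0, pow_zero]
      · exfalso
        have h5 : p ∣ p ^ i := dvd_pow_self p h0.ne'
        have h6 := Nat.Coprime.coprime_dvd_left h5 h4
        rw [Nat.coprime_self] at h6
        exact hp.out.one_lt.ne' h6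
    rw [hu1, one_mul] at hprod
    refine ⟨k, hk, ?_⟩
    have := congrArg Subtype.val hprod
    simpa using this

theorem pp_le (hA : Group.IsNilpotent A) : pp A p ≤ A := fun _ hx => ((mem_pp hA).mp hx).1

theorem pc_le (hA : Group.IsNilpotent A) : pc A p ≤ A := fun _ hx => ((mem_pc hA).mp hx).1

theorem pp_isPGroup (hA : Group.IsNilpotent A) : IsPGroup p (pp A p) := by
  rintro ⟨x, hx⟩
  obtain ⟨k, hk⟩ := ((mem_pp hA).mp hx).2
  exact ⟨k, Subtype.ext (by simpa using hk)⟩

theorem coprime_orderOf_pp_pc (hA : Group.IsNilpotent A) {x y : G} (hx : x ∈ pp A p)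
    (hy : y ∈ pc A p) : (orderOf x).Coprime (orderOf y) := by
  obtain ⟨k, hk⟩ := ((mem_pp hA).mp hx).2
  obtain ⟨j, hj⟩ := orderOf_dvd_of_pow (p := p) hk
  rw [hj]
  exact (Nat.Coprime.pow_right j ((mem_pc hA).mp hy).2).symm

theorem commute_pp_pc (hA : Group.IsNilpotent A) {x y : G} (hx : x ∈ pp A p)
    (hy : y ∈ pc A p) : x * y = y * x :=
  Cfsg.Agent.Lib.Helper2.commute_of_coprime_orderOf_of_mem A hA x y (pp_le hA hx) (pc_le hA hy)
    (coprime_orderOf_pp_pc hA hx hy)

theorem exists_decomp (hA : Group.IsNilpotent A) {a : G} (ha : a ∈ A) :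
    ∃ x ∈ pp A p, ∃ y ∈ pc A p, a = x * y := by
  obtain ⟨x, y, hx, hy, e, ⟨k, hk⟩, hc⟩ := Cfsg.Agent.Lib.Helper2.exists_p_decomp a p hp.out
  have hzA : Subgroup.zpowers a ≤ A := by
    rw [Subgroup.zpowers_le]; exact ha
  refine ⟨x, (mem_pp hA).mpr ⟨hzA hx, k, ?_⟩, y, (mem_pc hA).mpr ⟨hzA hy, hc⟩, e⟩
  exact orderOf_dvd_iff_pow_eq_one.mp hk

theorem isProd_pp_pc (hA : Group.IsNilpotent A) : IsProd A (pp A p) (pc A p) :=
  ⟨pp_le hA, pc_le hA, fun _ ha => exists_decomp hA ha⟩

theorem coprime_card_pc (hA : Group.IsNilpotent A) : (Nat.card (pc A p)).Coprime p := by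
  rw [Nat.coprime_comm, Nat.Prime.coprime_iff_not_dvd hp.out]
  intro hdvd
  obtain ⟨⟨x, hx⟩, hxo⟩ := exists_prime_orderOf_dvd_card' p hdvd
  rw [Subgroup.orderOf_mk] at hxo
  have := ((mem_pc hA).mp hx).2
  rw [hxo, Nat.coprime_self] at this
  exact hp.out.one_lt.ne' this

theorem card_pp (hA : Group.IsNilpotent A) : ∃ n, Nat.card (pp A p) = p ^ n :=
  IsPGroup.exists_card_eq (pp_isPGroup hA)

theorem coprime_pp_pc (hA : Group.IsNilpotent A) :
    (Nat.card (pp A p)).Coprime (Nat.card (pc A p)) := by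
  obtain ⟨n, hn⟩ := card_pp (p := p) hA
  rw [hn]
  exact (Nat.Coprime.pow_right n (coprime_card_pc hA)).symm

theorem card_pp_mul_card_pc (hA : Group.IsNilpotent A) :
    Nat.card (pp A p) * Nat.card (pc A p) = Nat.card A :=
  (card_of_isProd (isProd_pp_pc hA) (coprime_pp_pc hA)).symm

theorem pp_inf_pc (hA : Group.IsNilpotent A) : pp A p ⊓ pc A p = ⊥ :=
  disjoint_iff.mp (Subgroup.disjoint_of_coprime_natCard (coprime_pp_pc hA))

theorem conj_mem_iff_of_mem_normalizer {H : Subgroup G} {g x : G}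
    (hg : g ∈ Subgroup.normalizer (H : Set G)) : g * x * g⁻¹ ∈ H ↔ x ∈ H :=
  ((Subgroup.mem_normalizer_iff.mp hg) x).symm

theorem normalizer_le_pp (hA : Group.IsNilpotent A) :
    Subgroup.normalizer (A : Set G) ≤ Subgroup.normalizer (pp A p : Set G) := by
  intro g hg
  rw [Subgroup.mem_normalizer_iff]
  intro x
  rw [mem_pp hA, mem_pp hA, conj_mem_iff_of_mem_normalizer hg]
  constructor
  · rintro ⟨h1, k, hk⟩
    exact ⟨h1, k, by rw [conj_pow, hk]; group⟩
  · rintro ⟨h1, k, hk⟩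
    refine ⟨h1, k, ?_⟩
    rw [conj_pow] at hk
    have : x ^ p ^ k = g⁻¹ * (g * x ^ p ^ k * g⁻¹) * g := by group
    rw [this, hk]; group

theorem orderOf_conj' (g x : G) : orderOf (g * x * g⁻¹) = orderOf x :=
  (MulAut.conj g).orderOf_eq x

theorem normalizer_le_pc (hA : Group.IsNilpotent A) :
    Subgroup.normalizer (A : Set G) ≤ Subgroup.normalizer (pc A p : Set G) := by
  intro g hg
  rw [Subgroup.mem_normalizer_iff]
  intro x
  rw [mem_pc hA, mem_pc hA, conj_mem_iff_of_mem_normalizer hg, orderOf_conj']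

theorem le_normalizer_pp (hA : Group.IsNilpotent A) :
    A ≤ Subgroup.normalizer (pp A p : Set G) :=
  Subgroup.le_normalizer.trans (normalizer_le_pp hA)

theorem le_normalizer_pc (hA : Group.IsNilpotent A) :
    A ≤ Subgroup.normalizer (pc A p : Set G) :=
  Subgroup.le_normalizer.trans (normalizer_le_pc hA)

theorem pp_of_le (hA : Group.IsNilpotent A) {A' : Subgroup G} (h : A' ≤ A) :
    pp A' p = A' ⊓ pp A p := by
  ext x
  rw [Subgroup.mem_inf, mem_pp hA, mem_pp (nilpotent_of_le h hA)]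
  constructor
  · rintro ⟨h1, h2⟩; exact ⟨h1, h h1, h2⟩
  · rintro ⟨h1, -, h2⟩; exact ⟨h1, h2⟩

theorem pc_of_le (hA : Group.IsNilpotent A) {A' : Subgroup G} (h : A' ≤ A) :
    pc A' p = A' ⊓ pc A p := by
  ext x
  rw [Subgroup.mem_inf, mem_pc hA, mem_pc (nilpotent_of_le h hA)]
  constructor
  · rintro ⟨h1, h2⟩; exact ⟨h1, h h1, h2⟩
  · rintro ⟨h1, -, h2⟩; exact ⟨h1, h2⟩

/-- an element of `pp A p` centralizing `pp A p` centralizes `A` -/
theorem central_of_central_pp (hA : Group.IsNilpotent A) {z : G} (hz : z ∈ pp A p)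
    (hc : ∀ x ∈ pp A p, x * z = z * x) : ∀ a ∈ A, a * z = z * a := by
  intro a ha
  obtain ⟨x, hx, y, hy, rfl⟩ := exists_decomp (p := p) hA ha
  have h1 := hc x hx
  have h2 := commute_pp_pc hA hz hy
  calc x * y * z = x * (y * z) := by group
    _ = x * (z * y) := by rw [h2]
    _ = (x * z) * y := by group
    _ = z * (x * y) := by rw [h1]; group

theorem coprime_relIndex_pp (hA : Group.IsNilpotent A) {A' : Subgroup G} (h1 : pp A p ≤ A')
    (h2 : A' ≤ A) : (Nat.card (pp A p)).Coprime ((pp A p).relIndex A') := by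
  have e1 := card_mul_relIndex h1
  have e2 := card_pp_mul_card_pc (p := p) hA
  have hd : Nat.card A' ∣ Nat.card A := Subgroup.card_dvd_of_le h2
  have hd2 : (pp A p).relIndex A' ∣ Nat.card (pc A p) := by
    rw [← e1, ← e2] at hd
    exact Nat.dvd_of_mul_dvd_mul_left Nat.card_pos hd
  exact Nat.Coprime.coprime_dvd_right hd2 (coprime_pp_pc hA)

theorem coprime_relIndex_pc (hA : Group.IsNilpotent A) {A' : Subgroup G} (h1 : pc A p ≤ A')
    (h2 : A' ≤ A) : (Nat.card (pc A p)).Coprime ((pc A p).relIndex A') := by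
  have e1 := card_mul_relIndex h1
  have e2 := card_pp_mul_card_pc (p := p) hA
  have hd : Nat.card A' ∣ Nat.card A := Subgroup.card_dvd_of_le h2
  have hd2 : (pc A p).relIndex A' ∣ Nat.card (pp A p) := by
    rw [← e1, ← e2, mul_comm (Nat.card (pp A p))] at hd
    exact Nat.dvd_of_mul_dvd_mul_left Nat.card_pos hd
  exact Nat.Coprime.coprime_dvd_right hd2 (coprime_pp_pc hA).symm

theorem isPGroup_of_pc_eq_bot (hA : Group.IsNilpotent A) (h : pc A p = ⊥) : IsPGroup p A := by
  rintro ⟨a, ha⟩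
  obtain ⟨x, hx, y, hy, rfl⟩ := exists_decomp (p := p) hA ha
  rw [h, Subgroup.mem_bot] at hy
  subst hy
  obtain ⟨k, hk⟩ := ((mem_pp hA).mp hx).2
  exact ⟨k, Subtype.ext (by simpa using hk)⟩

theorem pp_ne_bot_of_dvd (hA : Group.IsNilpotent A) (h : p ∣ Nat.card A) : pp A p ≠ ⊥ := by
  intro hbot
  obtain ⟨⟨x, hx⟩, hxo⟩ := exists_prime_orderOf_dvd_card' p h
  rw [Subgroup.orderOf_mk] at hxo
  have hxp : x ∈ pp A p := (mem_pp hA).mpr ⟨hx, 1, by rw [pow_one, ← hxo, pow_orderOf_eq_one]⟩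
  rw [hbot, Subgroup.mem_bot] at hxp
  rw [hxp, orderOf_one] at hxo
  exact hp.out.one_lt.ne' hxo.symm

theorem mem_pp_of_orderOf (hA : Group.IsNilpotent A) {x : G} (hx : x ∈ A) (ho : orderOf x = p) :
    x ∈ pp A p :=
  (mem_pp hA).mpr ⟨hx, 1, by rw [pow_one, ← ho, pow_orderOf_eq_one]⟩

end Cfsg.Agent.Lib.Helper13.KW
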