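import Mathlib
import Cfsg.Agent.Lib.Helper13.KWNil

/-!
Kegel–Wielandt project (helper13), part 3: the minimal counterexample context, the factorization
of normalizers of canonical subgroups, and the invariant-subgroup lemma.
-/

set_option autoImplicit false

namespace Cfsg.Agent.Lib.Helper13.KW

open Cfsg.Agent.Lib.Helper13
open scoped Pointwise

universe u

variable {G : Type u} [Group G] [Finite G]

/-- the minimal counterexample context -/
structure Ctx (A B : Subgroup G) : Prop where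
  nilA : Group.IsNilpotent A
  nilB : Group.IsNilpotent B
  cop : (Nat.card A).Coprime (Nat.card B)
  fact : ∀ g : G, ∃ a ∈ A, ∃ b ∈ B, g = a * b
  simple : IsSimpleGroup G
  nonsolv : ¬ Group.IsSolvable G
  ih : ∀ H A' B' : Subgroup G, H ≠ ⊤ → A' ≤ A → B' ≤ B → IsProd H A' B' → Group.IsSolvable H

variable {A B : Subgroup G}

theorem Ctx.isProd_top (h : Ctx A B) : IsProd ⊤ A B :=
  ⟨le_top, le_top, fun g _ => h.fact g⟩

theorem Ctx.symm (h : Ctx A B) : Ctx B A where
  nilA := h.nilB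
  nilB := h.nilA
  cop := h.cop.symm
  fact := fun g => by
    obtain ⟨b, hb, a, ha, e⟩ := h.isProd_top.symm.2.2 g (Subgroup.mem_top g)
    exact ⟨b, hb, a, ha, e⟩
  simple := h.simple
  nonsolv := h.nonsolv
  ih := fun H B' A' hH hB' hA' hprod => h.ih H A' B' hH hA' hB' hprod.symm

theorem Ctx.card_eq (h : Ctx A B) : Nat.card G = Nat.card A * Nat.card B := by
  rw [← card_of_isProd h.isProd_top h.cop, Subgroup.card_top]

theorem Ctx.A_ne_top (h : Ctx A B) : A ≠ ⊤ := by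
  intro hA
  apply h.nonsolv
  haveI : Group.IsNilpotent (⊤ : Subgroup G) := hA ▸ h.nilA
  haveI : Group.IsNilpotent G :=
    Group.nilpotent_of_surjective (Subgroup.topEquiv (G := G)).toMonoidHom
      (Subgroup.topEquiv (G := G)).surjective
  infer_instance

theorem Ctx.A_ne_bot (h : Ctx A B) : A ≠ ⊥ := by
  intro hA
  apply h.symm.A_ne_top
  rw [eq_top_iff]
  intro g _
  obtain ⟨a, ha, b, hb, rfl⟩ := h.fact g
  rw [hA, Subgroup.mem_bot] at ha
  rw [ha, one_mul]; exact hb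

/-- overgroups of `A` are factorized -/
theorem Ctx.isProd_of_le (h : Ctx A B) {H : Subgroup G} (hAH : A ≤ H) : IsProd H A (H ⊓ B) := by
  refine ⟨hAH, inf_le_left, ?_⟩
  intro g hg
  obtain ⟨a, ha, b, hb, rfl⟩ := h.fact g
  refine ⟨a, ha, b, ⟨?_, hb⟩, rfl⟩
  have : b = a⁻¹ * (a * b) := by group
  rw [this]
  exact H.mul_mem (H.inv_mem (hAH ha)) hg

/-- permutability of normal Hall parts inside proper factorized subgroups -/
theorem Ctx.perm_parts (h : Ctx A B) {H A' B' A₀ B₀ : Subgroup G} (hH : H ≠ ⊤) (hA' : A' ≤ A)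
    (hB' : B' ≤ B) (hprod : IsProd H A' B') (hA₀ : A₀ ≤ A') (hB₀ : B₀ ≤ B')
    (hnA : A' ≤ Subgroup.normalizer (A₀ : Set G)) (hnB : B' ≤ Subgroup.normalizer (B₀ : Set G))
    (hcA : (Nat.card A₀).Coprime (A₀.relIndex A')) (hcB : (Nat.card B₀).Coprime (B₀.relIndex B')) :
    Perm A₀ B₀ := by
  have hs := h.ih H A' B' hH hA' hB' hprod
  have hcop : (Nat.card A').Coprime (Nat.card B') :=
    Nat.Coprime.coprime_dvd_left (Subgroup.card_dvd_of_le hA')
      (Nat.Coprime.coprime_dvd_right (Subgroup.card_dvd_of_le hB') h.cop)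
  exact perm_in_subgroup H A' B' A₀ B₀ hs hprod hA₀ hB₀ hnA hnB hcop hcA hcB

/-- normal subgroups of the two factors never permute (Kegel's lemma) -/
theorem Ctx.no_perm (h : Ctx A B) {A₀ B₀ : Subgroup G} (hA₀ : A₀ ≤ A) (hB₀ : B₀ ≤ B)
    (hnA : A ≤ Subgroup.normalizer (A₀ : Set G)) (hnB : B ≤ Subgroup.normalizer (B₀ : Set G))
    (hA₀1 : A₀ ≠ ⊥) (hB₀1 : B₀ ≠ ⊥) (hperm : Perm A₀ B₀) (hne : A₀ ≠ A ∨ B₀ ≠ B) : False := by
  haveI := h.simple
  have hall : ∀ g : G, Perm A₀ (MulAut.conj g • B₀) := by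
    intro g
    obtain ⟨a, ha, b, hb, rfl⟩ := h.fact g
    rw [cj_mul, cj_eq_of_mem_normalizer (hnB hb)]
    have := hperm.cj a
    rwa [cj_eq_of_mem_normalizer (hnA ha)] at this
  have hk := kegel A₀ B₀ hA₀1 hB₀1 hall
  have hprod : IsProd ⊤ A₀ B₀ := ⟨le_top, le_top, fun g _ => hk g⟩
  have hcop : (Nat.card A₀).Coprime (Nat.card B₀) :=
    Nat.Coprime.coprime_dvd_left (Subgroup.card_dvd_of_le hA₀)
      (Nat.Coprime.coprime_dvd_right (Subgroup.card_dvd_of_le hB₀) h.cop)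
  have e1 := card_of_isProd hprod hcop
  rw [Subgroup.card_top, h.card_eq] at e1
  have l1 : Nat.card A₀ ≤ Nat.card A := Subgroup.card_le_of_le hA₀
  have l2 : Nat.card B₀ ≤ Nat.card B := Subgroup.card_le_of_le hB₀
  have p1 : 0 < Nat.card A₀ := Nat.card_pos
  have p2 : 0 < Nat.card B₀ := Nat.card_pos
  have hA₀A : Nat.card A ≤ Nat.card A₀ := by
    by_contra hlt
    push Not at hlt
    have : Nat.card A₀ * Nat.card B₀ < Nat.card A * Nat.card B :=
      Nat.mul_lt_mul_of_lt_of_le hlt l2 (Nat.card_pos)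
    omega
  have hB₀B : Nat.card B ≤ Nat.card B₀ := by
    by_contra hlt
    push Not at hlt
    have : Nat.card A₀ * Nat.card B₀ < Nat.card A * Nat.card B :=
      Nat.mul_lt_mul_of_le_of_lt l1 hlt (Nat.card_pos)
    omega
  rcases hne with hne | hne
  · exact hne (Subgroup.eq_of_le_of_card_ge hA₀ hA₀A)
  · exact hne (Subgroup.eq_of_le_of_card_ge hB₀ hB₀B)

/-- factorization of the normalizer of a canonical subgroup -/
theorem Ctx.isProd_normalizer (h : Ctx A B) (Y : Subgroup G)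
    (hY : ∀ a ∈ A, ∀ b ∈ B, MulAut.conj a • Y = MulAut.conj b • Y → MulAut.conj b • Y ≤ Y) :
    IsProd (Subgroup.normalizer (Y : Set G)) (Subgroup.normalizer (Y : Set G) ⊓ A)
      (Subgroup.normalizer (Y : Set G) ⊓ B) := by
  refine ⟨inf_le_left, inf_le_left, ?_⟩
  intro x hx
  obtain ⟨a, ha, b, hb, rfl⟩ := h.fact x
  have h1 := cj_eq_of_mem_normalizer hx
  rw [cj_mul] at h1
  have h2 : MulAut.conj a⁻¹ • Y = MulAut.conj b • Y := by
    conv_lhs => rw [← h1]
    rw [← cj_mul, inv_mul_cancel, cj_one]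
  have h3 := hY a⁻¹ (A.inv_mem ha) b hb h2
  have h4 : MulAut.conj b • Y = Y := Subgroup.eq_of_le_of_card_ge h3 (by rw [card_cj])
  have hbN : b ∈ Subgroup.normalizer (Y : Set G) := cj_eq_self_iff_mem_normalizer.mp h4
  have haN : a ∈ Subgroup.normalizer (Y : Set G) := by
    have : a = (a * b) * b⁻¹ := by group
    rw [this]
    exact Subgroup.mul_mem _ hx (Subgroup.inv_mem _ hbN)
  exact ⟨a, ⟨haN, ha⟩, b, ⟨hbN, hb⟩, rfl⟩

theorem normalizer_ne_top_of_simple [IsSimpleGroup G] {Y : Subgroup G} (h1 : Y ≠ ⊥) (h2 : Y ≠ ⊤) :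
    Subgroup.normalizer (Y : Set G) ≠ ⊤ := by
  intro h
  have hn : Y.Normal := Subgroup.normalizer_eq_top_iff.mp h
  rcases hn.eq_bot_or_eq_top with h3 | h3
  · exact h1 h3
  · exact h2 h3

theorem mem_normalizer_sup {X Y : Subgroup G} {g : G} (h1 : g ∈ Subgroup.normalizer (X : Set G))
    (h2 : g ∈ Subgroup.normalizer (Y : Set G)) : g ∈ Subgroup.normalizer ((X ⊔ Y : Subgroup G) : Set G) := by
  rw [← cj_eq_self_iff_mem_normalizer] at h1 h2 ⊢
  rw [cj_sup, h1, h2]

/-- the largest `X`-invariant subgroup of `B₁` -/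
theorem exists_maxInv (X B₁ : Subgroup G) : ∃ Y : Subgroup G, Y ≤ B₁ ∧
    X ≤ Subgroup.normalizer (Y : Set G) ∧
    ∀ S : Subgroup G, S ≤ B₁ → X ≤ Subgroup.normalizer (S : Set G) → S ≤ Y := by
  obtain ⟨Y, -, hY⟩ := Finite.exists_le_maximal
    (p := fun S : Subgroup G => S ≤ B₁ ∧ X ≤ Subgroup.normalizer (S : Set G)) (a := ⊥)
    ⟨bot_le, by
      intro x _
      rw [Subgroup.mem_normalizer_iff]
      intro y
      simp only [Subgroup.mem_bot]
      constructor
      · rintro rfl; group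
      · intro h
        have : y = x⁻¹ * (x * y * x⁻¹) * x := by group
        rw [this, h]; group⟩
  refine ⟨Y, hY.prop.1, hY.prop.2, ?_⟩
  intro S hS1 hS2
  have hmem : (Y ⊔ S) ≤ B₁ ∧ X ≤ Subgroup.normalizer ((Y ⊔ S : Subgroup G) : Set G) :=
    ⟨sup_le hY.prop.1 hS1, fun x hx => mem_normalizer_sup (hY.prop.2 hx) (hS2 hx)⟩
  have := hY.le_of_ge hmem le_sup_left
  exact le_sup_right.trans this

theorem mem_normalizer_of_commute {Y : Subgroup G} {b : G} (h : ∀ y ∈ Y, b * y = y * b) :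
    b ∈ Subgroup.normalizer (Y : Set G) := by
  rw [Subgroup.mem_normalizer_iff]
  intro y
  constructor
  · intro hy
    have : b * y * b⁻¹ = y := by rw [h y hy]; group
    rw [this]; exact hy
  · intro hy
    have h1 := h _ hy
    have h2 : y = b * y * b⁻¹ := by
      have h3 : b * (b * y * b⁻¹) * b⁻¹ = b * y * b⁻¹ := by rw [h1]; group
      have h4 : b⁻¹ * (b * (b * y * b⁻¹) * b⁻¹) * b = b⁻¹ * (b * y * b⁻¹) * b := by rw [h3]
      have e1 : b⁻¹ * (b * (b * y * b⁻¹) * b⁻¹) * b = b * y * b⁻¹ := by group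
      have e2 : b⁻¹ * (b * y * b⁻¹) * b = y := by group
      rw [e1, e2] at h4
      exact h4.symm
    rw [h2]; exact hy

/-- Lemma Z: no nontrivial subgroup of `B_s` is normalized by `A_r`. -/
theorem Ctx.no_inv (h : Ctx A B) (r s : ℕ) [Fact r.Prime] [Fact s.Prime]
    (hr : pp A r ≠ ⊥) (hs : pc B s ≠ ⊥) (S : Subgroup G) (hS : S ≤ pp B s)
    (hinv : pp A r ≤ Subgroup.normalizer (S : Set G)) : S = ⊥ := by
  haveI := h.simple
  obtain ⟨Y, hY1, hY2, hY3⟩ := exists_maxInv (pp A r) (pp B s)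
  by_contra hSne
  have hYne : Y ≠ ⊥ := fun hbot => hSne (le_bot_iff.mp (hbot ▸ hY3 S hS hinv))
  have hYB : Y ≤ B := hY1.trans (pp_le h.nilB)
  have hYtop : Y ≠ ⊤ := fun htop => h.symm.A_ne_top (top_le_iff.mp (htop ▸ hYB))
  have hNtop := normalizer_ne_top_of_simple hYne hYtop
  have hprod := h.isProd_normalizer Y (by
    intro a ha b hb hab
    apply hY3
    · have h1 := cj_le_cj (g := b) hY1
      rwa [cj_eq_of_mem_normalizer (le_normalizer_pp h.nilB hb)] at h1
    · rw [← hab]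
      have h1 := cj_le_normalizer_cj (g := a) hY2
      rwa [cj_eq_of_mem_normalizer (le_normalizer_pp h.nilA ha)] at h1)
  have hA₀ : pp A r ≤ Subgroup.normalizer (Y : Set G) ⊓ A := le_inf hY2 (pp_le h.nilA)
  have hB₀ : pc B s ≤ Subgroup.normalizer (Y : Set G) ⊓ B := by
    apply le_inf _ (pc_le h.nilB)
    intro b hb
    apply mem_normalizer_of_commute
    intro y hy
    exact (commute_pp_pc h.nilB (hY1 hy) hb).symm
  have hperm := h.perm_parts hNtop inf_le_right inf_le_right hprod hA₀ hB₀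
    (inf_le_right.trans (le_normalizer_pp h.nilA)) (inf_le_right.trans (le_normalizer_pc h.nilB))
    (coprime_relIndex_pp h.nilA hA₀ inf_le_right) (coprime_relIndex_pc h.nilB hB₀ inf_le_right)
  refine h.no_perm (pp_le h.nilA) (pc_le h.nilB) (le_normalizer_pp h.nilA)
    (le_normalizer_pc h.nilB) hr hs hperm (Or.inr ?_)
  intro hpcB
  have e := card_pp_mul_card_pc (p := s) h.nilB
  rw [hpcB] at e
  have hpos : 0 < Nat.card B := Nat.card_pos
  have h1 : Nat.card (pp B s) = 1 := by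
    have := Nat.eq_of_mul_eq_mul_right hpos (by rw [one_mul]; exact e : Nat.card (pp B s) * Nat.card B = 1 * Nat.card B)
    exact this
  have h2 : pp B s = ⊥ := Subgroup.card_eq_one.mp h1
  exact hYne (le_bot_iff.mp (h2 ▸ hY1))

end Cfsg.Agent.Lib.Helper13.KW
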