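import Mathlib
import Cfsg.Agent.Lib.Helper13.KW3
import Cfsg.Agent.Lib.Helper4.BurnsideClass
import Cfsg.Agent.Lib.Helper2.NilpotentBasic

/-!
Kegel–Wielandt project (helper13), part 4: both factors involve two primes; normal subgroups of
a factor lie in no proper subgroup containing the other factor; uniqueness of the maximal
subgroup containing a factor.
-/

set_option autoImplicit false

namespace Cfsg.Agent.Lib.Helper13.KW

open Cfsg.Agent.Lib.Helper13
open scoped Pointwise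

universe u

variable {G : Type u} [Group G] [Finite G] {A B : Subgroup G}

/-- a central element of prime order in the `r`-part -/
theorem exists_central_prime (hA : Group.IsNilpotent A) (r : ℕ) [hr : Fact r.Prime]
    (hne : pp A r ≠ ⊥) : ∃ z ∈ pp A r, orderOf z = r ∧ ∀ a ∈ A, a * z = z * a := by
  have hP := pp_isPGroup (p := r) hA
  haveI : Nontrivial (pp A r) := (Subgroup.nontrivial_iff_ne_bot _).mpr hne
  haveI := hP.center_nontrivial
  obtain ⟨⟨c, hc⟩, hc1⟩ := exists_ne (1 : Subgroup.center (pp A r))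
  obtain ⟨k, hk⟩ := hP.exists_orderOf_eq_pow c
  have hk0 : k ≠ 0 := by
    rintro rfl
    rw [pow_zero, orderOf_eq_one_iff] at hk
    apply hc1
    exact Subtype.ext hk
  obtain ⟨j, rfl⟩ := Nat.exists_eq_succ_of_ne_zero hk0
  have hz : orderOf (c ^ r ^ j) = r := by
    rw [orderOf_pow_of_dvd (pow_ne_zero _ hr.out.ne_zero) (by rw [hk]; exact pow_dvd_pow r (Nat.le_succ j)),
      hk, pow_succ, Nat.mul_div_cancel_left _ (pow_pos hr.out.pos j)]
  refine ⟨((c ^ r ^ j : pp A r) : G), (c ^ r ^ j).2, ?_, ?_⟩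
  · rw [Subgroup.orderOf_coe]; exact hz
  · apply central_of_central_pp hA (c ^ r ^ j).2
    intro x hx
    have hcc := (Subgroup.center (pp A r)).pow_mem hc (r ^ j)
    have := (Subgroup.mem_center_iff.mp hcc) ⟨x, hx⟩
    exact congrArg Subtype.val this

theorem Ctx.index_A (h : Ctx A B) : A.index = Nat.card B := by
  have e1 := A.card_mul_index
  rw [h.card_eq] at e1
  exact Nat.eq_of_mul_eq_mul_left Nat.card_pos e1

/-- `B` is not a group of prime power order -/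
theorem Ctx.pc_B_ne_bot (h : Ctx A B) (s : ℕ) [hs : Fact s.Prime] : pc B s ≠ ⊥ := by
  intro hbot
  haveI := h.simple
  have hB := isPGroup_of_pc_eq_bot h.nilB hbot
  obtain ⟨k, hk⟩ := IsPGroup.exists_card_eq hB
  -- a nontrivial central element of A
  have hAne := h.A_ne_bot
  have hdvd : ∃ r : ℕ, r.Prime ∧ r ∣ Nat.card A := by
    refine ⟨(Nat.card A).minFac, Nat.minFac_prime ?_, Nat.minFac_dvd _⟩
    intro h1
    exact hAne (Subgroup.card_eq_one.mp h1)
  obtain ⟨r, hr, hrd⟩ := hdvd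
  haveI : Fact r.Prime := ⟨hr⟩
  obtain ⟨z, hz, hzo, hzc⟩ := exists_central_prime h.nilA r (pp_ne_bot_of_dvd h.nilA hrd)
  have hz1 : z ≠ 1 := by
    intro h1
    rw [h1, orderOf_one] at hzo
    exact hr.one_lt.ne' hzo.symm
  have hle : A ≤ Subgroup.centralizer ({z} : Set G) := by
    intro a ha
    rw [Subgroup.mem_centralizer_singleton_iff]
    exact hzc a ha
  have hidx : (Subgroup.centralizer ({z} : Set G)).index ∣ s ^ k := by
    rw [← hk, ← h.index_A]
    exact Subgroup.index_dvd_of_le hle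
  obtain ⟨j, -, hj⟩ := (Nat.dvd_prime_pow hs.out).mp hidx
  haveI : Fintype G := Fintype.ofFinite G
  have hprime := Cfsg.Agent.Lib.Helper4.burnside_class s j hs.out z hz1 hj
  apply h.nonsolv
  haveI : Fact (Nat.card G).Prime := ⟨hprime⟩
  haveI hcyc : IsCyclic G := isCyclic_of_prime_card (α := G) rfl
  letI := hcyc.commGroup
  exact isSolvable_of_comm (fun a b => mul_comm a b)

theorem Ctx.pc_A_ne_bot (h : Ctx A B) (r : ℕ) [Fact r.Prime] : pc A r ≠ ⊥ :=
  h.symm.pc_B_ne_bot r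

/-- a second prime -/
theorem exists_prime_part (hA : Group.IsNilpotent A) (p : ℕ) [hp : Fact p.Prime]
    (hne : pc A p ≠ ⊥) : ∃ r : ℕ, ∃ _ : Fact r.Prime, r ≠ p ∧ pp A r ≠ ⊥ ∧ pp A r ≤ pc A p := by
  have hcard : Nat.card (pc A p) ≠ 1 := fun h1 => hne (Subgroup.card_eq_one.mp h1)
  obtain ⟨r, hr, hrd⟩ : ∃ r : ℕ, r.Prime ∧ r ∣ Nat.card (pc A p) :=
    ⟨_, Nat.minFac_prime hcard, Nat.minFac_dvd _⟩
  haveI : Fact r.Prime := ⟨hr⟩
  have hrp : r ≠ p := by
    rintro rfl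
    have := coprime_card_pc (p := r) hA
    have h2 := Nat.Coprime.coprime_dvd_left hrd this
    rw [Nat.coprime_self] at h2
    exact hr.one_lt.ne' h2
  refine ⟨r, ⟨hr⟩, hrp, ?_, ?_⟩
  · apply pp_ne_bot_of_dvd hA
    exact hrd.trans (Subgroup.card_dvd_of_le (pc_le hA))
  · intro x hx
    rw [mem_pc hA]
    refine ⟨pp_le hA hx, ?_⟩
    obtain ⟨k, hk⟩ := ((mem_pp hA).mp hx).2
    obtain ⟨j, hj⟩ := orderOf_dvd_of_pow (p := r) hk
    rw [hj]
    apply Nat.Coprime.pow_left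
    exact (Nat.coprime_primes hr hp.out).mpr hrp

/-- a nontrivial normal subgroup of `A` lies in no proper subgroup containing `B` -/
theorem Ctx.not_le_of_normal (h : Ctx A B) {A₀ H : Subgroup G} (hA₀ : A₀ ≤ A)
    (hn : A ≤ Subgroup.normalizer (A₀ : Set G)) (hne : A₀ ≠ ⊥) (hBH : B ≤ H) (hH : H ≠ ⊤) :
    ¬ A₀ ≤ H := by
  intro hle
  haveI := h.simple
  have hcl : Subgroup.normalClosure (A₀ : Set G) ≤ H := by
    unfold Subgroup.normalClosure
    rw [Subgroup.closure_le]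
    intro v hv
    rw [Group.mem_conjugatesOfSet_iff] at hv
    obtain ⟨x, hx, hconj⟩ := hv
    rw [isConj_iff] at hconj
    obtain ⟨c, rfl⟩ := hconj
    obtain ⟨b, hb, a, ha, rfl⟩ := h.symm.fact c
    have h1 : a * x * a⁻¹ ∈ A₀ := (conj_mem_iff_of_mem_normalizer (hn ha)).mpr hx
    have : b * a * x * (b * a)⁻¹ = b * (a * x * a⁻¹) * b⁻¹ := by group
    rw [SetLike.mem_coe, this]
    exact H.mul_mem (H.mul_mem (hBH hb) (hle h1)) (H.inv_mem (hBH hb))
  have htop : Subgroup.normalClosure (A₀ : Set G) = ⊤ := by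
    rcases (Subgroup.normalClosure_normal (s := (A₀ : Set G))).eq_bot_or_eq_top with h1 | h1
    · exfalso; apply hne
      exact le_bot_iff.mp (h1 ▸ Subgroup.le_normalClosure)
    · exact h1
  rw [htop] at hcl
  exact hH (top_le_iff.mp hcl)

/-- commuting subgroups permute -/
theorem perm_of_commute {X Y : Subgroup G} (h : ∀ x ∈ X, ∀ y ∈ Y, x * y = y * x) : Perm X Y :=
  fun x hx y hy => ⟨y, hy, x, hx, h x hx y hy⟩

/-- generation of the `r`-part -/
theorem pp_sup_of_sup_eq (hA : Group.IsNilpotent A) (r : ℕ) [Fact r.Prime] {A₁ A₂ : Subgroup G}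
    (h1 : A₁ ≤ A) (h2 : A₂ ≤ A) (hsup : A₁ ⊔ A₂ = A) :
    (A₁ ⊓ pp A r) ⊔ (A₂ ⊓ pp A r) = pp A r := by
  obtain ⟨R, hR⟩ : ∃ R : Subgroup G, R = (A₁ ⊓ pp A r) ⊔ (A₂ ⊓ pp A r) := ⟨_, rfl⟩
  rw [← hR]
  have hRle : R ≤ pp A r := by rw [hR]; exact sup_le inf_le_right inf_le_right
  have hperm : Perm R (pc A r) :=
    perm_of_commute (fun x hx y hy => commute_pp_pc hA (hRle hx) hy)
  have hS := isProd_prodSubgroup R (pc A r) hperm
  have hcop : (Nat.card R).Coprime (Nat.card (pc A r)) :=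
    Nat.Coprime.coprime_dvd_left (Subgroup.card_dvd_of_le hRle) (coprime_pp_pc hA)
  have hcard := card_of_isProd hS hcop
  have hsub : ∀ A' : Subgroup G, A' ≤ A → A' ⊓ pp A r ≤ R → A' ≤ prodSubgroup R (pc A r) hperm := by
    intro A' hA' hle a ha
    obtain ⟨x, hx, y, hy, rfl⟩ := exists_decomp (p := r) (nilpotent_of_le hA' hA) ha
    rw [pp_of_le hA hA'] at hx
    rw [pc_of_le hA hA'] at hy
    exact Subgroup.mul_mem _ (hS.1 (hle hx)) (hS.2.1 hy.2)
  have hA1 := hsub A₁ h1 (by rw [hR]; exact le_sup_left)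
  have hA2 := hsub A₂ h2 (by rw [hR]; exact le_sup_right)
  have hAle : A ≤ prodSubgroup R (pc A r) hperm := hsup.ge.trans (sup_le hA1 hA2)
  have hcle := Subgroup.card_le_of_le hAle
  rw [hcard, ← card_pp_mul_card_pc (p := r) hA] at hcle
  have hpos : 0 < Nat.card (pc A r) := Nat.card_pos
  have := Nat.le_of_mul_le_mul_right hcle hpos
  exact Subgroup.eq_of_le_of_card_ge hRle this

/-- uniqueness of the maximal subgroup containing `B` -/
theorem Ctx.exists_max (h : Ctx A B) : ∃ L : Subgroup G, B ≤ L ∧ L ≠ ⊤ ∧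
    ∀ H : Subgroup G, B ≤ H → H ≠ ⊤ → H ≤ L := by
  obtain ⟨L, -, hL⟩ := Finite.exists_le_maximal
    (p := fun S : Subgroup G => B ≤ S ∧ S ≠ ⊤) (a := B) ⟨le_rfl, h.symm.A_ne_top⟩
  refine ⟨L, hL.prop.1, hL.prop.2, ?_⟩
  intro H hBH hH
  by_contra hnle
  have htop : L ⊔ H = ⊤ := by
    by_contra hne
    have := hL.le_of_ge (⟨hL.prop.1.trans le_sup_left, hne⟩ : B ≤ L ⊔ H ∧ L ⊔ H ≠ ⊤) le_sup_left
    exact hnle (le_sup_right.trans this)
  -- A = (L ⊓ A) ⊔ (H ⊓ A)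
  have hp1 := h.symm.isProd_of_le hL.prop.1
  have hp2 := h.symm.isProd_of_le hBH
  have hperm3 : Perm B ((L ⊓ A) ⊔ (H ⊓ A)) := Perm.sup_right hp1.perm hp2.perm
  have hS := isProd_prodSubgroup _ _ hperm3
  have hLS : L ≤ prodSubgroup _ _ hperm3 :=
    hp1.eq_sup.le.trans (sup_le hS.1 (le_sup_left.trans hS.2.1))
  have hHS : H ≤ prodSubgroup _ _ hperm3 :=
    hp2.eq_sup.le.trans (sup_le hS.1 (le_sup_right.trans hS.2.1))
  have hStop : prodSubgroup _ _ hperm3 = ⊤ := top_le_iff.mp (htop.ge.trans (sup_le hLS hHS))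
  have hA3le : (L ⊓ A) ⊔ (H ⊓ A) ≤ A := sup_le inf_le_right inf_le_right
  have hcop3 : (Nat.card B).Coprime (Nat.card ((L ⊓ A) ⊔ (H ⊓ A) : Subgroup G)) :=
    Nat.Coprime.coprime_dvd_right (Subgroup.card_dvd_of_le hA3le) h.cop.symm
  have hcard := card_of_isProd hS hcop3
  rw [hStop, Subgroup.card_top, h.card_eq, mul_comm] at hcard
  have hA3 : (L ⊓ A) ⊔ (H ⊓ A) = A := by
    apply Subgroup.eq_of_le_of_card_ge hA3le
    exact (Nat.eq_of_mul_eq_mul_left Nat.card_pos hcard).le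
  -- primes
  obtain ⟨r, hr, hrd⟩ : ∃ r : ℕ, r.Prime ∧ r ∣ Nat.card A :=
    ⟨_, Nat.minFac_prime (fun h1 => h.A_ne_bot (Subgroup.card_eq_one.mp h1)), Nat.minFac_dvd _⟩
  obtain ⟨s, hs, hsd⟩ : ∃ s : ℕ, s.Prime ∧ s ∣ Nat.card B :=
    ⟨_, Nat.minFac_prime (fun h1 => h.symm.A_ne_bot (Subgroup.card_eq_one.mp h1)), Nat.minFac_dvd _⟩
  haveI : Fact r.Prime := ⟨hr⟩
  haveI : Fact s.Prime := ⟨hs⟩
  have hgen := pp_sup_of_sup_eq h.nilA r (inf_le_right : L ⊓ A ≤ A) (inf_le_right : H ⊓ A ≤ A) hA3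
  have key : ∀ K : Subgroup G, B ≤ K → K ≠ ⊤ → Perm (pp B s) (K ⊓ A ⊓ pp A r) := by
    intro K hBK hK
    have hp := h.symm.isProd_of_le hBK
    have e : K ⊓ A ⊓ pp A r = pp (K ⊓ A) r := (pp_of_le h.nilA inf_le_right).symm
    have hnil : Group.IsNilpotent (K ⊓ A : Subgroup G) := nilpotent_of_le inf_le_right h.nilA
    refine h.symm.perm_parts hK le_rfl inf_le_right hp (pp_le h.nilB) inf_le_left
      (le_normalizer_pp h.nilB) ?_ (coprime_relIndex_pp h.nilB (pp_le h.nilB) le_rfl) ?_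
    · rw [e]; exact le_normalizer_pp hnil
    · rw [e]; exact coprime_relIndex_pp hnil (pp_le hnil) le_rfl
  have hperm : Perm (pp B s) (pp A r) := by
    rw [← hgen]
    exact Perm.sup_right (key L hL.prop.1 hL.prop.2) (key H hBH hH)
  refine h.no_perm (pp_le h.nilA) (pp_le h.nilB) (le_normalizer_pp h.nilA)
    (le_normalizer_pp h.nilB) (pp_ne_bot_of_dvd h.nilA hrd) (pp_ne_bot_of_dvd h.nilB hsd)
    hperm.symm (Or.inr ?_)
  intro hppB
  have e := card_pp_mul_card_pc (p := s) h.nilB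
  rw [hppB] at e
  have h1 : Nat.card (pc B s) = 1 := by
    have := Nat.eq_of_mul_eq_mul_left (Nat.card_pos (α := B)) (by rw [mul_one]; exact e : Nat.card B * Nat.card (pc B s) = Nat.card B * 1)
    exact this
  exact h.pc_B_ne_bot s (Subgroup.card_eq_one.mp h1)

end Cfsg.Agent.Lib.Helper13.KW
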