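import Mathlib
import Cfsg.Agent.Lib.Helper13.KW4
import Cfsg.Agent.S0581

/-!
Kegel–Wielandt project (helper13), part 5: centralizers of Hall parts, and control of fusion
by the normalizer of a factor.
-/

set_option autoImplicit false

namespace Cfsg.Agent.Lib.Helper13.KW

open Cfsg.Agent.Lib.Helper13
open scoped Pointwise

universe u

variable {G : Type u} [Group G] [Finite G] {A B : Subgroup G}

theorem exists_pow_prime_order {g : G} (hg : g ≠ 1) :
    ∃ k : ℕ, ∃ q : ℕ, q.Prime ∧ orderOf (g ^ k) = q := by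
  have h1 : orderOf g ≠ 1 := fun h => hg (orderOf_eq_one_iff.mp h)
  obtain ⟨q, hq, hqd⟩ := Nat.exists_prime_and_dvd h1
  exact ⟨orderOf g / q, q, hq, orderOf_pow_orderOf_div (orderOf_pos g).ne' hqd⟩

/-- Wielandt's theorem on nilpotent Hall subgroups, relative to a subgroup `L` -/
theorem wielandt_rel (L H K : Subgroup G) (hH : Group.IsNilpotent H) (hHL : H ≤ L) (hKL : K ≤ L)
    (hHall : (Nat.card H).Coprime (H.relIndex L))
    (hK : ∀ q : ℕ, q.Prime → q ∣ Nat.card K → q ∣ Nat.card H) :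
    ∃ x ∈ L, K ≤ MulAut.conj x • H := by
  have hnil : Group.IsNilpotent (H.subgroupOf L) := by
    haveI := hH
    exact Group.nilpotent_of_surjective (Subgroup.subgroupOfEquivOfLe hHL).symm.toMonoidHom
      (Subgroup.subgroupOfEquivOfLe hHL).symm.surjective
  obtain ⟨x, hx⟩ := Cfsg.Agent.S0581.result (G := L) (H.subgroupOf L) (K.subgroupOf L) hnil
    (by rw [card_subgroupOf_of_le hHL]; exact hHall)
    (by intro q hq hqd
        rw [card_subgroupOf_of_le hKL] at hqd
        rw [card_subgroupOf_of_le hHL]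
        exact hK q hq hqd)
  refine ⟨x, x.2, ?_⟩
  intro k hk
  have h1 : (⟨k, hKL hk⟩ : L) ∈ K.subgroupOf L := Subgroup.mem_subgroupOf.mpr hk
  have h2 := hx h1
  rw [mem_cj, Subgroup.mem_subgroupOf] at h2
  rw [mem_cj]
  simpa using h2

theorem Ctx.inter_eq_bot (h : Ctx A B) : A ⊓ B = ⊥ :=
  disjoint_iff.mp (Subgroup.disjoint_of_coprime_natCard h.cop)

/-- subgroups whose order involves only primes of `B` are conjugate into `B` by elements of `A` -/
theorem Ctx.conj_into_B (h : Ctx A B) (K : Subgroup G)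
    (hK : ∀ q : ℕ, q.Prime → q ∣ Nat.card K → q ∣ Nat.card B) :
    ∃ a ∈ A, K ≤ MulAut.conj a • B := by
  have hHall : (Nat.card B).Coprime B.index := by rw [h.symm.index_A]; exact h.cop.symm
  obtain ⟨x, hx⟩ := Cfsg.Agent.S0581.result B K h.nilB hHall hK
  obtain ⟨a, ha, b, hb, rfl⟩ := h.fact x
  refine ⟨a, ha, ?_⟩
  rwa [cj_mul, cj_eq_of_mem_normalizer (Subgroup.le_normalizer hb)] at hx

/-- (a) no nontrivial element of `B` centralizes a `p'`-part of `A` -/
theorem Ctx.eq_one_of_commute_pc (h : Ctx A B) (p : ℕ) [Fact p.Prime] {b : G} (hb : b ∈ B)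
    (hc : ∀ y ∈ pc A p, b * y = y * b) : b = 1 := by
  by_contra hb1
  obtain ⟨k, q, hq, hord⟩ := exists_pow_prime_order hb1
  haveI : Fact q.Prime := ⟨hq⟩
  have hbk : b ^ k ∈ pp B q := mem_pp_of_orderOf h.nilB (B.pow_mem hb k) hord
  obtain ⟨r, hr, -, hrne, hrle⟩ := exists_prime_part h.nilA p (h.pc_A_ne_bot p)
  haveI := hr
  have hS : Subgroup.zpowers (b ^ k) ≤ pp B q := by rw [Subgroup.zpowers_le]; exact hbk
  have hinv : pp A r ≤ Subgroup.normalizer ((Subgroup.zpowers (b ^ k) : Subgroup G) : Set G) := by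
    intro a ha
    apply mem_normalizer_of_commute
    intro y hy
    obtain ⟨n, rfl⟩ := Subgroup.mem_zpowers_iff.mp hy
    have h1 : Commute a b := (hc a (hrle ha)).symm
    exact ((h1.pow_right k).zpow_right n).eq
  have h0 := h.no_inv r q hrne (h.pc_B_ne_bot q) _ hS hinv
  rw [Subgroup.zpowers_eq_bot] at h0
  rw [h0, orderOf_one] at hord
  exact hq.one_lt.ne' hord.symm

/-- (b) the centralizer of a `p'`-part of `A` has order prime to `|B|` -/
theorem Ctx.coprime_card_centralizer_pc (h : Ctx A B) (p : ℕ) [Fact p.Prime] :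
    (Nat.card (Subgroup.centralizer ((pc A p : Subgroup G) : Set G))).Coprime (Nat.card B) := by
  by_contra hnc
  obtain ⟨q, hq, hq1, hq2⟩ := Nat.Prime.not_coprime_iff_dvd.mp hnc
  haveI : Fact q.Prime := ⟨hq⟩
  obtain ⟨⟨y, hyC⟩, hy⟩ := exists_prime_orderOf_dvd_card' q hq1
  rw [Subgroup.orderOf_mk] at hy
  have hK : ∀ q' : ℕ, q'.Prime → q' ∣ Nat.card (Subgroup.zpowers y) → q' ∣ Nat.card B := by
    intro q' hq' hd
    rw [Nat.card_zpowers, hy] at hd
    rw [(Nat.prime_dvd_prime_iff_eq hq' hq).mp hd]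
    exact hq2
  obtain ⟨a, ha, hle⟩ := h.conj_into_B (Subgroup.zpowers y) hK
  have hyB : a⁻¹ * y * a ∈ B := by
    have := hle (Subgroup.mem_zpowers y)
    rwa [mem_cj] at this
  have h1 : a⁻¹ * y * a = 1 := by
    apply h.eq_one_of_commute_pc p hyB
    intro v hv
    have hv' : a * v * a⁻¹ ∈ pc A p :=
      (conj_mem_iff_of_mem_normalizer (le_normalizer_pc h.nilA ha)).mpr hv
    have hy' : a * v * a⁻¹ * y = y * (a * v * a⁻¹) := (Subgroup.mem_centralizer_iff.mp hyC) _ hv'
    have e1 : a⁻¹ * y * a * v = a⁻¹ * (y * (a * v * a⁻¹)) * a := by group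
    have e2 : v * (a⁻¹ * y * a) = a⁻¹ * ((a * v * a⁻¹) * y) * a := by group
    rw [e1, e2, hy']
  have h2 : y = 1 := by
    have : y = a * (a⁻¹ * y * a) * a⁻¹ := by group
    rw [this, h1]; group
  rw [h2, orderOf_one] at hy
  exact hq.one_lt.ne' hy.symm

variable {p : ℕ} [hp : Fact p.Prime]

theorem cj_pp_eq_of_le (hA : Group.IsNilpotent A) {g : G} (hle : MulAut.conj g • pp A p ≤ A) :
    MulAut.conj g • pp A p = pp A p := by
  apply Subgroup.eq_of_le_of_card_ge
  · intro x hx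
    have hxA := hle hx
    rw [mem_cj] at hx
    obtain ⟨k, hk⟩ := ((mem_pp hA).mp hx).2
    rw [mem_pp hA]
    refine ⟨hxA, k, ?_⟩
    have e : (g⁻¹ * x * g) ^ p ^ k = g⁻¹ * x ^ p ^ k * g := by
      have := conj_pow (a := g⁻¹) (b := x) (i := p ^ k)
      simpa using this
    rw [e] at hk
    have : x ^ p ^ k = g * (g⁻¹ * x ^ p ^ k * g) * g⁻¹ := by group
    rw [this, hk]; group
  · rw [card_cj]

theorem cj_pc_eq_of_le (hA : Group.IsNilpotent A) {g : G} (hle : MulAut.conj g • pc A p ≤ A) :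
    MulAut.conj g • pc A p = pc A p := by
  apply Subgroup.eq_of_le_of_card_ge
  · intro x hx
    have hxA := hle hx
    rw [mem_cj] at hx
    rw [mem_pc hA]
    refine ⟨hxA, ?_⟩
    have h1 := ((mem_pc hA).mp hx).2
    have e : orderOf (g⁻¹ * x * g) = orderOf x := by
      have := orderOf_conj' g⁻¹ x
      simpa using this
    rwa [e] at h1
  · rw [card_cj]

/-- (c) the normalizer of a `p'`-part of `A` normalizes `A` -/
theorem Ctx.normalizer_pc_le (h : Ctx A B) (p : ℕ) [Fact p.Prime] :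
    Subgroup.normalizer ((pc A p : Subgroup G) : Set G) ≤ Subgroup.normalizer (A : Set G) := by
  intro g hg
  obtain ⟨C, hC⟩ : ∃ C : Subgroup G,
    C = Subgroup.centralizer ((pc A p : Subgroup G) : Set G) := ⟨_, rfl⟩
  have hcopC : (Nat.card C).Coprime (Nat.card B) := by
    rw [hC]; exact h.coprime_card_centralizer_pc p
  have hKC : ∀ q : ℕ, q.Prime → q ∣ Nat.card C → q ∣ Nat.card A := by
    intro q hq hqd
    have h1 : q ∣ Nat.card A * Nat.card B := by
      rw [← h.card_eq]; exact hqd.trans (Subgroup.card_subgroup_dvd_card C)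
    rcases (Nat.Prime.dvd_mul hq).mp h1 with h2 | h2
    · exact h2
    · exfalso
      have h3 := Nat.dvd_gcd hqd h2
      rw [Nat.Coprime.gcd_eq_one hcopC] at h3
      exact hq.one_lt.ne' (Nat.dvd_one.mp h3)
  obtain ⟨b₁, -, hCle⟩ := h.symm.conj_into_B C hKC
  have hppC : pp A p ≤ C := by
    rw [hC]; intro x hx
    rw [Subgroup.mem_centralizer_iff]
    intro y hy
    exact (commute_pp_pc h.nilA hx hy).symm
  have hcjC : MulAut.conj g • pp A p ≤ C := by
    rw [hC]; intro x hx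
    rw [mem_cj] at hx
    rw [Subgroup.mem_centralizer_iff]
    intro v hv
    have hv' : g⁻¹ * v * g ∈ pc A p := by
      have := (conj_mem_iff_of_mem_normalizer (Subgroup.inv_mem _ hg)).mpr hv
      simpa using this
    have hcomm := commute_pp_pc h.nilA hx hv'
    have e1 : v * x = g * ((g⁻¹ * v * g) * (g⁻¹ * x * g)) * g⁻¹ := by group
    have e2 : x * v = g * ((g⁻¹ * x * g) * (g⁻¹ * v * g)) * g⁻¹ := by group
    rw [e1, e2, hcomm]
  have e1 : MulAut.conj b₁⁻¹ • pp A p = pp A p := by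
    apply cj_pp_eq_of_le h.nilA
    have := cj_le_cj (g := b₁⁻¹) (hppC.trans hCle)
    rwa [← cj_mul, inv_mul_cancel, cj_one] at this
  have e2 : MulAut.conj (b₁⁻¹ * g) • pp A p = pp A p := by
    apply cj_pp_eq_of_le h.nilA
    have := cj_le_cj (g := b₁⁻¹) (hcjC.trans hCle)
    rwa [← cj_mul, ← cj_mul, inv_mul_cancel, cj_one] at this
  have hgpp : MulAut.conj g • pp A p = pp A p := by
    have hmul : g = b₁ * (b₁⁻¹ * g) := by group
    calc MulAut.conj g • pp A p = MulAut.conj (b₁ * (b₁⁻¹ * g)) • pp A p := by rw [← hmul]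
      _ = MulAut.conj b₁ • pp A p := by rw [cj_mul, e2]
      _ = MulAut.conj b₁ • (MulAut.conj b₁⁻¹ • pp A p) := by rw [e1]
      _ = pp A p := by rw [← cj_mul, mul_inv_cancel, cj_one]
  rw [← cj_eq_self_iff_mem_normalizer]
  have hsup : A = pp A p ⊔ pc A p := (isProd_pp_pc h.nilA).eq_sup
  calc MulAut.conj g • A = MulAut.conj g • (pp A p ⊔ pc A p) := by rw [← hsup]
    _ = pp A p ⊔ pc A p := by rw [cj_sup, hgpp, cj_eq_of_mem_normalizer hg]
    _ = A := hsup.symm

/-- a `p'`-part of `A` is a Hall subgroup of `G` -/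
theorem Ctx.hall_pc (h : Ctx A B) (p : ℕ) [Fact p.Prime] :
    (Nat.card (pc A p)).Coprime (pc A p).index := by
  have e1 := (pc A p).card_mul_index
  have e2 := card_pp_mul_card_pc (p := p) h.nilA
  have e3 := h.card_eq
  have hidx : (pc A p).index = Nat.card (pp A p) * Nat.card B := by
    have : Nat.card (pc A p) * (pc A p).index =
        Nat.card (pc A p) * (Nat.card (pp A p) * Nat.card B) := by
      rw [e1, e3, ← e2]; ring
    exact Nat.eq_of_mul_eq_mul_left Nat.card_pos this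
  rw [hidx]
  apply Nat.Coprime.mul_right
  · exact (coprime_pp_pc h.nilA).symm
  · exact Nat.Coprime.coprime_dvd_left (Subgroup.card_dvd_of_le (pc_le h.nilA)) h.cop

/-- (d) the normalizer of `A` controls fusion in the `p`-part of `A` -/
theorem Ctx.fusion (h : Ctx A B) (p : ℕ) [Fact p.Prime] {x g : G} (hx : x ∈ pp A p)
    (hy : g * x * g⁻¹ ∈ pp A p) :
    ∃ n ∈ Subgroup.normalizer (A : Set G), n * x * n⁻¹ = g * x * g⁻¹ := by
  obtain ⟨y, hyd⟩ : ∃ y : G, y = g * x * g⁻¹ := ⟨_, rfl⟩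
  rw [← hyd] at hy ⊢
  obtain ⟨L, hL⟩ : ∃ L : Subgroup G, L = Subgroup.centralizer ({y} : Set G) := ⟨_, rfl⟩
  have hmemL : ∀ v : G, v ∈ L ↔ y * v = v * y := by
    intro v; rw [hL, Subgroup.mem_centralizer_iff]; simp
  have hHL : pc A p ≤ L := fun v hv => (hmemL v).mpr (commute_pp_pc h.nilA hy hv)
  have hKL : MulAut.conj g • pc A p ≤ L := by
    intro v hv
    rw [mem_cj] at hv
    rw [hmemL, hyd]
    have hc := commute_pp_pc h.nilA hx hv
    have e1 : g * x * g⁻¹ * v = g * (x * (g⁻¹ * v * g)) * g⁻¹ := by group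
    have e2 : v * (g * x * g⁻¹) = g * ((g⁻¹ * v * g) * x) * g⁻¹ := by group
    rw [e1, e2, hc]
  have hHall : (Nat.card (pc A p)).Coprime ((pc A p).relIndex L) :=
    Nat.Coprime.coprime_dvd_right (Subgroup.relIndex_dvd_index_of_le hHL) (h.hall_pc p)
  obtain ⟨d, hdL, hd⟩ := wielandt_rel L (pc A p) (MulAut.conj g • pc A p)
    (nilpotent_of_le (pc_le h.nilA) h.nilA) hHL hKL hHall (by
      intro q hq hqd; rwa [card_cj] at hqd)
  have heq : MulAut.conj g • pc A p = MulAut.conj d • pc A p :=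
    Subgroup.eq_of_le_of_card_ge hd (by rw [card_cj, card_cj])
  have hn : d⁻¹ * g ∈ Subgroup.normalizer ((pc A p : Subgroup G) : Set G) := by
    rw [← cj_eq_self_iff_mem_normalizer, cj_mul, heq, ← cj_mul, inv_mul_cancel, cj_one]
  refine ⟨d⁻¹ * g, h.normalizer_pc_le p hn, ?_⟩
  have hdy : y * d = d * y := (hmemL d).mp hdL
  calc d⁻¹ * g * x * (d⁻¹ * g)⁻¹ = d⁻¹ * (g * x * g⁻¹) * d := by group
    _ = d⁻¹ * y * d := by rw [hyd]
    _ = d⁻¹ * (y * d) := by group
    _ = y := by rw [hdy]; group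

end Cfsg.Agent.Lib.Helper13.KW
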