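import Mathlib
import Cfsg.Agent.Lib.Helper13.KW5

/-!
Kegel–Wielandt project (helper13), part 6: central elements of a factor normalize no nontrivial
subgroup of the other factor; their centralizer is the factor; strong closure.
-/

set_option autoImplicit false

namespace Cfsg.Agent.Lib.Helper13.KW

open Cfsg.Agent.Lib.Helper13
open scoped Pointwise

universe u

variable {G : Type u} [Group G] [Finite G] {A B : Subgroup G}

theorem Ctx.centralizer_ne_top (h : Ctx A B) {x : G} (hx : x ≠ 1) :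
    Subgroup.centralizer ({x} : Set G) ≠ ⊤ := by
  intro htop
  haveI := h.simple
  rw [Subgroup.centralizer_eq_top_iff_subset, Set.singleton_subset_iff] at htop
  rcases (inferInstance : (Subgroup.center G).Normal).eq_bot_or_eq_top with hc | hc
  · rw [SetLike.mem_coe, hc, Subgroup.mem_bot] at htop; exact hx htop
  · apply h.nonsolv
    apply Group.isSolvable_of_comm
    intro a b
    have : b ∈ Subgroup.center G := hc ▸ Subgroup.mem_top b
    exact (Subgroup.mem_center_iff.mp this a)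

theorem dvd_card_of_pp_ne_bot (hA : Group.IsNilpotent A) {p : ℕ} [Fact p.Prime]
    (hne : pp A p ≠ ⊥) : p ∣ Nat.card A := by
  obtain ⟨n, hn⟩ := card_pp (p := p) hA
  have hn0 : n ≠ 0 := by
    rintro rfl
    rw [pow_zero] at hn
    exact hne (Subgroup.card_eq_one.mp hn)
  have : p ∣ Nat.card (pp A p) := by rw [hn]; exact dvd_pow_self p hn0
  exact this.trans (Subgroup.card_dvd_of_le (pp_le hA))

theorem Ctx.prime_ne (h : Ctx A B) {r t : ℕ} [hr : Fact r.Prime] [ht : Fact t.Prime]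
    (hrne : pp A r ≠ ⊥) (htne : pp B t ≠ ⊥) : r ≠ t := by
  intro hrt
  have h1 : r ∣ Nat.card A := dvd_card_of_pp_ne_bot h.nilA hrne
  have h2 : t ∣ Nat.card B := dvd_card_of_pp_ne_bot h.nilB htne
  rw [← hrt] at h2
  have h3 := Nat.dvd_gcd h1 h2
  rw [Nat.Coprime.gcd_eq_one h.cop] at h3
  exact hr.out.one_lt.ne' (Nat.dvd_one.mp h3)

theorem conj_mem_pp (hA : Group.IsNilpotent A) {r : ℕ} [Fact r.Prime] {z g : G}
    (hz : z ∈ pp A r) (hg : g * z * g⁻¹ ∈ A) : g * z * g⁻¹ ∈ pp A r := by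
  rw [mem_pp hA]
  obtain ⟨k, hk⟩ := ((mem_pp hA).mp hz).2
  exact ⟨hg, k, by rw [conj_pow, hk]; group⟩

/-- weak closure of central elements: a conjugate inside `A` forces the conjugating element into
the maximal subgroup -/
theorem Ctx.weakI (h : Ctx A B) {L : Subgroup G}
    (hmax : ∀ H : Subgroup G, A ≤ H → H ≠ ⊤ → H ≤ L)
    (r : ℕ) [Fact r.Prime] {z g : G} (hz : z ∈ pp A r) (hz1 : z ≠ 1)
    (hzc : ∀ a ∈ A, a * z = z * a) (hg : g * z * g⁻¹ ∈ A) : g ∈ L := by
  haveI := h.simple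
  have hgz : g * z * g⁻¹ ∈ pp A r := conj_mem_pp h.nilA hz hg
  obtain ⟨n, hn, hne⟩ := h.fusion r hz hgz
  have hC : Subgroup.centralizer ({z} : Set G) ≤ L := by
    apply hmax _ _ (h.centralizer_ne_top hz1)
    intro a ha
    rw [Subgroup.mem_centralizer_singleton_iff]
    exact hzc a ha
  have hN : Subgroup.normalizer (A : Set G) ≤ L :=
    hmax _ Subgroup.le_normalizer (normalizer_ne_top_of_simple h.A_ne_bot h.A_ne_top)
  have hmem : n⁻¹ * g ∈ Subgroup.centralizer ({z} : Set G) := by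
    rw [Subgroup.mem_centralizer_singleton_iff]
    have e1 : n⁻¹ * g * z = n⁻¹ * (g * z * g⁻¹) * g := by group
    have e2 : z * (n⁻¹ * g) = n⁻¹ * (n * z * n⁻¹) * g := by group
    rw [e1, e2, hne]
  have : g = n * (n⁻¹ * g) := by group
  rw [this]
  exact L.mul_mem (hN hn) (hC hmem)

/-- Lemma W: inside a proper factorized subgroup containing `B_t`, some central element of `B`
of `t`-power order is conjugated into `B_t` by every element of `A_r` in the subgroup. -/
theorem Ctx.lemmaW (h : Ctx A B) {H : Subgroup G} (hH : H ≠ ⊤)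
    (hprod : IsProd H (H ⊓ A) (H ⊓ B)) (r t : ℕ) [hr : Fact r.Prime] [ht : Fact t.Prime]
    (hrt : r ≠ t) (htne : pp B t ≠ ⊥) (hBt : pp B t ≤ H) :
    ∃ w ∈ pp B t, w ≠ 1 ∧ (∀ b ∈ B, b * w = w * b) ∧
      ∀ a ∈ pp A r, a ∈ H → a * w * a⁻¹ ∈ pp B t := by
  have hnilA' : Group.IsNilpotent (H ⊓ A : Subgroup G) := nilpotent_of_le inf_le_right h.nilA
  have hB₀ : pp B t ≤ H ⊓ B := le_inf hBt (pp_le h.nilB)
  have hperm : Perm (pp (H ⊓ A) r) (pp B t) :=
    h.perm_parts hH inf_le_right inf_le_right hprod (pp_le hnilA') hB₀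
      (le_normalizer_pp hnilA') (inf_le_right.trans (le_normalizer_pp h.nilB))
      (coprime_relIndex_pp hnilA' (pp_le hnilA') le_rfl)
      (coprime_relIndex_pp h.nilB hB₀ inf_le_right)
  have hS := isProd_prodSubgroup _ _ hperm
  obtain ⟨W, hW⟩ : ∃ W : Subgroup G, W = prodSubgroup _ _ hperm := ⟨_, rfl⟩
  rw [← hW] at hS
  have hWH : W ≤ H := by
    rw [hS.eq_sup]
    exact sup_le ((pp_le hnilA').trans inf_le_left) hBt
  haveI hsolvH : Group.IsSolvable H := h.ih H _ _ hH inf_le_right inf_le_right hprod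
  haveI hsolvW : Group.IsSolvable W :=
    Group.isSolvable_of_isSolvable_injective (Subgroup.inclusion_injective hWH)
  have hA₀le : pp (H ⊓ A) r ≤ pp A r := by
    rw [pp_of_le h.nilA inf_le_right]; exact inf_le_right
  have hcop : (Nat.card (pp (H ⊓ A) r)).Coprime (Nat.card (pp B t)) := by
    obtain ⟨n, hn⟩ := card_pp (p := r) hnilA'
    obtain ⟨m, hm⟩ := card_pp (p := t) h.nilB
    rw [hn, hm]
    exact Nat.Coprime.pow _ _ ((Nat.coprime_primes hr.out ht.out).mpr hrt)
  have hcardW := card_of_isProd hS hcop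
  haveI : Nontrivial W := by
    rw [Subgroup.nontrivial_iff_ne_bot]
    intro hbot
    apply htne
    exact le_bot_iff.mp (hbot ▸ hS.2.1)
  obtain ⟨ℓ, M, hℓ, hMn, hMne, hMp⟩ := Cfsg.Agent.Lib.Helper13.exists_normal_pgroup W
  haveI : Fact ℓ.Prime := ⟨hℓ⟩
  haveI := hMn
  obtain ⟨V, hV⟩ : ∃ V : Subgroup G, V = M.map W.subtype := ⟨_, rfl⟩
  have hVW : V ≤ W := by rw [hV]; exact Subgroup.map_subtype_le _
  have hVne : V ≠ ⊥ := by
    rw [hV]; intro hb
    exact hMne ((Subgroup.map_eq_bot_iff_of_injective _ W.subtype_injective).mp hb)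
  have hVsub : V.subgroupOf W = M := by
    rw [hV]; exact Subgroup.comap_map_eq_self_of_injective W.subtype_injective M
  have hVnorm : W ≤ Subgroup.normalizer (V : Set G) :=
    (Subgroup.normal_subgroupOf_iff_le_normalizer hVW).mp (hVsub ▸ hMn)
  by_cases hℓr : ℓ = r
  · exfalso
    have hMp' : IsPGroup r M := hℓr ▸ hMp
    have hidx : ¬ r ∣ ((pp (H ⊓ A) r).subgroupOf W).index := by
      have e := card_mul_relIndex hS.1
      rw [hcardW] at e
      have e' : (pp (H ⊓ A) r).relIndex W = Nat.card (pp B t) :=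
        Nat.eq_of_mul_eq_mul_left Nat.card_pos e
      change ¬ r ∣ (pp (H ⊓ A) r).relIndex W
      rw [e']
      obtain ⟨m, hm⟩ := card_pp (p := t) h.nilB
      rw [hm]
      intro hd
      exact hrt ((Nat.prime_dvd_prime_iff_eq hr.out ht.out).mp (hr.out.dvd_of_dvd_pow hd))
    have hMle := Cfsg.Agent.Lib.Helper13.normal_pgroup_le_of_not_dvd_index M _ hMp' hidx
    have hVle : V ≤ pp A r := by
      rw [hV]
      rintro _ ⟨m, hm, rfl⟩
      exact hA₀le (Subgroup.mem_subgroupOf.mp (hMle hm))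
    have := h.symm.no_inv t r htne (h.pc_A_ne_bot r) V hVle (hS.2.1.trans hVnorm)
    exact hVne this
  · have hidx : ¬ ℓ ∣ ((pp B t).subgroupOf W).index := by
      have e := card_mul_relIndex hS.2.1
      rw [hcardW, mul_comm (Nat.card (pp (H ⊓ A) r)) (Nat.card (pp B t))] at e
      have e' : (pp B t).relIndex W = Nat.card (pp (H ⊓ A) r) :=
        Nat.eq_of_mul_eq_mul_left Nat.card_pos e
      change ¬ ℓ ∣ (pp B t).relIndex W
      rw [e']
      obtain ⟨n, hn⟩ := card_pp (p := r) hnilA'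
      rw [hn]
      intro hd
      exact hℓr ((Nat.prime_dvd_prime_iff_eq hℓ hr.out).mp (hℓ.dvd_of_dvd_pow hd))
    have hMle := Cfsg.Agent.Lib.Helper13.normal_pgroup_le_of_not_dvd_index M _ hMp hidx
    have hVle : V ≤ pp B t := by
      rw [hV]
      rintro _ ⟨m, hm, rfl⟩
      exact Subgroup.mem_subgroupOf.mp (hMle hm)
    haveI hn : (V.subgroupOf (pp B t)).Normal :=
      (Subgroup.normal_subgroupOf_iff_le_normalizer hVle).mpr (hS.2.1.trans hVnorm)
    have hne' : V.subgroupOf (pp B t) ≠ ⊥ := by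
      intro hb
      apply hVne
      have := Subgroup.map_subgroupOf_eq_of_le hVle
      rw [hb, Subgroup.map_bot] at this
      exact this.symm
    haveI : Group.IsNilpotent (pp B t) := nilpotent_of_le (pp_le h.nilB) h.nilB
    have hcen := Cfsg.Agent.Lib.Helper2.normal_inf_center_ne_bot (V.subgroupOf (pp B t)) hne'
    obtain ⟨⟨⟨w, hwP⟩, hwm⟩, hw1⟩ := (Subgroup.ne_bot_iff_exists_ne_one).mp hcen
    have hwV : (⟨w, hwP⟩ : pp B t) ∈ V.subgroupOf (pp B t) := hwm.1
    have hwc : (⟨w, hwP⟩ : pp B t) ∈ Subgroup.center (pp B t) := hwm.2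
    refine ⟨w, hwP, ?_, ?_, ?_⟩
    · intro h1; apply hw1; exact Subtype.ext (Subtype.ext h1)
    · apply central_of_central_pp h.nilB hwP
      intro x hx
      have := Subgroup.mem_center_iff.mp hwc ⟨x, hx⟩
      exact congrArg Subtype.val this
    · intro a ha haH
      have haW : a ∈ W :=
        hS.1 ((mem_pp hnilA').mpr ⟨⟨haH, pp_le h.nilA ha⟩, ((mem_pp h.nilA).mp ha).2⟩)
      have hwV' : w ∈ V := Subgroup.mem_subgroupOf.mp hwV
      exact hVle ((conj_mem_iff_of_mem_normalizer (hVnorm haW)).mpr hwV')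

/-- Z⁺: a nontrivial central element of `A` of prime power order normalizes no nontrivial
subgroup of a primary part of `B`. -/
theorem Ctx.zplus (h : Ctx A B) (r s : ℕ) [Fact r.Prime] [Fact s.Prime] {z : G}
    (hz : z ∈ pp A r) (hz1 : z ≠ 1) (hzc : ∀ a ∈ A, a * z = z * a) (S : Subgroup G)
    (hS : S ≤ pp B s) (hinv : z ∈ Subgroup.normalizer (S : Set G)) : S = ⊥ := by
  haveI := h.simple
  by_contra hSne
  obtain ⟨Y, hY1, hY2, hY3⟩ := exists_maxInv (Subgroup.zpowers z) (pp B s)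
  have hYne : Y ≠ ⊥ := fun hbot =>
    hSne (le_bot_iff.mp (hbot ▸ hY3 S hS (by rw [Subgroup.zpowers_le]; exact hinv)))
  have hYB : Y ≤ B := hY1.trans (pp_le h.nilB)
  have hYtop : Y ≠ ⊤ := fun htop => h.symm.A_ne_top (top_le_iff.mp (htop ▸ hYB))
  have hNtop := normalizer_ne_top_of_simple hYne hYtop
  have hzA : z ∈ A := pp_le h.nilA hz
  have hprod := h.isProd_normalizer Y (by
    intro a ha b hb hab
    apply hY3
    · have h1 := cj_le_cj (g := b) hY1
      rwa [cj_eq_of_mem_normalizer (le_normalizer_pp h.nilB hb)] at h1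
    · rw [← hab, Subgroup.zpowers_le]
      have h1 := cj_le_normalizer_cj (g := a) hY2
      apply h1
      rw [mem_cj]
      have e : a⁻¹ * z * a = z := by
        have h2 := hzc a ha
        calc a⁻¹ * z * a = a⁻¹ * (z * a) := by group
          _ = a⁻¹ * (a * z) := by rw [h2]
          _ = z := by group
      rw [e]; exact Subgroup.mem_zpowers z)
  obtain ⟨t, ht, -, htne, htle⟩ := exists_prime_part h.nilB s (h.pc_B_ne_bot s)
  haveI := ht
  have hBt : pp B t ≤ Subgroup.normalizer (Y : Set G) := by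
    intro b hb
    apply mem_normalizer_of_commute
    intro y hy
    exact (commute_pp_pc h.nilB (hY1 hy) (htle hb)).symm
  have hrne : pp A r ≠ ⊥ := fun hbot => hz1 (by rw [hbot, Subgroup.mem_bot] at hz; exact hz)
  have hrt : r ≠ t := h.prime_ne hrne htne
  obtain ⟨w, hw, hw1, hwc, hwa⟩ := h.lemmaW hNtop hprod r t hrt htne hBt
  have hzN : z ∈ Subgroup.normalizer (Y : Set G) := hY2 (Subgroup.mem_zpowers z)
  have hzw := hwa z hz hzN
  obtain ⟨L, hBL, hLtop, hL⟩ := h.exists_max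
  have hzL : z ∈ L := h.symm.weakI hL t hw hw1 hwc (pp_le h.nilB hzw)
  refine h.not_le_of_normal (A₀ := Subgroup.zpowers z) ?_ ?_ ?_ hBL hLtop ?_
  · rw [Subgroup.zpowers_le]; exact hzA
  · intro a ha
    apply mem_normalizer_of_commute
    intro y hy
    obtain ⟨n, rfl⟩ := Subgroup.mem_zpowers_iff.mp hy
    have h1 : Commute a z := hzc a ha
    exact (h1.zpow_right n).eq
  · rw [Ne, Subgroup.zpowers_eq_bot]; exact hz1
  · rw [Subgroup.zpowers_le]; exact hzL

/-- (E1) the centralizer of a nontrivial central element of `A` of prime power order is `A` -/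
theorem Ctx.mem_of_commute_central (h : Ctx A B) (r : ℕ) [Fact r.Prime] {z g : G}
    (hz : z ∈ pp A r) (hz1 : z ≠ 1) (hzc : ∀ a ∈ A, a * z = z * a) (hg : g * z = z * g) :
    g ∈ A := by
  obtain ⟨a, ha, b, hb, rfl⟩ := h.fact g
  have hbz : b * z = z * b := by
    have h1 := hzc a ha
    have e1 : b * z = a⁻¹ * (a * b * z) := by group
    rw [e1, hg]
    have e2 : a⁻¹ * (z * (a * b)) = a⁻¹ * (z * a) * b := by group
    rw [e2, ← h1]; group
  suffices hb1 : b = 1 by rw [hb1, mul_one]; exact ha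
  by_contra hb1
  obtain ⟨k, q, hq, hord⟩ := exists_pow_prime_order hb1
  haveI : Fact q.Prime := ⟨hq⟩
  have hbk : b ^ k ∈ pp B q := mem_pp_of_orderOf h.nilB (B.pow_mem hb k) hord
  have hS : Subgroup.zpowers (b ^ k) ≤ pp B q := by rw [Subgroup.zpowers_le]; exact hbk
  have hinv : z ∈ Subgroup.normalizer ((Subgroup.zpowers (b ^ k) : Subgroup G) : Set G) := by
    apply mem_normalizer_of_commute
    intro y hy
    obtain ⟨n, rfl⟩ := Subgroup.mem_zpowers_iff.mp hy
    have h1 : Commute z b := hbz.symm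
    exact ((h1.pow_right k).zpow_right n).eq
  have h0 := h.zplus r q hz hz1 hzc _ hS hinv
  rw [Subgroup.zpowers_eq_bot] at h0
  rw [h0, orderOf_one] at hord
  exact hq.one_lt.ne' hord.symm

/-- (I) strong closure of central elements -/
theorem Ctx.strongI (h : Ctx A B) (r : ℕ) [Fact r.Prime] {z g : G} (hz : z ∈ pp A r)
    (hz1 : z ≠ 1) (hzc : ∀ a ∈ A, a * z = z * a) (hg : g * z * g⁻¹ ∈ A) :
    g ∈ Subgroup.normalizer (A : Set G) := by
  have hgz : g * z * g⁻¹ ∈ pp A r := conj_mem_pp h.nilA hz hg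
  obtain ⟨n, hn, hne⟩ := h.fusion r hz hgz
  have hcomm : n⁻¹ * g * z = z * (n⁻¹ * g) := by
    have e1 : n⁻¹ * g * z = n⁻¹ * (g * z * g⁻¹) * g := by group
    have e2 : z * (n⁻¹ * g) = n⁻¹ * (n * z * n⁻¹) * g := by group
    rw [e1, e2, hne]
  have hA := h.mem_of_commute_central r hz hz1 hzc hcomm
  have : g = n * (n⁻¹ * g) := by group
  rw [this]
  exact Subgroup.mul_mem _ hn (Subgroup.le_normalizer hA)

/-- (E4) an element of `A_r` commuting with a nontrivial element of `B_q` that normalizes `A`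
normalizes `B` -/
theorem Ctx.mem_normalizer_of_commute_normalizing (h : Ctx A B) (q r : ℕ) [Fact q.Prime]
    [Fact r.Prime] {x a : G} (hx : x ∈ pp B q) (hxN : x ∈ Subgroup.normalizer (A : Set G))
    (hx1 : x ≠ 1) (ha : a ∈ pp A r) (hax : a * x = x * a) :
    a ∈ Subgroup.normalizer (B : Set G) := by
  haveI := h.simple
  by_cases ha1 : a = 1
  · rw [ha1]; exact Subgroup.one_mem _
  obtain ⟨Y, hY⟩ : ∃ Y : Subgroup G, Y = Subgroup.zpowers x := ⟨_, rfl⟩
  have hxB : x ∈ B := pp_le h.nilB hx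
  have hYB : Y ≤ B := by rw [hY, Subgroup.zpowers_le]; exact hxB
  have hYne : Y ≠ ⊥ := by rw [hY, Ne, Subgroup.zpowers_eq_bot]; exact hx1
  have hYtop : Y ≠ ⊤ := fun htop => h.symm.A_ne_top (top_le_iff.mp (htop ▸ hYB))
  have hNtop := normalizer_ne_top_of_simple hYne hYtop
  have hnorm_of_comm : ∀ c : G, c * x = x * c → c ∈ Subgroup.normalizer (Y : Set G) := by
    intro c hc
    apply mem_normalizer_of_commute
    intro y hy
    rw [hY] at hy
    obtain ⟨n, rfl⟩ := Subgroup.mem_zpowers_iff.mp hy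
    have hc' : Commute c x := hc
    exact (hc'.zpow_right n).eq
  have hprod := h.isProd_normalizer Y (by
    intro a₁ ha₁ b₁ hb₁ hab
    have h1 : a₁ * x * a₁⁻¹ ∈ MulAut.conj b₁ • Y := by
      rw [← hab, mem_cj]
      have e : a₁⁻¹ * (a₁ * x * a₁⁻¹) * a₁ = x := by group
      rw [e, hY]; exact Subgroup.mem_zpowers x
    have h2 : a₁ * x * a₁⁻¹ ∈ B := by
      have h3 := cj_le_cj (g := b₁) hYB h1
      rwa [cj_eq_of_mem_normalizer (Subgroup.le_normalizer hb₁)] at h3
    have h4 : a₁ * x * a₁⁻¹ * x⁻¹ ∈ A := by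
      have e : a₁ * x * a₁⁻¹ * x⁻¹ = a₁ * (x * a₁⁻¹ * x⁻¹) := by group
      rw [e]
      exact A.mul_mem ha₁ ((conj_mem_iff_of_mem_normalizer hxN).mpr (A.inv_mem ha₁))
    have h5 : a₁ * x * a₁⁻¹ * x⁻¹ ∈ A ⊓ B := ⟨h4, B.mul_mem h2 (B.inv_mem hxB)⟩
    rw [h.inter_eq_bot, Subgroup.mem_bot] at h5
    have h6 : a₁ * x = x * a₁ := by
      have e : a₁ * x = (a₁ * x * a₁⁻¹ * x⁻¹) * (x * a₁) := by group
      rw [e, h5, one_mul]
    have h7 : MulAut.conj a₁ • Y = Y := cj_eq_of_mem_normalizer (hnorm_of_comm a₁ h6)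
    have h8 : MulAut.conj b₁ • Y = Y := by rw [← hab, h7]
    exact h8.le)
  obtain ⟨t, ht, -, htne, htle⟩ := exists_prime_part h.nilB q (h.pc_B_ne_bot q)
  haveI := ht
  have hBt : pp B t ≤ Subgroup.normalizer (Y : Set G) := by
    intro b hb
    apply hnorm_of_comm
    exact (commute_pp_pc h.nilB hx (htle hb)).symm
  have hrne : pp A r ≠ ⊥ := fun hbot => ha1 (by rw [hbot, Subgroup.mem_bot] at ha; exact ha)
  have hrt : r ≠ t := h.prime_ne hrne htne
  obtain ⟨w, hw, hw1, hwc, hwa⟩ := h.lemmaW hNtop hprod r t hrt htne hBt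
  have haw := hwa a ha (hnorm_of_comm a hax)
  exact h.symm.strongI t hw hw1 hwc (pp_le h.nilB haw)

end Cfsg.Agent.Lib.Helper13.KW
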