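import Mathlib
import Cfsg.Agent.Lib.Helper13.KW6

/-!
Kegel–Wielandt project (helper13), part 7: centralizers of elements of `A` normalizing `B`, and
the global form of the invariant-subgroup lemma.
-/

set_option autoImplicit false

namespace Cfsg.Agent.Lib.Helper13.KW

open Cfsg.Agent.Lib.Helper13
open scoped Pointwise

universe u

variable {G : Type u} [Group G] [Finite G] {A B : Subgroup G}

/-- a nilpotent subgroup all of whose primary parts lie in `K` lies in `K` -/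
theorem le_of_forall_pp_le : ∀ (n : ℕ) (D : Subgroup G), Nat.card D = n → Group.IsNilpotent D →
    ∀ K : Subgroup G, (∀ (r : ℕ) [Fact r.Prime], pp D r ≤ K) → D ≤ K := by
  intro n
  induction n using Nat.strong_induction_on with
  | _ n ih =>
  intro D hn hD K hK
  by_cases hbot : D = ⊥
  · rw [hbot]; exact bot_le
  have hcard : Nat.card D ≠ 1 := fun h1 => hbot (Subgroup.card_eq_one.mp h1)
  obtain ⟨r, hr, hrd⟩ : ∃ r : ℕ, r.Prime ∧ r ∣ Nat.card D :=
    ⟨_, Nat.minFac_prime hcard, Nat.minFac_dvd _⟩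
  haveI : Fact r.Prime := ⟨hr⟩
  have hppne := pp_ne_bot_of_dvd hD hrd
  have hlt : Nat.card (pc D r) < n := by
    have e := card_pp_mul_card_pc (p := r) hD
    have h1 : 1 < Nat.card (pp D r) := by
      rcases Nat.lt_or_ge 1 (Nat.card (pp D r)) with h | h
      · exact h
      · exfalso; apply hppne; apply Subgroup.card_eq_one.mp
        have := Nat.card_pos (α := pp D r); omega
    rw [← hn, ← e]
    have hpos : 0 < Nat.card (pc D r) := Nat.card_pos
    nlinarith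
  have hnil' : Group.IsNilpotent (pc D r) := nilpotent_of_le (pc_le hD) hD
  have hle' : pc D r ≤ K := by
    apply ih _ hlt (pc D r) rfl hnil' K
    intro r' _
    rw [pp_of_le hD (pc_le hD)]
    exact inf_le_right.trans (hK r')
  intro d hd
  obtain ⟨x, hx, y, hy, rfl⟩ := exists_decomp (p := r) hD hd
  exact K.mul_mem (hK r hx) (hle' hy)

/-- elements of order prime to the index of a normal subgroup lie in it -/
theorem mem_of_coprime_relIndex {A M : Subgroup G} (hAM : A ≤ M)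
    (hn : M ≤ Subgroup.normalizer (A : Set G)) {d : G} (hd : d ∈ M)
    (hcop : (orderOf d).Coprime (A.relIndex M)) : d ∈ A := by
  haveI : (A.subgroupOf M).Normal := (Subgroup.normal_subgroupOf_iff_le_normalizer hAM).mpr hn
  have h1 : orderOf (QuotientGroup.mk' (A.subgroupOf M) ⟨d, hd⟩) ∣ orderOf d := by
    have := orderOf_map_dvd (QuotientGroup.mk' (A.subgroupOf M)) (⟨d, hd⟩ : M)
    rwa [Subgroup.orderOf_mk] at this
  have h2 : orderOf (QuotientGroup.mk' (A.subgroupOf M) ⟨d, hd⟩) ∣ A.relIndex M := by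
    have := orderOf_dvd_natCard (QuotientGroup.mk' (A.subgroupOf M) ⟨d, hd⟩)
    rwa [← Subgroup.index_eq_card] at this
  have h3 := Nat.dvd_gcd h1 h2
  rw [Nat.Coprime.gcd_eq_one hcop, Nat.dvd_one, orderOf_eq_one_iff] at h3
  have h4 := (QuotientGroup.eq_one_iff (⟨d, hd⟩ : M)).mp h3
  exact Subgroup.mem_subgroupOf.mp h4

theorem mem_normalizer_zpowers_of_commute {c x : G} (hc : c * x = x * c) :
    c ∈ Subgroup.normalizer ((Subgroup.zpowers x : Subgroup G) : Set G) := by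
  apply mem_normalizer_of_commute
  intro y hy
  obtain ⟨n, rfl⟩ := Subgroup.mem_zpowers_iff.mp hy
  have hc' : Commute c x := hc
  exact (hc'.zpow_right n).eq

/-- the normalizer of a cyclic subgroup of `N_B(A)` is factorized -/
theorem Ctx.isProd_normalizer_zpowers (h : Ctx A B) {x : G} (hxB : x ∈ B)
    (hxN : x ∈ Subgroup.normalizer (A : Set G)) :
    IsProd (Subgroup.normalizer ((Subgroup.zpowers x : Subgroup G) : Set G))
      (Subgroup.normalizer ((Subgroup.zpowers x : Subgroup G) : Set G) ⊓ A)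
      (Subgroup.normalizer ((Subgroup.zpowers x : Subgroup G) : Set G) ⊓ B) := by
  have hYB : Subgroup.zpowers x ≤ B := by rw [Subgroup.zpowers_le]; exact hxB
  apply h.isProd_normalizer
  intro a₁ ha₁ b₁ hb₁ hab
  have h1 : a₁ * x * a₁⁻¹ ∈ MulAut.conj b₁ • Subgroup.zpowers x := by
    rw [← hab, mem_cj]
    have e : a₁⁻¹ * (a₁ * x * a₁⁻¹) * a₁ = x := by group
    rw [e]; exact Subgroup.mem_zpowers x
  have h2 : a₁ * x * a₁⁻¹ ∈ B := by
    have h3 := cj_le_cj (g := b₁) hYB h1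
    rwa [cj_eq_of_mem_normalizer (Subgroup.le_normalizer hb₁)] at h3
  have h4 : a₁ * x * a₁⁻¹ * x⁻¹ ∈ A := by
    have e : a₁ * x * a₁⁻¹ * x⁻¹ = a₁ * (x * a₁⁻¹ * x⁻¹) := by group
    rw [e]
    exact A.mul_mem ha₁ ((conj_mem_iff_of_mem_normalizer hxN).mpr (A.inv_mem ha₁))
  have h5 : a₁ * x * a₁⁻¹ * x⁻¹ ∈ A ⊓ B := ⟨h4, B.mul_mem h2 (B.inv_mem hxB)⟩
  rw [h.inter_eq_bot, Subgroup.mem_bot] at h5
  have h6 : a₁ * x = x * a₁ := by
    have e : a₁ * x = (a₁ * x * a₁⁻¹ * x⁻¹) * (x * a₁) := by group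
    rw [e, h5, one_mul]
  have h7 : MulAut.conj a₁ • Subgroup.zpowers x = Subgroup.zpowers x :=
    cj_eq_of_mem_normalizer (mem_normalizer_zpowers_of_commute h6)
  have h8 : MulAut.conj b₁ • Subgroup.zpowers x = Subgroup.zpowers x := by rw [← hab, h7]
  exact h8.le

/-- (E4') the centralizer of a nontrivial element of `A_p` normalizing `B` normalizes `A` -/
theorem Ctx.centralizer_le_of_mem_normalizer (h : Ctx A B) (p : ℕ) [Fact p.Prime] {a₀ : G}
    (ha₀ : a₀ ∈ pp A p) (ha₀1 : a₀ ≠ 1) (ha₀N : a₀ ∈ Subgroup.normalizer (B : Set G)) :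
    Subgroup.centralizer ({a₀} : Set G) ≤ Subgroup.normalizer (A : Set G) := by
  have ha₀A : a₀ ∈ A := pp_le h.nilA ha₀
  have hprod := h.symm.isProd_normalizer_zpowers ha₀A ha₀N
  obtain ⟨D, hD⟩ : ∃ D : Subgroup G,
    D = Subgroup.normalizer ((Subgroup.zpowers a₀ : Subgroup G) : Set G) ⊓ B := ⟨_, rfl⟩
  have hDB : D ≤ B := by rw [hD]; exact inf_le_right
  have hDnil : Group.IsNilpotent D := nilpotent_of_le hDB h.nilB
  have hcomm : ∀ b ∈ D, b * a₀ = a₀ * b := by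
    intro b hb
    rw [hD] at hb
    have h1 : b * a₀ * b⁻¹ ∈ Subgroup.zpowers a₀ :=
      (conj_mem_iff_of_mem_normalizer hb.1).mpr (Subgroup.mem_zpowers a₀)
    have h2 : b * a₀ * b⁻¹ * a₀⁻¹ ∈ A :=
      A.mul_mem ((Subgroup.zpowers_le.mpr ha₀A) h1) (A.inv_mem ha₀A)
    have h3 : b * a₀ * b⁻¹ * a₀⁻¹ ∈ B := by
      have e : b * a₀ * b⁻¹ * a₀⁻¹ = b * (a₀ * b⁻¹ * a₀⁻¹) := by group
      rw [e]
      exact B.mul_mem hb.2 ((conj_mem_iff_of_mem_normalizer ha₀N).mpr (B.inv_mem hb.2))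
    have h4 : b * a₀ * b⁻¹ * a₀⁻¹ ∈ A ⊓ B := ⟨h2, h3⟩
    rw [h.inter_eq_bot, Subgroup.mem_bot] at h4
    have e : b * a₀ = (b * a₀ * b⁻¹ * a₀⁻¹) * (a₀ * b) := by group
    rw [e, h4, one_mul]
  have hDle : D ≤ Subgroup.normalizer (A : Set G) := by
    apply le_of_forall_pp_le _ D rfl hDnil
    intro r _ b hb
    rw [pp_of_le h.nilB hDB] at hb
    exact h.symm.mem_normalizer_of_commute_normalizing p r ha₀ ha₀N ha₀1 hb.2 (hcomm b hb.1)
  intro g hg
  rw [Subgroup.mem_centralizer_singleton_iff] at hg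
  have hgN := mem_normalizer_zpowers_of_commute hg
  obtain ⟨b, hb, a, ha, rfl⟩ := hprod.2.2 g hgN
  have hbD : b ∈ D := by rw [hD]; exact hb
  exact Subgroup.mul_mem _ (hDle hbD) (Subgroup.le_normalizer ha.2)

/-- global Z⁺: a nontrivial central element of `A` of prime power order normalizes no nontrivial
subgroup whose order involves only primes of `B` -/
theorem Ctx.zplus_global (h : Ctx A B) (r : ℕ) [Fact r.Prime] {z : G}
    (hz : z ∈ pp A r) (hz1 : z ≠ 1) (hzc : ∀ a ∈ A, a * z = z * a) (S : Subgroup G)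
    (hS : ∀ q : ℕ, q.Prime → q ∣ Nat.card S → q ∣ Nat.card B)
    (hinv : z ∈ Subgroup.normalizer (S : Set G)) : S = ⊥ := by
  obtain ⟨a₁, ha₁, hle⟩ := h.conj_into_B S hS
  obtain ⟨S₁, hS₁⟩ : ∃ S₁ : Subgroup G, S₁ = MulAut.conj a₁⁻¹ • S := ⟨_, rfl⟩
  have hS₁B : S₁ ≤ B := by
    have := cj_le_cj (g := a₁⁻¹) hle
    rwa [← cj_mul, inv_mul_cancel, cj_one, ← hS₁] at this
  have hzN : z ∈ Subgroup.normalizer (S₁ : Set G) := by
    have h1 : Subgroup.zpowers z ≤ Subgroup.normalizer (S : Set G) := by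
      rw [Subgroup.zpowers_le]; exact hinv
    have h2 := cj_le_normalizer_cj (g := a₁⁻¹) h1
    rw [hS₁]
    apply h2
    rw [mem_cj]
    have e : a₁⁻¹⁻¹ * z * a₁⁻¹ = z := by
      have h3 := hzc a₁ ha₁
      calc a₁⁻¹⁻¹ * z * a₁⁻¹ = (a₁ * z) * a₁⁻¹ := by group
        _ = (z * a₁) * a₁⁻¹ := by rw [h3]
        _ = z := by group
    rw [e]; exact Subgroup.mem_zpowers z
  have hnil₁ : Group.IsNilpotent S₁ := nilpotent_of_le hS₁B h.nilB
  have hS₁bot : S₁ = ⊥ := by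
    by_contra hne
    have hcard : Nat.card S₁ ≠ 1 := fun h1 => hne (Subgroup.card_eq_one.mp h1)
    obtain ⟨q, hq, hqd⟩ : ∃ q : ℕ, q.Prime ∧ q ∣ Nat.card S₁ :=
      ⟨_, Nat.minFac_prime hcard, Nat.minFac_dvd _⟩
    haveI : Fact q.Prime := ⟨hq⟩
    have hppne := pp_ne_bot_of_dvd hnil₁ hqd
    have hle' : pp S₁ q ≤ pp B q := by
      rw [pp_of_le h.nilB hS₁B]; exact inf_le_right
    exact hppne (h.zplus r q hz hz1 hzc _ hle' (normalizer_le_pp hnil₁ hzN))
  apply Subgroup.card_eq_one.mp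
  have : Nat.card S₁ = Nat.card S := by rw [hS₁, card_cj]
  rw [← this, hS₁bot, Subgroup.card_bot]

end Cfsg.Agent.Lib.Helper13.KW
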