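import Mathlib
import Cfsg.Agent.Lib.Helper13.KW7
import Cfsg.Agent.Lib.Helper13.CoprimeSylow
import Cfsg.Agent.Lib.Helper11.FrobeniusF

/-!
Kegel–Wielandt project (helper13), part 8: the centralizer of a nontrivial element of prime
power order of `A` normalizes `A`.
-/

set_option autoImplicit false

namespace Cfsg.Agent.Lib.Helper13.KW

open Cfsg.Agent.Lib.Helper13
open scoped Pointwise

universe u

variable {G : Type u} [Group G] [Finite G] {A B : Subgroup G}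

/-- first case: some element of prime order of `B`-type centralizes `a` and normalizes `A` -/
theorem Ctx.centralizer_le_normalizer_case1 (h : Ctx A B) (p : ℕ) [hp : Fact p.Prime] {a : G}
    (ha : a ∈ pp A p) (ha1 : a ≠ 1) (q : ℕ) (hq : q.Prime) (hqB : q ∣ Nat.card B) {x : G}
    (hxa : x * a = a * x) (hxM : x ∈ Subgroup.normalizer (A : Set G)) (hxo : orderOf x = q) :
    Subgroup.centralizer ({a} : Set G) ≤ Subgroup.normalizer (A : Set G) := by
  haveI : Fact q.Prime := ⟨hq⟩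
  have hAM : A ≤ Subgroup.normalizer (A : Set G) := Subgroup.le_normalizer
  have hK : ∀ q' : ℕ, q'.Prime → q' ∣ Nat.card (Subgroup.zpowers x) → q' ∣ Nat.card B := by
    intro q' hq' hd
    rw [Nat.card_zpowers, hxo] at hd
    rw [(Nat.prime_dvd_prime_iff_eq hq' hq).mp hd]
    exact hqB
  obtain ⟨a₁, ha₁, hle⟩ := h.conj_into_B (Subgroup.zpowers x) hK
  have hx'B : a₁⁻¹ * x * a₁ ∈ B := by
    have := hle (Subgroup.mem_zpowers x)
    rwa [mem_cj] at this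
  have hx'M : a₁⁻¹ * x * a₁ ∈ Subgroup.normalizer (A : Set G) :=
    Subgroup.mul_mem _ (Subgroup.mul_mem _ (Subgroup.inv_mem _ (hAM ha₁)) hxM) (hAM ha₁)
  have hx'o : orderOf (a₁⁻¹ * x * a₁) = q := by
    have := orderOf_conj' a₁⁻¹ x
    rw [inv_inv] at this
    rw [this, hxo]
  have hx'pp : a₁⁻¹ * x * a₁ ∈ pp B q := mem_pp_of_orderOf h.nilB hx'B hx'o
  have hx'1 : a₁⁻¹ * x * a₁ ≠ 1 := by
    intro h1
    rw [h1, orderOf_one] at hx'o
    exact hq.one_lt.ne' hx'o.symm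
  have ha' : a₁⁻¹ * a * a₁ ∈ pp A p := by
    have := (conj_mem_iff_of_mem_normalizer
      (le_normalizer_pp h.nilA (A.inv_mem ha₁))).mpr ha
    rwa [inv_inv] at this
  have ha'1 : a₁⁻¹ * a * a₁ ≠ 1 := by
    intro h1
    apply ha1
    have e : a = a₁ * (a₁⁻¹ * a * a₁) * a₁⁻¹ := by group
    rw [e, h1]; group
  have hcomm : a₁⁻¹ * a * a₁ * (a₁⁻¹ * x * a₁) = a₁⁻¹ * x * a₁ * (a₁⁻¹ * a * a₁) := by
    have e1 : a₁⁻¹ * a * a₁ * (a₁⁻¹ * x * a₁) = a₁⁻¹ * (a * x) * a₁ := by group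
    have e2 : a₁⁻¹ * x * a₁ * (a₁⁻¹ * a * a₁) = a₁⁻¹ * (x * a) * a₁ := by group
    rw [e1, e2, hxa]
  have ha'N := h.mem_normalizer_of_commute_normalizing q p hx'pp hx'M hx'1 ha' hcomm
  have hcent := h.centralizer_le_of_mem_normalizer p ha' ha'1 ha'N
  intro g hg
  rw [Subgroup.mem_centralizer_singleton_iff] at hg
  have hg' : a₁⁻¹ * g * a₁ ∈ Subgroup.centralizer ({a₁⁻¹ * a * a₁} : Set G) := by
    rw [Subgroup.mem_centralizer_singleton_iff]
    have e1 : a₁⁻¹ * g * a₁ * (a₁⁻¹ * a * a₁) = a₁⁻¹ * (g * a) * a₁ := by group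
    have e2 : a₁⁻¹ * a * a₁ * (a₁⁻¹ * g * a₁) = a₁⁻¹ * (a * g) * a₁ := by group
    rw [e1, e2, hg]
  have hgM := hcent hg'
  have e : g = a₁ * (a₁⁻¹ * g * a₁) * a₁⁻¹ := by group
  rw [e]
  exact Subgroup.mul_mem _ (Subgroup.mul_mem _ (hAM ha₁) hgM) (Subgroup.inv_mem _ (hAM ha₁))

/-- second case: the centralizer of `a` meets the normalizer of `A` inside `A` -/
theorem Ctx.centralizer_le_normalizer_case2 (h : Ctx A B) (p : ℕ) [hp : Fact p.Prime] {a : G}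
    (ha : a ∈ pp A p) (ha1 : a ≠ 1)
    (hDA : Subgroup.centralizer ({a} : Set G) ⊓ Subgroup.normalizer (A : Set G) ≤ A) :
    Subgroup.centralizer ({a} : Set G) ≤ Subgroup.normalizer (A : Set G) := by
  obtain ⟨C₀, hC₀⟩ : ∃ C₀ : Subgroup G, C₀ = Subgroup.centralizer ({a} : Set G) := ⟨_, rfl⟩
  rw [← hC₀] at hDA ⊢
  have hmemC : ∀ v : G, v ∈ C₀ ↔ v * a = a * v := by
    intro v; rw [hC₀, Subgroup.mem_centralizer_singleton_iff]
  have haA : a ∈ A := pp_le h.nilA ha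
  have hpne : pp A p ≠ ⊥ := fun hbot => ha1 (by rw [hbot, Subgroup.mem_bot] at ha; exact ha)
  have hpcC : pc A p ≤ C₀ := fun v hv => (hmemC v).mpr (commute_pp_pc h.nilA ha hv).symm
  -- the Sylow subgroup
  obtain ⟨P₁, hP₁⟩ : ∃ P₁ : Subgroup G, P₁ = C₀ ⊓ pp A p := ⟨_, rfl⟩
  have hP₁C : P₁ ≤ C₀ := by rw [hP₁]; exact inf_le_left
  have hP₁pp : P₁ ≤ pp A p := by rw [hP₁]; exact inf_le_right
  have haP₁ : a ∈ P₁ := by rw [hP₁]; exact ⟨(hmemC a).mpr rfl, ha⟩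
  have hP₁p : IsPGroup p P₁ := (pp_isPGroup h.nilA).to_le hP₁pp
  obtain ⟨Q, hQ⟩ := (hP₁p.comap_subtype (K := C₀)).exists_le_sylow
  obtain ⟨Q', hQ'⟩ : ∃ Q' : Subgroup G, Q' = (Q : Subgroup C₀).map C₀.subtype := ⟨_, rfl⟩
  have hQ'C : Q' ≤ C₀ := by rw [hQ']; exact Subgroup.map_subtype_le _
  have hP₁Q' : P₁ ≤ Q' := by
    intro v hv
    rw [hQ']
    exact ⟨⟨v, hP₁C hv⟩, hQ (Subgroup.mem_subgroupOf.mpr hv), rfl⟩
  have hQ'pow : ∀ v ∈ Q', ∃ k : ℕ, v ^ p ^ k = 1 := by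
    intro v hv
    rw [hQ'] at hv
    obtain ⟨v', hv'Q, rfl⟩ := hv
    obtain ⟨k, hk⟩ := Q.isPGroup' ⟨v', hv'Q⟩
    refine ⟨k, ?_⟩
    have := congrArg (fun t : Q => ((t : C₀) : G)) hk
    simpa using this
  obtain ⟨k, hk⟩ := IsPGroup.exists_card_eq Q.isPGroup'
  have hcardQ' : Nat.card Q' = p ^ k := by
    rw [hQ', Subgroup.card_map_of_injective C₀.subtype_injective]; exact hk
  have hpA : p ∣ Nat.card A := dvd_card_of_pp_ne_bot h.nilA hpne
  have hKQ : ∀ q : ℕ, q.Prime → q ∣ Nat.card Q' → q ∣ Nat.card A := by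
    intro q hq hd
    rw [hcardQ'] at hd
    rw [(Nat.prime_dvd_prime_iff_eq hq hp.out).mp (hq.dvd_of_dvd_pow hd)]
    exact hpA
  obtain ⟨b, -, hQ'le⟩ := h.symm.conj_into_B Q' hKQ
  have hyA : b⁻¹ * a * b⁻¹⁻¹ ∈ A := by
    rw [inv_inv]; exact mem_cj.mp (hQ'le (hP₁Q' haP₁))
  obtain ⟨n, hn, hne⟩ := h.fusion p ha (conj_mem_pp h.nilA ha hyA)
  have hcC : b * n ∈ C₀ := by
    rw [hmemC]
    calc b * n * a = b * (n * a * n⁻¹) * n := by group
      _ = b * (b⁻¹ * a * b⁻¹⁻¹) * n := by rw [hne]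
      _ = a * (b * n) := by group
  have hQ'P₁ : MulAut.conj (b * n)⁻¹ • Q' ≤ P₁ := by
    intro v hv
    rw [mem_cj, inv_inv] at hv
    -- v = (b n)⁻¹ v' (b n) with v' ∈ Q'
    have hvC : (b * n) * v * (b * n)⁻¹ ∈ C₀ := hQ'C hv
    have hv0 : v ∈ C₀ := by
      have e : v = (b * n)⁻¹ * ((b * n) * v * (b * n)⁻¹) * (b * n) := by group
      rw [e]
      exact C₀.mul_mem (C₀.mul_mem (C₀.inv_mem hcC) hvC) hcC
    have h1 : b⁻¹ * ((b * n) * v * (b * n)⁻¹) * b ∈ A := mem_cj.mp (hQ'le hv)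
    obtain ⟨j, hj⟩ := hQ'pow _ hv
    have h2 : n * v * n⁻¹ ∈ pp A p := by
      rw [mem_pp h.nilA]
      have e : n * v * n⁻¹ = b⁻¹ * ((b * n) * v * (b * n)⁻¹) * b := by group
      refine ⟨e ▸ h1, j, ?_⟩
      have e2 : n * v * n⁻¹ = b⁻¹ * ((b * n) * v * (b * n)⁻¹) * b⁻¹⁻¹ := by group
      rw [e2, conj_pow, hj]; group
    have h3 : v ∈ pp A p := by
      have := (conj_mem_iff_of_mem_normalizer (normalizer_le_pp h.nilA hn)).mp h2
      exact this
    rw [hP₁]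
    exact ⟨hv0, h3⟩
  have hQ'eq : P₁ = Q' := by
    apply Subgroup.eq_of_le_of_card_ge hP₁Q'
    have := Subgroup.card_le_of_le hQ'P₁
    rwa [card_cj] at this
  -- control of fusion
  have hfus : Cfsg.Agent.Lib.Helper11.ControlsOwnFusion (Q : Subgroup C₀) := by
    intro x hx g hy
    obtain ⟨x₀, hx₀C⟩ := x
    obtain ⟨g₀, hg₀C⟩ := g
    have hx₀ : x₀ ∈ P₁ := by
      rw [hQ'eq, hQ']
      exact ⟨⟨x₀, hx₀C⟩, hx, rfl⟩
    have hy₀ : g₀ * x₀ * g₀⁻¹ ∈ P₁ := by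
      rw [hQ'eq, hQ']
      exact ⟨_, hy, rfl⟩
    obtain ⟨y₀, hyd⟩ : ∃ y₀ : G, y₀ = g₀ * x₀ * g₀⁻¹ := ⟨_, rfl⟩
    rw [← hyd] at hy₀
    obtain ⟨L, hL⟩ : ∃ L : Subgroup G, L = Subgroup.centralizer ({y₀} : Set G) ⊓ C₀ := ⟨_, rfl⟩
    have hmemL : ∀ v : G, v ∈ L ↔ v * y₀ = y₀ * v ∧ v ∈ C₀ := by
      intro v; rw [hL, Subgroup.mem_inf, Subgroup.mem_centralizer_singleton_iff]
    have hHL : pc A p ≤ L := fun v hv =>
      (hmemL v).mpr ⟨(commute_pp_pc h.nilA (hP₁pp hy₀) hv).symm, hpcC hv⟩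
    have hKL : MulAut.conj g₀ • pc A p ≤ L := by
      intro v hv
      rw [mem_cj] at hv
      rw [hmemL]
      constructor
      · rw [hyd]
        have hc := commute_pp_pc h.nilA (hP₁pp hx₀) hv
        have e1 : g₀ * x₀ * g₀⁻¹ * v = g₀ * (x₀ * (g₀⁻¹ * v * g₀)) * g₀⁻¹ := by group
        have e2 : v * (g₀ * x₀ * g₀⁻¹) = g₀ * ((g₀⁻¹ * v * g₀) * x₀) * g₀⁻¹ := by group
        rw [e1, e2, hc]
      · have e : v = g₀ * (g₀⁻¹ * v * g₀) * g₀⁻¹ := by group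
        rw [e]
        exact C₀.mul_mem (C₀.mul_mem hg₀C (hpcC hv)) (C₀.inv_mem hg₀C)
    have hHall : (Nat.card (pc A p)).Coprime ((pc A p).relIndex L) :=
      Nat.Coprime.coprime_dvd_right (Subgroup.relIndex_dvd_index_of_le hHL) (h.hall_pc p)
    obtain ⟨d, hdL, hd⟩ := wielandt_rel L (pc A p) (MulAut.conj g₀ • pc A p)
      (nilpotent_of_le (pc_le h.nilA) h.nilA) hHL hKL hHall (by
        intro q hq hqd; rwa [card_cj] at hqd)
    have heq : MulAut.conj g₀ • pc A p = MulAut.conj d • pc A p :=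
      Subgroup.eq_of_le_of_card_ge hd (by rw [card_cj, card_cj])
    have hnN : d⁻¹ * g₀ ∈ Subgroup.normalizer ((pc A p : Subgroup G) : Set G) := by
      rw [← cj_eq_self_iff_mem_normalizer, cj_mul, heq, ← cj_mul, inv_mul_cancel, cj_one]
    have hdL' := (hmemL d).mp hdL
    have hnC : d⁻¹ * g₀ ∈ C₀ := C₀.mul_mem (C₀.inv_mem hdL'.2) hg₀C
    have hnA : d⁻¹ * g₀ ∈ A := hDA ⟨hnC, h.normalizer_pc_le p hnN⟩
    have hconj : d⁻¹ * g₀ * x₀ * (d⁻¹ * g₀)⁻¹ = y₀ := by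
      calc d⁻¹ * g₀ * x₀ * (d⁻¹ * g₀)⁻¹ = d⁻¹ * (g₀ * x₀ * g₀⁻¹) * d := by group
        _ = d⁻¹ * y₀ * d := by rw [hyd]
        _ = d⁻¹ * (y₀ * d) := by group
        _ = y₀ := by rw [← hdL'.1]; group
    obtain ⟨u, hu, v, hv, hnuv⟩ := exists_decomp (p := p) h.nilA hnA
    have hvx : v * x₀ = x₀ * v := (commute_pp_pc h.nilA (hP₁pp hx₀) hv).symm
    have huC : u ∈ C₀ := by
      have e : u = (d⁻¹ * g₀) * v⁻¹ := by rw [hnuv]; group
      rw [e]
      exact C₀.mul_mem hnC (C₀.inv_mem (hpcC hv))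
    have hux : u * x₀ * u⁻¹ = y₀ := by
      rw [← hconj, hnuv]
      calc u * x₀ * u⁻¹ = u * (x₀ * v) * v⁻¹ * u⁻¹ := by group
        _ = u * (v * x₀) * v⁻¹ * u⁻¹ := by rw [hvx]
        _ = u * v * x₀ * (u * v)⁻¹ := by group
    have huP₁ : u ∈ P₁ := by rw [hP₁]; exact ⟨huC, hu⟩
    rw [hQ'eq, hQ'] at huP₁
    obtain ⟨u', hu'Q, hu'eq⟩ := huP₁
    refine ⟨u', hu'Q, ?_⟩
    apply Subtype.ext
    have hu'c : ((u' : C₀) : G) = u := hu'eq
    simp only [Subgroup.coe_mul, Subgroup.coe_inv, hu'c]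
    rw [hux, hyd]
  obtain ⟨K, hKn, hKc⟩ := Cfsg.Agent.Lib.Helper11.exists_normal_complement_of_fusion Q hfus
  haveI := hKn
  obtain ⟨K', hK'⟩ : ∃ K' : Subgroup G, K' = K.map C₀.subtype := ⟨_, rfl⟩
  have hK'C : K' ≤ C₀ := by rw [hK']; exact Subgroup.map_subtype_le _
  have hcardK' : Nat.card K' = Nat.card K := by
    rw [hK', Subgroup.card_map_of_injective C₀.subtype_injective]
  have hcardC₀ : Nat.card K' * p ^ k = Nat.card C₀ := by
    rw [hcardK', ← hk]; exact hKc.card_mul_card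
  have hk0 : k ≠ 0 := by
    rintro rfl
    rw [pow_zero] at hcardQ'
    have : Q' = ⊥ := Subgroup.card_eq_one.mp hcardQ'
    rw [← hQ'eq] at this
    rw [this, Subgroup.mem_bot] at haP₁
    exact ha1 haP₁
  have hcopK : (Nat.card K').Coprime p := by
    have h1 := Q.card_coprime_index
    rw [hKc.index_eq_card, hk, ← hcardK'] at h1
    exact (Nat.Coprime.coprime_dvd_left (dvd_pow_self p hk0) h1).symm
  have hK'sub : K'.subgroupOf C₀ = K := by
    rw [hK']; exact Subgroup.comap_map_eq_self_of_injective C₀.subtype_injective K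
  have hK'norm : C₀ ≤ Subgroup.normalizer (K' : Set G) :=
    (Subgroup.normal_subgroupOf_iff_le_normalizer hK'C).mp (hK'sub ▸ hKn)
  -- a central element
  obtain ⟨z, hz, hzo, hzc⟩ := exists_central_prime h.nilA p hpne
  have hz1 : z ≠ 1 := by
    intro h1
    rw [h1, orderOf_one] at hzo
    exact hp.out.one_lt.ne' hzo.symm
  have hzC : z ∈ C₀ := (hmemC z).mpr (hzc a haA).symm
  have hznorm : Subgroup.zpowers z ≤ Subgroup.normalizer (K' : Set G) := by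
    rw [Subgroup.zpowers_le]; exact hK'norm hzC
  have hcopz : (Nat.card (Subgroup.zpowers z)).Coprime (Nat.card K') := by
    rw [Nat.card_zpowers, hzo]; exact hcopK.symm
  have hnodvd : ∀ s : ℕ, s.Prime → s ∣ Nat.card B → ¬ s ∣ Nat.card K' := by
    intro s hs hsB hsK
    haveI : Fact s.Prime := ⟨hs⟩
    obtain ⟨S, hSinv⟩ := exists_invariant_sylow (Subgroup.zpowers z) K' hznorm hcopz
      (Or.inl inferInstance) s
    obtain ⟨m, hm⟩ := IsPGroup.exists_card_eq S.isPGroup'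
    have hSne := S.ne_bot_of_dvd_card hsK
    have hbot := h.zplus_global p hz hz1 hzc ((S : Subgroup K').map K'.subtype) (by
      intro q hq hd
      rw [Subgroup.card_map_of_injective K'.subtype_injective, hm] at hd
      rw [(Nat.prime_dvd_prime_iff_eq hq hs).mp (hq.dvd_of_dvd_pow hd)]
      exact hsB) (hSinv (Subgroup.mem_zpowers z))
    exact hSne ((Subgroup.map_eq_bot_iff_of_injective _ K'.subtype_injective).mp hbot)
  have hKC₀ : ∀ q : ℕ, q.Prime → q ∣ Nat.card C₀ → q ∣ Nat.card A := by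
    intro q hq hd
    rw [← hcardC₀] at hd
    rcases (Nat.Prime.dvd_mul hq).mp hd with h1 | h1
    · have h2 : q ∣ Nat.card A * Nat.card B := by
        rw [← h.card_eq]; exact h1.trans (Subgroup.card_subgroup_dvd_card K')
      rcases (Nat.Prime.dvd_mul hq).mp h2 with h3 | h3
      · exact h3
      · exact absurd h1 (hnodvd q hq h3)
    · rw [(Nat.prime_dvd_prime_iff_eq hq hp.out).mp (hq.dvd_of_dvd_pow h1)]
      exact hpA
  obtain ⟨b', -, hC₀le⟩ := h.symm.conj_into_B C₀ hKC₀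
  have hzb : b'⁻¹ * z * b'⁻¹⁻¹ ∈ A := by
    rw [inv_inv]; exact mem_cj.mp (hC₀le hzC)
  have hb'N := h.strongI p hz hz1 hzc hzb
  have hb'N' : b' ∈ Subgroup.normalizer (A : Set G) := by
    have := Subgroup.inv_mem _ hb'N
    rwa [inv_inv] at this
  rw [cj_eq_of_mem_normalizer hb'N'] at hC₀le
  exact hC₀le.trans Subgroup.le_normalizer

/-- (E5) the centralizer of a nontrivial element of `A_p` normalizes `A` -/
theorem Ctx.centralizer_le_normalizer (h : Ctx A B) (p : ℕ) [hp : Fact p.Prime] {a : G}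
    (ha : a ∈ pp A p) (ha1 : a ≠ 1) :
    Subgroup.centralizer ({a} : Set G) ≤ Subgroup.normalizer (A : Set G) := by
  have hAM : A ≤ Subgroup.normalizer (A : Set G) := Subgroup.le_normalizer
  have hprodM := h.isProd_of_le hAM
  have hcopM : (Nat.card A).Coprime (Nat.card (Subgroup.normalizer (A : Set G) ⊓ B : Subgroup G)) :=
    Nat.Coprime.coprime_dvd_right (Subgroup.card_dvd_of_le inf_le_right) h.cop
  have hrel : A.relIndex (Subgroup.normalizer (A : Set G)) ∣ Nat.card B := by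
    have e1 := card_mul_relIndex hAM
    rw [card_of_isProd hprodM hcopM] at e1
    rw [Nat.eq_of_mul_eq_mul_left Nat.card_pos e1]
    exact Subgroup.card_dvd_of_le inf_le_right
  by_cases hcase : ∃ q : ℕ, q.Prime ∧
      q ∣ Nat.card (Subgroup.centralizer ({a} : Set G) ⊓ Subgroup.normalizer (A : Set G) : Subgroup G)
      ∧ q ∣ Nat.card B
  · obtain ⟨q, hq, hqD, hqB⟩ := hcase
    haveI : Fact q.Prime := ⟨hq⟩
    obtain ⟨⟨x, hxD⟩, hxo⟩ := exists_prime_orderOf_dvd_card' q hqD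
    rw [Subgroup.orderOf_mk] at hxo
    have hxa : x * a = a * x := Subgroup.mem_centralizer_singleton_iff.mp hxD.1
    exact h.centralizer_le_normalizer_case1 p ha ha1 q hq hqB hxa hxD.2 hxo
  · apply h.centralizer_le_normalizer_case2 p ha ha1
    intro d hd
    apply mem_of_coprime_relIndex hAM le_rfl hd.2
    by_contra hnc
    obtain ⟨q, hq, h1, h2⟩ := Nat.Prime.not_coprime_iff_dvd.mp hnc
    apply hcase
    refine ⟨q, hq, ?_, h2.trans hrel⟩
    have h3 : orderOf (⟨d, hd⟩ : (Subgroup.centralizer ({a} : Set G) ⊓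
        Subgroup.normalizer (A : Set G) : Subgroup G)) ∣ _ := orderOf_dvd_natCard _
    rw [Subgroup.orderOf_mk] at h3
    exact h1.trans h3

end Cfsg.Agent.Lib.Helper13.KW
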