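import Mathlib
import Cfsg.Agent.Lib.Helper13.KW8

/-!
Kegel–Wielandt project (helper13), part 9: `A` is a trivial-intersection subgroup, and the final
counting contradiction.
-/

set_option autoImplicit false

namespace Cfsg.Agent.Lib.Helper13.KW

open Cfsg.Agent.Lib.Helper13
open scoped Pointwise

universe u

variable {G : Type u} [Group G] [Finite G] {A B : Subgroup G}

theorem Ctx.relIndex_normalizer_dvd (h : Ctx A B) :
    A.relIndex (Subgroup.normalizer (A : Set G)) ∣ Nat.card B := by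
  have hAM : A ≤ Subgroup.normalizer (A : Set G) := Subgroup.le_normalizer
  have hprodM := h.isProd_of_le hAM
  have hcopM : (Nat.card A).Coprime (Nat.card (Subgroup.normalizer (A : Set G) ⊓ B : Subgroup G)) :=
    Nat.Coprime.coprime_dvd_right (Subgroup.card_dvd_of_le inf_le_right) h.cop
  have e1 := card_mul_relIndex hAM
  rw [card_of_isProd hprodM hcopM] at e1
  rw [Nat.eq_of_mul_eq_mul_left Nat.card_pos e1]
  exact Subgroup.card_dvd_of_le inf_le_right

/-- `A` meets its conjugates trivially outside its normalizer -/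
theorem Ctx.mem_normalizer_of_mem_cj (h : Ctx A B) {g a : G} (ha : a ∈ A) (ha1 : a ≠ 1)
    (hag : a ∈ MulAut.conj g • A) : g ∈ Subgroup.normalizer (A : Set G) := by
  obtain ⟨k, p, hp, hord⟩ := exists_pow_prime_order ha1
  haveI : Fact p.Prime := ⟨hp⟩
  obtain ⟨a', ha'd⟩ : ∃ a' : G, a' = a ^ k := ⟨_, rfl⟩
  rw [← ha'd] at hord
  have ha'A : a' ∈ A := by rw [ha'd]; exact A.pow_mem ha k
  have ha'g : a' ∈ MulAut.conj g • A := by rw [ha'd]; exact Subgroup.pow_mem _ hag k
  have ha'pp : a' ∈ pp A p := mem_pp_of_orderOf h.nilA ha'A hord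
  have ha'1 : a' ≠ 1 := by
    intro h1; rw [h1, orderOf_one] at hord; exact hp.one_lt.ne' hord.symm
  have ha''A : g⁻¹ * a' * g ∈ A := mem_cj.mp ha'g
  have ha''o : orderOf (g⁻¹ * a' * g) = p := by
    have := orderOf_conj' g⁻¹ a'
    rw [inv_inv] at this
    rw [this, hord]
  have ha''pp : g⁻¹ * a' * g ∈ pp A p := mem_pp_of_orderOf h.nilA ha''A ha''o
  have hE5 := h.centralizer_le_normalizer p ha'pp ha'1
  obtain ⟨M, hM⟩ : ∃ M : Subgroup G, M = Subgroup.normalizer (A : Set G) := ⟨_, rfl⟩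
  rw [← hM] at hE5 ⊢
  have hpcM : pc A p ≤ M := by rw [hM]; exact (pc_le h.nilA).trans Subgroup.le_normalizer
  have hMn : M ≤ Subgroup.normalizer ((pc A p : Subgroup G) : Set G) := by
    rw [hM]; exact normalizer_le_pc h.nilA
  have hcjM : MulAut.conj g • pc A p ≤ M := by
    intro v hv
    apply hE5
    rw [Subgroup.mem_centralizer_singleton_iff]
    rw [mem_cj] at hv
    have hc := commute_pp_pc h.nilA ha''pp hv
    have e1 : v * a' = g * ((g⁻¹ * v * g) * (g⁻¹ * a' * g)) * g⁻¹ := by group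
    have e2 : a' * v = g * ((g⁻¹ * a' * g) * (g⁻¹ * v * g)) * g⁻¹ := by group
    rw [e1, e2, hc]
  have hcop : (Nat.card (pc A p)).Coprime ((pc A p).relIndex M) :=
    Nat.Coprime.coprime_dvd_right (Subgroup.relIndex_dvd_index_of_le hpcM) (h.hall_pc p)
  have hle : MulAut.conj g • pc A p ≤ pc A p := by
    intro v hv
    apply mem_of_coprime_relIndex hpcM hMn (hcjM hv)
    have hv' := mem_cj.mp hv
    have hvo : orderOf v ∣ Nat.card (pc A p) := by
      have e : orderOf (g⁻¹ * v * g) = orderOf v := by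
        have := orderOf_conj' g⁻¹ v
        rwa [inv_inv] at this
      rw [← e]
      have := orderOf_dvd_natCard (⟨g⁻¹ * v * g, hv'⟩ : pc A p)
      rwa [Subgroup.orderOf_mk] at this
    exact Nat.Coprime.coprime_dvd_left hvo hcop
  have heq : MulAut.conj g • pc A p = pc A p :=
    Subgroup.eq_of_le_of_card_ge hle (by rw [card_cj])
  rw [hM]
  exact h.normalizer_pc_le p (cj_eq_self_iff_mem_normalizer.mp heq)

/-- the counting inequality -/
theorem Ctx.card_lt (h : Ctx A B) : Nat.card A < Nat.card B := by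
  haveI := h.simple
  obtain ⟨M, hM⟩ : ∃ M : Subgroup G, M = Subgroup.normalizer (A : Set G) := ⟨_, rfl⟩
  have hAM : A ≤ M := by rw [hM]; exact Subgroup.le_normalizer
  have hMn : M ≤ Subgroup.normalizer (A : Set G) := by rw [hM]
  have hMtop : M ≠ ⊤ := by rw [hM]; exact normalizer_ne_top_of_simple h.A_ne_bot h.A_ne_top
  have hrel : A.relIndex M ∣ Nat.card B := by rw [hM]; exact h.relIndex_normalizer_dvd
  obtain ⟨g, hg⟩ : ∃ g : G, g ∉ M := by
    by_contra hall
    push Not at hall
    exact hMtop (eq_top_iff.mpr fun x _ => hall x)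
  obtain ⟨f, hf⟩ : ∃ f : A → G ⧸ M, f = fun a : A => (((a : G) * g : G) : G ⧸ M) := ⟨_, rfl⟩
  have hinj : Function.Injective f := by
    intro a a' haa
    rw [hf] at haa
    have h1 : ((a : G) * g)⁻¹ * ((a' : G) * g) ∈ M := QuotientGroup.eq.mp haa
    obtain ⟨c, hc⟩ : ∃ c : G, c = (a : G)⁻¹ * (a' : G) := ⟨_, rfl⟩
    have hcA : c ∈ A := by rw [hc]; exact A.mul_mem (A.inv_mem a.2) a'.2
    have h2 : g⁻¹ * c * g ∈ M := by
      have e : g⁻¹ * c * g = ((a : G) * g)⁻¹ * ((a' : G) * g) := by rw [hc]; group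
      rw [e]; exact h1
    have h3 : g⁻¹ * c * g ∈ A := by
      apply mem_of_coprime_relIndex hAM hMn h2
      have e : orderOf (g⁻¹ * c * g) = orderOf c := by
        have := orderOf_conj' g⁻¹ c
        rwa [inv_inv] at this
      rw [e]
      have hco : orderOf c ∣ Nat.card A := by
        have := orderOf_dvd_natCard (⟨c, hcA⟩ : A)
        rwa [Subgroup.orderOf_mk] at this
      exact Nat.Coprime.coprime_dvd_left hco (Nat.Coprime.coprime_dvd_right hrel h.cop)
    have hc1 : c = 1 := by
      by_contra hne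
      apply hg
      rw [hM]
      exact h.mem_normalizer_of_mem_cj hcA hne (mem_cj.mpr h3)
    apply Subtype.ext
    have e : (a' : G) = (a : G) * c := by rw [hc]; group
    rw [e, hc1, mul_one]
  have hnot : ((1 : G) : G ⧸ M) ∉ Set.range f := by
    rintro ⟨a, haf⟩
    rw [hf] at haf
    have h1 : ((a : G) * g)⁻¹ * 1 ∈ M := QuotientGroup.eq.mp haf
    apply hg
    have e : g = (a : G)⁻¹ * (((a : G) * g)⁻¹ * 1)⁻¹ := by group
    rw [e]
    exact M.mul_mem (M.inv_mem (hAM a.2)) (M.inv_mem h1)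
  haveI : Fintype A := Fintype.ofFinite A
  haveI : Fintype (G ⧸ M) := Fintype.ofFinite _
  have hlt := Fintype.card_lt_of_injective_of_notMem f hinj hnot
  rw [← Nat.card_eq_fintype_card, ← Nat.card_eq_fintype_card] at hlt
  have hidx : M.index ≤ Nat.card B := by
    rw [← h.index_A]
    exact Nat.le_of_dvd (Nat.pos_of_ne_zero Subgroup.index_ne_zero_of_finite)
      (Subgroup.index_dvd_of_le hAM)
  rw [Subgroup.index_eq_card] at hidx
  omega

/-- the minimal counterexample does not exist -/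
theorem Ctx.false (h : Ctx A B) : False := by
  have h1 := h.card_lt
  have h2 := h.symm.card_lt
  omega

end Cfsg.Agent.Lib.Helper13.KW
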