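import Mathlib
import Cfsg.Agent.Lib.Helper13.KW9

/-!
Kegel–Wielandt project (helper13), part 10: a finite group which is the product of two nilpotent
subgroups of coprime orders is solvable (Wielandt).
-/

set_option autoImplicit false

namespace Cfsg.Agent.Lib.Helper13.KW

open Cfsg.Agent.Lib.Helper13
open scoped Pointwise

universe u

/-- the statement for groups of order `n` -/
def KWStatement (n : ℕ) : Prop :=
  ∀ (G : Type u) [Group G] [Finite G], Nat.card G = n → ∀ A B : Subgroup G,
    Group.IsNilpotent A → Group.IsNilpotent B → (Nat.card A).Coprime (Nat.card B) →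
    (∀ g : G, ∃ a ∈ A, ∃ b ∈ B, g = a * b) → Group.IsSolvable G

theorem nilpotent_subgroupOf {G : Type u} [Group G] {X H : Subgroup G} (hX : Group.IsNilpotent X)
    (hXH : X ≤ H) : Group.IsNilpotent (X.subgroupOf H) := by
  haveI := hX
  exact Group.nilpotent_of_surjective (Subgroup.subgroupOfEquivOfLe hXH).symm.toMonoidHom
    (Subgroup.subgroupOfEquivOfLe hXH).symm.surjective

theorem solvable_of_isProd {n : ℕ} (hIH : ∀ m < n, KWStatement.{u} m) {G : Type u} [Group G]
    [Finite G] (H A' B' : Subgroup G) (hlt : Nat.card H < n) (hA' : Group.IsNilpotent A')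
    (hB' : Group.IsNilpotent B') (hcop : (Nat.card A').Coprime (Nat.card B'))
    (hprod : IsProd H A' B') : Group.IsSolvable H := by
  apply hIH (Nat.card H) hlt H rfl (A'.subgroupOf H) (B'.subgroupOf H)
    (nilpotent_subgroupOf hA' hprod.1) (nilpotent_subgroupOf hB' hprod.2.1)
  · rw [card_subgroupOf_of_le hprod.1, card_subgroupOf_of_le hprod.2.1]; exact hcop
  · rintro ⟨g, hg⟩
    obtain ⟨a, ha, b, hb, e⟩ := hprod.2.2 g hg
    exact ⟨⟨a, hprod.1 ha⟩, Subgroup.mem_subgroupOf.mpr ha, ⟨b, hprod.2.1 hb⟩,
      Subgroup.mem_subgroupOf.mpr hb, Subtype.ext e⟩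

theorem kw_step (n : ℕ) (hIH : ∀ m < n, KWStatement.{u} m) : KWStatement.{u} n := by
  intro G _ _ hn A B hA hB hcop hAB
  by_cases hnt : Nontrivial G
  swap
  · haveI := not_nontrivial_iff_subsingleton.mp hnt
    infer_instance
  by_cases hex : ∃ N : Subgroup G, N.Normal ∧ N ≠ ⊥ ∧ N ≠ ⊤
  · obtain ⟨N, hNn, hNbot, hNtop⟩ := hex
    haveI := hNn
    -- the quotient
    have hquot : Group.IsSolvable (G ⧸ N) := by
      have hlt : Nat.card (G ⧸ N) < n := by
        have e := N.card_mul_index
        rw [Subgroup.index_eq_card, hn] at e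
        have h1 : 1 < Nat.card N := by
          rcases Nat.lt_or_ge 1 (Nat.card N) with h | h
          · exact h
          · exfalso; apply hNbot; apply Subgroup.card_eq_one.mp
            have := Nat.card_pos (α := N); omega
        have hpos : 0 < Nat.card (G ⧸ N) := Nat.card_pos
        nlinarith
      apply hIH _ hlt (G ⧸ N) rfl (A.map (QuotientGroup.mk' N)) (B.map (QuotientGroup.mk' N))
      · haveI := hA
        exact Group.nilpotent_of_surjective ((QuotientGroup.mk' N).subgroupMap A)
          ((QuotientGroup.mk' N).subgroupMap_surjective A)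
      · haveI := hB
        exact Group.nilpotent_of_surjective ((QuotientGroup.mk' N).subgroupMap B)
          ((QuotientGroup.mk' N).subgroupMap_surjective B)
      · exact Nat.Coprime.coprime_dvd_left (Subgroup.card_map_dvd A _)
          (Nat.Coprime.coprime_dvd_right (Subgroup.card_map_dvd B _) hcop)
      · intro q
        obtain ⟨g, rfl⟩ := QuotientGroup.mk'_surjective N q
        obtain ⟨a, ha, b, hb, rfl⟩ := hAB g
        exact ⟨_, ⟨a, ha, rfl⟩, _, ⟨b, hb, rfl⟩, map_mul _ a b⟩
    -- the normal subgroup
    have hsub : Group.IsSolvable N := by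
      have hor : N ⊔ A ≠ ⊤ ∨ N ⊔ B ≠ ⊤ := by
        by_contra hboth
        push Not at hboth
        have h1 : N.index ∣ Nat.card A := by
          rw [← Subgroup.relIndex_top_right, ← hboth.1, Subgroup.relIndex_sup_left]
          exact Subgroup.relIndex_dvd_card N A
        have h2 : N.index ∣ Nat.card B := by
          rw [← Subgroup.relIndex_top_right, ← hboth.2, Subgroup.relIndex_sup_left]
          exact Subgroup.relIndex_dvd_card N B
        have h3 := Nat.dvd_gcd h1 h2
        rw [Nat.Coprime.gcd_eq_one hcop, Nat.dvd_one] at h3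
        exact hNtop (Subgroup.index_eq_one.mp h3)
      rcases hor with hH | hH
      · have hprod : IsProd (N ⊔ A) A ((N ⊔ A) ⊓ B) := by
          refine ⟨le_sup_right, inf_le_left, ?_⟩
          intro g hg
          obtain ⟨a, ha, b, hb, rfl⟩ := hAB g
          refine ⟨a, ha, b, ⟨?_, hb⟩, rfl⟩
          have e : b = a⁻¹ * (a * b) := by group
          rw [e]
          exact Subgroup.mul_mem _ (Subgroup.inv_mem _ (le_sup_right (a := N) ha)) hg
        have hlt : Nat.card (N ⊔ A : Subgroup G) < n := by
          rw [← hn, ← Subgroup.card_top (G := G)]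
          exact card_lt_of_lt (lt_top_iff_ne_top.mpr hH)
        haveI := solvable_of_isProd hIH (N ⊔ A) A ((N ⊔ A) ⊓ B) hlt hA
          (nilpotent_of_le inf_le_right hB)
          (Nat.Coprime.coprime_dvd_right (Subgroup.card_dvd_of_le inf_le_right) hcop) hprod
        exact Group.isSolvable_of_isSolvable_injective
          (Subgroup.inclusion_injective (le_sup_left : N ≤ N ⊔ A))
      · have hprod : IsProd (N ⊔ B) ((N ⊔ B) ⊓ A) B := by
          refine ⟨inf_le_left, le_sup_right, ?_⟩
          intro g hg
          obtain ⟨a, ha, b, hb, rfl⟩ := hAB g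
          refine ⟨a, ⟨?_, ha⟩, b, hb, rfl⟩
          have e : a = (a * b) * b⁻¹ := by group
          rw [e]
          exact Subgroup.mul_mem _ hg (Subgroup.inv_mem _ (le_sup_right (a := N) hb))
        have hlt : Nat.card (N ⊔ B : Subgroup G) < n := by
          rw [← hn, ← Subgroup.card_top (G := G)]
          exact card_lt_of_lt (lt_top_iff_ne_top.mpr hH)
        haveI := solvable_of_isProd hIH (N ⊔ B) ((N ⊔ B) ⊓ A) B hlt
          (nilpotent_of_le inf_le_right hA) hB
          (Nat.Coprime.coprime_dvd_left (Subgroup.card_dvd_of_le inf_le_right) hcop) hprod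
        exact Group.isSolvable_of_isSolvable_injective
          (Subgroup.inclusion_injective (le_sup_left : N ≤ N ⊔ B))
    haveI := hquot
    haveI := hsub
    apply Group.isSolvable_of_ker_le_range N.subtype (QuotientGroup.mk' N)
    rw [QuotientGroup.ker_mk', Subgroup.range_subtype]
  · push Not at hex
    haveI hsimple : IsSimpleGroup G :=
      { toNontrivial := hnt
        eq_bot_or_eq_top_of_normal := fun N hN => by
          by_contra hc
          push Not at hc
          exact hc.2 (hex N hN hc.1) }
    by_contra hns
    have hctx : Ctx A B :=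
      { nilA := hA
        nilB := hB
        cop := hcop
        fact := hAB
        simple := hsimple
        nonsolv := hns
        ih := fun H A' B' hH hA' hB' hprod => by
          have hlt : Nat.card H < n := by
            rw [← hn, ← Subgroup.card_top (G := G)]
            exact card_lt_of_lt (lt_top_iff_ne_top.mpr hH)
          exact solvable_of_isProd hIH H A' B' hlt (nilpotent_of_le hA' hA)
            (nilpotent_of_le hB' hB)
            (Nat.Coprime.coprime_dvd_left (Subgroup.card_dvd_of_le hA')
              (Nat.Coprime.coprime_dvd_right (Subgroup.card_dvd_of_le hB') hcop)) hprod }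
    exact hctx.false

theorem kw_all (n : ℕ) : KWStatement.{u} n := by
  induction n using Nat.strong_induction_on with
  | _ n ih => exact kw_step n ih

/-- **Wielandt**: a finite product of two nilpotent subgroups of coprime orders is solvable. -/
theorem wielandt_coprime {G : Type u} [Group G] [Finite G] (A B : Subgroup G)
    (hA : Group.IsNilpotent A) (hB : Group.IsNilpotent B)
    (hcop : (Nat.card A).Coprime (Nat.card B)) (hAB : ∀ g : G, ∃ a ∈ A, ∃ b ∈ B, g = a * b) :
    Group.IsSolvable G :=
  kw_all (Nat.card G) G rfl A B hA hB hcop hAB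

end Cfsg.Agent.Lib.Helper13.KW
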