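import Mathlib
import Cfsg.Agent.Lib.Helper13.KW10
import Cfsg.Agent.Lib.Helper15.ProdFormula

/-!
Kegel–Wielandt project (helper13), part 11: products of Sylow subgroups of the factors, the
closure construction from Kegel's lemma, and the largest normal `p`-subgroup of a normal subgroup.
-/

set_option autoImplicit false

namespace Cfsg.Agent.Lib.Helper13.KW

open Cfsg.Agent.Lib.Helper13
open scoped Pointwise

universe u

variable {G : Type u} [Group G] [Finite G]

theorem card_prodSubgroup_mul (X Y : Subgroup G) (h : Perm X Y) :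
    Nat.card (prodSubgroup X Y h) * Nat.card (X ⊓ Y : Subgroup G) = Nat.card X * Nat.card Y := by
  rw [← Cfsg.Agent.Lib.Helper15.card_mul_set_mul_card_inf X Y]
  congr 1
  apply Nat.card_congr
  apply Equiv.subtypeEquivRight
  intro g
  constructor
  · rintro ⟨x, hx, y, hy, rfl⟩; exact Set.mul_mem_mul hx hy
  · rintro ⟨x, hx, y, hy, rfl⟩; exact ⟨x, hx, y, hy, rfl⟩

theorem isPGroup_prodSubgroup {p : ℕ} [hp : Fact p.Prime] {X Y : Subgroup G} (hX : IsPGroup p X)
    (hY : IsPGroup p Y) (h : Perm X Y) : IsPGroup p (prodSubgroup X Y h) := by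
  obtain ⟨a, ha⟩ := IsPGroup.exists_card_eq hX
  obtain ⟨b, hb⟩ := IsPGroup.exists_card_eq hY
  have e := card_prodSubgroup_mul X Y h
  rw [ha, hb, ← pow_add] at e
  have hd : Nat.card (prodSubgroup X Y h) ∣ p ^ (a + b) := Dvd.intro _ e
  obtain ⟨c, -, hc⟩ := (Nat.dvd_prime_pow hp.out).mp hd
  exact IsPGroup.of_card hc

theorem isPGroup_cj {p : ℕ} [hp : Fact p.Prime] {Y : Subgroup G} (hY : IsPGroup p Y) (g : G) :
    IsPGroup p (MulAut.conj g • Y : Subgroup G) := by
  obtain ⟨k, hk⟩ := IsPGroup.exists_card_eq hY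
  exact IsPGroup.of_card (by rw [card_cj]; exact hk)

/-- the product of the Sylow `p`-subgroups of two nilpotent factors is a subgroup -/
theorem sylow_perm (A B : Subgroup G) (hA : Group.IsNilpotent A) (hB : Group.IsNilpotent B)
    (hAB : ∀ g : G, ∃ a ∈ A, ∃ b ∈ B, g = a * b) (p : ℕ) [hp : Fact p.Prime] :
    Perm (pp A p) (pp B p) := by
  obtain ⟨Q₁, hQ₁⟩ := (pp_isPGroup (p := p) hA).exists_le_sylow
  obtain ⟨Q₂, hQ₂⟩ := (pp_isPGroup (p := p) hB).exists_le_sylow
  obtain ⟨g, hg⟩ := MulAction.exists_smul_eq G Q₁ Q₂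
  have hg' : MulAut.conj g • (Q₁ : Subgroup G) = (Q₂ : Subgroup G) := by
    rw [← Sylow.coe_subgroup_smul, hg]
  obtain ⟨a, ha, b, hb, hgab⟩ := hAB g⁻¹
  have hgeq : g = b⁻¹ * a⁻¹ := by
    have e : g = (g⁻¹)⁻¹ := (inv_inv g).symm
    rw [e, hgab]; group
  obtain ⟨S, hS⟩ : ∃ S : Subgroup G, S = MulAut.conj a⁻¹ • (Q₁ : Subgroup G) := ⟨_, rfl⟩
  have hAS : pp A p ≤ S := by
    rw [hS]
    calc pp A p = MulAut.conj a⁻¹ • pp A p :=
          (cj_eq_of_mem_normalizer (le_normalizer_pp hA (A.inv_mem ha))).symm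
      _ ≤ MulAut.conj a⁻¹ • (Q₁ : Subgroup G) := cj_le_cj hQ₁
  have hBS : pp B p ≤ S := by
    rw [hS]
    have e : b * (b⁻¹ * a⁻¹) = a⁻¹ := by group
    calc pp B p = MulAut.conj b • pp B p :=
          (cj_eq_of_mem_normalizer (le_normalizer_pp hB hb)).symm
      _ ≤ MulAut.conj b • (Q₂ : Subgroup G) := cj_le_cj hQ₂
      _ = MulAut.conj b • (MulAut.conj g • (Q₁ : Subgroup G)) := by rw [hg']
      _ = MulAut.conj a⁻¹ • (Q₁ : Subgroup G) := by rw [← cj_mul, hgeq, e]
  -- cardinalities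
  obtain ⟨k, hk⟩ : ∃ k : ℕ, k = (Nat.card G).factorization p := ⟨_, rfl⟩
  have hcardS : Nat.card S = p ^ k := by
    rw [hS, card_cj, hk]; exact Q₁.card_eq_multiplicity
  have hG0 : Nat.card G ≠ 0 := Nat.card_pos.ne'
  have hGfac : p ^ k * (Nat.card G / p ^ k) = Nat.card G := by
    rw [hk]; exact Nat.ordProj_mul_ordCompl_eq_self _ p
  obtain ⟨g', hg'd⟩ : ∃ g' : ℕ, g' = Nat.card G / p ^ k := ⟨_, rfl⟩
  rw [← hg'd] at hGfac
  have e2 := Cfsg.Agent.Lib.Helper15.card_mul_card_inf_of_factorization A B hAB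
  have eA := card_pp_mul_card_pc (p := p) hA
  have eB := card_pp_mul_card_pc (p := p) hB
  have hcA := coprime_card_pc (p := p) hA
  have hcB := coprime_card_pc (p := p) hB
  have hinfp : IsPGroup p (pp A p ⊓ pp B p : Subgroup G) :=
    (pp_isPGroup (p := p) hA).to_le inf_le_left
  obtain ⟨j, hj⟩ := IsPGroup.exists_card_eq hinfp
  obtain ⟨m, hm⟩ : Nat.card (pp A p ⊓ pp B p : Subgroup G) ∣ Nat.card (A ⊓ B : Subgroup G) :=
    Subgroup.card_dvd_of_le (inf_le_inf (pp_le hA) (pp_le hB))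
  have hdiv : Nat.card S * Nat.card (pp A p ⊓ pp B p : Subgroup G) ∣
      Nat.card (pp A p) * Nat.card (pp B p) := by
    have h1 : Nat.card S * Nat.card (pp A p ⊓ pp B p : Subgroup G) ∣
        Nat.card (pp A p) * Nat.card (pp B p) * (Nat.card (pc A p) * Nat.card (pc B p)) := by
      refine ⟨g' * m, ?_⟩
      have e3 : Nat.card (pp A p) * Nat.card (pp B p) * (Nat.card (pc A p) * Nat.card (pc B p)) =
          Nat.card A * Nat.card B := by rw [← eA, ← eB]; ring
      rw [e3, ← e2, hm, ← hGfac, hcardS]; ring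
    have h2 : (Nat.card S * Nat.card (pp A p ⊓ pp B p : Subgroup G)).Coprime
        (Nat.card (pc A p) * Nat.card (pc B p)) := by
      rw [hcardS, hj, ← pow_add]
      apply Nat.Coprime.pow_left
      exact Nat.Coprime.mul_right hcA.symm hcB.symm
    exact Nat.Coprime.dvd_of_dvd_mul_right h2 h1
  have e1 := Cfsg.Agent.Lib.Helper15.card_mul_set_mul_card_inf (pp A p) (pp B p)
  have hle : Nat.card S ≤ Nat.card ↥((pp A p : Set G) * (pp B p : Set G)) := by
    have hpos : 0 < Nat.card (pp A p ⊓ pp B p : Subgroup G) := Nat.card_pos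
    have h3 := Nat.le_of_dvd (Nat.mul_pos Nat.card_pos Nat.card_pos) hdiv
    rw [← e1] at h3
    exact Nat.le_of_mul_le_mul_right h3 hpos
  have hTS : (pp A p : Set G) * (pp B p : Set G) ⊆ (S : Set G) := by
    rintro _ ⟨x, hx, y, hy, rfl⟩
    exact S.mul_mem (hAS hx) (hBS hy)
  have hTeq : (pp A p : Set G) * (pp B p : Set G) = (S : Set G) := by
    apply Set.eq_of_subset_of_ncard_le hTS _ (Set.toFinite _)
    rw [← Nat.card_coe_set_eq, ← Nat.card_coe_set_eq]
    exact hle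
  intro x hx y hy
  have hmem : (x * y)⁻¹ ∈ (S : Set G) := S.inv_mem (S.mul_mem (hAS hx) (hBS hy))
  rw [← hTeq] at hmem
  obtain ⟨x₁, hx₁, y₁, hy₁, e⟩ := hmem
  refine ⟨y₁⁻¹, (pp B p).inv_mem hy₁, x₁⁻¹, (pp A p).inv_mem hx₁, ?_⟩
  have e' : x * y = ((x * y)⁻¹)⁻¹ := (inv_inv _).symm
  rw [e', ← e]; group

/-- `A_p` permutes with every conjugate of `B_p` -/
theorem sylow_perm_cj (A B : Subgroup G) (hA : Group.IsNilpotent A) (hB : Group.IsNilpotent B)
    (hAB : ∀ g : G, ∃ a ∈ A, ∃ b ∈ B, g = a * b) (p : ℕ) [hp : Fact p.Prime] (g : G) :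
    Perm (pp A p) (MulAut.conj g • pp B p) := by
  obtain ⟨a, ha, b, hb, rfl⟩ := hAB g
  rw [cj_mul, cj_eq_of_mem_normalizer (le_normalizer_pp hB hb)]
  have := (sylow_perm A B hA hB hAB p).cj a
  rwa [cj_eq_of_mem_normalizer (le_normalizer_pp hA ha)] at this

/-- closure construction: a `p`-group containing `X` normalized by all conjugates of `Y` -/
theorem kegel_closure {p : ℕ} [hp : Fact p.Prime] (n : ℕ) : ∀ X Y : Subgroup G, IsPGroup p X →
    IsPGroup p Y → (∀ g : G, Perm X (MulAut.conj g • Y)) → Nat.card G - Nat.card X = n →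
    ∃ X' : Subgroup G, X ≤ X' ∧ IsPGroup p X' ∧
      Subgroup.normalClosure (Y : Set G) ≤ Subgroup.normalizer (X' : Set G) := by
  induction n using Nat.strong_induction_on with
  | _ n ih =>
  intro X Y hX hY hperm hn
  by_cases hnorm : ∀ g : G, ∀ y ∈ MulAut.conj g • Y, MulAut.conj y • X = X
  · refine ⟨X, le_rfl, hX, ?_⟩
    unfold Subgroup.normalClosure
    rw [Subgroup.closure_le]
    intro v hv
    rw [Group.mem_conjugatesOfSet_iff] at hv
    obtain ⟨b, hb, hconj⟩ := hv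
    rw [isConj_iff] at hconj
    obtain ⟨c, rfl⟩ := hconj
    rw [SetLike.mem_coe, ← cj_eq_self_iff_mem_normalizer]
    apply hnorm c
    rw [mem_cj]
    have : c⁻¹ * (c * b * c⁻¹) * c = b := by group
    rw [this]; exact hb
  · push Not at hnorm
    obtain ⟨g, y, hy, hne⟩ := hnorm
    obtain ⟨X₁, hX₁⟩ : ∃ X₁ : Subgroup G, X₁ = X ⊔ MulAut.conj y • X := ⟨_, rfl⟩
    have hlt : X < X₁ := by
      rw [hX₁]
      refine lt_of_le_of_ne le_sup_left ?_
      intro hcon
      apply hne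
      have h1 : MulAut.conj y • X ≤ X := by
        conv_rhs => rw [hcon]
        exact le_sup_right
      exact Subgroup.eq_of_le_of_card_ge h1 (by rw [card_cj])
    have hperm₁ : ∀ k : G, Perm X₁ (MulAut.conj k • Y) := by
      intro k
      rw [hX₁]
      apply Perm.sup_left (hperm k)
      have h1 := (hperm (y⁻¹ * k)).cj y
      rwa [← cj_mul, mul_inv_cancel_left] at h1
    have hXYg : Perm X (MulAut.conj g • Y) := hperm g
    have hS := isProd_prodSubgroup X (MulAut.conj g • Y) hXYg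
    have hX₁S : X₁ ≤ prodSubgroup X (MulAut.conj g • Y) hXYg := by
      rw [hX₁]
      apply sup_le hS.1
      intro v hv
      rw [mem_cj] at hv
      have : v = y * (y⁻¹ * v * y) * y⁻¹ := by group
      rw [this]
      exact Subgroup.mul_mem _ (Subgroup.mul_mem _ (hS.2.1 hy) (hS.1 hv))
        (Subgroup.inv_mem _ (hS.2.1 hy))
    have hX₁p : IsPGroup p X₁ :=
      (isPGroup_prodSubgroup hX (isPGroup_cj hY g) hXYg).to_le hX₁S
    have hcX₁ : Nat.card X₁ ≤ Nat.card G := Subgroup.card_le_card_group X₁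
    have hm : Nat.card G - Nat.card X₁ < n := by
      have := card_lt_of_lt hlt; omega
    obtain ⟨X', hX'1, hX'2, hX'3⟩ := ih _ hm X₁ Y hX₁p hY hperm₁ rfl
    exact ⟨X', hlt.le.trans hX'1, hX'2, hX'3⟩

/-- a normal `p`-subgroup of a normal subgroup lies in a normal `p`-subgroup of the group -/
theorem exists_normal_pgroup_ge {p : ℕ} [hp : Fact p.Prime] (R D : Subgroup G) [hR : R.Normal]
    (hDR : D ≤ R) (hD : IsPGroup p D) (hn : R ≤ Subgroup.normalizer (D : Set G)) :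
    ∃ J : Subgroup G, D ≤ J ∧ IsPGroup p J ∧ J.Normal := by
  obtain ⟨J, hDJ, hJ⟩ := Finite.exists_le_maximal
    (p := fun S : Subgroup G => S ≤ R ∧ IsPGroup p S ∧ R ≤ Subgroup.normalizer (S : Set G))
    (a := D) ⟨hDR, hD, hn⟩
  refine ⟨J, hDJ, hJ.prop.2.1, ?_⟩
  rw [← Subgroup.normalizer_eq_top_iff, eq_top_iff]
  intro g _
  rw [← cj_eq_self_iff_mem_normalizer]
  have hcjR : MulAut.conj g • J ≤ R := by
    have := cj_le_cj (g := g) hJ.prop.1
    rwa [cj_normal g R] at this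
  have hcjp : IsPGroup p (MulAut.conj g • J : Subgroup G) := isPGroup_cj hJ.prop.2.1 g
  have hcjn : R ≤ Subgroup.normalizer ((MulAut.conj g • J : Subgroup G) : Set G) := by
    have := cj_le_normalizer_cj (g := g) hJ.prop.2.2
    rwa [cj_normal g R] at this
  have hsup : (J ⊔ MulAut.conj g • J) ≤ R ∧ IsPGroup p (J ⊔ MulAut.conj g • J : Subgroup G) ∧
      R ≤ Subgroup.normalizer ((J ⊔ MulAut.conj g • J : Subgroup G) : Set G) :=
    ⟨sup_le hJ.prop.1 hcjR,
     IsPGroup.to_sup_of_normal_right' hJ.prop.2.1 hcjp (hJ.prop.1.trans hcjn),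
     fun r hr => mem_normalizer_sup (hJ.prop.2.2 hr) (hcjn hr)⟩
  have hle := hJ.le_of_ge hsup le_sup_left
  have h1 : MulAut.conj g • J ≤ J := le_sup_right.trans hle
  exact Subgroup.eq_of_le_of_card_ge h1 (by rw [card_cj])

end Cfsg.Agent.Lib.Helper13.KW
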