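import Mathlib
import Cfsg.Agent.Lib.Helper13.KW11

/-!
Kegel–Wielandt project (helper13), part 12: the Kegel–Wielandt theorem.
-/

set_option autoImplicit false

namespace Cfsg.Agent.Lib.Helper13.KW

open Cfsg.Agent.Lib.Helper13
open scoped Pointwise

universe u

/-- the general statement for groups of order `n` -/
def KWGStatement (n : ℕ) : Prop :=
  ∀ (G : Type u) [Group G] [Finite G], Nat.card G = n → ∀ A B : Subgroup G,
    Group.IsNilpotent A → Group.IsNilpotent B →
    (∀ g : G, ∃ a ∈ A, ∃ b ∈ B, g = a * b) → Group.IsSolvable G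

theorem card_quotient_lt {G : Type u} [Group G] [Finite G] (N : Subgroup G) [N.Normal]
    (hN : N ≠ ⊥) : Nat.card (G ⧸ N) < Nat.card G := by
  have e := N.card_mul_index
  rw [Subgroup.index_eq_card] at e
  have h1 : 1 < Nat.card N := by
    rcases Nat.lt_or_ge 1 (Nat.card N) with h | h
    · exact h
    · exfalso; apply hN; apply Subgroup.card_eq_one.mp
      have := Nat.card_pos (α := N); omega
  have hpos : 0 < Nat.card (G ⧸ N) := Nat.card_pos
  nlinarith

theorem solvable_quotient {n : ℕ} (hIH : ∀ m < n, KWGStatement.{u} m) {G : Type u} [Group G]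
    [Finite G] (hn : Nat.card G = n) (A B : Subgroup G) (hA : Group.IsNilpotent A)
    (hB : Group.IsNilpotent B) (hAB : ∀ g : G, ∃ a ∈ A, ∃ b ∈ B, g = a * b)
    (N : Subgroup G) [N.Normal] (hN : N ≠ ⊥) : Group.IsSolvable (G ⧸ N) := by
  have hlt : Nat.card (G ⧸ N) < n := hn ▸ card_quotient_lt N hN
  apply hIH _ hlt (G ⧸ N) rfl (A.map (QuotientGroup.mk' N)) (B.map (QuotientGroup.mk' N))
  · haveI := hA
    exact Group.nilpotent_of_surjective ((QuotientGroup.mk' N).subgroupMap A)
      ((QuotientGroup.mk' N).subgroupMap_surjective A)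
  · haveI := hB
    exact Group.nilpotent_of_surjective ((QuotientGroup.mk' N).subgroupMap B)
      ((QuotientGroup.mk' N).subgroupMap_surjective B)
  · intro q
    obtain ⟨g, rfl⟩ := QuotientGroup.mk'_surjective N q
    obtain ⟨a, ha, b, hb, rfl⟩ := hAB g
    exact ⟨_, ⟨a, ha, rfl⟩, _, ⟨b, hb, rfl⟩, map_mul _ a b⟩

theorem solvable_of_normal_solvable {n : ℕ} (hIH : ∀ m < n, KWGStatement.{u} m) {G : Type u}
    [Group G] [Finite G] (hn : Nat.card G = n) (A B : Subgroup G) (hA : Group.IsNilpotent A)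
    (hB : Group.IsNilpotent B) (hAB : ∀ g : G, ∃ a ∈ A, ∃ b ∈ B, g = a * b)
    (N : Subgroup G) [N.Normal] (hN : N ≠ ⊥) (hNs : Group.IsSolvable N) : Group.IsSolvable G := by
  haveI := solvable_quotient hIH hn A B hA hB hAB N hN
  haveI := hNs
  apply Group.isSolvable_of_ker_le_range N.subtype (QuotientGroup.mk' N)
  rw [QuotientGroup.ker_mk', Subgroup.range_subtype]

theorem isSolvable_of_isPGroup {G : Type u} [Group G] [Finite G] {p : ℕ} [Fact p.Prime]
    {J : Subgroup G} (hJ : IsPGroup p J) : Group.IsSolvable J := by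
  haveI := hJ.isNilpotent
  infer_instance

theorem kwg_step (n : ℕ) (hIH : ∀ m < n, KWGStatement.{u} m) : KWGStatement.{u} n := by
  intro G _ _ hn A B hA hB hAB
  by_cases hcop : (Nat.card A).Coprime (Nat.card B)
  · exact wielandt_coprime A B hA hB hcop hAB
  obtain ⟨p, hp, hpA, hpB⟩ := Nat.Prime.not_coprime_iff_dvd.mp hcop
  haveI : Fact p.Prime := ⟨hp⟩
  have hXne : pp A p ≠ ⊥ := pp_ne_bot_of_dvd hA hpA
  have hYne : pp B p ≠ ⊥ := pp_ne_bot_of_dvd hB hpB
  obtain ⟨X', hXX', hX'p, hX'n⟩ := kegel_closure (p := p) _ (pp A p) (pp B p)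
    (pp_isPGroup hA) (pp_isPGroup hB) (sylow_perm_cj A B hA hB hAB p) rfl
  have hX'ne : X' ≠ ⊥ := fun hb => hXne (le_bot_iff.mp (hb ▸ hXX'))
  obtain ⟨R, hR⟩ : ∃ R : Subgroup G, R = Subgroup.normalClosure ((pp B p : Subgroup G) : Set G) :=
    ⟨_, rfl⟩
  rw [← hR] at hX'n
  haveI hRn : R.Normal := by rw [hR]; exact Subgroup.normalClosure_normal
  have hYR : pp B p ≤ R := by rw [hR]; exact Subgroup.le_normalClosure
  have hRne : R ≠ ⊥ := fun hb => hYne (le_bot_iff.mp (hb ▸ hYR))
  -- a nontrivial normal `p`-subgroup suffices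
  have key : ∀ J : Subgroup G, J.Normal → J ≠ ⊥ → IsPGroup p J → Group.IsSolvable G := by
    intro J hJn hJne hJp
    haveI := hJn
    exact solvable_of_normal_solvable hIH hn A B hA hB hAB J hJne (isSolvable_of_isPGroup hJp)
  by_cases hD : X' ⊓ R = ⊥
  · -- `X'` centralizes `R`
    have hcent : X' ≤ Subgroup.centralizer (R : Set G) := by
      intro x hx
      rw [Subgroup.mem_centralizer_iff]
      intro r hr
      have h1 : x * r * x⁻¹ * r⁻¹ ∈ R := R.mul_mem (hRn.conj_mem r hr x) (R.inv_mem hr)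
      have h2 : x * r * x⁻¹ * r⁻¹ ∈ X' := by
        have e : x * r * x⁻¹ * r⁻¹ = x * (r * x⁻¹ * r⁻¹) := by group
        rw [e]
        exact X'.mul_mem hx ((conj_mem_iff_of_mem_normalizer (hX'n hr)).mpr (X'.inv_mem hx))
      have h3 : x * r * x⁻¹ * r⁻¹ ∈ X' ⊓ R := ⟨h2, h1⟩
      rw [hD, Subgroup.mem_bot] at h3
      have e : r * x = (x * r * x⁻¹ * r⁻¹)⁻¹ * (x * r) := by group
      rw [e, h3, inv_one, one_mul]
    obtain ⟨C, hC⟩ : ∃ C : Subgroup G, C = Subgroup.centralizer (R : Set G) := ⟨_, rfl⟩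
    rw [← hC] at hcent
    haveI hCn : C.Normal := by rw [hC]; infer_instance
    have hCne : C ≠ ⊥ := fun hb => hX'ne (le_bot_iff.mp (hb ▸ hcent))
    by_cases hZ : C ⊓ R = ⊥
    · -- `R` embeds in `G ⧸ C`
      haveI := solvable_quotient hIH hn A B hA hB hAB C hCne
      have hinj : Function.Injective ((QuotientGroup.mk' C).comp R.subtype) := by
        rw [injective_iff_map_eq_one]
        rintro ⟨r, hr⟩ h1
        have h2 : r ∈ C := (QuotientGroup.eq_one_iff r).mp h1
        have h3 : r ∈ C ⊓ R := ⟨h2, hr⟩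
        rw [hZ, Subgroup.mem_bot] at h3
        exact Subtype.ext h3
      have hRs : Group.IsSolvable R := Group.isSolvable_of_isSolvable_injective hinj
      exact solvable_of_normal_solvable hIH hn A B hA hB hAB R hRne hRs
    · -- a nontrivial abelian normal subgroup
      haveI : (C ⊓ R).Normal := inferInstance
      have hZs : Group.IsSolvable (C ⊓ R : Subgroup G) := by
        apply Group.isSolvable_of_comm
        rintro ⟨u, hu⟩ ⟨v, hv⟩
        apply Subtype.ext
        have h1 : u ∈ Subgroup.centralizer (R : Set G) := hC ▸ hu.1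
        exact ((Subgroup.mem_centralizer_iff.mp h1) v hv.2).symm
      exact solvable_of_normal_solvable hIH hn A B hA hB hAB (C ⊓ R) hZ hZs
  · -- a nontrivial normal `p`-subgroup of `R`
    have hDp : IsPGroup p (X' ⊓ R : Subgroup G) := hX'p.to_le inf_le_left
    have hDn : R ≤ Subgroup.normalizer ((X' ⊓ R : Subgroup G) : Set G) := by
      intro r hr
      rw [← cj_eq_self_iff_mem_normalizer]
      apply Subgroup.eq_of_le_of_card_ge _ (by rw [card_cj])
      intro v hv
      rw [mem_cj] at hv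
      have e : v = r * (r⁻¹ * v * r) * r⁻¹ := by group
      rw [e]
      exact ⟨(conj_mem_iff_of_mem_normalizer (hX'n hr)).mpr hv.1,
        R.mul_mem (R.mul_mem hr hv.2) (R.inv_mem hr)⟩
    obtain ⟨J, hDJ, hJp, hJn⟩ := exists_normal_pgroup_ge R (X' ⊓ R) inf_le_right hDp hDn
    exact key J hJn (fun hb => hD (le_bot_iff.mp (hb ▸ hDJ))) hJp

theorem kwg_all (n : ℕ) : KWGStatement.{u} n := by
  induction n using Nat.strong_induction_on with
  | _ n ih => exact kwg_step n ih

/-- **Kegel–Wielandt**: a finite product of two nilpotent subgroups is solvable. -/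
theorem kegel_wielandt {G : Type u} [Group G] [Finite G] (A B : Subgroup G)
    (hA : Group.IsNilpotent A) (hB : Group.IsNilpotent B)
    (hAB : ∀ g : G, ∃ a ∈ A, ∃ b ∈ B, g = a * b) : Group.IsSolvable G :=
  kwg_all (Nat.card G) G rfl A B hA hB hAB

end Cfsg.Agent.Lib.Helper13.KW
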