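import Mathlib
import Cfsg.Agent.Lib.Helper13.KW12

/-!
Kegel–Wielandt project (helper13), part 13: one of two nilpotent factors lies in a proper normal
subgroup.
-/

set_option autoImplicit false

namespace Cfsg.Agent.Lib.Helper13.KW

open Cfsg.Agent.Lib.Helper13
open scoped Pointwise

universe u

/-- the statement for groups of order `n` -/
def NCStatement (n : ℕ) : Prop :=
  ∀ (G : Type u) [Group G] [Finite G], Nat.card G = n → ∀ A B : Subgroup G,
    Group.IsNilpotent A → Group.IsNilpotent B → (∀ g : G, ∃ a ∈ A, ∃ b ∈ B, g = a * b) →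
    (A ≠ ⊤ ∨ B ≠ ⊤) → ∃ N : Subgroup G, N.Normal ∧ N ≠ ⊤ ∧ (A ≤ N ∨ B ≤ N)

theorem lift_quot {n : ℕ} (hIH : ∀ m < n, NCStatement.{u} m) {G : Type u} [Group G] [Finite G]
    (hn : Nat.card G = n) (A B : Subgroup G) (hA : Group.IsNilpotent A)
    (hB : Group.IsNilpotent B) (hAB : ∀ g : G, ∃ a ∈ A, ∃ b ∈ B, g = a * b)
    (N' : Subgroup G) [N'.Normal] (hN' : N' ≠ ⊥)
    (hne : A.map (QuotientGroup.mk' N') ≠ ⊤ ∨ B.map (QuotientGroup.mk' N') ≠ ⊤) :
    ∃ N : Subgroup G, N.Normal ∧ N ≠ ⊤ ∧ (A ≤ N ∨ B ≤ N) := by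
  have hlt : Nat.card (G ⧸ N') < n := hn ▸ card_quotient_lt N' hN'
  obtain ⟨M, hMn, hMtop, hM⟩ := hIH _ hlt (G ⧸ N') rfl (A.map (QuotientGroup.mk' N'))
    (B.map (QuotientGroup.mk' N'))
    (by haveI := hA
        exact Group.nilpotent_of_surjective ((QuotientGroup.mk' N').subgroupMap A)
          ((QuotientGroup.mk' N').subgroupMap_surjective A))
    (by haveI := hB
        exact Group.nilpotent_of_surjective ((QuotientGroup.mk' N').subgroupMap B)
          ((QuotientGroup.mk' N').subgroupMap_surjective B))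
    (by intro q
        obtain ⟨g, rfl⟩ := QuotientGroup.mk'_surjective N' q
        obtain ⟨a, ha, b, hb, rfl⟩ := hAB g
        exact ⟨_, ⟨a, ha, rfl⟩, _, ⟨b, hb, rfl⟩, map_mul _ a b⟩)
    hne
  refine ⟨M.comap (QuotientGroup.mk' N'), hMn.comap _, ?_, ?_⟩
  · intro htop
    apply hMtop
    have := Subgroup.map_comap_eq_self_of_surjective (QuotientGroup.mk'_surjective N') M
    rw [htop, Subgroup.map_top_of_surjective _ (QuotientGroup.mk'_surjective N')] at this
    exact this.symm
  · rcases hM with h | h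
    · left; exact Subgroup.map_le_iff_le_comap.mp h
    · right; exact Subgroup.map_le_iff_le_comap.mp h

theorem exists_normal_of_nilpotent {G : Type u} [Group G] [Finite G] (hG : Group.IsNilpotent G)
    (B : Subgroup G) (hB : B ≠ ⊤) : ∃ M : Subgroup G, M.Normal ∧ M ≠ ⊤ ∧ B ≤ M := by
  rcases eq_top_or_exists_le_coatom B with h | ⟨M, hM, hBM⟩
  · exact absurd h hB
  · have := (Group.isNilpotent_of_finite_tfae (G := G)).out 0 2
    exact ⟨M, this.mp hG M hM, hM.1, hBM⟩

theorem nilpotent_of_eq_top {G : Type u} [Group G] {A : Subgroup G} (hA : Group.IsNilpotent A)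
    (h : A = ⊤) : Group.IsNilpotent G := by
  haveI : Group.IsNilpotent (⊤ : Subgroup G) := h ▸ hA
  exact Group.nilpotent_of_surjective (Subgroup.topEquiv (G := G)).toMonoidHom
    (Subgroup.topEquiv (G := G)).surjective

theorem map_mk_eq_top {G : Type u} [Group G] {A N : Subgroup G} [N.Normal]
    (h : A.map (QuotientGroup.mk' N) = ⊤) : ∀ g : G, ∃ a ∈ A, ∃ v ∈ N, g = a * v := by
  intro g
  have h1 : QuotientGroup.mk' N g ∈ A.map (QuotientGroup.mk' N) := h ▸ Subgroup.mem_top _
  obtain ⟨a, ha, e⟩ := h1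
  have h2 : a⁻¹ * g ∈ N := QuotientGroup.eq.mp e
  exact ⟨a, ha, a⁻¹ * g, h2, by group⟩

/-- a subgroup normalized by `A` and centralized by `N` is normal in `G = AN` -/
theorem normal_of_AN {G : Type u} [Group G] {A N S : Subgroup G}
    (hAN : ∀ g : G, ∃ a ∈ A, ∃ v ∈ N, g = a * v)
    (h1 : ∀ a ∈ A, ∀ x ∈ S, a * x * a⁻¹ ∈ S) (h2 : ∀ v ∈ N, ∀ x ∈ S, v * x = x * v) :
    S.Normal := by
  refine ⟨fun x hx g => ?_⟩
  obtain ⟨a, ha, v, hv, rfl⟩ := hAN g
  have e : a * v * x * (a * v)⁻¹ = a * (v * x * v⁻¹) * a⁻¹ := by group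
  have e2 : v * x * v⁻¹ = x := by rw [h2 v hv x hx]; group
  rw [e, e2]
  exact h1 a ha x hx

theorem nc_step (n : ℕ) (hIH : ∀ m < n, NCStatement.{u} m) : NCStatement.{u} n := by
  intro G _ _ hn A B hA hB hAB hproper
  haveI hsolv : Group.IsSolvable G := kegel_wielandt A B hA hB hAB
  haveI hnt : Nontrivial G := by
    by_contra hnt
    haveI := not_nontrivial_iff_subsingleton.mp hnt
    rcases hproper with h | h
    · exact h (Subsingleton.elim _ _)
    · exact h (Subsingleton.elim _ _)
  obtain ⟨p, M₀, hp, hM₀n, hM₀ne, hM₀p⟩ := Cfsg.Agent.Lib.Helper13.exists_normal_pgroup G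
  haveI : Fact p.Prime := ⟨hp⟩
  obtain ⟨N, hNM₀, hNmin⟩ := Finite.exists_le_minimal
    (p := fun S : Subgroup G => S.Normal ∧ S ≠ ⊥) (a := M₀) ⟨hM₀n, hM₀ne⟩
  haveI hNn : N.Normal := hNmin.prop.1
  have hNne : N ≠ ⊥ := hNmin.prop.2
  have hNp : IsPGroup p N := hM₀p.to_le hNM₀
  have hmin : ∀ S : Subgroup G, S.Normal → S ≤ N → S = ⊥ ∨ S = N := by
    intro S hS hSN
    by_cases h : S = ⊥
    · left; exact h
    · right; exact le_antisymm hSN (hNmin.le_of_le ⟨hS, h⟩ hSN)
  -- `N` is abelian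
  have hNab : ∀ x ∈ N, ∀ y ∈ N, x * y = y * x := by
    have hZn : (N ⊓ Subgroup.centralizer (N : Set G)).Normal := inferInstance
    have hZne : N ⊓ Subgroup.centralizer (N : Set G) ≠ ⊥ := by
      haveI : Nontrivial N := (Subgroup.nontrivial_iff_ne_bot _).mpr hNne
      haveI := hNp.center_nontrivial
      obtain ⟨⟨⟨z, hzN⟩, hzc⟩, hz1⟩ := exists_ne (1 : Subgroup.center N)
      intro hb
      have hz : z ∈ N ⊓ Subgroup.centralizer (N : Set G) := by
        refine Subgroup.mem_inf.mpr ⟨hzN, ?_⟩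
        rw [Subgroup.mem_centralizer_iff]
        intro v hv
        have := Subgroup.mem_center_iff.mp hzc ⟨v, hv⟩
        exact congrArg Subtype.val this
      rw [hb, Subgroup.mem_bot] at hz
      apply hz1
      exact Subtype.ext (Subtype.ext hz)
    rcases hmin _ hZn inf_le_left with h | h
    · exact absurd h hZne
    · intro x hx y hy
      have hy' : y ∈ N ⊓ Subgroup.centralizer (N : Set G) := by rw [h]; exact hy
      exact (Subgroup.mem_centralizer_iff.mp (Subgroup.mem_inf.mp hy').2) x hx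
  -- the quotient by `N`
  by_cases hq : A.map (QuotientGroup.mk' N) ≠ ⊤ ∨ B.map (QuotientGroup.mk' N) ≠ ⊤
  · exact lift_quot hIH hn A B hA hB hAB N hNne hq
  push Not at hq
  have hAN := map_mk_eq_top hq.1
  have hBN := map_mk_eq_top hq.2
  -- general facts for either factor
  have key : ∀ A' : Subgroup G, Group.IsNilpotent A' →
      (∀ g : G, ∃ a ∈ A', ∃ v ∈ N, g = a * v) →
      (A' ⊓ N = ⊥ ∨ A' = ⊤) ∧ (∀ x ∈ pp A' p, ∀ v ∈ N, x * v = v * x) ∧
      (Subgroup.centralizer (N : Set G) ⊓ A').Normal := by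
    intro A' hA' hA'N
    refine ⟨?_, ?_, ?_⟩
    · have hn1 : (A' ⊓ N).Normal := by
        apply normal_of_AN hA'N
        · intro a ha x hx
          have hx' := Subgroup.mem_inf.mp hx
          exact Subgroup.mem_inf.mpr
            ⟨A'.mul_mem (A'.mul_mem ha hx'.1) (A'.inv_mem ha), hNn.conj_mem x hx'.2 a⟩
        · intro v hv x hx
          exact hNab v hv x (Subgroup.mem_inf.mp hx).2
      rcases hmin _ hn1 inf_le_right with h | h
      · left; exact h
      · right
        rw [eq_top_iff]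
        intro g _
        obtain ⟨a, ha, v, hv, rfl⟩ := hA'N g
        have hv' : v ∈ A' ⊓ N := by rw [h]; exact hv
        exact A'.mul_mem ha (Subgroup.mem_inf.mp hv').1
    · have hn2 : (N ⊓ Subgroup.centralizer ((pp A' p : Subgroup G) : Set G)).Normal := by
        apply normal_of_AN hA'N
        · intro a ha x hx
          have hx' := Subgroup.mem_inf.mp hx
          refine Subgroup.mem_inf.mpr ⟨hNn.conj_mem x hx'.1 a, ?_⟩
          rw [Subgroup.mem_centralizer_iff]
          intro u hu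
          have hu' : a⁻¹ * u * a ∈ pp A' p := by
            have := (conj_mem_iff_of_mem_normalizer
              (le_normalizer_pp hA' (A'.inv_mem ha))).mpr hu
            rwa [inv_inv] at this
          have hc := (Subgroup.mem_centralizer_iff.mp hx'.2) _ hu'
          have e1 : u * (a * x * a⁻¹) = a * ((a⁻¹ * u * a) * x) * a⁻¹ := by group
          have e2 : a * x * a⁻¹ * u = a * (x * (a⁻¹ * u * a)) * a⁻¹ := by group
          rw [e1, e2, hc]
        · intro v hv x hx
          exact hNab v hv x (Subgroup.mem_inf.mp hx).1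
      have hne2 : N ⊓ Subgroup.centralizer ((pp A' p : Subgroup G) : Set G) ≠ ⊥ := by
        obtain ⟨L, hL⟩ : ∃ L : Subgroup G, L = pp A' p ⊔ N := ⟨_, rfl⟩
        have hLp : IsPGroup p L := by
          rw [hL]; exact IsPGroup.to_sup_of_normal_right (pp_isPGroup hA') hNp
        have hNL : N ≤ L := by rw [hL]; exact le_sup_right
        have hPL : pp A' p ≤ L := by rw [hL]; exact le_sup_left
        haveI : Group.IsNilpotent L := hLp.isNilpotent
        haveI : (N.subgroupOf L).Normal := inferInstance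
        have hne' : N.subgroupOf L ≠ ⊥ := by
          intro hb
          apply hNne
          have := Subgroup.map_subgroupOf_eq_of_le hNL
          rw [hb, Subgroup.map_bot] at this
          exact this.symm
        have hcen := Cfsg.Agent.Lib.Helper2.normal_inf_center_ne_bot (N.subgroupOf L) hne'
        obtain ⟨⟨⟨x, hxL⟩, hxm⟩, hx1⟩ := (Subgroup.ne_bot_iff_exists_ne_one).mp hcen
        have hxN : x ∈ N := Subgroup.mem_subgroupOf.mp hxm.1
        have hxc : (⟨x, hxL⟩ : L) ∈ Subgroup.center L := hxm.2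
        intro hb
        have hx : x ∈ N ⊓ Subgroup.centralizer ((pp A' p : Subgroup G) : Set G) := by
          refine Subgroup.mem_inf.mpr ⟨hxN, ?_⟩
          rw [Subgroup.mem_centralizer_iff]
          intro u hu
          have := Subgroup.mem_center_iff.mp hxc ⟨u, hPL hu⟩
          exact congrArg Subtype.val this
        rw [hb, Subgroup.mem_bot] at hx
        apply hx1
        exact Subtype.ext (Subtype.ext hx)
      rcases hmin _ hn2 inf_le_left with h | h
      · exact absurd h hne2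
      · intro x hx v hv
        have hv' : v ∈ N ⊓ Subgroup.centralizer ((pp A' p : Subgroup G) : Set G) := by
          rw [h]; exact hv
        exact (Subgroup.mem_centralizer_iff.mp (Subgroup.mem_inf.mp hv').2) x hx
    · have hKn : (Subgroup.centralizer (N : Set G)).Normal := inferInstance
      apply normal_of_AN hA'N
      · intro a ha x hx
        have hx' := Subgroup.mem_inf.mp hx
        exact Subgroup.mem_inf.mpr
          ⟨hKn.conj_mem x hx'.1 a, A'.mul_mem (A'.mul_mem ha hx'.2) (A'.inv_mem ha)⟩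
      · intro v hv x hx
        exact (Subgroup.mem_centralizer_iff.mp (Subgroup.mem_inf.mp hx).1) v hv
  obtain ⟨hA1, hA2, hA3⟩ := key A hA hAN
  obtain ⟨hB1, hB2, hB3⟩ := key B hB hBN
  -- the case where a factor is everything
  by_cases hAtop : A = ⊤
  · have hBtop : B ≠ ⊤ := by
      rcases hproper with h | h
      · exact absurd hAtop h
      · exact h
    obtain ⟨M, hMn, hMtop, hBM⟩ := exists_normal_of_nilpotent (nilpotent_of_eq_top hA hAtop) B hBtop
    exact ⟨M, hMn, hMtop, Or.inr hBM⟩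
  by_cases hBtop : B = ⊤
  · obtain ⟨M, hMn, hMtop, hAM⟩ := exists_normal_of_nilpotent (nilpotent_of_eq_top hB hBtop) A hAtop
    exact ⟨M, hMn, hMtop, Or.inl hAM⟩
  have hAN0 : A ⊓ N = ⊥ := hA1.resolve_right hAtop
  have hBN0 : B ⊓ N = ⊥ := hB1.resolve_right hBtop
  -- the centralizer of `N`
  by_cases hKA : Subgroup.centralizer (N : Set G) ⊓ A = ⊥
  swap
  · haveI := hA3
    apply lift_quot hIH hn A B hA hB hAB _ hKA
    left
    intro htop
    apply hAtop
    rw [eq_top_iff]
    intro g _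
    obtain ⟨a, ha, v, hv, rfl⟩ := map_mk_eq_top htop g
    exact A.mul_mem ha (Subgroup.mem_inf.mp hv).2
  by_cases hKB : Subgroup.centralizer (N : Set G) ⊓ B = ⊥
  swap
  · haveI := hB3
    apply lift_quot hIH hn A B hA hB hAB _ hKB
    right
    intro htop
    apply hBtop
    rw [eq_top_iff]
    intro g _
    obtain ⟨b, hb, v, hv, rfl⟩ := map_mk_eq_top htop g
    exact B.mul_mem hb (Subgroup.mem_inf.mp hv).2
  -- now both Sylow `p`-subgroups are trivial
  exfalso
  have hppB : pp B p = ⊥ := by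
    rw [eq_bot_iff, ← hKB]
    intro x hx
    refine Subgroup.mem_inf.mpr ⟨?_, pp_le hB hx⟩
    rw [Subgroup.mem_centralizer_iff]
    intro v hv
    exact (hB2 x hx v hv).symm
  have e1 := Cfsg.Agent.Lib.Helper15.card_mul_card_inf_of_factorization A B hAB
  have e2 := Cfsg.Agent.Lib.Helper15.card_mul_card_inf_of_factorization A N hAN
  rw [hAN0, Subgroup.card_bot, mul_one] at e2
  rw [e2, mul_assoc] at e1
  have e3 : Nat.card N * Nat.card (A ⊓ B : Subgroup G) = Nat.card B :=
    Nat.eq_of_mul_eq_mul_left Nat.card_pos e1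
  obtain ⟨k, hk⟩ := IsPGroup.exists_card_eq hNp
  have hk0 : k ≠ 0 := by
    rintro rfl
    rw [pow_zero] at hk
    exact hNne (Subgroup.card_eq_one.mp hk)
  have hpB : p ∣ Nat.card B := by
    rw [← e3, hk]
    exact Dvd.dvd.mul_right (dvd_pow_self p hk0) _
  exact pp_ne_bot_of_dvd hB hpB hppB

theorem nc_all (n : ℕ) : NCStatement.{u} n := by
  induction n using Nat.strong_induction_on with
  | _ n ih => exact nc_step n ih

/-- one of two nilpotent factors (not both the whole group) lies in a proper normal subgroup -/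
theorem normal_closure_proper {G : Type u} [Group G] [Finite G] (A B : Subgroup G)
    (hA : Group.IsNilpotent A) (hB : Group.IsNilpotent B)
    (hAB : ∀ g : G, ∃ a ∈ A, ∃ b ∈ B, g = a * b) (hproper : A ≠ ⊤ ∨ B ≠ ⊤) :
    ∃ N : Subgroup G, N.Normal ∧ N ≠ ⊤ ∧ (A ≤ N ∨ B ≤ N) :=
  nc_all (Nat.card G) G rfl A B hA hB hAB hproper

end Cfsg.Agent.Lib.Helper13.KW
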