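import Cfsg.Agent.Lib.Helper13.M22SylCert

/-!
A Sylow `2`-subgroup of `M22` and `M23` inside the stabiliser of an octad through the two fixed
points: definition, order, exponent (helper13, after helper9's `M24Syl2`).
-/

set_option autoImplicit false

namespace Cfsg.Agent.Lib.Helper13.M22Syl

open Cfsg Cfsg.Agent.Lib.Helper21 Cfsg.Agent.Lib.Helper9.M24Coset
open scoped Pointwise

/-- the octad through the two fixed points -/
def oct2 : Finset GolayPt := maskFS 0x800c75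

theorem oct2_mem : oct2 ∈ octads := maskFS_mem_octads_of_chk octChk_o2

theorem mem_oct2_iff (p : GolayPt) : p ∈ oct2 ↔ ((gEquiv p : Fin 24) : ℕ) ∈ o2Fs := by
  unfold oct2
  rw [← posMask_o2Fs, mem_maskFS, testBit_posMask]

/-- the `i`-th point of the octad -/
def qP (i : Fin 8) : GolayPt := ptN (qN i)

theorem qP_inj {i j : Fin 8} (h : qP i = qP j) : i = j :=
  qN_inj i j (ptN_injOn (qN_lt i) (qN_lt j) h)

theorem mem_oct2_iff_exists (p : GolayPt) : p ∈ oct2 ↔ ∃ i : Fin 8, p = qP i := by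
  rw [mem_oct2_iff]
  constructor
  · intro h
    obtain ⟨i, hi⟩ := exists_qN (gEquiv p) h
    refine ⟨i, ?_⟩
    unfold qP
    rw [hi, ptN_gEquiv]
  · rintro ⟨i, rfl⟩
    unfold qP
    rw [gEquiv_ptN_val _ (qN_lt i)]
    exact qN_mem i

theorem qP_mem (i : Fin 8) : qP i ∈ oct2 := (mem_oct2_iff_exists _).2 ⟨i, rfl⟩

theorem qP_zero : qP 0 = ptN 23 := rfl

theorem qP_one : qP 1 = ptN 0 := rfl

/-- the permutation acts on the octad by the packed tuple -/
def Acts2 (g : Equiv.Perm GolayPt) (t : ℕ) : Prop := ∀ i : Fin 8, g (qP i) = qP (dg t i)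

theorem Acts2.mul {g h : Equiv.Perm GolayPt} {t u : ℕ} (hg : Acts2 g t) (hh : Acts2 h u) :
    Acts2 (g * h) (comp8 t u) := by
  intro i
  rw [Equiv.Perm.mul_apply, hh i, hg, comp8, dg_pack8]

theorem acts2_one : Acts2 1 idT := by
  intro i
  rw [dg_idT]
  rfl

theorem Acts2.mem_oct2 {g : Equiv.Perm GolayPt} {t : ℕ} (h : Acts2 g t) {p : GolayPt}
    (hp : p ∈ oct2) : g p ∈ oct2 := by
  obtain ⟨i, rfl⟩ := (mem_oct2_iff_exists p).1 hp
  rw [h i]
  exact qP_mem _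

theorem acts2_idT_iff {g : Equiv.Perm GolayPt} : Acts2 g idT ↔ ∀ p ∈ oct2, g p = p := by
  constructor
  · intro h p hp
    obtain ⟨i, rfl⟩ := (mem_oct2_iff_exists p).1 hp
    rw [h i, dg_idT]
  · intro h i
    rw [dg_idT]
    exact h _ (qP_mem i)

/-- the pointwise stabiliser of the octad -/
def Kg : Subgroup (Equiv.Perm GolayPt) :=
  M24 ⊓ fixingSubgroup (Equiv.Perm GolayPt) (oct2 : Set GolayPt)

theorem mem_Kg {g : Equiv.Perm GolayPt} : g ∈ Kg ↔ g ∈ M24 ∧ ∀ p ∈ oct2, g p = p := by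
  unfold Kg
  rw [Subgroup.mem_inf, mem_fixingSubgroup_iff]
  constructor
  · rintro ⟨h1, h2⟩
    exact ⟨h1, fun p hp => h2 p hp⟩
  · rintro ⟨h1, h2⟩
    exact ⟨h1, fun p hp => h2 p hp⟩

theorem card_Kg : Nat.card Kg = 16 := (octad_fixing oct2 oct2_mem).1

theorem sq_Kg {g : Equiv.Perm GolayPt} (hg : g ∈ Kg) : g * g = 1 :=
  (octad_fixing oct2 oct2_mem).2 g hg

theorem comm_Kg {a b : Equiv.Perm GolayPt} (ha : a ∈ Kg) (hb : b ∈ Kg) : a * b = b * a := by
  have h1 := sq_Kg ha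
  have h2 := sq_Kg hb
  have h3 := sq_Kg (Kg.mul_mem ha hb)
  have ia : a⁻¹ = a := inv_eq_of_mul_eq_one_left h1
  have ib : b⁻¹ = b := inv_eq_of_mul_eq_one_left h2
  have : a * b = (a * b)⁻¹ := (inv_eq_of_mul_eq_one_left h3).symm
  rw [this, mul_inv_rev, ia, ib]

/-- the submonoid of the elements of `M24` inducing one of the listed tuples on the octad -/
def syl22M : Submonoid (Equiv.Perm GolayPt) where
  carrier := {g | g ∈ M24 ∧ ∃ t ∈ D8L, Acts2 g t}
  mul_mem' := by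
    rintro g h ⟨hg, t, ht, hgt⟩ ⟨hh, u, hu, hhu⟩
    exact ⟨M24.mul_mem hg hh, comp8 t u, comp8_mem_D8L t ht u hu, hgt.mul hhu⟩
  one_mem' := ⟨M24.one_mem, idT, idT_mem_D8L, acts2_one⟩

/-- the standard Sylow `2`-subgroup of `M22` and of `M23` -/
def syl22 : Subgroup (Equiv.Perm GolayPt) :=
  { syl22M with
    inv_mem' := by
      intro g hg
      obtain ⟨n, hn⟩ : ∃ n : ℕ, g ^ n = g⁻¹ :=
        (Submonoid.mem_powers_iff _ _).1 ((isOfFinOrder_of_finite g).mem_powers_iff_mem_zpowers.2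
          (Subgroup.inv_mem _ (Subgroup.mem_zpowers g)))
      rw [← hn]
      exact syl22M.pow_mem hg n }

theorem mem_syl22 {g : Equiv.Perm GolayPt} : g ∈ syl22 ↔ g ∈ M24 ∧ ∃ t ∈ D8L, Acts2 g t :=
  Iff.rfl

theorem syl22_le : syl22 ≤ M24 := fun _ hg => hg.1

theorem Kg_le_syl22 : Kg ≤ syl22 := fun g hg =>
  ⟨(mem_Kg.1 hg).1, idT, idT_mem_D8L, acts2_idT_iff.2 (mem_Kg.1 hg).2⟩

theorem syl22_fix23 {g : Equiv.Perm GolayPt} (hg : g ∈ syl22) : g (ptN 23) = ptN 23 := by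
  obtain ⟨_, t, ht, hgt⟩ := hg
  have := hgt 0
  rw [(D8L_fix t ht).1] at this
  exact this

theorem syl22_fix0 {g : Equiv.Perm GolayPt} (hg : g ∈ syl22) : g (ptN 0) = ptN 0 := by
  obtain ⟨_, t, ht, hgt⟩ := hg
  have := hgt 1
  rw [(D8L_fix t ht).2] at this
  exact this

theorem acts2_tp {e : (ℕ × ℕ) × ℕ} (he : e ∈ r8) : Acts2 (tp e.1) e.2 := by
  intro i
  unfold qP
  rw [tp_ptN (r8_valid e he) _ (qN_lt i), r8_acts e he i]

theorem tp_r8_mem {e : (ℕ × ℕ) × ℕ} (he : e ∈ r8) : tp e.1 ∈ syl22 :=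
  ⟨tp_mem (r8_valid e he), e.2, List.mem_map.2 ⟨e, he, rfl⟩, acts2_tp he⟩

theorem exists_real2 {t : ℕ} (ht : t ∈ D8L) : ∃ g ∈ syl22, Acts2 g t := by
  obtain ⟨e, he, rfl⟩ := List.mem_map.1 ht
  exact ⟨tp e.1, tp_r8_mem he, acts2_tp he⟩

theorem pow8_eq_one {g : Equiv.Perm GolayPt} (hg : g ∈ syl22) : g ^ 8 = 1 := by
  obtain ⟨hg, t, ht, hgt⟩ := hg
  have h2 := hgt.mul hgt
  have h4 := h2.mul h2
  rw [pow4_D8L t ht] at h4
  have hK : (g * g * (g * g)) ∈ Kg := by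
    rw [mem_Kg]
    have hg2 := M24.mul_mem hg hg
    exact ⟨M24.mul_mem hg2 hg2, acts2_idT_iff.1 h4⟩
  have := sq_Kg hK
  have e : g ^ 8 = g * g * (g * g) * (g * g * (g * g)) := by
    simp only [pow_succ, pow_zero, one_mul, mul_assoc]
  rw [e, this]

theorem D8L_get_inj (i j : Fin D8L.length)
    (h : ∀ m : Fin 8, dg (D8L.get i) m = dg (D8L.get j) m) : i = j := by
  have h1 := D8L_inj_of_dg _ (List.get_mem _ _) _ (List.get_mem _ _) h
  exact (List.Nodup.get_inj_iff D8L_nodup).1 h1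

theorem card_syl22_ge : 128 ≤ Nat.card syl22 := by
  have hK : Nat.card ↥Kg = 16 := card_Kg
  have hreal : ∀ i : Fin D8L.length, ∃ g ∈ syl22, Acts2 g (D8L.get i) := fun i =>
    exists_real2 (List.get_mem _ _)
  choose r hr hra using hreal
  have hkfix : ∀ k : ↥Kg, ∀ p ∈ oct2, (k : Equiv.Perm GolayPt) p = p := fun k p hp =>
    (mem_Kg.1 k.2).2 p hp
  let f : Fin D8L.length × ↥Kg → ↥syl22 := fun x =>
    ⟨r x.1 * (x.2 : Equiv.Perm GolayPt), syl22.mul_mem (hr x.1) (Kg_le_syl22 x.2.2)⟩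
  have hf : Function.Injective f := by
    rintro ⟨i, k⟩ ⟨j, k'⟩ h
    have h' : r i * (k : Equiv.Perm GolayPt) = r j * (k' : Equiv.Perm GolayPt) :=
      congrArg Subtype.val h
    have hij : i = j := by
      apply D8L_get_inj
      intro m
      apply qP_inj
      have e := congrArg (fun g : Equiv.Perm GolayPt => g (qP m)) h'
      simp only [Equiv.Perm.mul_apply] at e
      rw [hkfix k _ (qP_mem m), hkfix k' _ (qP_mem m), hra i m, hra j m] at e
      exact e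
    subst hij
    have := mul_left_cancel h'
    rw [Prod.mk.injEq]
    exact ⟨rfl, Subtype.ext this⟩
  have := Nat.card_le_card_of_injective f hf
  rw [Nat.card_prod, Nat.card_eq_fintype_card, Fintype.card_fin, D8L_length, hK] at this
  exact this

/-! ### enumeration of the pointwise stabiliser -/

theorem tp_kL_mem {p : ℕ × ℕ} (hp : p ∈ kL) : tp p ∈ Kg := by
  rw [mem_Kg]
  refine ⟨tp_mem (kL_valid p hp), fun x hx => ?_⟩
  obtain ⟨i, rfl⟩ := (mem_oct2_iff_exists x).1 hx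
  unfold qP
  rw [tp_ptN (kL_valid p hp) _ (qN_lt i), kL_fix p hp i]

theorem ptN_one_not_mem : ptN 1 ∉ oct2 := by
  rw [mem_oct2_iff, gEquiv_ptN_val 1 (by norm_num)]
  exact one_not_mem

theorem eq_of_Kg {g : Equiv.Perm GolayPt} (hg : g ∈ Kg) : g = 1 ∨ ∃ p ∈ kL, g = tp p := by
  have hout : g (ptN 1) ∉ oct2 := by
    intro h
    have h1 := (mem_Kg.1 hg).2 _ h
    have h2 := g.injective h1
    rw [h2] at h
    exact ptN_one_not_mem h
  have hn : ((gEquiv (g (ptN 1)) : Fin 24) : ℕ) ∉ o2Fs := fun h => hout ((mem_oct2_iff _).2 h)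
  rcases kL_one (gEquiv (g (ptN 1))) hn with h1 | ⟨p, hp, h1⟩
  · left
    apply eq_one_of_fix_octad_pt oct2 oct2_mem (ptN 1) ptN_one_not_mem g (mem_Kg.1 hg).1
      (mem_Kg.1 hg).2
    rw [← ptN_gEquiv (g (ptN 1)), h1]
  · right
    refine ⟨p, hp, ?_⟩
    have hpK := tp_kL_mem hp
    have hq : (tp p)⁻¹ * g ∈ Kg := Kg.mul_mem (Kg.inv_mem hpK) hg
    have h2 : (tp p)⁻¹ * g = 1 := by
      apply eq_one_of_fix_octad_pt oct2 oct2_mem (ptN 1) ptN_one_not_mem _ (mem_Kg.1 hq).1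
        (mem_Kg.1 hq).2
      rw [Equiv.Perm.mul_apply, ← ptN_gEquiv (g (ptN 1)), ← h1,
        ← tp_ptN (kL_valid p hp) 1 (by norm_num), perm_inv_apply]
    have : g = tp p * ((tp p)⁻¹ * g) := by group
    rw [this, h2, mul_one]

end Cfsg.Agent.Lib.Helper13.M22Syl
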