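import Cfsg.Agent.Lib.Helper13.M22SylA

/-!
Elements of odd order normalising the standard Sylow `2`-subgroup of `M22`/`M23` are trivial
(helper13, after helper9's `M24Syl2`).
-/

set_option autoImplicit false

namespace Cfsg.Agent.Lib.Helper13.M22Syl

open Cfsg Cfsg.Agent.Lib.Helper21 Cfsg.Agent.Lib.Helper9.M24Coset
open scoped Pointwise

theorem normalizer_preserves2 (h : Equiv.Perm GolayPt)
    (hn : ∀ g ∈ M24, (g ∈ syl22 ↔ h * g * h⁻¹ ∈ syl22)) (hh : h ∈ M24) :
    ∀ p ∈ oct2, h p ∈ oct2 := by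
  intro p hp
  by_contra hout
  have hmap : ∀ q ∈ oct2ᶜ, h⁻¹ q ∈ oct2 := by
    intro q hq
    rw [Finset.mem_compl] at hq
    obtain ⟨k, hk, hkfix, hkq⟩ := octad_fix_trans oct2 oct2_mem (h p) q hout hq
    have hks : k ∈ syl22 := Kg_le_syl22 (mem_Kg.2 ⟨hk, hkfix⟩)
    have hg : h⁻¹ * k * h ∈ syl22 := by
      rw [hn _ (M24.mul_mem (M24.mul_mem (M24.inv_mem hh) hk) hh)]
      have : h * (h⁻¹ * k * h) * h⁻¹ = k := by group
      rw [this]
      exact hks
    obtain ⟨_, t, _, hact⟩ := hg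
    have := hact.mem_oct2 hp
    rwa [Equiv.Perm.mul_apply, Equiv.Perm.mul_apply, hkq] at this
  have hcard := Finset.card_le_card_of_injOn (fun q => h⁻¹ q) hmap
    (fun a _ b _ e => (h⁻¹).injective e)
  rw [Finset.card_compl, octad_card oct2 oct2_mem, card_golayPt'] at hcard
  omega

/-- class functions on the eight positions -/
def cA (i : Fin 8) : Bool := decide (6 ≤ i.val)
def cC (i : Fin 8) : Bool := decide (i.val = 3 ∨ i.val = 5)
def cD (i : Fin 8) : Bool := decide (i.val = 4 ∨ i.val = 5 ∨ i.val = 7)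

theorem fact1 : ∀ i : Fin 8, (∀ t ∈ D8L, dg t i = i) ↔ i.val < 2 := by decide +kernel

theorem fact2 : ∀ i j : Fin 8, 2 ≤ i.val → 2 ≤ j.val →
    (cA i = cA j ↔ ∃ t ∈ D8L, dg t i = j) := by decide +kernel

theorem fact3 : ∀ i j : Fin 8, 2 ≤ i.val → 2 ≤ j.val → cA i = false → cA j = false →
    (cC i = cC j ↔ ∀ t ∈ D8L, dg t i = i → dg t j = j) := by decide +kernel

theorem fact3' : ∀ i : Fin 8, cA i = true → cC i = false := by decide

theorem fact4 : ∀ i j : Fin 8, 2 ≤ i.val → 2 ≤ j.val → cA i = cA j → cC i = cC j →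
    cD i = cD j → i = j := by decide

theorem fact5 : ∀ i : Fin 8, i.val < 2 → i = 0 ∨ i = 1 := by decide

theorem eq_one_of_odd_of_normalizes2 (h : Equiv.Perm GolayPt) (hh : h ∈ M24)
    (h23 : h (ptN 23) = ptN 23)
    (hn : ∀ g ∈ M24, (g ∈ syl22 ↔ h * g * h⁻¹ ∈ syl22)) (m : ℕ) (hm : Odd m) (hpow : h ^ m = 1) :
    h = 1 := by
  have hpres := normalizer_preserves2 h hn hh
  have hex : ∀ i : Fin 8, ∃ j : Fin 8, h (qP i) = qP j := fun i =>
    (mem_oct2_iff_exists _).1 (hpres _ (qP_mem i))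
  choose σ hσ using hex
  have hinj : Function.Injective σ := by
    intro i j e
    apply qP_inj
    apply h.injective
    rw [hσ, hσ, e]
  have hiter : ∀ n i, (h ^ n) (qP i) = qP (σ^[n] i) := by
    intro n
    induction n with
    | zero =>
      intro i
      rfl
    | succ n ih =>
      intro i
      rw [pow_succ', Equiv.Perm.mul_apply, ih, hσ, Function.iterate_succ_apply']
  have hσm : ∀ i, σ^[m] i = i := by
    intro i
    apply qP_inj
    rw [← hiter, hpow]
    rfl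
  have hN : ∀ t ∈ D8L, ∃ v ∈ D8L, ∀ i, dg v (σ i) = σ (dg t i) := by
    intro t ht
    obtain ⟨g, hg, hgt⟩ := exists_real2 ht
    obtain ⟨_, v, hv, hgv⟩ := (hn g hg.1).1 hg
    refine ⟨v, hv, fun i => ?_⟩
    apply qP_inj
    rw [← hgv (σ i), ← hσ i, Equiv.Perm.mul_apply, Equiv.Perm.mul_apply, perm_inv_apply,
      hgt i, hσ]
  have hN' : ∀ v ∈ D8L, ∃ t ∈ D8L, ∀ i, dg v (σ i) = σ (dg t i) := by
    intro v hv
    obtain ⟨g, hg, hgv⟩ := exists_real2 hv
    have hg' : h⁻¹ * g * h ∈ syl22 := by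
      rw [hn _ (M24.mul_mem (M24.mul_mem (M24.inv_mem hh) hg.1) hh)]
      have : h * (h⁻¹ * g * h) * h⁻¹ = g := by group
      rw [this]
      exact hg
    obtain ⟨_, t, ht, hgt⟩ := hg'
    refine ⟨t, ht, fun i => ?_⟩
    apply qP_inj
    have e1 : h ((h⁻¹ * g * h) (qP i)) = g (h (qP i)) := by
      rw [Equiv.Perm.mul_apply, Equiv.Perm.mul_apply, perm_apply_inv]
    rw [hgt i, hσ, hσ, hgv] at e1
    exact e1.symm
  -- the three relations are preserved
  have hF : ∀ i, (∀ t ∈ D8L, dg t i = i) ↔ (∀ t ∈ D8L, dg t (σ i) = σ i) := by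
    intro i
    constructor
    · intro hF v hv
      obtain ⟨t, ht, e⟩ := hN' v hv
      rw [e i, hF t ht]
    · intro hF t ht
      obtain ⟨v, hv, e⟩ := hN t ht
      have := hF v hv
      rw [e i] at this
      exact hinj this
  have hRo : ∀ i j, (∃ t ∈ D8L, dg t i = j) ↔ (∃ t ∈ D8L, dg t (σ i) = σ j) := by
    intro i j
    constructor
    · rintro ⟨t, ht, e⟩
      obtain ⟨v, hv, e'⟩ := hN t ht
      exact ⟨v, hv, by rw [e' i, e]⟩
    · rintro ⟨v, hv, e⟩
      obtain ⟨t, ht, e'⟩ := hN' v hv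
      refine ⟨t, ht, hinj ?_⟩
      rw [← e' i, e]
  have hR1 : ∀ i j, (∀ t ∈ D8L, dg t i = i → dg t j = j) ↔
      (∀ t ∈ D8L, dg t (σ i) = σ i → dg t (σ j) = σ j) := by
    intro i j
    constructor
    · intro hR v hv hvi
      obtain ⟨t, ht, e⟩ := hN' v hv
      have hti : dg t i = i := hinj (by rw [← e i, hvi])
      rw [e j, hR t ht hti]
    · intro hR t ht hti
      obtain ⟨v, hv, e⟩ := hN t ht
      have hvi : dg v (σ i) = σ i := by rw [e i, hti]
      have := hR v hv hvi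
      rw [e j] at this
      exact hinj this
  -- the two fixed positions
  have hA : ∀ i : Fin 8, 2 ≤ i.val ↔ 2 ≤ (σ i).val := by
    intro i
    have h1 := fact1 i
    have h2 := fact1 (σ i)
    have h3 := hF i
    constructor
    · intro hi
      by_contra hlt
      push Not at hlt
      have := h1.1 (h3.2 (h2.2 hlt))
      omega
    · intro hi
      by_contra hlt
      push Not at hlt
      have := h2.1 (h3.1 (h1.2 hlt))
      omega
  have h0 : σ 0 = 0 := by
    apply qP_inj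
    rw [← hσ, qP_zero, h23]
  have h1 : σ 1 = 1 := by
    have hlt : (σ 1).val < 2 := by
      by_contra hge
      push Not at hge
      have := (hA 1).2 hge
      norm_num at this
    rcases fact5 _ hlt with h | h
    · exact absurd (hinj (h.trans h0.symm)) (by decide)
    · exact h
  have L1 : ∀ i : Fin 8, 2 ≤ i.val → cA (σ i) = cA i := by
    refine Cfsg.Agent.Lib.Helper9.M24Coset.odd_fix (fun i : Fin 8 => 2 ≤ i.val) σ cA m hm
      (fun i hi => (hA i).1 hi) (fun i _ => hσm i) (fun i j hi hj => ?_)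
    rw [fact2 i j hi hj, fact2 _ _ ((hA i).1 hi) ((hA j).1 hj)]
    exact hRo i j
  have L2 : ∀ i : Fin 8, 2 ≤ i.val → cC (σ i) = cC i := by
    intro i hi
    by_cases hc : cA i = true
    · rw [fact3' i hc, fact3' (σ i) (by rw [L1 i hi]; exact hc)]
    · have hc' : cA i = false := by simpa using hc
      refine Cfsg.Agent.Lib.Helper9.M24Coset.odd_fix (fun j : Fin 8 => 2 ≤ j.val ∧ cA j = false)
        σ cC m hm (fun j hj => ⟨(hA j).1 hj.1, by rw [L1 j hj.1]; exact hj.2⟩)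
        (fun j _ => hσm j) (fun j k hj hk => ?_) i ⟨hi, hc'⟩
      rw [fact3 j k hj.1 hk.1 hj.2 hk.2, fact3 _ _ ((hA j).1 hj.1) ((hA k).1 hk.1)
        (by rw [L1 j hj.1]; exact hj.2) (by rw [L1 k hk.1]; exact hk.2)]
      exact hR1 j k
  have L3 : ∀ i : Fin 8, 2 ≤ i.val → cD (σ i) = cD i := by
    intro i hi
    refine Cfsg.Agent.Lib.Helper9.M24Coset.odd_fix
      (fun j : Fin 8 => 2 ≤ j.val ∧ cA j = cA i ∧ cC j = cC i) σ cD m hm
      (fun j hj => ⟨(hA j).1 hj.1, by rw [L1 j hj.1]; exact hj.2.1, by rw [L2 j hj.1]; exact hj.2.2⟩)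
      (fun j _ => hσm j) (fun j k hj hk => ?_) i ⟨hi, rfl, rfl⟩
    have e1 : cA j = cA k := hj.2.1.trans hk.2.1.symm
    have e2 : cC j = cC k := hj.2.2.trans hk.2.2.symm
    have e1' : cA (σ j) = cA (σ k) := by rw [L1 j hj.1, L1 k hk.1]; exact e1
    have e2' : cC (σ j) = cC (σ k) := by rw [L2 j hj.1, L2 k hk.1]; exact e2
    constructor
    · intro e
      have := fact4 j k hj.1 hk.1 e1 e2 e
      rw [this]
    · intro e
      have := fact4 _ _ ((hA j).1 hj.1) ((hA k).1 hk.1) e1' e2' e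
      rw [hinj this]
  have hid : ∀ i, σ i = i := by
    intro i
    by_cases hi : 2 ≤ i.val
    · exact fact4 _ _ ((hA i).1 hi) hi (L1 i hi) (L2 i hi) (L3 i hi)
    · push Not at hi
      rcases fact5 i hi with rfl | rfl
      · exact h0
      · exact h1
  have hfix : ∀ p ∈ oct2, h p = p := by
    intro p hp
    obtain ⟨i, rfl⟩ := (mem_oct2_iff_exists p).1 hp
    rw [hσ, hid]
  have hK : h ∈ Kg := mem_Kg.2 ⟨hh, hfix⟩
  have hsq : h * h = 1 := sq_Kg hK
  obtain ⟨k, rfl⟩ := hm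
  rw [pow_succ, pow_mul, pow_two, hsq, one_pow, one_mul] at hpow
  exact hpow

end Cfsg.Agent.Lib.Helper13.M22Syl
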