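import Cfsg.Agent.Lib.Helper13.M22SylB
import Cfsg.Agent.Lib.Helper9.FusSimple

/-!
The `2`-fusion system of a group between `M22` and `M23` is simple (helper13): the standard
Sylow `2`-subgroup is self-normalising and has no proper nontrivial strongly closed subgroup.
-/

set_option autoImplicit false

namespace Cfsg.Agent.Lib.Helper13.M22Syl

open Cfsg Cfsg.Agent.Lib.Helper21 Cfsg.Agent.Lib.Helper9.M24Coset Cfsg.Agent.Lib.Helper29
  Cfsg.Agent.Lib.Helper9.FusSimple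
open scoped Pointwise

/-- the ambient groups: between the two-point stabiliser and the point stabiliser -/
structure Amb (H : Subgroup (Equiv.Perm GolayPt)) : Prop where
  le : H ≤ M24
  syl : syl22 ≤ H
  fix : ∀ h ∈ H, h (ptN 23) = ptN 23
  m22 : ∀ g ∈ M24, g (ptN 23) = ptN 23 → g (ptN 0) = ptN 0 → g ∈ H
  fac : (Nat.card H).factorization 2 = 7

variable {H : Subgroup (Equiv.Perm GolayPt)}

/-- the standard Sylow subgroup inside the ambient group -/
def sylH (H : Subgroup (Equiv.Perm GolayPt)) : Subgroup ↥H := syl22.subgroupOf H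

theorem mem_sylH {x : ↥H} : x ∈ sylH H ↔ (x : Equiv.Perm GolayPt) ∈ syl22 :=
  Subgroup.mem_subgroupOf

theorem card_sylH (hA : Amb H) : Nat.card (sylH H) = Nat.card syl22 :=
  Nat.card_congr (Subgroup.subgroupOfEquivOfLe hA.syl).toEquiv

theorem isPGroup_sylH : IsPGroup 2 (sylH H) := by
  intro x
  refine ⟨3, ?_⟩
  apply Subtype.ext
  apply Subtype.ext
  have := pow8_eq_one (mem_sylH.1 x.2)
  simpa using this

theorem sylH_sylow (hA : Amb H) : ∃ Q : Sylow 2 ↥H, (Q : Subgroup ↥H) = sylH H := by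
  have : Fact (Nat.Prime 2) := ⟨Nat.prime_two⟩
  obtain ⟨Q, hQ⟩ := (isPGroup_sylH (H := H)).exists_le_sylow
  refine ⟨Q, ?_⟩
  have hcard : Nat.card Q = 128 := by
    rw [Sylow.card_eq_multiplicity, hA.fac]
    norm_num
  symm
  apply Subgroup.eq_of_le_of_card_ge hQ
  rw [hcard, card_sylH hA]
  exact card_syl22_ge

theorem normalizer_sylH (hA : Amb H) :
    Subgroup.normalizer ((sylH H : Subgroup ↥H) : Set ↥H) = sylH H := by
  have : Fact (Nat.Prime 2) := ⟨Nat.prime_two⟩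
  obtain ⟨Q, hQ⟩ := sylH_sylow hA
  have hp : IsPGroup 2 ↥(Subgroup.normalizer ((sylH H : Subgroup ↥H) : Set ↥H)) := by
    rintro ⟨y, hy⟩
    obtain ⟨a, m, hm, hord⟩ := Nat.exists_eq_two_pow_mul_odd (orderOf_pos y).ne'
    refine ⟨a, ?_⟩
    apply Subtype.ext
    show y ^ 2 ^ a = 1
    have hyn : y ^ 2 ^ a ∈ Subgroup.normalizer ((sylH H : Subgroup ↥H) : Set ↥H) :=
      Subgroup.pow_mem _ hy _
    rw [Subgroup.mem_set_normalizer_iff] at hyn
    apply Subtype.ext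
    have hyH : ((y ^ 2 ^ a : ↥H) : Equiv.Perm GolayPt) ∈ H := (y ^ 2 ^ a).2
    apply eq_one_of_odd_of_normalizes2 _ (hA.le hyH) (hA.fix _ hyH) ?_ m hm ?_
    · intro g hg
      constructor
      · intro hgs
        have := (hyn ⟨g, hA.syl hgs⟩).1 (mem_sylH.2 hgs)
        exact mem_sylH.1 this
      · intro hgs
        have hgH : g ∈ H := by
          have h1 := hA.syl hgs
          have h2 : g = ((y ^ 2 ^ a : ↥H) : Equiv.Perm GolayPt)⁻¹ *
              (((y ^ 2 ^ a : ↥H) : Equiv.Perm GolayPt) * g *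
                ((y ^ 2 ^ a : ↥H) : Equiv.Perm GolayPt)⁻¹) *
              ((y ^ 2 ^ a : ↥H) : Equiv.Perm GolayPt) := by group
          rw [h2]
          exact H.mul_mem (H.mul_mem (H.inv_mem hyH) h1) hyH
        have := (hyn ⟨g, hgH⟩).2 (mem_sylH.2 hgs)
        exact mem_sylH.1 this
    · have : (y ^ 2 ^ a) ^ m = 1 := by
        rw [← pow_mul, ← hord, pow_orderOf_eq_one]
      have h2 := congrArg (Subtype.val) this
      simpa using h2
  rw [← hQ]
  have := Q.is_maximal' (Q := Subgroup.normalizer ((sylH H : Subgroup ↥H) : Set ↥H)) hp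
    (by rw [hQ]; exact Subgroup.le_normalizer)
  rw [hQ] at this ⊢
  exact this

theorem selfNorm_sylH (hA : Amb H) : SelfNorm (sylH H) := by
  intro g hg hg'
  rw [← normalizer_sylH hA, Subgroup.mem_set_normalizer_iff]
  intro z
  constructor
  · intro hz
    exact hg z hz
  · intro hz
    have := hg' _ hz
    have e : g⁻¹ * (g * z * g⁻¹) * g = z := by group
    rw [e] at this
    exact this

/-! ### strongly closed subgroups -/

theorem tp_mem_H (hA : Amb H) {c : ℕ × ℕ} (hv : ValidTab c) (h23 : tabGet c.1 23 = 23)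
    (h0 : tabGet c.1 0 = 0) : tp c ∈ H := by
  apply hA.m22 _ (tp_mem hv)
  · rw [tp_ptN hv 23 (by norm_num), h23]
  · rw [tp_ptN hv 0 (by norm_num), h0]

/-- an element acting on the octad by the inverse permutation -/
theorem inv_mem_oct2 {x : Equiv.Perm GolayPt} (hx : ∀ p ∈ oct2, x p ∈ oct2) :
    ∀ p ∈ oct2, x⁻¹ p ∈ oct2 := by
  intro p hp
  have hsub : Finset.image (fun q => x q) oct2 ⊆ oct2 := by
    intro q hq
    obtain ⟨r, hr, rfl⟩ := Finset.mem_image.1 hq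
    exact hx r hr
  have heq : Finset.image (fun q => x q) oct2 = oct2 :=
    Finset.eq_of_subset_of_card_le hsub
      (by rw [Finset.card_image_of_injective _ x.injective])
  rw [← heq] at hp
  obtain ⟨r, hr, rfl⟩ := Finset.mem_image.1 hp
  rw [perm_inv_apply]
  exact hr

theorem noSC_sylH (hA : Amb H) : NoSC (sylH H) := by
  intro T hT hne hcl
  have hnorm : ∀ x ∈ T, ∀ s ∈ sylH H, s * x * s⁻¹ ∈ T := fun x hx s hs =>
    hcl x hx s ((sylH H).mul_mem ((sylH H).mul_mem hs (hT hx)) ((sylH H).inv_mem hs))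
  have hz0v : ValidTab z0T := kL_valid _ z0T_mem
  have hz0K : tp z0T ∈ Kg := tp_kL_mem z0T_mem
  have hz0H : tp z0T ∈ H := hA.syl (Kg_le_syl22 hz0K)
  -- nontrivial elements of `T` fixing the octad pointwise give the base involution
  have stepK : ∀ y : ↥H, y ∈ T → (y : Equiv.Perm GolayPt) ∈ Kg → y ≠ 1 →
      (⟨tp z0T, hz0H⟩ : ↥H) ∈ T := by
    intro y hy hyK hy1
    rcases eq_of_Kg hyK with h1 | ⟨k, hk, h1⟩
    · exact absurd (Subtype.ext h1) hy1
    · obtain ⟨e, he, rfl⟩ := cK_all k hk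
      obtain ⟨hv, h23, h0, hrel⟩ := cK_ok e he
      have hcH : tp e.1 ∈ H := tp_mem_H hA hv h23 h0
      have hmul : tp e.1 * tp z0T = tp e.2 * tp e.1 :=
        tp_mul_eq hv hz0v (kL_valid _ hk) hv hrel
      have hconj : (⟨tp e.1, hcH⟩ : ↥H)⁻¹ * y * (⟨tp e.1, hcH⟩ : ↥H)⁻¹⁻¹ = ⟨tp z0T, hz0H⟩ := by
        apply Subtype.ext
        show (tp e.1)⁻¹ * (y : Equiv.Perm GolayPt) * ((tp e.1)⁻¹)⁻¹ = tp z0T
        rw [h1, inv_inv, mul_assoc, ← hmul, ← mul_assoc, inv_mul_cancel, one_mul]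
      have := hcl y hy (⟨tp e.1, hcH⟩ : ↥H)⁻¹
      rw [hconj] at this
      exact this (mem_sylH.2 (Kg_le_syl22 hz0K))
  -- the base involution lies in `T`
  have hz0T : (⟨tp z0T, hz0H⟩ : ↥H) ∈ T := by
    obtain ⟨⟨x, hx⟩, hx1⟩ := (Subgroup.ne_bot_iff_exists_ne_one).1 hne
    have hx1' : x ≠ 1 := fun h => hx1 (Subtype.ext h)
    obtain ⟨hxM, t, ht, hxt⟩ := mem_sylH.1 (hT hx)
    by_cases htid : t = idT
    · subst htid
      exact stepK x hx (mem_Kg.2 ⟨hxM, acts2_idT_iff.1 hxt⟩) hx1'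
    · obtain ⟨e, he, rfl⟩ := List.mem_map.1 ht
      obtain ⟨k, hk, i, hik⟩ := faith_ok e he htid
      have hkK := tp_kL_mem hk
      have hkH : tp k ∈ H := hA.syl (Kg_le_syl22 hkK)
      have hkS : (⟨tp k, hkH⟩ : ↥H) ∈ sylH H := mem_sylH.2 (Kg_le_syl22 hkK)
      -- the commutator
      have hyT : x * (⟨tp k, hkH⟩ * x * (⟨tp k, hkH⟩ : ↥H)⁻¹)⁻¹ ∈ T :=
        T.mul_mem hx (T.inv_mem (hnorm x hx _ hkS))
      have hxo : ∀ p ∈ oct2, (x : Equiv.Perm GolayPt) p ∈ oct2 := fun p hp => hxt.mem_oct2 hp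
      have hxo' := inv_mem_oct2 hxo
      have hkfix := (mem_Kg.1 hkK).2
      have hkfix' : ∀ p ∈ oct2, (tp k)⁻¹ p = p := fun p hp => by
        have := hkfix p hp
        conv_lhs => rw [← this]
        rw [perm_inv_apply]
      have hval : ((x * (⟨tp k, hkH⟩ * x * (⟨tp k, hkH⟩ : ↥H)⁻¹)⁻¹ : ↥H) : Equiv.Perm GolayPt) =
          (x : Equiv.Perm GolayPt) * (tp k * (x : Equiv.Perm GolayPt)⁻¹ * (tp k)⁻¹) := by
        show (x : Equiv.Perm GolayPt) * (tp k * (x : Equiv.Perm GolayPt) * (tp k)⁻¹)⁻¹ = _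
        group
      have hyK : ((x * (⟨tp k, hkH⟩ * x * (⟨tp k, hkH⟩ : ↥H)⁻¹)⁻¹ : ↥H) : Equiv.Perm GolayPt) ∈
          Kg := by
        rw [hval, mem_Kg]
        refine ⟨M24.mul_mem hxM (M24.mul_mem (M24.mul_mem (mem_Kg.1 hkK).1 (M24.inv_mem hxM))
          (M24.inv_mem (mem_Kg.1 hkK).1)), fun p hp => ?_⟩
        rw [Equiv.Perm.mul_apply, Equiv.Perm.mul_apply, Equiv.Perm.mul_apply, hkfix' p hp,
          hkfix _ (hxo' p hp), perm_apply_inv]
      apply stepK _ hyT hyK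
      -- the commutator is nontrivial
      intro h1
      have h2 := congrArg Subtype.val h1
      rw [hval] at h2
      have hcomm : (x : Equiv.Perm GolayPt) * tp k = tp k * (x : Equiv.Perm GolayPt) := by
        have h3 : (x : Equiv.Perm GolayPt) * tp k =
            ((x : Equiv.Perm GolayPt) * (tp k * (x : Equiv.Perm GolayPt)⁻¹ * (tp k)⁻¹)) *
              (tp k * (x : Equiv.Perm GolayPt)) := by group
        rw [h3, h2]
        exact one_mul _
      -- decompose `x` through the realiser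
      have hrS := tp_r8_mem he
      have hk'K : (x : Equiv.Perm GolayPt) * (tp e.1)⁻¹ ∈ Kg := by
        rw [mem_Kg]
        refine ⟨M24.mul_mem hxM (M24.inv_mem hrS.1), fun p hp => ?_⟩
        obtain ⟨j, rfl⟩ := (mem_oct2_iff_exists p).1 hp
        have hr := acts2_tp he
        -- the realiser and `x` act in the same way
        have hsame : ∀ q ∈ oct2, (x : Equiv.Perm GolayPt) q = tp e.1 q := by
          intro q hq
          obtain ⟨l, rfl⟩ := (mem_oct2_iff_exists q).1 hq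
          rw [hxt l, hr l]
        have hro : ∀ p ∈ oct2, tp e.1 p ∈ oct2 := fun p hp => hr.mem_oct2 hp
        rw [Equiv.Perm.mul_apply, hsame _ (inv_mem_oct2 hro _ (qP_mem j)), perm_apply_inv]
      have hcomm2 : tp e.1 * tp k = tp k * tp e.1 := by
        have hab := comm_Kg hk'K hkK
        have h4 : tp e.1 * tp k =
            ((x : Equiv.Perm GolayPt) * (tp e.1)⁻¹)⁻¹ * ((x : Equiv.Perm GolayPt) * tp k) := by
          group
        have h5 : tp k * tp e.1 = ((x : Equiv.Perm GolayPt) * (tp e.1)⁻¹)⁻¹ *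
            (((x : Equiv.Perm GolayPt) * (tp e.1)⁻¹) * tp k * tp e.1) := by group
        rw [h4, h5, hcomm, hab]
        group
      apply hik
      have hv := r8_valid e he
      have hkv := kL_valid k hk
      have h6 := congrArg (fun g : Equiv.Perm GolayPt => g (ptN i)) hcomm2
      simp only [Equiv.Perm.mul_apply] at h6
      rw [tp_ptN hkv _ i.isLt, tp_ptN hv _ i.isLt, tp_ptN hv _ (tabGet_lt hkv _ i.isLt),
        tp_ptN hkv _ (tabGet_lt hv _ i.isLt)] at h6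
      exact ptN_injOn (tabGet_lt hv _ (tabGet_lt hkv _ i.isLt))
        (tabGet_lt hkv _ (tabGet_lt hv _ i.isLt)) h6
  -- all conjugates of the base involution inside the Sylow subgroup lie in `T`
  have hconjT : ∀ c k : ℕ × ℕ, ValidTab c → tabGet c.1 23 = 23 → tabGet c.1 0 = 0 → ValidTab k →
      (∀ i : Fin 24, tabGet c.1 (tabGet z0T.1 i) = tabGet k.1 (tabGet c.1 i)) →
      ∀ hkH : tp k ∈ H, tp k ∈ syl22 → (⟨tp k, hkH⟩ : ↥H) ∈ T := by
    intro c k hv h23 h0 hkv hrel hkH hkS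
    have hcH : tp c ∈ H := tp_mem_H hA hv h23 h0
    have hmul : tp c * tp z0T = tp k * tp c := tp_mul_eq hv hz0v hkv hv hrel
    have hconj : (⟨tp c, hcH⟩ : ↥H) * ⟨tp z0T, hz0H⟩ * (⟨tp c, hcH⟩ : ↥H)⁻¹ = ⟨tp k, hkH⟩ := by
      apply Subtype.ext
      show tp c * tp z0T * (tp c)⁻¹ = tp k
      rw [hmul, mul_assoc, mul_inv_cancel, mul_one]
    have := hcl _ hz0T (⟨tp c, hcH⟩ : ↥H)
    rw [hconj] at this
    exact this (mem_sylH.2 hkS)
  -- the pointwise stabiliser lies in `T`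
  have hKT : ∀ y : ↥H, (y : Equiv.Perm GolayPt) ∈ Kg → y ∈ T := by
    intro y hyK
    rcases eq_of_Kg hyK with h1 | ⟨k, hk, h1⟩
    · have : y = 1 := Subtype.ext h1
      rw [this]
      exact T.one_mem
    · obtain ⟨e, he, rfl⟩ := cK_all k hk
      obtain ⟨hv, h23, h0, hrel⟩ := cK_ok e he
      have hkK := tp_kL_mem hk
      have hkH : tp e.2 ∈ H := hA.syl (Kg_le_syl22 hkK)
      have := hconjT e.1 e.2 hv h23 h0 (kL_valid _ hk) hrel hkH (Kg_le_syl22 hkK)
      have e2 : y = ⟨tp e.2, hkH⟩ := Subtype.ext h1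
      rw [e2]
      exact this
  -- the two generating involutions of the complement lie in `T`
  obtain ⟨⟨hv1, h231, h01, hrel1⟩, ⟨hv2, h232, h02, hrel2⟩⟩ := cu_ok
  have hu1S := tp_r8_mem u1T_mem
  have hu2S := tp_r8_mem u2T_mem
  have hu1a : Acts2 (tp u1T) tau1 := acts2_tp u1T_mem
  have hu2a : Acts2 (tp u2T) tau2 := acts2_tp u2T_mem
  have hu1H : tp u1T ∈ H := hA.syl hu1S
  have hu2H : tp u2T ∈ H := hA.syl hu2S
  have hu1T : (⟨tp u1T, hu1H⟩ : ↥H) ∈ T :=
    hconjT cu1 u1T hv1 h231 h01 (r8_valid _ u1T_mem) hrel1 hu1H hu1S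
  have hu2T : (⟨tp u2T, hu2H⟩ : ↥H) ∈ T :=
    hconjT cu2 u2T hv2 h232 h02 (r8_valid _ u2T_mem) hrel2 hu2H hu2S
  -- every tuple is realised inside `T`
  have hreal : ∀ t ∈ D8L, ∃ w : ↥H, w ∈ T ∧ Acts2 (w : Equiv.Perm GolayPt) t := by
    intro t ht
    have hw := D8L_words t ht
    simp only [List.mem_cons, List.not_mem_nil, or_false] at hw
    have a1 : Acts2 ((⟨tp u1T, hu1H⟩ : ↥H) : Equiv.Perm GolayPt) tau1 := hu1a
    have a2 : Acts2 ((⟨tp u2T, hu2H⟩ : ↥H) : Equiv.Perm GolayPt) tau2 := hu2a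
    rcases hw with rfl | rfl | rfl | rfl | rfl | rfl | rfl | rfl
    · exact ⟨1, T.one_mem, acts2_one⟩
    · exact ⟨_, hu1T, a1⟩
    · exact ⟨_, hu2T, a2⟩
    · exact ⟨_, T.mul_mem hu1T hu2T, a1.mul a2⟩
    · exact ⟨_, T.mul_mem hu2T hu1T, a2.mul a1⟩
    · exact ⟨_, T.mul_mem hu1T (T.mul_mem hu2T hu1T), a1.mul (a2.mul a1)⟩
    · exact ⟨_, T.mul_mem hu2T (T.mul_mem hu1T hu2T), a2.mul (a1.mul a2)⟩
    · exact ⟨_, T.mul_mem hu1T (T.mul_mem hu2T (T.mul_mem hu1T hu2T)), a1.mul (a2.mul (a1.mul a2))⟩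
  -- conclusion
  apply le_antisymm hT
  intro g hg
  obtain ⟨hgM, t, ht, hgt⟩ := mem_sylH.1 hg
  obtain ⟨w, hwT, hwt⟩ := hreal t ht
  have hwo : ∀ p ∈ oct2, (w : Equiv.Perm GolayPt) p ∈ oct2 := fun p hp => hwt.mem_oct2 hp
  have hK : ((g * w⁻¹ : ↥H) : Equiv.Perm GolayPt) ∈ Kg := by
    show (g : Equiv.Perm GolayPt) * (w : Equiv.Perm GolayPt)⁻¹ ∈ Kg
    rw [mem_Kg]
    refine ⟨M24.mul_mem hgM (M24.inv_mem (hA.le w.2)), fun p hp => ?_⟩
    have hsame : ∀ q ∈ oct2, (g : Equiv.Perm GolayPt) q = (w : Equiv.Perm GolayPt) q := by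
      intro q hq
      obtain ⟨l, rfl⟩ := (mem_oct2_iff_exists q).1 hq
      rw [hgt l, hwt l]
    rw [Equiv.Perm.mul_apply, hsame _ (inv_mem_oct2 hwo p hp), perm_apply_inv]
  have := T.mul_mem (hKT _ hK) hwT
  have e : g * w⁻¹ * w = g := by group
  rw [e] at this
  exact this

/-- every Sylow `2`-subgroup is a conjugate of the standard one -/
theorem sylow_eq_cj (hA : Amb H) (S : Sylow 2 ↥H) : ∃ k, cj k (sylH H) = (S : Subgroup ↥H) := by
  have : Fact (Nat.Prime 2) := ⟨Nat.prime_two⟩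
  obtain ⟨k, hk⟩ := exists_cj_le_sylow S (isPGroup_sylH (H := H))
  refine ⟨k, ?_⟩
  apply Subgroup.eq_of_le_of_card_ge hk
  rw [card_cj, card_sylH hA]
  have hcard : Nat.card S = 128 := by
    rw [Sylow.card_eq_multiplicity, hA.fac]
    norm_num
  rw [hcard]
  exact card_syl22_ge

/-- The `2`-fusion system of the ambient group is simple. -/
theorem fusion_simple (hA : Amb H) (S : Sylow 2 ↥H) :
    (groupFusionSystem (S : Subgroup ↥H)).IsSimple 2 := by
  obtain ⟨k, hk⟩ := sylow_eq_cj hA S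
  apply isSimple_of_selfNorm S
  · intro hb
    have h1 : 128 ≤ Nat.card (S : Subgroup ↥H) := by
      rw [← hk, card_cj, card_sylH hA]
      exact card_syl22_ge
    rw [hb, Subgroup.card_bot] at h1
    norm_num at h1
  · rw [← hk]
    exact (selfNorm_sylH hA).conj k
  · rw [← hk]
    exact (noSC_sylH hA).conj k

end Cfsg.Agent.Lib.Helper13.M22Syl
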