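import Cfsg.Agent.Lib.Helper13.M22SylData

/-!
Kernel-checked certificates for the data of `M22SylData` (helper13).
-/

set_option autoImplicit false

namespace Cfsg.Agent.Lib.Helper13.M22Syl

open Cfsg Cfsg.Agent.Lib.Helper21 Cfsg.Agent.Lib.Helper9.M24Coset

/-- the `i`-th point number of the octad -/
def qN (i : ℕ) : ℕ := o2Fs.getD i 0

/-- the tuples of the dihedral group -/
def D8L : List ℕ := r8.map Prod.snd

theorem qN_inj : ∀ i j : Fin 8, qN i = qN j → i = j := by decide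

theorem qN_lt : ∀ i : Fin 8, qN i < 24 := by decide

theorem qN_mem : ∀ i : Fin 8, qN i ∈ o2Fs := by decide

theorem exists_qN : ∀ n : Fin 24, n.val ∈ o2Fs → ∃ i : Fin 8, qN i = n.val := by decide

theorem posMask_o2Fs : posMask o2Fs = 0x800c75 := by decide

theorem octChk_o2 : octChk 0x800c75 := by decide +kernel

theorem qN_zero : qN 0 = 23 := rfl

theorem qN_one : qN 1 = 0 := rfl

theorem r8_valid : ∀ e ∈ r8, ValidTab e.1 := by decide +kernel

theorem r8_acts : ∀ e ∈ r8, ∀ i : Fin 8, tabGet e.1.1 (qN i) = qN (dg e.2 i) := by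
  decide +kernel

theorem idT_mem_D8L : idT ∈ D8L := by decide +kernel

theorem D8L_length : D8L.length = 8 := rfl

theorem D8L_nodup : D8L.Nodup := by decide +kernel

theorem comp8_mem_D8L_aux :
    (D8L.all fun t => D8L.all fun u => D8L.contains (comp8 t u)) = true := by decide +kernel

theorem comp8_mem_D8L : ∀ t ∈ D8L, ∀ u ∈ D8L, comp8 t u ∈ D8L := by
  intro t ht u hu
  have h := comp8_mem_D8L_aux
  rw [List.all_eq_true] at h
  have h1 := h t ht
  rw [List.all_eq_true] at h1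
  have h2 := h1 u hu
  rw [List.contains_iff_mem] at h2
  exact h2

theorem pow4_D8L : ∀ t ∈ D8L, comp8 (comp8 t t) (comp8 t t) = idT := by decide +kernel

theorem D8L_fix : ∀ t ∈ D8L, dg t 0 = 0 ∧ dg t 1 = 1 := by decide +kernel

theorem D8L_inj_of_dg : ∀ t ∈ D8L, ∀ u ∈ D8L, (∀ i : Fin 8, dg t i = dg u i) → t = u := by
  decide +kernel

/-- the eight tuples as words in the two reflections -/
theorem D8L_words : ∀ t ∈ D8L, t ∈ [idT, tau1, tau2, comp8 tau1 tau2, comp8 tau2 tau1,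
    comp8 tau1 (comp8 tau2 tau1), comp8 tau2 (comp8 tau1 tau2),
    comp8 tau1 (comp8 tau2 (comp8 tau1 tau2))] := by decide +kernel

theorem kL_valid : ∀ p ∈ kL, ValidTab p := by decide +kernel

theorem kL_fix : ∀ p ∈ kL, ∀ i : Fin 8, tabGet p.1 (qN i) = qN i := by decide +kernel

/-- the pointwise stabiliser is enumerated by the image of the point `1` -/
theorem kL_one : ∀ n : Fin 24, n.val ∉ o2Fs → n.val = 1 ∨ ∃ p ∈ kL, tabGet p.1 1 = n.val := by
  decide +kernel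

theorem one_not_mem : (1 : ℕ) ∉ o2Fs := by decide

theorem z0T_mem : z0T ∈ kL := by decide +kernel

theorem cK_ok : ∀ e ∈ cK, ValidTab e.1 ∧ tabGet e.1.1 23 = 23 ∧ tabGet e.1.1 0 = 0 ∧
    ∀ i : Fin 24, tabGet e.1.1 (tabGet z0T.1 i) = tabGet e.2.1 (tabGet e.1.1 i) := by
  decide +kernel

theorem cK_all : ∀ k ∈ kL, ∃ e ∈ cK, e.2 = k := by decide +kernel

theorem u1T_mem : (u1T, tau1) ∈ r8 := by decide +kernel

theorem u2T_mem : (u2T, tau2) ∈ r8 := by decide +kernel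

theorem cu_ok : (ValidTab cu1 ∧ tabGet cu1.1 23 = 23 ∧ tabGet cu1.1 0 = 0 ∧
    ∀ i : Fin 24, tabGet cu1.1 (tabGet z0T.1 i) = tabGet u1T.1 (tabGet cu1.1 i)) ∧
    (ValidTab cu2 ∧ tabGet cu2.1 23 = 23 ∧ tabGet cu2.1 0 = 0 ∧
    ∀ i : Fin 24, tabGet cu2.1 (tabGet z0T.1 i) = tabGet u2T.1 (tabGet cu2.1 i)) := by
  decide +kernel

/-- the complement acts faithfully on the pointwise stabiliser -/
theorem faith_ok : ∀ e ∈ r8, e.2 ≠ idT → ∃ k ∈ kL, ∃ i : Fin 24,
    tabGet e.1.1 (tabGet k.1 i) ≠ tabGet k.1 (tabGet e.1.1 i) := by decide +kernel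

end Cfsg.Agent.Lib.Helper13.M22Syl
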