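import Cfsg.Agent.Lib.Helper13.M22SylC
import Cfsg.Agent.Lib.Helper21.M22AutB
import Cfsg.Agent.Lib.Helper21.M23AutB

/-!
`M22` and `M23` as ambient groups for the standard Sylow `2`-subgroup (helper13).
-/

set_option autoImplicit false

namespace Cfsg.Agent.Lib.Helper13.M22Syl

open Cfsg Cfsg.Agent.Lib.Helper21 Cfsg.Agent.Lib.Helper9.M24Coset
open scoped Pointwise

theorem ptN_23 : ptN 23 = (none : GolayPt) := by decide

theorem ptN_0 : ptN 0 = (some 0 : GolayPt) := by decide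

theorem mem_M23_iff {g : Equiv.Perm GolayPt} : g ∈ Spor.M23 ↔ g ∈ M24 ∧ g (ptN 23) = ptN 23 := by
  unfold Spor.M23
  rw [Subgroup.mem_inf, MulAction.mem_stabilizer_iff, ptN_23]
  rfl

theorem mem_M22_iff {g : Equiv.Perm GolayPt} :
    g ∈ Spor.M22 ↔ g ∈ M24 ∧ g (ptN 23) = ptN 23 ∧ g (ptN 0) = ptN 0 := by
  unfold Spor.M22
  rw [Subgroup.mem_inf, mem_M23_iff, MulAction.mem_stabilizer_iff, ptN_0, and_assoc]
  rfl

theorem amb_M22 : Amb Spor.M22 where
  le := fun g hg => (mem_M22_iff.1 hg).1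
  syl := fun g hg => mem_M22_iff.2 ⟨hg.1, syl22_fix23 hg, syl22_fix0 hg⟩
  fix := fun g hg => (mem_M22_iff.1 hg).2.1
  m22 := fun g hg h23 h0 => mem_M22_iff.2 ⟨hg, h23, h0⟩
  fac := by
    rw [Cfsg.Agent.Lib.Helper21.M24Aut.card_M22]
    have h : (443520 : ℕ) = 2 ^ 7 * 3465 := by norm_num
    rw [h, Nat.factorization_mul (by norm_num) (by norm_num), Finsupp.add_apply,
      Nat.Prime.factorization_pow Nat.prime_two, Finsupp.single_eq_same,
      Nat.factorization_eq_zero_of_not_dvd (by norm_num)]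

theorem amb_M23 : Amb Spor.M23 where
  le := fun g hg => (mem_M23_iff.1 hg).1
  syl := fun g hg => mem_M23_iff.2 ⟨hg.1, syl22_fix23 hg⟩
  fix := fun g hg => (mem_M23_iff.1 hg).2
  m22 := fun g hg h23 _ => mem_M23_iff.2 ⟨hg, h23⟩
  fac := by
    rw [Cfsg.Agent.Lib.Helper21.M24Aut.card_M23]
    have h : (10200960 : ℕ) = 2 ^ 7 * 79695 := by norm_num
    rw [h, Nat.factorization_mul (by norm_num) (by norm_num), Finsupp.add_apply,
      Nat.Prime.factorization_pow Nat.prime_two, Finsupp.single_eq_same,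
      Nat.factorization_eq_zero_of_not_dvd (by norm_num)]

end Cfsg.Agent.Lib.Helper13.M22Syl
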