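import Cfsg.Agent.Lib.Helper13.M24FusCert
import Cfsg.Agent.Lib.Helper9.FusSimple

/-!
The standard Sylow `2`-subgroup of `M24` has no proper nontrivial strongly closed subgroup, and the
`2`-fusion system of `M24` is simple (helper13, on top of helper9's `M24Syl2` and `FusSimple`).
-/

set_option autoImplicit false

namespace Cfsg.Agent.Lib.Helper13.M24Fus

open Cfsg Cfsg.Agent.Lib.Helper21 Cfsg.Agent.Lib.Helper9.M24Coset Cfsg.Agent.Lib.Helper29
  Cfsg.Agent.Lib.Helper9.FusSimple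
open scoped Pointwise

/-- the pointwise stabiliser of the standard octad -/
def K0 : Subgroup (Equiv.Perm GolayPt) :=
  M24 ⊓ fixingSubgroup (Equiv.Perm GolayPt) (oct0 : Set GolayPt)

theorem mem_K0 {g : Equiv.Perm GolayPt} : g ∈ K0 ↔ g ∈ M24 ∧ ∀ p ∈ oct0, g p = p := by
  unfold K0
  rw [Subgroup.mem_inf, mem_fixingSubgroup_iff]
  constructor
  · rintro ⟨h1, h2⟩
    exact ⟨h1, fun p hp => h2 p hp⟩
  · rintro ⟨h1, h2⟩
    exact ⟨h1, fun p hp => h2 p hp⟩

theorem sq_K0 {g : Equiv.Perm GolayPt} (hg : g ∈ K0) : g * g = 1 :=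
  (octad_fixing oct0 oct0_mem).2 g hg

theorem comm_K0 {a b : Equiv.Perm GolayPt} (ha : a ∈ K0) (hb : b ∈ K0) : a * b = b * a := by
  have h1 := sq_K0 ha
  have h2 := sq_K0 hb
  have h3 := sq_K0 (K0.mul_mem ha hb)
  have ia : a⁻¹ = a := inv_eq_of_mul_eq_one_left h1
  have ib : b⁻¹ = b := inv_eq_of_mul_eq_one_left h2
  have : a * b = (a * b)⁻¹ := (inv_eq_of_mul_eq_one_left h3).symm
  rw [this, mul_inv_rev, ia, ib]

theorem K0_le_syl2 : K0 ≤ syl2 := fun _ hg =>
  fix_mem_syl2 (mem_K0.1 hg).1 (mem_K0.1 hg).2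

theorem tp_kL_mem {p : ℕ × ℕ} (hp : p ∈ kL) : tp p ∈ K0 := by
  rw [mem_K0]
  refine ⟨tp_mem (kL_valid p hp), fun x hx => ?_⟩
  obtain ⟨i, rfl⟩ := (mem_oct0_iff_exists x).1 hx
  unfold oP
  rw [tp_ptN (kL_valid p hp) _ (octP_lt i), kL_fix p hp i]

theorem ptN_five_not_mem : ptN 5 ∉ oct0 := by
  rw [mem_oct0_iff, gEquiv_ptN_val 5 (by norm_num)]
  exact five_not_mem

theorem eq_of_K0 {g : Equiv.Perm GolayPt} (hg : g ∈ K0) : g = 1 ∨ ∃ p ∈ kL, g = tp p := by
  have hout : g (ptN 5) ∉ oct0 := by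
    intro h
    have h1 := (mem_K0.1 hg).2 _ h
    have h2 := g.injective h1
    rw [h2] at h
    exact ptN_five_not_mem h
  have hn : ((gEquiv (g (ptN 5)) : Fin 24) : ℕ) ∉ oct0Fs := fun h => hout ((mem_oct0_iff _).2 h)
  rcases kL_five (gEquiv (g (ptN 5))) hn with h1 | ⟨p, hp, h1⟩
  · left
    apply eq_one_of_fix_octad_pt oct0 oct0_mem (ptN 5) ptN_five_not_mem g (mem_K0.1 hg).1
      (mem_K0.1 hg).2
    rw [← ptN_gEquiv (g (ptN 5)), h1]
  · right
    refine ⟨p, hp, ?_⟩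
    have hpK := tp_kL_mem hp
    have hq : (tp p)⁻¹ * g ∈ K0 := K0.mul_mem (K0.inv_mem hpK) hg
    have h2 : (tp p)⁻¹ * g = 1 := by
      apply eq_one_of_fix_octad_pt oct0 oct0_mem (ptN 5) ptN_five_not_mem _ (mem_K0.1 hq).1
        (mem_K0.1 hq).2
      rw [Equiv.Perm.mul_apply, ← ptN_gEquiv (g (ptN 5)), ← h1,
        ← tp_ptN (kL_valid p hp) 5 (by norm_num), perm_inv_apply]
    have : g = tp p * ((tp p)⁻¹ * g) := by group
    rw [this, h2, mul_one]

/-- an element acting on the octad by the inverse permutation -/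
theorem inv_mem_oct0 {x : Equiv.Perm GolayPt} (hx : ∀ p ∈ oct0, x p ∈ oct0) :
    ∀ p ∈ oct0, x⁻¹ p ∈ oct0 := by
  intro p hp
  have hsub : Finset.image (fun q => x q) oct0 ⊆ oct0 := by
    intro q hq
    obtain ⟨r, hr, rfl⟩ := Finset.mem_image.1 hq
    exact hx r hr
  have heq : Finset.image (fun q => x q) oct0 = oct0 :=
    Finset.eq_of_subset_of_card_le hsub
      (by rw [Finset.card_image_of_injective _ x.injective])
  rw [← heq] at hp
  obtain ⟨r, hr, rfl⟩ := Finset.mem_image.1 hp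
  rw [perm_inv_apply]
  exact hr

/-- two elements inducing the same tuple differ by an element of the pointwise stabiliser -/
theorem mul_inv_mem_K0 {g w : Equiv.Perm GolayPt} {t : ℕ} (hgM : g ∈ M24) (hwM : w ∈ M24)
    (hgt : Acts g t) (hwt : Acts w t) : g * w⁻¹ ∈ K0 := by
  rw [mem_K0]
  refine ⟨M24.mul_mem hgM (M24.inv_mem hwM), fun p hp => ?_⟩
  have hwo : ∀ p ∈ oct0, w p ∈ oct0 := fun p hp => hwt.mem_oct0 hp
  have hsame : ∀ q ∈ oct0, g q = w q := by
    intro q hq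
    obtain ⟨l, rfl⟩ := (mem_oct0_iff_exists q).1 hq
    rw [hgt l, hwt l]
  rw [Equiv.Perm.mul_apply, hsame _ (inv_mem_oct0 hwo p hp), perm_apply_inv]

/-- closure of a property of tuples under the sub-products -/
theorem prods_ind (P : ℕ → Prop) (h1 : P idT) (hmul : ∀ a b, P a → P b → P (comp8 a b)) :
    ∀ gs : List ℕ, (∀ g ∈ gs, P g) → ∀ t ∈ prods gs, P t := by
  intro gs
  induction gs with
  | nil =>
    intro _ t ht
    rw [prods, List.mem_singleton] at ht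
    rw [ht]
    exact h1
  | cons g gs ih =>
    intro hg t ht
    have ih' := ih (fun x hx => hg x (List.mem_cons_of_mem _ hx))
    rw [prods, List.mem_append, List.mem_map] at ht
    rcases ht with ht | ⟨u, hu, rfl⟩
    · exact ih' t ht
    · exact hmul _ _ (hg g List.mem_cons_self) (ih' u hu)

theorem noSC_syl2G : NoSC (syl2G : Subgroup ↥M24) := by
  intro T hT hne hcl
  have hnorm : ∀ x ∈ T, ∀ s ∈ syl2G, s * x * s⁻¹ ∈ T := fun x hx s hs =>
    hcl x hx s (syl2G.mul_mem (syl2G.mul_mem hs (hT hx)) (syl2G.inv_mem hs))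
  have hz0v : ValidTab z0T := kL_valid _ z0T_mem
  have hz0K : tp z0T ∈ K0 := tp_kL_mem z0T_mem
  have hz0H : tp z0T ∈ M24 := (mem_K0.1 hz0K).1
  -- nontrivial elements of `T` fixing the octad pointwise give the base involution
  have stepK : ∀ y : ↥M24, y ∈ T → (y : Equiv.Perm GolayPt) ∈ K0 → y ≠ 1 →
      (⟨tp z0T, hz0H⟩ : ↥M24) ∈ T := by
    intro y hy hyK hy1
    rcases eq_of_K0 hyK with h1 | ⟨k, hk, h1⟩
    · exact absurd (Subtype.ext h1) hy1
    · obtain ⟨e, he, rfl⟩ := cK_all k hk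
      obtain ⟨hv, hrel⟩ := cK_ok e he
      have hcH : tp e.1 ∈ M24 := tp_mem hv
      have hmul : tp e.1 * tp z0T = tp e.2 * tp e.1 :=
        tp_mul_eq hv hz0v (kL_valid _ hk) hv hrel
      have hconj : (⟨tp e.1, hcH⟩ : ↥M24)⁻¹ * y * (⟨tp e.1, hcH⟩ : ↥M24)⁻¹⁻¹ =
          ⟨tp z0T, hz0H⟩ := by
        apply Subtype.ext
        show (tp e.1)⁻¹ * (y : Equiv.Perm GolayPt) * ((tp e.1)⁻¹)⁻¹ = tp z0T
        rw [h1, inv_inv, mul_assoc, ← hmul, ← mul_assoc, inv_mul_cancel, one_mul]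
      have := hcl y hy (⟨tp e.1, hcH⟩ : ↥M24)⁻¹
      rw [hconj] at this
      exact this (mem_syl2G.2 (K0_le_syl2 hz0K))
  -- the base involution lies in `T`
  have hz0T : (⟨tp z0T, hz0H⟩ : ↥M24) ∈ T := by
    obtain ⟨⟨x, hx⟩, hx1⟩ := (Subgroup.ne_bot_iff_exists_ne_one).1 hne
    have hx1' : x ≠ 1 := fun h => hx1 (Subtype.ext h)
    obtain ⟨hxM, t, ht, hxt⟩ := mem_syl2G.1 (hT hx)
    by_cases htid : t = idT
    · subst htid
      exact stepK x hx (mem_K0.2 ⟨hxM, acts_idT_iff.1 hxt⟩) hx1'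
    · obtain ⟨e, he, rfl⟩ := List.mem_map.1 ht
      obtain ⟨k, hk, i, hik⟩ := faith_ok e he htid
      have hkK := tp_kL_mem hk
      have hkH : tp k ∈ M24 := (mem_K0.1 hkK).1
      have hkS : (⟨tp k, hkH⟩ : ↥M24) ∈ syl2G := mem_syl2G.2 (K0_le_syl2 hkK)
      -- the commutator
      have hyT : x * (⟨tp k, hkH⟩ * x * (⟨tp k, hkH⟩ : ↥M24)⁻¹)⁻¹ ∈ T :=
        T.mul_mem hx (T.inv_mem (hnorm x hx _ hkS))
      have hxo : ∀ p ∈ oct0, (x : Equiv.Perm GolayPt) p ∈ oct0 := fun p hp => hxt.mem_oct0 hp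
      have hxo' := inv_mem_oct0 hxo
      have hkfix := (mem_K0.1 hkK).2
      have hkfix' : ∀ p ∈ oct0, (tp k)⁻¹ p = p := fun p hp => by
        have := hkfix p hp
        conv_lhs => rw [← this]
        rw [perm_inv_apply]
      have hval : ((x * (⟨tp k, hkH⟩ * x * (⟨tp k, hkH⟩ : ↥M24)⁻¹)⁻¹ : ↥M24) :
          Equiv.Perm GolayPt) =
          (x : Equiv.Perm GolayPt) * (tp k * (x : Equiv.Perm GolayPt)⁻¹ * (tp k)⁻¹) := by
        show (x : Equiv.Perm GolayPt) * (tp k * (x : Equiv.Perm GolayPt) * (tp k)⁻¹)⁻¹ = _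
        group
      have hyK : ((x * (⟨tp k, hkH⟩ * x * (⟨tp k, hkH⟩ : ↥M24)⁻¹)⁻¹ : ↥M24) :
          Equiv.Perm GolayPt) ∈ K0 := by
        rw [hval, mem_K0]
        refine ⟨M24.mul_mem hxM (M24.mul_mem (M24.mul_mem (mem_K0.1 hkK).1 (M24.inv_mem hxM))
          (M24.inv_mem (mem_K0.1 hkK).1)), fun p hp => ?_⟩
        rw [Equiv.Perm.mul_apply, Equiv.Perm.mul_apply, Equiv.Perm.mul_apply, hkfix' p hp,
          hkfix _ (hxo' p hp), perm_apply_inv]
      apply stepK _ hyT hyK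
      -- the commutator is nontrivial
      intro h1
      have h2 := congrArg Subtype.val h1
      rw [hval] at h2
      have hcomm : (x : Equiv.Perm GolayPt) * tp k = tp k * (x : Equiv.Perm GolayPt) := by
        have h3 : (x : Equiv.Perm GolayPt) * tp k =
            ((x : Equiv.Perm GolayPt) * (tp k * (x : Equiv.Perm GolayPt)⁻¹ * (tp k)⁻¹)) *
              (tp k * (x : Equiv.Perm GolayPt)) := by group
        rw [h3, h2]
        exact one_mul _
      -- decompose `x` through the realiser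
      have hv := p8R_valid e he
      have hr : Acts (tp e.1) e.2 := by
        intro j
        unfold oP
        rw [tp_ptN hv _ (octP_lt j), p8R_acts e he j]
      have hk'K : (x : Equiv.Perm GolayPt) * (tp e.1)⁻¹ ∈ K0 :=
        mul_inv_mem_K0 hxM (tp_mem hv) hxt hr
      have hcomm2 : tp e.1 * tp k = tp k * tp e.1 := by
        have hab := comm_K0 hk'K hkK
        have h4 : tp e.1 * tp k =
            ((x : Equiv.Perm GolayPt) * (tp e.1)⁻¹)⁻¹ * ((x : Equiv.Perm GolayPt) * tp k) := by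
          group
        have h5 : tp k * tp e.1 = ((x : Equiv.Perm GolayPt) * (tp e.1)⁻¹)⁻¹ *
            (((x : Equiv.Perm GolayPt) * (tp e.1)⁻¹) * tp k * tp e.1) := by group
        rw [h4, h5, hcomm, hab]
        group
      apply hik
      have hkv := kL_valid k hk
      have h6 := congrArg (fun g : Equiv.Perm GolayPt => g (ptN i)) hcomm2
      simp only [Equiv.Perm.mul_apply] at h6
      rw [tp_ptN hkv _ i.isLt, tp_ptN hv _ i.isLt, tp_ptN hv _ (tabGet_lt hkv _ i.isLt),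
        tp_ptN hkv _ (tabGet_lt hv _ i.isLt)] at h6
      exact ptN_injOn (tabGet_lt hv _ (tabGet_lt hkv _ i.isLt))
        (tabGet_lt hkv _ (tabGet_lt hv _ i.isLt)) h6
  -- all conjugates of the base involution inside the Sylow subgroup lie in `T`
  have hconjT : ∀ c k : ℕ × ℕ, ValidTab c → ValidTab k →
      (∀ i : Fin 24, tabGet c.1 (tabGet z0T.1 i) = tabGet k.1 (tabGet c.1 i)) →
      ∀ hkH : tp k ∈ M24, tp k ∈ syl2 → (⟨tp k, hkH⟩ : ↥M24) ∈ T := by
    intro c k hv hkv hrel hkH hkS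
    have hcH : tp c ∈ M24 := tp_mem hv
    have hmul : tp c * tp z0T = tp k * tp c := tp_mul_eq hv hz0v hkv hv hrel
    have hconj : (⟨tp c, hcH⟩ : ↥M24) * ⟨tp z0T, hz0H⟩ * (⟨tp c, hcH⟩ : ↥M24)⁻¹ =
        ⟨tp k, hkH⟩ := by
      apply Subtype.ext
      show tp c * tp z0T * (tp c)⁻¹ = tp k
      rw [hmul, mul_assoc, mul_inv_cancel, mul_one]
    have := hcl _ hz0T (⟨tp c, hcH⟩ : ↥M24)
    rw [hconj] at this
    exact this (mem_syl2G.2 hkS)
  -- the pointwise stabiliser lies in `T`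
  have hKT : ∀ y : ↥M24, (y : Equiv.Perm GolayPt) ∈ K0 → y ∈ T := by
    intro y hyK
    rcases eq_of_K0 hyK with h1 | ⟨k, hk, h1⟩
    · have : y = 1 := Subtype.ext h1
      rw [this]
      exact T.one_mem
    · obtain ⟨e, he, rfl⟩ := cK_all k hk
      obtain ⟨hv, hrel⟩ := cK_ok e he
      have hkK := tp_kL_mem hk
      have hkH : tp e.2 ∈ M24 := (mem_K0.1 hkK).1
      have := hconjT e.1 e.2 hv (kL_valid _ hk) hrel hkH (K0_le_syl2 hkK)
      have e2 : y = ⟨tp e.2, hkH⟩ := Subtype.ext h1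
      rw [e2]
      exact this
  -- every tuple is realised inside `T`
  have hreal : ∀ t ∈ T8, ∃ w : ↥M24, w ∈ T ∧ Acts (w : Equiv.Perm GolayPt) t := by
    intro t ht
    apply prods_ind (fun t => ∃ w : ↥M24, w ∈ T ∧ Acts (w : Equiv.Perm GolayPt) t) ?_ ?_ gT ?_ t
      (T8_prods t ht)
    · exact ⟨1, T.one_mem, acts_one⟩
    · rintro a b ⟨w, hw, hwa⟩ ⟨v, hv, hvb⟩
      exact ⟨w * v, T.mul_mem hw hv, hwa.mul hvb⟩
    · intro g hg
      obtain ⟨e, he, rfl⟩ := List.mem_map.1 hg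
      obtain ⟨hcv, huv, hact, hrel⟩ := uG_ok e he
      have huM : tp e.1.2 ∈ M24 := tp_mem huv
      have hua : Acts (tp e.1.2) e.2 := by
        intro j
        unfold oP
        rw [tp_ptN huv _ (octP_lt j), hact j]
      have huS : tp e.1.2 ∈ syl2 := ⟨huM, e.2, uG_mem e he, hua⟩
      exact ⟨⟨tp e.1.2, huM⟩, hconjT e.1.1 e.1.2 hcv huv hrel huM huS, hua⟩
  -- conclusion
  apply le_antisymm hT
  intro g hg
  obtain ⟨hgM, t, ht, hgt⟩ := mem_syl2G.1 hg
  obtain ⟨w, hwT, hwt⟩ := hreal t ht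
  have hK : ((g * w⁻¹ : ↥M24) : Equiv.Perm GolayPt) ∈ K0 := by
    show (g : Equiv.Perm GolayPt) * (w : Equiv.Perm GolayPt)⁻¹ ∈ K0
    exact mul_inv_mem_K0 hgM w.2 hgt hwt
  have := T.mul_mem (hKT _ hK) hwT
  have e : g * w⁻¹ * w = g := by group
  rw [e] at this
  exact this

theorem selfNorm_syl2G : SelfNorm (syl2G : Subgroup ↥M24) := by
  intro g hg hg'
  rw [← normalizer_syl2G, Subgroup.mem_set_normalizer_iff]
  intro z
  constructor
  · intro hz
    exact hg z hz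
  · intro hz
    have := hg' _ hz
    have e : g⁻¹ * (g * z * g⁻¹) * g = z := by group
    rw [e] at this
    exact this

/-- every Sylow `2`-subgroup is a conjugate of the standard one -/
theorem sylow_eq_cj (S : Sylow 2 ↥M24) : ∃ k, cj k syl2G = (S : Subgroup ↥M24) := by
  have : Fact (Nat.Prime 2) := ⟨Nat.prime_two⟩
  obtain ⟨Q, hQ⟩ := syl2G_sylow
  obtain ⟨k, hk⟩ := exists_cj_le_sylow S isPGroup_syl2G
  refine ⟨k, ?_⟩
  apply Subgroup.eq_of_le_of_card_ge hk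
  rw [card_cj, ← hQ, Sylow.card_eq_multiplicity, Sylow.card_eq_multiplicity]

/-- The `2`-fusion system of `M24` is simple. -/
theorem fusion_simple (S : Sylow 2 ↥M24) :
    (groupFusionSystem (S : Subgroup ↥M24)).IsSimple 2 := by
  obtain ⟨k, hk⟩ := sylow_eq_cj S
  apply isSimple_of_selfNorm S
  · intro hb
    have h1 : 1024 ≤ Nat.card (S : Subgroup ↥M24) := by
      rw [← hk, card_cj, card_syl2G]
      exact card_syl2_ge
    rw [hb, Subgroup.card_bot] at h1
    norm_num at h1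
  · rw [← hk]
    exact selfNorm_syl2G.conj k
  · rw [← hk]
    exact noSC_syl2G.conj k

end Cfsg.Agent.Lib.Helper13.M24Fus
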