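import Cfsg.Agent.Lib.Helper13.M24FusData

/-!
Kernel-checked certificates for the data of `M24FusData` (helper13).
-/

set_option autoImplicit false
set_option maxRecDepth 100000

namespace Cfsg.Agent.Lib.Helper13.M24Fus

open Cfsg Cfsg.Agent.Lib.Helper21 Cfsg.Agent.Lib.Helper9.M24Coset

theorem kL_valid : ∀ p ∈ kL, ValidTab p := by decide +kernel

theorem kL_fix : ∀ p ∈ kL, ∀ i : Fin 8, tabGet p.1 (octP i) = octP i := by decide +kernel

/-- the pointwise stabiliser is enumerated by the image of the point `5` -/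
theorem kL_five : ∀ n : Fin 24, n.val ∉ oct0Fs → n.val = 5 ∨ ∃ p ∈ kL, tabGet p.1 5 = n.val := by
  decide +kernel

theorem five_not_mem : (5 : ℕ) ∉ oct0Fs := by decide

theorem z0T_mem : z0T ∈ kL := by decide +kernel

theorem cK_ok : ∀ e ∈ cK, ValidTab e.1 ∧
    ∀ i : Fin 24, tabGet e.1.1 (tabGet z0T.1 i) = tabGet e.2.1 (tabGet e.1.1 i) := by
  decide +kernel

theorem cK_all : ∀ k ∈ kL, ∃ e ∈ cK, e.2 = k := by decide +kernel

/-- the six involutions: validity, action on the octad, conjugacy to the base involution -/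
theorem uG_ok : ∀ e ∈ uG, ValidTab e.1.1 ∧ ValidTab e.1.2 ∧
    (∀ i : Fin 8, tabGet e.1.2.1 (octP i) = octP (dg e.2 i)) ∧
    ∀ i : Fin 24, tabGet e.1.1.1 (tabGet z0T.1 i) = tabGet e.1.2.1 (tabGet e.1.1.1 i) := by
  decide +kernel

theorem uG_mem : ∀ e ∈ uG, e.2 ∈ T8 := by decide +kernel

/-- all sub-products of a list of tuples -/
def prods : List ℕ → List ℕ
  | [] => [idT]
  | g :: gs => prods gs ++ (prods gs).map (comp8 g)

/-- the tuples of the six involutions -/
def gT : List ℕ := uG.map Prod.snd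

theorem T8_prods_aux : (T8.all fun t => (prods gT).contains t) = true := by decide +kernel

theorem T8_prods : ∀ t ∈ T8, t ∈ prods gT := by
  intro t ht
  have h := List.all_eq_true.1 T8_prods_aux t ht
  exact List.contains_iff_mem.1 h

/-- the group induced on the octad acts faithfully on the pointwise stabiliser -/
theorem faith_ok : ∀ e ∈ p8R, e.2 ≠ idT → ∃ k ∈ kL, ∃ i : Fin 24,
    tabGet e.1.1 (tabGet k.1 i) ≠ tabGet k.1 (tabGet e.1.1 i) := by decide +kernel

end Cfsg.Agent.Lib.Helper13.M24Fus
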