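import Mathlib

/-!
# Groups in which every 2-element has odd class size (helper13), part A

`Hyp G`: every element of 2-power order has a conjugacy class of odd size.
Consequences: a 2-element conjugate to its inverse is an involution (or trivial); two involutions
whose product is a 2-element commute; every 2-element is central in a Sylow 2-subgroup, which can be
chosen to contain any given 2-subgroup of its centralizer.
-/

set_option autoImplicit false

namespace Cfsg.Agent.Lib.Helper13.OddCls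

open Subgroup

universe u

/-- every element of 2-power order has odd class size -/
def Hyp (G : Type u) [Group G] : Prop :=
  ∀ x : G, (∃ k : ℕ, orderOf x = 2 ^ k) → ¬ 2 ∣ (Subgroup.centralizer ({x} : Set G)).index

variable {G : Type u} [Group G]

theorem mem_centralizer_singleton {x g : G} :
    g ∈ Subgroup.centralizer ({x} : Set G) ↔ g * x * g⁻¹ = x := by
  rw [Subgroup.mem_centralizer_iff]
  constructor
  · intro h
    have := h x rfl
    rw [mul_inv_eq_iff_eq_mul]
    exact this.symm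
  · rintro h y rfl
    rw [mul_inv_eq_iff_eq_mul] at h
    exact h.symm

/-- the subgroup of elements conjugating `r` to `r` or `r⁻¹` -/
def invNormalizer (r : G) : Subgroup G where
  carrier := {g | g * r * g⁻¹ = r ∨ g * r * g⁻¹ = r⁻¹}
  one_mem' := by left; simp
  mul_mem' := by
    intro a b ha hb
    have key : a * b * r * (a * b)⁻¹ = a * (b * r * b⁻¹) * a⁻¹ := by group
    show a * b * r * (a * b)⁻¹ = r ∨ a * b * r * (a * b)⁻¹ = r⁻¹
    rw [key]
    rcases hb with hb | hb <;> rcases ha with ha | ha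
    · left; rw [hb, ha]
    · right; rw [hb, ha]
    · right
      rw [hb]
      have : a * r⁻¹ * a⁻¹ = (a * r * a⁻¹)⁻¹ := by group
      rw [this, ha]
    · left
      rw [hb]
      have : a * r⁻¹ * a⁻¹ = (a * r * a⁻¹)⁻¹ := by group
      rw [this, ha, inv_inv]
  inv_mem' := by
    intro a ha
    show a⁻¹ * r * a⁻¹⁻¹ = r ∨ a⁻¹ * r * a⁻¹⁻¹ = r⁻¹
    rcases ha with ha | ha
    · left
      rw [inv_inv]
      have h1 : a * r = r * a := mul_inv_eq_iff_eq_mul.mp ha
      rw [mul_assoc, ← h1, inv_mul_cancel_left]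
    · right
      have h1 : a⁻¹ * r⁻¹ * a = r := by
        have : a⁻¹ * r⁻¹ * a = a⁻¹ * (a * r * a⁻¹) * a := by rw [ha]
        rw [this]; group
      have h2 : a⁻¹ * r * a⁻¹⁻¹ = (a⁻¹ * r⁻¹ * a)⁻¹ := by group
      rw [h2, h1]

variable [Finite G]

/-- a 2-element conjugate to its inverse has trivial square -/
theorem sq_eq_one_of_inverted (h : Hyp G) (r u : G) (hr : ∃ k : ℕ, orderOf r = 2 ^ k)
    (hinv : u * r * u⁻¹ = r⁻¹) : r ^ 2 = 1 := by
  by_contra hne
  have hrr : r⁻¹ ≠ r := by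
    intro h1
    apply hne
    rw [pow_two]
    nth_rewrite 1 [← h1]
    exact inv_mul_cancel r
  apply h r hr
  obtain ⟨C, hCdef⟩ : ∃ C : Subgroup G, C = Subgroup.centralizer ({r} : Set G) := ⟨_, rfl⟩
  rw [← hCdef]
  have hCN : C ≤ invNormalizer r := by
    intro g hg
    rw [hCdef, mem_centralizer_singleton] at hg
    exact Or.inl hg
  have huN : u ∈ invNormalizer r := Or.inr hinv
  have h2 : (C.subgroupOf (invNormalizer r)).index = 2 := by
    rw [Subgroup.index_eq_two_iff]
    refine ⟨⟨u, huN⟩, ?_⟩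
    rintro ⟨b, hb⟩
    rw [Subgroup.mem_subgroupOf, Subgroup.mem_subgroupOf]
    simp only [Subgroup.coe_mul]
    rw [hCdef, mem_centralizer_singleton, mem_centralizer_singleton]
    have key : b * u * r * (b * u)⁻¹ = b * (u * r * u⁻¹) * b⁻¹ := by group
    rw [key, hinv]
    have key2 : b * r⁻¹ * b⁻¹ = (b * r * b⁻¹)⁻¹ := by group
    rw [key2]
    rcases hb with hb | hb
    · right
      refine ⟨hb, ?_⟩
      rw [hb]
      exact hrr
    · left
      refine ⟨by rw [hb, inv_inv], ?_⟩
      rw [hb]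
      exact hrr
  have h3 := Subgroup.relIndex_mul_index hCN
  rw [Subgroup.relIndex, h2] at h3
  exact Dvd.intro _ h3

/-- two involutions whose product is a 2-element commute -/
theorem commute_of_sq_eq_one (h : Hyp G) (u v : G) (hu : u ^ 2 = 1) (hv : v ^ 2 = 1)
    (huv : ∃ k : ℕ, (u * v) ^ (2 ^ k) = 1) : u * v = v * u := by
  obtain ⟨k, hk⟩ := huv
  have hord : ∃ j : ℕ, orderOf (u * v) = 2 ^ j := by
    have := orderOf_dvd_of_pow_eq_one hk
    obtain ⟨j, -, hj⟩ := (Nat.dvd_prime_pow Nat.prime_two).mp this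
    exact ⟨j, hj⟩
  have hui : u⁻¹ = u := by
    rw [inv_eq_iff_mul_eq_one, ← pow_two]; exact hu
  have hvi : v⁻¹ = v := by
    rw [inv_eq_iff_mul_eq_one, ← pow_two]; exact hv
  have hinv : u * (u * v) * u⁻¹ = (u * v)⁻¹ := by
    rw [mul_inv_rev, hui, hvi, ← mul_assoc, ← pow_two, hu, one_mul]
  have h1 := sq_eq_one_of_inverted h (u * v) u hord hinv
  have h2 : u * v = (u * v)⁻¹ := by
    rw [eq_inv_iff_mul_eq_one, ← pow_two]; exact h1
  rw [h2, mul_inv_rev, hui, hvi]

/-- every 2-element `x` is central in a Sylow 2-subgroup containing a given 2-subgroup of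
`C_G(x)`. -/
theorem exists_sylow_central_ge (h : Hyp G) (x : G) (hx : ∃ k : ℕ, orderOf x = 2 ^ k)
    (B : Subgroup G) (hB : IsPGroup 2 B) (hBx : B ≤ Subgroup.centralizer ({x} : Set G)) :
    ∃ S : Sylow 2 G, B ≤ (S : Subgroup G) ∧ x ∈ (S : Subgroup G) ∧
      (S : Subgroup G) ≤ Subgroup.centralizer ({x} : Set G) := by
  haveI : Fact (Nat.Prime 2) := ⟨Nat.prime_two⟩
  obtain ⟨H, hHdef⟩ : ∃ H : Subgroup G, H = Subgroup.centralizer ({x} : Set G) := ⟨_, rfl⟩
  rw [← hHdef] at hBx ⊢
  have hxH : x ∈ H := by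
    rw [hHdef, mem_centralizer_singleton]; group
  have hodd : ¬ 2 ∣ H.index := by rw [hHdef]; exact h x hx
  obtain ⟨Q₀, hQ₀⟩ := (hB.comap_subtype (K := H)).exists_le_sylow
  -- `x` lies in `Q₀`
  have hxc : ∀ g : H, g * ⟨x, hxH⟩ = ⟨x, hxH⟩ * g := by
    rintro ⟨g, hg⟩
    apply Subtype.ext
    have := hg
    rw [hHdef, mem_centralizer_singleton] at this
    show g * x = x * g
    rw [mul_inv_eq_iff_eq_mul] at this
    exact this
  haveI hZn : (Subgroup.zpowers (⟨x, hxH⟩ : H)).Normal := by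
    constructor
    intro z hz g
    have h1 : g * z = z * g := by
      obtain ⟨k, rfl⟩ := Subgroup.mem_zpowers_iff.mp hz
      have : Commute g (⟨x, hxH⟩ : H) := hxc g
      exact this.zpow_right k
    rw [h1, mul_assoc, mul_inv_cancel, mul_one]
    exact hz
  have hZp : IsPGroup 2 (Subgroup.zpowers (⟨x, hxH⟩ : H)) := by
    obtain ⟨k, hk⟩ := hx
    apply IsPGroup.of_card (n := k)
    rw [Nat.card_zpowers, ← hk, ← Subgroup.orderOf_coe]
  have hsup : IsPGroup 2 ((Q₀ : Subgroup H) ⊔ Subgroup.zpowers (⟨x, hxH⟩ : H) : Subgroup H) :=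
    Q₀.isPGroup'.to_sup_of_normal_right hZp
  have heq := Q₀.is_maximal' hsup le_sup_left
  have hxQ : (⟨x, hxH⟩ : H) ∈ (Q₀ : Subgroup H) := by
    rw [← heq]
    exact Subgroup.mem_sup_right (Subgroup.mem_zpowers _)
  -- the image of `Q₀` is a Sylow subgroup of `G`
  have hcard : Nat.card ((Q₀ : Subgroup H).map H.subtype) = 2 ^ (Nat.card G).factorization 2 := by
    rw [Subgroup.card_map_of_injective H.subtype_injective, Q₀.card_eq_multiplicity]
    congr 1
    have h1 : Nat.card G = Nat.card H * H.index := (Subgroup.card_mul_index H).symm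
    rw [h1, Nat.factorization_mul Nat.card_pos.ne' Subgroup.index_ne_zero_of_finite,
      Finsupp.add_apply]
    have : H.index.factorization 2 = 0 := Nat.factorization_eq_zero_of_not_dvd hodd
    omega
  refine ⟨Sylow.ofCard _ hcard, ?_, ?_, ?_⟩
  · rw [Sylow.coe_ofCard]
    intro b hb
    exact ⟨⟨b, hBx hb⟩, hQ₀ (show (⟨b, hBx hb⟩ : H) ∈ B.comap H.subtype from hb), rfl⟩
  · rw [Sylow.coe_ofCard]
    exact ⟨⟨x, hxH⟩, hxQ, rfl⟩
  · rw [Sylow.coe_ofCard]
    exact Subgroup.map_subtype_le _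

end Cfsg.Agent.Lib.Helper13.OddCls
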