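import Mathlib
import Cfsg.Agent.Lib.Helper13.OddClsA

/-!
# Groups in which every 2-element has odd class size (helper13), part B

Conjugate subgroups `cj`, Sylow 2-subgroups of subgroups as a cardinality predicate `Syl`.
-/

set_option autoImplicit false

namespace Cfsg.Agent.Lib.Helper13.OddCls

open Subgroup

universe u

variable {G : Type u} [Group G]

/-- the conjugate subgroup `g X g⁻¹` -/
abbrev cj (g : G) (X : Subgroup G) : Subgroup G := X.map (MulAut.conj g).toMonoidHom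

theorem mem_cj {g : G} {X : Subgroup G} {x : G} : x ∈ cj g X ↔ g⁻¹ * x * g ∈ X := by
  constructor
  · rintro ⟨y, hy, rfl⟩
    have : g⁻¹ * (MulAut.conj g).toMonoidHom y * g = y := by
      simp [MulAut.conj_apply]; group
    rw [this]; exact hy
  · intro h
    refine ⟨g⁻¹ * x * g, h, ?_⟩
    simp [MulAut.conj_apply]; group

theorem conj_mem_cj {g : G} {X : Subgroup G} {x : G} (hx : x ∈ X) : g * x * g⁻¹ ∈ cj g X := by
  rw [mem_cj]
  have : g⁻¹ * (g * x * g⁻¹) * g = x := by group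
  rw [this]; exact hx

theorem cj_mono {g : G} {X Y : Subgroup G} (h : X ≤ Y) : cj g X ≤ cj g Y := Subgroup.map_mono h

theorem cj_cj (g h : G) (X : Subgroup G) : cj g (cj h X) = cj (g * h) X := by
  ext x
  rw [mem_cj, mem_cj, mem_cj]
  have : h⁻¹ * (g⁻¹ * x * g) * h = (g * h)⁻¹ * x * (g * h) := by group
  rw [this]

theorem cj_one (X : Subgroup G) : cj 1 X = X := by
  ext x
  rw [mem_cj]
  simp

theorem cj_inv_cj (g : G) (X : Subgroup G) : cj g⁻¹ (cj g X) = X := by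
  rw [cj_cj, inv_mul_cancel, cj_one]

theorem cj_cj_inv (g : G) (X : Subgroup G) : cj g (cj g⁻¹ X) = X := by
  rw [cj_cj, mul_inv_cancel, cj_one]

theorem cj_eq_self_of_mem {g : G} {X : Subgroup G} (hg : g ∈ X) : cj g X = X := by
  ext x
  rw [mem_cj]
  constructor
  · intro h
    have : x = g * (g⁻¹ * x * g) * g⁻¹ := by group
    rw [this]
    exact X.mul_mem (X.mul_mem hg h) (X.inv_mem hg)
  · intro h
    exact X.mul_mem (X.mul_mem (X.inv_mem hg) h) hg

theorem cj_eq_self_of_mem_normalizer {g : G} {X : Subgroup G}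
    (hg : g ∈ Subgroup.normalizer (X : Set G)) : cj g X = X := by
  ext x
  rw [mem_cj]
  have hg' : g⁻¹ ∈ Subgroup.normalizer (X : Set G) := Subgroup.inv_mem _ hg
  rw [Subgroup.mem_normalizer_iff] at hg'
  rw [hg' x, inv_inv]

theorem cj_eq_self_of_mem_centralizer {g : G} {X : Subgroup G}
    (hg : g ∈ Subgroup.centralizer (X : Set G)) : cj g X = X :=
  cj_eq_self_of_mem_normalizer (Subgroup.centralizer_le_normalizer (X : Set G) hg)

theorem cj_inf (g : G) (X Y : Subgroup G) : cj g (X ⊓ Y) = cj g X ⊓ cj g Y :=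
  Subgroup.map_inf X Y _ (MulAut.conj g).injective

theorem cj_sup (g : G) (X Y : Subgroup G) : cj g (X ⊔ Y) = cj g X ⊔ cj g Y :=
  Subgroup.map_sup X Y _

theorem card_cj [Finite G] (g : G) (X : Subgroup G) : Nat.card (cj g X) = Nat.card X :=
  Subgroup.card_map_of_injective (MulAut.conj g).injective

theorem isPGroup_cj {g : G} {X : Subgroup G} (h : IsPGroup 2 X) : IsPGroup 2 (cj g X) := h.map _

theorem cj_le_iff {g : G} {X Y : Subgroup G} : cj g X ≤ Y ↔ X ≤ cj g⁻¹ Y := by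
  constructor
  · intro h
    have := cj_mono (g := g⁻¹) h
    rwa [cj_inv_cj] at this
  · intro h
    have := cj_mono (g := g) h
    rwa [cj_cj_inv] at this

theorem cj_top (g : G) : cj g (⊤ : Subgroup G) = ⊤ := by
  ext x
  rw [mem_cj]
  simp

/-! ### Sylow 2-subgroups of subgroups -/

/-- `T` is a Sylow 2-subgroup of the subgroup `K` -/
def Syl (K T : Subgroup G) : Prop :=
  T ≤ K ∧ IsPGroup 2 T ∧ Nat.card T = 2 ^ (Nat.card K).factorization 2

variable [Finite G]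

theorem card_subgroupOf_of_le' {H K : Subgroup G} (h : H ≤ K) :
    Nat.card (H.subgroupOf K) = Nat.card H :=
  Nat.card_congr (Subgroup.subgroupOfEquivOfLe h).toEquiv

theorem syl_of_sylow (S : Sylow 2 G) : Syl (⊤ : Subgroup G) (S : Subgroup G) := by
  haveI : Fact (Nat.Prime 2) := ⟨Nat.prime_two⟩
  refine ⟨le_top, S.isPGroup', ?_⟩
  rw [S.card_eq_multiplicity, Subgroup.card_top]

theorem exists_syl_ge {K X : Subgroup G} (hXK : X ≤ K) (hX : IsPGroup 2 X) :
    ∃ T : Subgroup G, Syl K T ∧ X ≤ T := by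
  haveI : Fact (Nat.Prime 2) := ⟨Nat.prime_two⟩
  obtain ⟨R, hR⟩ := (hX.comap_subtype (K := K)).exists_le_sylow
  refine ⟨(R : Subgroup K).map K.subtype, ⟨Subgroup.map_subtype_le _, R.isPGroup'.map _, ?_⟩, ?_⟩
  · rw [Subgroup.card_map_of_injective K.subtype_injective, R.card_eq_multiplicity]
  · intro x hx
    exact ⟨⟨x, hXK hx⟩, hR (show (⟨x, hXK hx⟩ : K) ∈ X.comap K.subtype from hx), rfl⟩

theorem card_le_of_isPGroup {K X : Subgroup G} (hXK : X ≤ K) (hX : IsPGroup 2 X) :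
    Nat.card X ≤ 2 ^ (Nat.card K).factorization 2 := by
  obtain ⟨T, hT, hXT⟩ := exists_syl_ge hXK hX
  rw [← hT.2.2]
  exact Subgroup.card_le_of_le hXT

theorem Syl.eq_of_le {K T X : Subgroup G} (hT : Syl K T) (hXK : X ≤ K) (hX : IsPGroup 2 X)
    (hTX : T ≤ X) : X = T := by
  symm
  apply Subgroup.eq_of_le_of_card_ge hTX
  rw [hT.2.2]
  exact card_le_of_isPGroup hXK hX

theorem Syl.exists_cj_le {K T X : Subgroup G} (hT : Syl K T) (hXK : X ≤ K) (hX : IsPGroup 2 X) :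
    ∃ m ∈ K, cj m X ≤ T := by
  haveI : Fact (Nat.Prime 2) := ⟨Nat.prime_two⟩
  -- `T` as a Sylow subgroup of `K`
  have hcardT : Nat.card (T.subgroupOf K) = 2 ^ (Nat.card K).factorization 2 := by
    rw [card_subgroupOf_of_le' hT.1, hT.2.2]
  obtain ⟨R, hR⟩ : ∃ R : Sylow 2 K, (R : Subgroup K) = T.subgroupOf K :=
    ⟨Sylow.ofCard _ hcardT, Sylow.coe_ofCard _ hcardT⟩
  obtain ⟨Q, hQ⟩ := (hX.comap_subtype (K := K)).exists_le_sylow
  obtain ⟨m, hm⟩ := MulAction.exists_smul_eq K Q R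
  refine ⟨(m : G), m.2, ?_⟩
  intro x hx
  rw [mem_cj] at hx
  have hxK : x ∈ K := by
    have h1 := K.mul_mem (K.mul_mem m.2 (hXK hx)) (K.inv_mem m.2)
    have : (m : G) * ((m : G)⁻¹ * x * m) * (m : G)⁻¹ = x := by group
    rwa [this] at h1
  have h1 : (m⁻¹ * ⟨x, hxK⟩ * m : K) ∈ (Q : Subgroup K) :=
    hQ (show ((m⁻¹ * ⟨x, hxK⟩ * m : K) : G) ∈ X from hx)
  have h2 : (⟨x, hxK⟩ : K) ∈ ((m • Q : Sylow 2 K) : Subgroup K) := by
    rw [Sylow.coe_subgroup_smul, Subgroup.mem_pointwise_smul_iff_inv_smul_mem]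
    simpa [MulAut.smul_def] using h1
  rw [hm, hR, Subgroup.mem_subgroupOf] at h2
  exact h2

theorem Syl.conj {K T : Subgroup G} (hT : Syl K T) (g : G) : Syl (cj g K) (cj g T) :=
  ⟨cj_mono hT.1, isPGroup_cj hT.2.1, by rw [card_cj, card_cj, hT.2.2]⟩

/-- a Sylow subgroup of `N` meets a normal subgroup `K` of `N` in a Sylow subgroup of `K` -/
theorem Syl.inf_of_normal {N T K : Subgroup G} (hT : Syl N T) (hKN : K ≤ N)
    (hnorm : ∀ n ∈ N, cj n K = K) : Syl K (T ⊓ K) := by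
  have hp : IsPGroup 2 (T ⊓ K : Subgroup G) := hT.2.1.to_le inf_le_left
  obtain ⟨Q, hQ, hQge⟩ := exists_syl_ge (inf_le_right : T ⊓ K ≤ K) hp
  obtain ⟨m, hm, hmQ⟩ := hT.exists_cj_le (hQ.1.trans hKN) hQ.2.1
  have h1 : cj m Q ≤ T ⊓ K := by
    refine le_inf hmQ ?_
    rw [← hnorm m hm]
    exact cj_mono hQ.1
  have h2 : Nat.card Q ≤ Nat.card (T ⊓ K : Subgroup G) := by
    rw [← card_cj m Q]
    exact Subgroup.card_le_of_le h1
  have h3 : (T ⊓ K : Subgroup G) = Q := Subgroup.eq_of_le_of_card_ge hQge h2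
  rw [h3]
  exact hQ

end Cfsg.Agent.Lib.Helper13.OddCls
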