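import Mathlib
import Cfsg.Agent.Lib.Helper13.OddClsB

/-!
# Groups in which every 2-element has odd class size (helper13), part C

`Om X`: the subgroup generated by the involutions of `X`.  Under `IC G` (involutions whose product
is a 2-element commute) and for a 2-group `X`, `Om X` is exactly the set of elements of `X` of
order at most 2.
-/

set_option autoImplicit false

namespace Cfsg.Agent.Lib.Helper13.OddCls

open Subgroup

universe u

variable {G : Type u} [Group G]

/-- involutions whose product is a 2-element commute -/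
def IC (G : Type u) [Group G] : Prop :=
  ∀ u v : G, u ^ 2 = 1 → v ^ 2 = 1 → (∃ k : ℕ, (u * v) ^ (2 ^ k) = 1) → u * v = v * u

theorem ic_of_hyp [Finite G] (h : Hyp G) : IC G := fun u v hu hv huv =>
  commute_of_sq_eq_one h u v hu hv huv

/-- the subgroup generated by the elements of `X` of order at most 2 -/
def Om (X : Subgroup G) : Subgroup G := Subgroup.closure {x | x ∈ X ∧ x ^ 2 = 1}

theorem pow_of_mem {X : Subgroup G} (hX : IsPGroup 2 X) {x : G} (hx : x ∈ X) :
    ∃ k : ℕ, x ^ (2 ^ k) = 1 := by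
  obtain ⟨k, hk⟩ := hX ⟨x, hx⟩
  exact ⟨k, by simpa using congrArg Subtype.val hk⟩

theorem mem_Om (hc : IC G) {X : Subgroup G} (hX : IsPGroup 2 X) {x : G} :
    x ∈ Om X ↔ x ∈ X ∧ x ^ 2 = 1 := by
  constructor
  · intro hx
    unfold Om at hx
    induction hx using Subgroup.closure_induction with
    | mem y hy => exact hy
    | one => exact ⟨X.one_mem, one_pow 2⟩
    | mul a b _ _ ha hb =>
      refine ⟨X.mul_mem ha.1 hb.1, ?_⟩
      have hcomm := hc a b ha.2 hb.2 (pow_of_mem hX (X.mul_mem ha.1 hb.1))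
      have : Commute a b := hcomm
      rw [this.mul_pow, ha.2, hb.2, one_mul]
    | inv a _ ha =>
      exact ⟨X.inv_mem ha.1, by rw [inv_pow, ha.2, inv_one]⟩
  · intro hx
    exact Subgroup.subset_closure hx

theorem Om_le (X : Subgroup G) : Om X ≤ X := by
  unfold Om
  rw [Subgroup.closure_le]
  intro x hx
  exact hx.1

theorem Om_mono {X Y : Subgroup G} (h : X ≤ Y) : Om X ≤ Om Y :=
  Subgroup.closure_mono (fun _ hx => ⟨h hx.1, hx.2⟩)

theorem Om_commute (hc : IC G) {X : Subgroup G} (hX : IsPGroup 2 X) {a b : G} (ha : a ∈ Om X)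
    (hb : b ∈ Om X) : a * b = b * a := by
  have ha' := (mem_Om hc hX).mp ha
  have hb' := (mem_Om hc hX).mp hb
  exact hc a b ha'.2 hb'.2 (pow_of_mem hX (X.mul_mem ha'.1 hb'.1))

theorem Om_cj (g : G) (X : Subgroup G) : Om (cj g X) = cj g (Om X) := by
  have key : ∀ s : Set G, cj g (Subgroup.closure s) =
      Subgroup.closure ((MulAut.conj g).toMonoidHom '' s) := fun s => MonoidHom.map_closure _ s
  unfold Om
  rw [key]
  congr 1
  ext y
  constructor
  · rintro ⟨⟨x, hx, rfl⟩, hy2⟩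
    refine ⟨x, ⟨hx, ?_⟩, rfl⟩
    have : (MulAut.conj g).toMonoidHom (x ^ 2) = (MulAut.conj g).toMonoidHom 1 := by
      rw [map_pow, map_one]; exact hy2
    exact (MulAut.conj g).injective this
  · rintro ⟨x, ⟨hx, hx2⟩, rfl⟩
    refine ⟨⟨x, hx, rfl⟩, ?_⟩
    rw [← map_pow, hx2, map_one]

/-- `Om X` is normalized by `X` -/
theorem cj_Om_eq_of_mem {X : Subgroup G} {x : G} (hx : x ∈ X) : cj x (Om X) = Om X := by
  rw [← Om_cj, cj_eq_self_of_mem hx]

theorem Om_isPGroup {X : Subgroup G} (hX : IsPGroup 2 X) : IsPGroup 2 (Om X) := hX.to_le (Om_le X)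

variable [Finite G]

/-- two Sylow 2-subgroups are conjugate -/
theorem exists_cj_eq_of_syl {S S' : Subgroup G} (hS : Syl ⊤ S) (hS' : Syl ⊤ S') :
    ∃ g : G, cj g S' = S := by
  obtain ⟨g, -, hg⟩ := hS.exists_cj_le (le_top : S' ≤ ⊤) hS'.2.1
  refine ⟨g, Subgroup.eq_of_le_of_card_ge hg ?_⟩
  rw [card_cj, hS.2.2, hS'.2.2]

/-- if `Om S ≤ S'` for Sylow 2-subgroups `S`, `S'` then `Om S' = Om S` -/
theorem Om_eq_of_le (hc : IC G) {S S' : Subgroup G} (hS : Syl ⊤ S) (hS' : Syl ⊤ S')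
    (h : Om S ≤ S') : Om S' = Om S := by
  symm
  have hle : Om S ≤ Om S' := by
    intro x hx
    have hx' := (mem_Om hc hS.2.1).mp hx
    exact (mem_Om hc hS'.2.1).mpr ⟨h hx, hx'.2⟩
  apply Subgroup.eq_of_le_of_card_ge hle
  obtain ⟨g, hg⟩ := exists_cj_eq_of_syl hS hS'
  rw [← hg, Om_cj, card_cj]

end Cfsg.Agent.Lib.Helper13.OddCls
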