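import Mathlib
import Cfsg.Agent.Lib.Helper13.OddClsC
import Cfsg.Agent.Lib.Helper2.NilpotentCoprime

/-!
# Groups in which every 2-element has odd class size (helper13), part D

For a 2-subgroup `D`, the subgroup `KK D` of `N_G(D)` of elements acting trivially on `Om D` and on
`D / Om D`.  It contains `C_G(D)`, is normalized by `N_G(D)`, and `KK D / C_G(D)` is an elementary
abelian 2-group, so that `KK D = D₀ C_G(D)` for each Sylow 2-subgroup `D₀` of `KK D`.
-/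

set_option autoImplicit false

namespace Cfsg.Agent.Lib.Helper13.OddCls

open Subgroup

universe u

variable {G : Type u} [Group G]

/-- normalizer growth inside a 2-group -/
theorem exists_normalizer_grow [Finite G] {F D : Subgroup G}
    (hF : IsPGroup 2 F) (hDF : D ≤ F) (hne : D ≠ F) :
    ∃ y ∈ F, y ∈ normalizer (D : Set G) ∧ y ∉ D := by
  haveI : Fact (Nat.Prime 2) := ⟨Nat.prime_two⟩
  have hnil : Group.IsNilpotent ↥F := hF.isNilpotent
  have hHtop : D.subgroupOf F ≠ ⊤ := by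
    intro h1
    exact hne (le_antisymm hDF (Subgroup.subgroupOf_eq_top.mp h1))
  have hlt := Group.normalizerCondition_of_isNilpotent (G := F) _ (lt_top_iff_ne_top.mpr hHtop)
  obtain ⟨y, hyN, hyH⟩ := SetLike.exists_of_lt hlt
  refine ⟨(y : G), y.2, ?_, ?_⟩
  · rw [Subgroup.mem_normalizer_iff]
    intro x
    constructor
    · intro hx
      have h1 : (⟨x, hDF hx⟩ : F) ∈ D.subgroupOf F := by
        rw [Subgroup.mem_subgroupOf]; exact hx
      have h2 := (Subgroup.mem_normalizer_iff.mp hyN _).mp h1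
      rw [Subgroup.mem_subgroupOf] at h2
      simpa using h2
    · intro hx
      have hxQ : x ∈ F := by
        have h3 : x = (y : G)⁻¹ * ((y : G) * x * (y : G)⁻¹) * (y : G) := by group
        rw [h3]
        exact F.mul_mem (F.mul_mem (F.inv_mem y.2) (hDF hx)) y.2
      have h1 : y * (⟨x, hxQ⟩ : F) * y⁻¹ ∈ D.subgroupOf F := by
        rw [Subgroup.mem_subgroupOf]; simpa using hx
      have h2 := (Subgroup.mem_normalizer_iff.mp hyN _).mpr h1
      rw [Subgroup.mem_subgroupOf] at h2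
      exact h2
  · intro hy
    apply hyH
    rw [Subgroup.mem_subgroupOf]
    exact hy

theorem conj_mem_of_mem_normalizer {D : Subgroup G} {n d : G}
    (hn : n ∈ normalizer (D : Set G)) (hd : d ∈ D) : n * d * n⁻¹ ∈ D :=
  (Subgroup.mem_normalizer_iff.mp hn d).mp hd

theorem conj_mem_of_mem_normalizer' {D : Subgroup G} {n d : G}
    (hn : n ∈ normalizer (D : Set G)) (hd : d ∈ D) : n⁻¹ * d * n ∈ D := by
  have := conj_mem_of_mem_normalizer (Subgroup.inv_mem _ hn) hd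
  rwa [inv_inv] at this

theorem mem_centralizer_iff_conj {D : Subgroup G} {g : G} :
    g ∈ centralizer (D : Set G) ↔ ∀ d ∈ D, g * d * g⁻¹ = d := by
  rw [Subgroup.mem_centralizer_iff]
  constructor
  · intro h d hd
    rw [mul_inv_eq_iff_eq_mul]
    exact (h d hd).symm
  · intro h d hd
    have := h d hd
    rw [mul_inv_eq_iff_eq_mul] at this
    exact this.symm

/-- `C_G(D)` is normalized by `N_G(D)` -/
theorem conj_mem_centralizer {D : Subgroup G} {n c : G}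
    (hn : n ∈ normalizer (D : Set G)) (hc : c ∈ centralizer (D : Set G)) :
    n * c * n⁻¹ ∈ centralizer (D : Set G) := by
  rw [mem_centralizer_iff_conj] at hc ⊢
  intro d hd
  have h1 := hc _ (conj_mem_of_mem_normalizer' hn hd)
  have h2 : n * c * n⁻¹ * d * (n * c * n⁻¹)⁻¹ = n * (c * (n⁻¹ * d * n) * c⁻¹) * n⁻¹ := by group
  rw [h2, h1]
  group

/-- `Om D` is normalized by `N_G(D)` -/
theorem conj_mem_Om {D : Subgroup G} {n w : G}
    (hn : n ∈ normalizer (D : Set G)) (hw : w ∈ Om D) : n * w * n⁻¹ ∈ Om D := by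
  have h1 : cj n (Om D) = Om D := by
    rw [← Om_cj, cj_eq_self_of_mem_normalizer hn]
  rw [← h1]
  exact conj_mem_cj hw

theorem conj_mem_Om' {D : Subgroup G} {n w : G}
    (hn : n ∈ normalizer (D : Set G)) (hw : w ∈ Om D) : n⁻¹ * w * n ∈ Om D := by
  have := conj_mem_Om (Subgroup.inv_mem _ hn) hw
  rwa [inv_inv] at this

/-- the elements of `N_G(D)` acting trivially on `Om D` and on `D / Om D` -/
def KK (D : Subgroup G) : Subgroup G where
  carrier := {g | g ∈ normalizer (D : Set G) ∧ (∀ d ∈ D, d⁻¹ * (g * d * g⁻¹) ∈ Om D) ∧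
    ∀ w ∈ Om D, g * w * g⁻¹ = w}
  one_mem' := by
    refine ⟨Subgroup.one_mem _, ?_, ?_⟩
    · intro d _
      have : d⁻¹ * (1 * d * 1⁻¹) = 1 := by group
      rw [this]; exact Subgroup.one_mem _
    · intro w _; group
  mul_mem' := by
    rintro g h ⟨hgN, hg1, hg2⟩ ⟨hhN, hh1, hh2⟩
    refine ⟨Subgroup.mul_mem _ hgN hhN, ?_, ?_⟩
    · intro d hd
      have key : d⁻¹ * (g * h * d * (g * h)⁻¹) =
          (d⁻¹ * (g * d * g⁻¹)) * (g * (d⁻¹ * (h * d * h⁻¹)) * g⁻¹) := by group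
      rw [key, hg2 _ (hh1 d hd)]
      exact Subgroup.mul_mem _ (hg1 d hd) (hh1 d hd)
    · intro w hw
      have key : g * h * w * (g * h)⁻¹ = g * (h * w * h⁻¹) * g⁻¹ := by group
      rw [key, hh2 w hw, hg2 w hw]
  inv_mem' := by
    rintro g ⟨hgN, hg1, hg2⟩
    refine ⟨Subgroup.inv_mem _ hgN, ?_, ?_⟩
    · intro d hd
      have hd' : g⁻¹ * d * g ∈ D := conj_mem_of_mem_normalizer' hgN hd
      have h1 := hg1 _ hd'
      have key : d⁻¹ * (g⁻¹ * d * g⁻¹⁻¹) =
          ((g⁻¹ * d * g)⁻¹ * (g * (g⁻¹ * d * g) * g⁻¹))⁻¹ := by group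
      rw [key]
      exact Subgroup.inv_mem _ h1
    · intro w hw
      have h1 := hg2 w hw
      have key : g⁻¹ * w * g⁻¹⁻¹ = g⁻¹ * (g * w * g⁻¹) * g := by rw [h1, inv_inv]
      rw [key]; group

theorem mem_KK {D : Subgroup G} {g : G} : g ∈ KK D ↔ g ∈ normalizer (D : Set G) ∧
    (∀ d ∈ D, d⁻¹ * (g * d * g⁻¹) ∈ Om D) ∧ ∀ w ∈ Om D, g * w * g⁻¹ = w := Iff.rfl

theorem KK_le_normalizer (D : Subgroup G) : KK D ≤ normalizer (D : Set G) := fun _ hg => hg.1

theorem centralizer_le_KK (D : Subgroup G) : centralizer (D : Set G) ≤ KK D := by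
  intro g hg
  have hg' := mem_centralizer_iff_conj.mp hg
  refine ⟨Subgroup.centralizer_le_normalizer _ hg, ?_, ?_⟩
  · intro d hd
    rw [hg' d hd, inv_mul_cancel]
    exact Subgroup.one_mem _
  · intro w hw
    exact hg' w (Om_le D hw)

/-- squares of elements of `KK D` centralize `D` -/
theorem sq_mem_centralizer (hc : IC G) {D : Subgroup G} (hD : IsPGroup 2 D) {g : G}
    (hg : g ∈ KK D) : g ^ 2 ∈ centralizer (D : Set G) := by
  obtain ⟨hgN, hg1, hg2⟩ := hg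
  rw [mem_centralizer_iff_conj]
  intro d hd
  obtain ⟨w, hwdef⟩ : ∃ w : G, w = d⁻¹ * (g * d * g⁻¹) := ⟨_, rfl⟩
  have hw : w ∈ Om D := by rw [hwdef]; exact hg1 d hd
  have hw2 : w ^ 2 = 1 := ((mem_Om hc hD).mp hw).2
  have h1 : g * d * g⁻¹ = d * w := by rw [hwdef]; group
  have h2 : g ^ 2 * d * (g ^ 2)⁻¹ = g * (g * d * g⁻¹) * g⁻¹ := by rw [pow_two]; group
  rw [h2, h1]
  have h3 : g * (d * w) * g⁻¹ = (g * d * g⁻¹) * (g * w * g⁻¹) := by group
  rw [h3, h1, hg2 w hw, mul_assoc, ← pow_two, hw2, mul_one]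

/-- commutators of elements of `KK D` centralize `D` -/
theorem comm_mem_centralizer (hc : IC G) {D : Subgroup G} (hD : IsPGroup 2 D) {g h : G}
    (hg : g ∈ KK D) (hh : h ∈ KK D) : g * h * g⁻¹ * h⁻¹ ∈ centralizer (D : Set G) := by
  have key : g * h * g⁻¹ * h⁻¹ = (g * h) ^ 2 * (h⁻¹ * (g⁻¹) ^ 2 * h⁻¹⁻¹) * (h⁻¹) ^ 2 := by
    rw [pow_two, pow_two, pow_two]; group
  rw [key]
  refine Subgroup.mul_mem _ (Subgroup.mul_mem _ ?_ ?_) ?_
  · exact sq_mem_centralizer hc hD (Subgroup.mul_mem _ hg hh)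
  · exact conj_mem_centralizer (Subgroup.inv_mem _ hh.1)
      (sq_mem_centralizer hc hD (Subgroup.inv_mem _ hg))
  · exact sq_mem_centralizer hc hD (Subgroup.inv_mem _ hh)

/-- `KK D` is normalized by `N_G(D)` -/
theorem cj_KK_le {D : Subgroup G} {n : G} (hn : n ∈ normalizer (D : Set G)) :
    cj n (KK D) ≤ KK D := by
  intro x hx
  rw [mem_cj] at hx
  obtain ⟨hgN, hg1, hg2⟩ := hx
  have hx_eq : x = n * (n⁻¹ * x * n) * n⁻¹ := by group
  obtain ⟨g, hgdef⟩ : ∃ g : G, g = n⁻¹ * x * n := ⟨_, rfl⟩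
  rw [← hgdef] at hgN hg1 hg2 hx_eq
  rw [hx_eq]
  refine ⟨Subgroup.mul_mem _ (Subgroup.mul_mem _ hn hgN) (Subgroup.inv_mem _ hn), ?_, ?_⟩
  · intro d hd
    have hd' : n⁻¹ * d * n ∈ D := conj_mem_of_mem_normalizer' hn hd
    have h1 := hg1 _ hd'
    have key : d⁻¹ * (n * g * n⁻¹ * d * (n * g * n⁻¹)⁻¹) =
        n * ((n⁻¹ * d * n)⁻¹ * (g * (n⁻¹ * d * n) * g⁻¹)) * n⁻¹ := by group
    rw [key]
    exact conj_mem_Om hn h1
  · intro w hw
    have hw' : n⁻¹ * w * n ∈ Om D := conj_mem_Om' hn hw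
    have h1 := hg2 _ hw'
    have key : n * g * n⁻¹ * w * (n * g * n⁻¹)⁻¹ = n * (g * (n⁻¹ * w * n) * g⁻¹) * n⁻¹ := by
      group
    rw [key, h1]
    group

theorem cj_KK_eq {D : Subgroup G} {n : G} (hn : n ∈ normalizer (D : Set G)) :
    cj n (KK D) = KK D := by
  apply le_antisymm (cj_KK_le hn)
  have h1 := cj_KK_le (Subgroup.inv_mem _ hn)
  have h2 := cj_mono (g := n) h1
  rwa [cj_cj_inv] at h2

/-- an involution of a 2-group `R ≥ D` normalizing `D` lies in `KK D` -/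
theorem mem_KK_of_mem_Om (hc : IC G) {D R : Subgroup G} (hR : IsPGroup 2 R) (hDR : D ≤ R)
    {e : G} (he : e ∈ Om R) (heN : e ∈ normalizer (D : Set G)) : e ∈ KK D := by
  refine ⟨heN, ?_, ?_⟩
  · intro d hd
    have h1 : d⁻¹ * e * d⁻¹⁻¹ ∈ Om R := by
      have h2 : cj d⁻¹ (Om R) = Om R := cj_Om_eq_of_mem (R.inv_mem (hDR hd))
      rw [← h2]
      exact conj_mem_cj he
    have h3 : d⁻¹ * (e * d * e⁻¹) = (d⁻¹ * e * d⁻¹⁻¹) * e⁻¹ := by group
    have h4 : d⁻¹ * (e * d * e⁻¹) ∈ Om R := by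
      rw [h3]; exact Subgroup.mul_mem _ h1 (Subgroup.inv_mem _ he)
    have h5 : d⁻¹ * (e * d * e⁻¹) ∈ D :=
      D.mul_mem (D.inv_mem hd) (conj_mem_of_mem_normalizer heN hd)
    exact Subgroup.subset_closure ⟨h5, ((mem_Om hc hR).mp h4).2⟩
  · intro w hw
    have h1 := Om_commute hc hR he (Om_mono hDR hw)
    rw [h1, mul_inv_cancel_right]

variable [Finite G]

/-- `KK D = D₀ C_G(D)` for a Sylow 2-subgroup `D₀` of `KK D` -/
theorem KK_decomp (hc : IC G) {D D0 : Subgroup G} (hD : IsPGroup 2 D) (h0 : Syl (KK D) D0)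
    {k : G} (hk : k ∈ KK D) :
    ∃ d ∈ D0, ∃ c ∈ centralizer (D : Set G), k = d * c := by
  obtain ⟨a, b, ha, hb, hkab, ⟨j, haj⟩, hbodd⟩ :=
    Cfsg.Agent.Lib.Helper2.exists_p_decomp k 2 Nat.prime_two
  have hzk : Subgroup.zpowers k ≤ KK D := by
    rw [Subgroup.zpowers_le]; exact hk
  have haK : a ∈ KK D := hzk ha
  have hbK : b ∈ KK D := hzk hb
  -- the odd part lies in the centralizer
  have hbC : b ∈ centralizer (D : Set G) := by
    have hb2 := sq_mem_centralizer hc hD hbK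
    have hodd : Odd (orderOf b) := Nat.Coprime.odd_of_right hbodd
    obtain ⟨r, hr⟩ := hodd
    have h1 : b = (b ^ 2) ^ (r + 1) := by
      rw [← pow_mul]
      have : 2 * (r + 1) = orderOf b + 1 := by omega
      rw [this, pow_succ, pow_orderOf_eq_one, one_mul]
    rw [h1]
    exact Subgroup.pow_mem _ hb2 _
  -- the 2-part is conjugate into `D0`
  have hza : IsPGroup 2 (Subgroup.zpowers a) := by
    obtain ⟨i, -, hi⟩ := (Nat.dvd_prime_pow Nat.prime_two).mp haj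
    apply IsPGroup.of_card (n := i)
    rw [Nat.card_zpowers, hi]
  have hzaK : Subgroup.zpowers a ≤ KK D := by
    rw [Subgroup.zpowers_le]; exact haK
  obtain ⟨x, hxK, hx⟩ := h0.exists_cj_le hzaK hza
  have hxa : x * a * x⁻¹ ∈ D0 := hx (conj_mem_cj (Subgroup.mem_zpowers a))
  refine ⟨x * a * x⁻¹, hxa, (x * a⁻¹ * x⁻¹ * a⁻¹⁻¹) * b, ?_, ?_⟩
  · exact Subgroup.mul_mem _ (comm_mem_centralizer hc hD hxK (Subgroup.inv_mem _ haK)) hbC
  · rw [hkab]; group

end Cfsg.Agent.Lib.Helper13.OddCls
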