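import Mathlib
import Cfsg.Agent.Lib.Helper13.OddClsD

/-!
# Groups in which every 2-element has odd class size (helper13), part E

Control of the subgroup `Om S` generated by the involutions of a Sylow 2-subgroup `S`:
if a 2-subgroup `D` lies in two Sylow 2-subgroups `S`, `S'` then some `c ∈ C_G(D)` has
`Om (c S' c⁻¹) = Om S`  (under `IC G`).
-/

set_option autoImplicit false
set_option maxHeartbeats 1000000

namespace Cfsg.Agent.Lib.Helper13.OddCls

open Subgroup

universe u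

variable {G : Type u} [Group G]

/-- elements of the join `D ⊔ A` when `D` normalizes `A` -/
theorem exists_mul_of_mem_sup {D A : Subgroup G}
    (hnorm : ∀ d ∈ D, ∀ e ∈ A, d⁻¹ * e * d ∈ A) {y : G} (hy : y ∈ D ⊔ A) :
    ∃ d ∈ D, ∃ e ∈ A, y = d * e := by
  have hnorm' : ∀ d ∈ D, ∀ e ∈ A, d * e * d⁻¹ ∈ A := by
    intro d hd e he
    have := hnorm d⁻¹ (D.inv_mem hd) e he
    rwa [inv_inv] at this
  rw [← Subgroup.closure_eq D, ← Subgroup.closure_eq A, ← Subgroup.closure_union] at hy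
  induction hy using Subgroup.closure_induction with
  | mem y hy =>
    rcases hy with hy | hy
    · exact ⟨y, hy, 1, A.one_mem, (mul_one y).symm⟩
    · exact ⟨1, D.one_mem, y, hy, (one_mul y).symm⟩
  | one => exact ⟨1, D.one_mem, 1, A.one_mem, (mul_one 1).symm⟩
  | mul a b _ _ ha hb =>
    obtain ⟨d₁, hd₁, e₁, he₁, rfl⟩ := ha
    obtain ⟨d₂, hd₂, e₂, he₂, rfl⟩ := hb
    refine ⟨d₁ * d₂, D.mul_mem hd₁ hd₂, (d₂⁻¹ * e₁ * d₂) * e₂,
      A.mul_mem (hnorm d₂ hd₂ e₁ he₁) he₂, ?_⟩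
    group
  | inv a _ ha =>
    obtain ⟨d, hd, e, he, rfl⟩ := ha
    refine ⟨d⁻¹, D.inv_mem hd, d * e⁻¹ * d⁻¹, hnorm' d hd _ (A.inv_mem he), ?_⟩
    group

variable [Finite G]

theorem card_lt_of_le_of_ne {D X : Subgroup G} (h : D ≤ X) (hne : D ≠ X) :
    Nat.card D < Nat.card X := by
  by_contra hlt
  exact hne (Subgroup.eq_of_le_of_card_ge h (not_lt.mp hlt))

theorem syl_top_card_eq {S S' : Subgroup G} (hS : Syl ⊤ S) (hS' : Syl ⊤ S') :
    Nat.card S = Nat.card S' := by rw [hS.2.2, hS'.2.2]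

/-- the control statement, by induction on the index of `D` -/
theorem ctrl_aux (hc : IC G) : ∀ n : ℕ, ∀ D S S' : Subgroup G, Syl ⊤ S → Syl ⊤ S' → D ≤ S →
    D ≤ S' → Nat.card S - Nat.card D = n →
    ∃ c ∈ centralizer (D : Set G), Om (cj c S') = Om S := by
  intro n
  induction n using Nat.strong_induction_on with
  | _ n ih =>
    intro D S S' hS hS' hDS hDS' hn
    have hDp : IsPGroup 2 D := hS.2.1.to_le hDS
    by_cases hDeq : D = S
    · -- `D = S = S'`
      have h1 : S' = S := by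
        apply hS.eq_of_le le_top hS'.2.1
        rw [← hDeq]; exact hDS'
      refine ⟨1, Subgroup.one_mem _, ?_⟩
      rw [cj_one, h1]
    -- the induction hypothesis in a convenient form
    have IH : ∀ D₁ S₁ S₁' : Subgroup G, Syl ⊤ S₁ → Syl ⊤ S₁' → D₁ ≤ S₁ → D₁ ≤ S₁' →
        Nat.card D < Nat.card D₁ →
        ∃ c ∈ centralizer (D₁ : Set G), Om (cj c S₁') = Om S₁ := by
      intro D₁ S₁ S₁' hS₁ hS₁' h1 h1' hlt
      have hle : Nat.card D₁ ≤ Nat.card S₁ := Subgroup.card_le_of_le h1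
      have heq : Nat.card S₁ = Nat.card S := syl_top_card_eq hS₁ hS
      exact ih (Nat.card S₁ - Nat.card D₁) (by omega) D₁ S₁ S₁' hS₁ hS₁' h1 h1' rfl
    obtain ⟨N, hNdef⟩ : ∃ N : Subgroup G, N = normalizer (D : Set G) := ⟨_, rfl⟩
    obtain ⟨C, hCdef⟩ : ∃ C : Subgroup G, C = centralizer (D : Set G) := ⟨_, rfl⟩
    have hDN : D ≤ N := by rw [hNdef]; exact Subgroup.le_normalizer
    have hCN : C ≤ N := by rw [hNdef, hCdef]; exact Subgroup.centralizer_le_normalizer _
    -- replacing a Sylow subgroup by one meeting `N` in a Sylow subgroup of `N`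
    have tame : ∀ S₀ : Subgroup G, Syl ⊤ S₀ → D ≤ S₀ →
        ∃ T : Subgroup G, Syl ⊤ T ∧ D ≤ T ∧ Syl N (T ⊓ N) ∧
          ∃ c ∈ C, Om (cj c T) = Om S₀ := by
      intro S₀ hS₀ hDS₀
      have hne : D ≠ S₀ := by
        intro h1
        apply hDeq
        apply Subgroup.eq_of_le_of_card_ge hDS
        rw [syl_top_card_eq hS hS₀, ← h1]
      obtain ⟨y, hyS, hyN, hyD⟩ := exists_normalizer_grow hS₀.2.1 hDS₀ hne
      obtain ⟨X, hXdef⟩ : ∃ X : Subgroup G, X = S₀ ⊓ N := ⟨_, rfl⟩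
      have hDX : D ≤ X := by rw [hXdef]; exact le_inf hDS₀ hDN
      have hyX : y ∈ X := by rw [hXdef, hNdef]; exact ⟨hyS, hyN⟩
      have hXne : D ≠ X := by
        intro h1; apply hyD; rw [h1]; exact hyX
      have hXp : IsPGroup 2 X := hS₀.2.1.to_le (by rw [hXdef]; exact inf_le_left)
      have hXN : X ≤ N := by rw [hXdef]; exact inf_le_right
      obtain ⟨T₀, hT₀, hXT₀⟩ := exists_syl_ge hXN hXp
      obtain ⟨T, hT, hT₀T⟩ := exists_syl_ge (le_top : T₀ ≤ ⊤) hT₀.2.1
      have hTN : T ⊓ N = T₀ :=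
        hT₀.eq_of_le inf_le_right (hT.2.1.to_le inf_le_left) (le_inf hT₀T hT₀.1)
      have hXS₀ : X ≤ S₀ := by rw [hXdef]; exact inf_le_left
      have hXT : X ≤ T := hXT₀.trans hT₀T
      obtain ⟨c, hcX, hcO⟩ := IH X S₀ T hS₀ hT hXS₀ hXT (card_lt_of_le_of_ne hDX hXne)
      refine ⟨T, hT, hDX.trans hXT, by rw [hTN]; exact hT₀, c, ?_, hcO⟩
      rw [hCdef]
      exact Subgroup.centralizer_le (by exact_mod_cast hDX) hcX
    obtain ⟨T, hT, hDT, hTN, ca, hca, hcaO⟩ := tame S hS hDS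
    obtain ⟨T', hT', hDT', hTN', cb, hcb, hcbO⟩ := tame S' hS' hDS'
    -- main claim
    have main : ∃ c₀ ∈ C, Om (cj c₀ T') = Om T := by
      by_cases hcase : Om T' ≤ D
      · refine ⟨1, C.one_mem, ?_⟩
        rw [cj_one]
        exact (Om_eq_of_le hc hT' hT (hcase.trans hDT)).symm
      · -- an involution `e` of `T'` normalizing `D`, outside `D`
        have hT'p : IsPGroup 2 T' := hT'.2.1
        obtain ⟨Y, hYdef⟩ : ∃ Y : Subgroup G, Y = D ⊔ Om T' := ⟨_, rfl⟩
        have hYT' : Y ≤ T' := by rw [hYdef]; exact sup_le hDT' (Om_le T')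
        have hDY : D ≤ Y := by rw [hYdef]; exact le_sup_left
        have hDYne : D ≠ Y := by
          intro h1
          apply hcase
          rw [h1, hYdef]; exact le_sup_right
        obtain ⟨y, hyY, hyN, hyD⟩ := exists_normalizer_grow (hT'p.to_le hYT') hDY hDYne
        have hnorm : ∀ d ∈ D, ∀ e ∈ Om T', d⁻¹ * e * d ∈ Om T' := by
          intro d hd e he
          have h2 : cj d⁻¹ (Om T') = Om T' := cj_Om_eq_of_mem (T'.inv_mem (hDT' hd))
          have h3 := conj_mem_cj (g := d⁻¹) he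
          rw [h2, inv_inv] at h3
          exact h3
        rw [hYdef] at hyY
        obtain ⟨d, hd, e, he, hyde⟩ := exists_mul_of_mem_sup hnorm hyY
        have heN : e ∈ normalizer (D : Set G) := by
          have : e = d⁻¹ * y := by rw [hyde]; group
          rw [this]
          exact Subgroup.mul_mem _ (Subgroup.inv_mem _ (Subgroup.le_normalizer hd)) hyN
        have heD : e ∉ D := by
          intro h1
          apply hyD
          rw [hyde]
          exact D.mul_mem hd h1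
        have heK : e ∈ KK D := mem_KK_of_mem_Om hc hT'p hDT' he heN
        -- Sylow subgroups of `KK D`
        have hKN : KK D ≤ N := by rw [hNdef]; exact KK_le_normalizer D
        have hKnorm : ∀ m ∈ N, cj m (KK D) = KK D := by
          intro m hm
          rw [hNdef] at hm
          exact cj_KK_eq hm
        have hD0 : Syl (KK D) (T ⊓ N ⊓ KK D) := hTN.inf_of_normal hKN hKnorm
        have hD0' : Syl (KK D) (T' ⊓ N ⊓ KK D) := hTN'.inf_of_normal hKN hKnorm
        obtain ⟨k, hkK, hk⟩ := hD0.exists_cj_le hD0'.1 hD0'.2.1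
        obtain ⟨d0, hd0, c7, hc7, hkdc⟩ := KK_decomp hc hDp hD0 hkK
        have hc7' : cj c7 (T' ⊓ N ⊓ KK D) ≤ T ⊓ N ⊓ KK D := by
          have h1 : c7 = d0⁻¹ * k := by rw [hkdc]; group
          rw [h1, ← cj_cj]
          calc cj d0⁻¹ (cj k (T' ⊓ N ⊓ KK D)) ≤ cj d0⁻¹ (T ⊓ N ⊓ KK D) := cj_mono hk
            _ = T ⊓ N ⊓ KK D := cj_eq_self_of_mem (Subgroup.inv_mem _ hd0)
        have hc7C : c7 ∈ C := by rw [hCdef]; exact hc7
        -- the larger subgroup
        obtain ⟨Dh, hDhdef⟩ : ∃ Dh : Subgroup G, Dh = D ⊔ cj c7 (T' ⊓ N ⊓ KK D) := ⟨_, rfl⟩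
        have hDDh : D ≤ Dh := by rw [hDhdef]; exact le_sup_left
        have hDhT : Dh ≤ T := by
          rw [hDhdef]
          exact sup_le hDT (hc7'.trans (inf_le_left.trans inf_le_left))
        have hDhT' : Dh ≤ cj c7 T' := by
          rw [hDhdef]
          refine sup_le ?_ (cj_mono (inf_le_left.trans inf_le_left))
          have h1 : cj c7 D = D := cj_eq_self_of_mem_centralizer hc7
          rw [← h1]
          exact cj_mono hDT'
        have heDh : c7 * e * c7⁻¹ ∈ Dh := by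
          rw [hDhdef]
          apply Subgroup.mem_sup_right
          apply conj_mem_cj
          refine ⟨⟨Om_le T' he, ?_⟩, heK⟩
          rw [hNdef]; exact heN
        have hDhne : D ≠ Dh := by
          intro h1
          apply heD
          rw [← h1] at heDh
          have h2 : cj c7⁻¹ D = D := cj_eq_self_of_mem_centralizer (Subgroup.inv_mem _ hc7)
          have h3 := conj_mem_cj (g := c7⁻¹) heDh
          rw [h2] at h3
          have h4 : c7⁻¹ * (c7 * e * c7⁻¹) * c7⁻¹⁻¹ = e := by group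
          rwa [h4] at h3
        have hT'c : Syl ⊤ (cj c7 T') := by
          have := hT'.conj c7
          rwa [cj_top] at this
        obtain ⟨c8, hc8, hc8O⟩ := IH Dh T (cj c7 T') hT hT'c hDhT hDhT'
          (card_lt_of_le_of_ne hDDh hDhne)
        refine ⟨c8 * c7, C.mul_mem ?_ hc7C, ?_⟩
        · rw [hCdef]
          exact Subgroup.centralizer_le (by exact_mod_cast hDDh) hc8
        · rw [← cj_cj]; exact hc8O
    obtain ⟨c0, hc0, hc0O⟩ := main
    refine ⟨ca * c0 * cb⁻¹, ?_, ?_⟩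
    · rw [← hCdef]
      exact C.mul_mem (C.mul_mem hca hc0) (C.inv_mem hcb)
    · rw [Om_cj, ← hcbO, Om_cj, cj_cj, inv_mul_cancel_right, ← cj_cj, ← Om_cj, hc0O, ← Om_cj, hcaO]

/-- control of `Om` of the Sylow 2-subgroups containing a given 2-subgroup -/
theorem ctrl (hc : IC G) {D S S' : Subgroup G} (hS : Syl ⊤ S) (hS' : Syl ⊤ S') (hDS : D ≤ S)
    (hDS' : D ≤ S') : ∃ c ∈ centralizer (D : Set G), Om (cj c S') = Om S :=
  ctrl_aux hc _ D S S' hS hS' hDS hDS' rfl

end Cfsg.Agent.Lib.Helper13.OddCls
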