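import Mathlib
import Cfsg.Agent.Lib.Helper13.OddClsE

/-!
# Groups in which every 2-element has odd class size (helper13), part F

Under `Hyp G` the involutions of a Sylow 2-subgroup `S` are central in `S`; the hypothesis passes
to centralizers of involutions and to quotients; the Sylow 2-subgroups are abelian.
-/

set_option autoImplicit false
set_option maxHeartbeats 1000000

namespace Cfsg.Agent.Lib.Helper13.OddCls

open Subgroup

universe u

variable {G : Type u} [Group G] [Finite G]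

theorem orderOf_eq_two_pow_of_mem {X : Subgroup G} (hX : IsPGroup 2 X) {x : G} (hx : x ∈ X) :
    ∃ k : ℕ, orderOf x = 2 ^ k := by
  obtain ⟨k, hk⟩ := pow_of_mem hX hx
  obtain ⟨j, -, hj⟩ := (Nat.dvd_prime_pow Nat.prime_two).mp (orderOf_dvd_of_pow_eq_one hk)
  exact ⟨j, hj⟩

theorem isPGroup_zpowers {x : G} (hx : ∃ k : ℕ, orderOf x = 2 ^ k) :
    IsPGroup 2 (Subgroup.zpowers x) := by
  obtain ⟨k, hk⟩ := hx
  apply IsPGroup.of_card (n := k)
  rw [Nat.card_zpowers, hk]

/-- the involutions of a Sylow 2-subgroup are central in it -/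
theorem Om_central (h : Hyp G) {S : Subgroup G} (hS : Syl ⊤ S) {y w : G} (hy : y ∈ S)
    (hw : w ∈ Om S) : y * w = w * y := by
  have hc : IC G := ic_of_hyp h
  have hy2 := orderOf_eq_two_pow_of_mem hS.2.1 hy
  have hzc : Subgroup.zpowers y ≤ Subgroup.centralizer ({y} : Set G) := by
    rw [Subgroup.zpowers_le, mem_centralizer_singleton]; group
  obtain ⟨S'', hzS, -, hSc⟩ := exists_sylow_central_ge h y hy2 _ (isPGroup_zpowers hy2) hzc
  have hzS0 : Subgroup.zpowers y ≤ S := by
    rw [Subgroup.zpowers_le]; exact hy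
  obtain ⟨c, hcC, hcO⟩ := ctrl hc hS (syl_of_sylow S'') hzS0 hzS
  have hcy : c * y * c⁻¹ = y := mem_centralizer_iff_conj.mp hcC y (Subgroup.mem_zpowers y)
  have hw' : w ∈ cj c (S'' : Subgroup G) := by
    have : w ∈ Om (cj c (S'' : Subgroup G)) := by rw [hcO]; exact hw
    exact Om_le _ this
  rw [mem_cj] at hw'
  have h1 := hSc hw'
  rw [mem_centralizer_singleton] at h1
  -- `c⁻¹ w c` commutes with `y`, and `c` commutes with `y`
  have h2 : w * (c * y * c⁻¹) * w⁻¹ = c * (c⁻¹ * w * c * y * (c⁻¹ * w * c)⁻¹) * c⁻¹ := by group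
  rw [h1, hcy] at h2
  rw [mul_inv_eq_iff_eq_mul] at h2
  exact h2.symm

/-- the hypothesis passes to the centralizer of an involution -/
theorem hyp_centralizer (h : Hyp G) {t : G} (ht : t ^ 2 = 1) :
    Hyp ↥(Subgroup.centralizer ({t} : Set G)) := by
  haveI : Fact (Nat.Prime 2) := ⟨Nat.prime_two⟩
  obtain ⟨H, hHdef⟩ : ∃ H : Subgroup G, H = Subgroup.centralizer ({t} : Set G) := ⟨_, rfl⟩
  rw [← hHdef]
  intro a ha
  have ha' : ∃ k : ℕ, orderOf (a : G) = 2 ^ k := by
    obtain ⟨k, hk⟩ := ha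
    exact ⟨k, by rw [Subgroup.orderOf_coe]; exact hk⟩
  have hta : t * (a : G) * t⁻¹ = (a : G) := by
    have h1 : (a : G) ∈ Subgroup.centralizer ({t} : Set G) := by rw [← hHdef]; exact a.2
    rw [mem_centralizer_singleton] at h1
    rw [mul_inv_eq_iff_eq_mul] at h1 ⊢
    exact h1.symm
  have ht2 : ∃ k : ℕ, orderOf t = 2 ^ k := by
    have := orderOf_dvd_of_pow_eq_one ht
    obtain ⟨j, -, hj⟩ := (Nat.dvd_prime_pow (m := 1) Nat.prime_two).mp (by simpa using this)
    exact ⟨j, hj⟩
  have hzt : Subgroup.zpowers t ≤ Subgroup.centralizer ({(a : G)} : Set G) := by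
    rw [Subgroup.zpowers_le, mem_centralizer_singleton]; exact hta
  obtain ⟨S', hzS, -, hSc⟩ := exists_sylow_central_ge h (a : G) ha' _ (isPGroup_zpowers ht2) hzt
  have htS : t ∈ (S' : Subgroup G) := hzS (Subgroup.mem_zpowers t)
  have htO : t ∈ Om (S' : Subgroup G) := Subgroup.subset_closure ⟨htS, ht⟩
  have hSH : (S' : Subgroup G) ≤ H := by
    intro y hy
    rw [hHdef, mem_centralizer_singleton, mul_inv_eq_iff_eq_mul]
    exact Om_central h (syl_of_sylow S') hy htO
  -- `S'` gives a subgroup of `C_H(a)` of odd index in `H`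
  have hle : (S' : Subgroup G).subgroupOf H ≤ Subgroup.centralizer ({a} : Set H) := by
    intro g hg
    rw [Subgroup.mem_subgroupOf] at hg
    have h1 := hSc hg
    rw [mem_centralizer_singleton] at h1 ⊢
    apply Subtype.ext
    simpa using h1
  intro hdvd
  have h1 : (Subgroup.centralizer ({a} : Set H)).index ∣ ((S' : Subgroup G).subgroupOf H).index :=
    Subgroup.index_dvd_of_le hle
  have h2 : ((S' : Subgroup G).subgroupOf H).index ∣ (S' : Subgroup G).index := by
    have := Subgroup.relIndex_mul_index hSH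
    exact Dvd.intro _ this
  exact S'.not_dvd_index (hdvd.trans (h1.trans h2))

/-- the hypothesis passes to quotients by a central subgroup generated by an involution -/
theorem hyp_quotient (h : Hyp G) {t : G} (ht : t ^ 2 = 1) (Z : Subgroup G) [Z.Normal]
    (hZ : Z = Subgroup.zpowers t) : Hyp (G ⧸ Z) := by
  intro q hq
  obtain ⟨g, rfl⟩ := QuotientGroup.mk_surjective q
  obtain ⟨k, hk⟩ := hq
  -- `g` is a 2-element
  have hgk : g ^ (2 ^ k) ∈ Z := by
    rw [← QuotientGroup.eq_one_iff, QuotientGroup.mk_pow, ← hk, pow_orderOf_eq_one]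
  have hg2 : g ^ (2 ^ (k + 1)) = 1 := by
    rw [hZ] at hgk
    obtain ⟨j, hj⟩ := Subgroup.mem_zpowers_iff.mp hgk
    rw [pow_succ, pow_mul, ← hj, ← zpow_natCast, ← zpow_mul, mul_comm, zpow_mul, zpow_natCast, ht,
      one_zpow]
  have hg : ∃ j : ℕ, orderOf g = 2 ^ j := by
    obtain ⟨j, -, hj⟩ := (Nat.dvd_prime_pow Nat.prime_two).mp (orderOf_dvd_of_pow_eq_one hg2)
    exact ⟨j, hj⟩
  have hodd := h g hg
  intro hdvd
  apply hodd
  have hle : (Subgroup.centralizer ({g} : Set G)).map (QuotientGroup.mk' Z) ≤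
      Subgroup.centralizer ({(g : G ⧸ Z)} : Set (G ⧸ Z)) := by
    rintro _ ⟨x, hx, rfl⟩
    rw [SetLike.mem_coe, mem_centralizer_singleton] at hx
    rw [mem_centralizer_singleton]
    show (x : G ⧸ Z) * (g : G ⧸ Z) * (x : G ⧸ Z)⁻¹ = (g : G ⧸ Z)
    rw [← QuotientGroup.mk_mul, ← QuotientGroup.mk_inv, ← QuotientGroup.mk_mul, hx]
  have h1 := Subgroup.index_dvd_of_le hle
  have h2 := Subgroup.index_map_dvd (Subgroup.centralizer ({g} : Set G))
    (QuotientGroup.mk'_surjective Z)
  exact hdvd.trans (h1.trans h2)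

/-- a twisted centralizer: elements conjugating `r` to `r` or `r z` (`z` a central involution) -/
def twNormalizer (r z : G) (hz : ∀ g : G, g * z = z * g) (hz2 : z ^ 2 = 1) : Subgroup G where
  carrier := {g | g * r * g⁻¹ = r ∨ g * r * g⁻¹ = r * z}
  one_mem' := by left; simp
  mul_mem' := by
    intro a b ha hb
    have key : a * b * r * (a * b)⁻¹ = a * (b * r * b⁻¹) * a⁻¹ := by group
    have key2 : a * (r * z) * a⁻¹ = a * r * a⁻¹ * z := by
      rw [mul_assoc a, mul_assoc a, mul_assoc r, ← hz a⁻¹]; group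
    show a * b * r * (a * b)⁻¹ = r ∨ a * b * r * (a * b)⁻¹ = r * z
    rw [key]
    rcases hb with hb | hb <;> rcases ha with ha | ha
    · left; rw [hb, ha]
    · right; rw [hb, ha]
    · right; rw [hb, key2, ha]
    · left; rw [hb, key2, ha, mul_assoc, ← pow_two, hz2, mul_one]
  inv_mem' := by
    intro a ha
    show a⁻¹ * r * a⁻¹⁻¹ = r ∨ a⁻¹ * r * a⁻¹⁻¹ = r * z
    rcases ha with ha | ha
    · left
      have : a⁻¹ * r * a⁻¹⁻¹ = a⁻¹ * (a * r * a⁻¹) * a := by rw [ha, inv_inv]
      rw [this]; group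
    · right
      -- `a r a⁻¹ = r z` gives `a⁻¹ r a = r z`
      have h1 : a⁻¹ * (r * z) * a = r := by rw [← ha]; group
      have h2 : a⁻¹ * (r * z) * a = a⁻¹ * r * a * z := by
        rw [mul_assoc a⁻¹, mul_assoc a⁻¹, mul_assoc r, ← hz a]; group
      rw [h2] at h1
      rw [inv_inv]
      have h3 : a⁻¹ * r * a = a⁻¹ * r * a * z * z := by
        rw [mul_assoc (a⁻¹ * r * a), ← pow_two, hz2, mul_one]
      rw [h3, h1]

/-- if `u r u⁻¹ = r z` with `z ≠ 1` a central involution, then `C_G(r)` has even index -/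
theorem two_dvd_index_of_twist (r z u : G) (hz : ∀ g : G, g * z = z * g) (hz2 : z ^ 2 = 1)
    (hz1 : z ≠ 1) (hu : u * r * u⁻¹ = r * z) :
    2 ∣ (Subgroup.centralizer ({r} : Set G)).index := by
  obtain ⟨C, hCdef⟩ : ∃ C : Subgroup G, C = Subgroup.centralizer ({r} : Set G) := ⟨_, rfl⟩
  rw [← hCdef]
  have hrz : r * z ≠ r := by
    intro h1
    apply hz1
    have : r * z = r * 1 := by rw [h1, mul_one]
    exact mul_left_cancel this
  have hCN : C ≤ twNormalizer r z hz hz2 := by
    intro g hg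
    rw [hCdef, mem_centralizer_singleton] at hg
    exact Or.inl hg
  have huN : u ∈ twNormalizer r z hz hz2 := Or.inr hu
  have key2 : ∀ a : G, a * (r * z) * a⁻¹ = a * r * a⁻¹ * z := by
    intro a
    rw [mul_assoc a, mul_assoc a, mul_assoc r, ← hz a⁻¹]; group
  have h2 : (C.subgroupOf (twNormalizer r z hz hz2)).index = 2 := by
    rw [Subgroup.index_eq_two_iff]
    refine ⟨⟨u, huN⟩, ?_⟩
    rintro ⟨b, hb⟩
    rw [Subgroup.mem_subgroupOf, Subgroup.mem_subgroupOf]
    simp only [Subgroup.coe_mul]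
    rw [hCdef, mem_centralizer_singleton, mem_centralizer_singleton]
    have key : b * u * r * (b * u)⁻¹ = b * (u * r * u⁻¹) * b⁻¹ := by group
    rw [key, hu, key2]
    rcases hb with hb | hb
    · right
      refine ⟨hb, ?_⟩
      rw [hb]
      exact hrz
    · left
      refine ⟨by rw [hb, mul_assoc, ← pow_two, hz2, mul_one], ?_⟩
      rw [hb]
      exact hrz
  have h3 := Subgroup.relIndex_mul_index hCN
  rw [Subgroup.relIndex, h2] at h3
  exact Dvd.intro _ h3

end Cfsg.Agent.Lib.Helper13.OddCls
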