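import Mathlib
import Cfsg.Agent.Lib.Helper13.OddClsF

/-!
# Groups in which every 2-element has odd class size (helper13), part G

The main induction: under `Hyp G` the Sylow 2-subgroups of `G` are abelian (Camina and Herzog).
-/

set_option autoImplicit false
set_option maxHeartbeats 1000000

namespace Cfsg.Agent.Lib.Helper13.OddCls

open Subgroup

universe u

/-- a nontrivial element of a 2-group has a power which is an involution -/
theorem exists_invol_of_ne_one {G : Type u} [Group G] [Finite G] {X : Subgroup G}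
    (hX : IsPGroup 2 X) {x : G} (hx : x ∈ X) (hx1 : x ≠ 1) :
    ∃ t ∈ X, t ≠ 1 ∧ t ^ 2 = 1 := by
  obtain ⟨k, hk⟩ := orderOf_eq_two_pow_of_mem hX hx
  have hk0 : k ≠ 0 := by
    intro h0
    rw [h0, pow_zero, orderOf_eq_one_iff] at hk
    exact hx1 hk
  obtain ⟨j, rfl⟩ : ∃ j, k = j + 1 := ⟨k - 1, by omega⟩
  refine ⟨x ^ (2 ^ j), X.pow_mem hx _, ?_, ?_⟩
  · intro h1
    have h2 := orderOf_dvd_of_pow_eq_one h1
    rw [hk] at h2
    have h3 := (Nat.pow_dvd_pow_iff_le_right (by norm_num : 1 < 2)).mp h2
    omega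
  · rw [← pow_mul, ← pow_succ, ← hk, pow_orderOf_eq_one]

theorem mem_zpowers_invol {G : Type u} [Group G] {t z : G} (ht : t ^ 2 = 1)
    (hz : z ∈ Subgroup.zpowers t) : z = 1 ∨ z = t := by
  obtain ⟨j, rfl⟩ := Subgroup.mem_zpowers_iff.mp hz
  have h1 : t ^ j = t ^ (j % 2) := by
    conv_lhs => rw [← Int.emod_add_mul_ediv j 2]
    rw [zpow_add, zpow_mul]
    have : t ^ (2 : ℤ) = 1 := by
      rw [show (2 : ℤ) = ((2 : ℕ) : ℤ) from rfl, zpow_natCast, ht]
    rw [this, one_zpow, mul_one]
  rw [h1]
  rcases Int.emod_two_eq_zero_or_one j with h2 | h2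
  · left; rw [h2, zpow_zero]
  · right; rw [h2, zpow_one]

/-- Camina--Herzog: if all 2-elements have odd class size then the Sylow 2-subgroups are abelian -/
theorem abelian_aux : ∀ n : ℕ, ∀ (G : Type u) [Group G] [Finite G], Nat.card G = n → Hyp G →
    ∀ P : Sylow 2 G, ∀ x ∈ (P : Subgroup G), ∀ y ∈ (P : Subgroup G), x * y = y * x := by
  intro n
  induction n using Nat.strong_induction_on with
  | _ n ih =>
    intro G _ _ hn h P x hx y hy
    haveI : Fact (Nat.Prime 2) := ⟨Nat.prime_two⟩
    by_cases hx1 : x = 1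
    · rw [hx1, one_mul, mul_one]
    have hPp : IsPGroup 2 (P : Subgroup G) := P.isPGroup'
    obtain ⟨t, htP, ht1, ht2⟩ := exists_invol_of_ne_one hPp hx hx1
    have htO : t ∈ Om (P : Subgroup G) := Subgroup.subset_closure ⟨htP, ht2⟩
    have hPS : Syl ⊤ (P : Subgroup G) := syl_of_sylow P
    obtain ⟨H, hHdef⟩ : ∃ H : Subgroup G, H = Subgroup.centralizer ({t} : Set G) := ⟨_, rfl⟩
    have hPH : (P : Subgroup G) ≤ H := by
      intro g hg
      rw [hHdef, mem_centralizer_singleton, mul_inv_eq_iff_eq_mul]
      exact Om_central h hPS hg htO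
    by_cases hH : H = ⊤
    · -- `t` is central
      have htc : ∀ g : G, g * t = t * g := by
        intro g
        have h1 : g ∈ H := by rw [hH]; exact Subgroup.mem_top g
        rw [hHdef, mem_centralizer_singleton, mul_inv_eq_iff_eq_mul] at h1
        exact h1
      obtain ⟨Z, hZdef⟩ : ∃ Z : Subgroup G, Z = Subgroup.zpowers t := ⟨_, rfl⟩
      haveI hZn : Z.Normal := by
        constructor
        intro z hz g
        have h1 : g * z = z * g := by
          rw [hZdef] at hz
          obtain ⟨k, rfl⟩ := Subgroup.mem_zpowers_iff.mp hz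
          have : Commute g t := htc g
          exact this.zpow_right k
        rw [h1, mul_assoc, mul_inv_cancel, mul_one]
        exact hz
      have hZne : Z ≠ ⊥ := by
        intro h1
        apply ht1
        have : t ∈ Z := by rw [hZdef]; exact Subgroup.mem_zpowers t
        rwa [h1, Subgroup.mem_bot] at this
      have hcard : Nat.card (G ⧸ Z) < n := by
        rw [← hn, Subgroup.card_eq_card_quotient_mul_card_subgroup Z]
        have h1 : 1 < Nat.card Z := (Subgroup.one_lt_card_iff_ne_bot _).mpr hZne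
        have h2 : 0 < Nat.card (G ⧸ Z) := Nat.card_pos
        exact lt_mul_of_one_lt_right h2 h1
      have hq := ih _ hcard (G ⧸ Z) rfl (hyp_quotient h ht2 Z hZdef)
        (P.mapSurjective (QuotientGroup.mk'_surjective Z))
        (QuotientGroup.mk' Z x) (Subgroup.mem_map_of_mem _ hx)
        (QuotientGroup.mk' Z y) (Subgroup.mem_map_of_mem _ hy)
      have hz : (x * y)⁻¹ * (y * x) ∈ Z := by
        rw [← QuotientGroup.eq]
        exact hq
      rw [hZdef] at hz
      rcases mem_zpowers_invol ht2 hz with h1 | h1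
      · rw [inv_mul_eq_one] at h1
        exact h1
      · exfalso
        have h2 : y * x * y⁻¹ = x * t := by
          have : y * x = x * y * t := by rw [← h1]; group
          rw [this, mul_assoc (x * y), ← htc y⁻¹]; group
        have h3 := two_dvd_index_of_twist x t y htc ht2 ht1 h2
        exact h x (orderOf_eq_two_pow_of_mem hPp hx) h3
    · -- pass to the centralizer of `t`
      have hcard : Nat.card H < n := by
        rw [← hn, ← Subgroup.card_top (G := G)]
        exact card_lt_of_le_of_ne le_top hH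
      have hHyp : Hyp ↥H := by rw [hHdef]; exact hyp_centralizer h ht2
      have hq := ih _ hcard ↥H rfl hHyp (P.subtype hPH) ⟨x, hPH hx⟩
        (by rw [Sylow.coe_subtype, Subgroup.mem_subgroupOf]; exact hx) ⟨y, hPH hy⟩
        (by rw [Sylow.coe_subtype, Subgroup.mem_subgroupOf]; exact hy)
      exact congrArg Subtype.val hq

theorem sylow_two_comm {G : Type u} [Group G] [Finite G] (h : Hyp G) (P : Sylow 2 G)
    (x y : G) (hx : x ∈ (P : Subgroup G)) (hy : y ∈ (P : Subgroup G)) : x * y = y * x :=
  abelian_aux _ G rfl h P x hx y hy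

end Cfsg.Agent.Lib.Helper13.OddCls
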