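import Mathlib

set_option autoImplicit false

/-!
# Counting conjugators into a Sylow subgroup (helper13)

`mu P S` is the number of `g` with `g S g⁻¹ ⊆ P`.  We record how it behaves when passing to the
quotient by a normal `p`-subgroup or a normal `p'`-subgroup.
-/

namespace Cfsg.Agent.Lib.Helper13.PE

open Subgroup

variable {G : Type*} [Group G]

/-- The number of elements conjugating the set `S` into `P`. -/
noncomputable def mu (P : Subgroup G) (S : Set G) : ℕ :=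
  Nat.card {g : G // ∀ s ∈ S, g * s * g⁻¹ ∈ P}

/-- The order of `C_N(S)`. -/
noncomputable def cen (N : Subgroup G) (S : Set G) : ℕ :=
  Nat.card ↥(N ⊓ Subgroup.centralizer S)

theorem card_preimage_mk [Finite G] (N : Subgroup G) [N.Normal] (T : Set (G ⧸ N)) :
    Nat.card {g : G // (QuotientGroup.mk' N g) ∈ T} = Nat.card N * Nat.card T := by
  have e1 : {g : G // (QuotientGroup.mk' N g) ∈ T} ≃ {x : (G ⧸ N) × N // x.1 ∈ T} :=
    Equiv.subtypeEquiv (Subgroup.groupEquivQuotientProdSubgroup (s := N)) (fun g => by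
      simp [Subgroup.groupEquivQuotientProdSubgroup])
  rw [Nat.card_congr e1, Nat.card_congr Equiv.prodSubtypeFstEquivSubtypeProd, Nat.card_prod,
    mul_comm]

theorem mem_map_mk_iff (N P : Subgroup G) [N.Normal] (hNP : N ≤ P) (y : G) :
    QuotientGroup.mk' N y ∈ P.map (QuotientGroup.mk' N) ↔ y ∈ P := by
  constructor
  · rintro ⟨u, hu, hu'⟩
    have h1 : u⁻¹ * y ∈ N := QuotientGroup.eq.mp hu'
    have : y = u * (u⁻¹ * y) := by group
    rw [this]
    exact P.mul_mem hu (hNP h1)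
  · intro hy
    exact ⟨y, hy, rfl⟩

/-- Quotient by a normal `p`-subgroup contained in `P`. -/
theorem mu_quot_le [Finite G] (N P : Subgroup G) [N.Normal] (hNP : N ≤ P) (S : Set G) :
    mu P S = Nat.card N * mu (P.map (QuotientGroup.mk' N)) ((QuotientGroup.mk' N) '' S) := by
  unfold mu
  have hpre := card_preimage_mk N {q : G ⧸ N | ∀ t ∈ (QuotientGroup.mk' N) '' S,
    q * t * q⁻¹ ∈ P.map (QuotientGroup.mk' N)}
  simp only [Set.coe_setOf, Set.mem_setOf_eq] at hpre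
  rw [← hpre]
  apply Nat.card_congr
  apply Equiv.subtypeEquivRight
  intro g
  constructor
  · intro h
    rintro _ ⟨s, hs, rfl⟩
    have := (mem_map_mk_iff N P hNP (g * s * g⁻¹)).mpr (h s hs)
    simpa using this
  · intro h s hs
    have := h _ ⟨s, hs, rfl⟩
    rw [← mem_map_mk_iff N P hNP]
    simpa using this

/-- A `p`-subgroup of `P N` is conjugate into `P` by an element of `N`. -/
theorem exists_conj_mem {p : ℕ} [Fact p.Prime] [Finite G] (P : Sylow p G) (N : Subgroup G)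
    [N.Normal] (U : Subgroup G) (hU : IsPGroup p U) (hUle : U ≤ (P : Subgroup G) ⊔ N) :
    ∃ n ∈ N, ∀ u ∈ U, n * u * n⁻¹ ∈ (P : Subgroup G) := by
  obtain ⟨H, hH⟩ : ∃ H : Subgroup G, H = (P : Subgroup G) ⊔ N := ⟨_, rfl⟩
  have hPH : (P : Subgroup G) ≤ H := by rw [hH]; exact le_sup_left
  have hUH : U ≤ H := by rw [hH]; exact hUle
  have hU' : IsPGroup p (U.subgroupOf H) := hU.comap_subtype
  obtain ⟨Q, hQ⟩ := hU'.exists_le_sylow
  obtain ⟨h, hh⟩ := MulAction.exists_smul_eq H Q (P.subtype hPH)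
  have hmem : (h : G) ∈ (P : Subgroup G) ⊔ N := by rw [← hH]; exact h.2
  obtain ⟨a, ha, n, hn, han⟩ := Subgroup.mem_sup_of_normal_right.mp hmem
  refine ⟨n, hn, fun u hu => ?_⟩
  have hu' : (⟨u, hUH hu⟩ : H) ∈ (Q : Subgroup H) := hQ (Subgroup.mem_subgroupOf.mpr hu)
  have h1 : h * ⟨u, hUH hu⟩ * h⁻¹ ∈ ((h • Q : Sylow p H) : Subgroup H) := by
    rw [Sylow.coe_subgroup_smul, Subgroup.mem_pointwise_smul_iff_inv_smul_mem, MulAut.smul_def]
    simp only [MulAut.conj_inv_apply]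
    have : h⁻¹ * (h * ⟨u, hUH hu⟩ * h⁻¹) * h = ⟨u, hUH hu⟩ := by group
    rw [this]
    exact hu'
  rw [hh] at h1
  have h2 : (h : G) * u * (h : G)⁻¹ ∈ (P : Subgroup G) := by
    have := Subgroup.mem_subgroupOf.mp h1
    simpa using this
  rw [← han] at h2
  have h3 : n * u * n⁻¹ = a⁻¹ * (a * n * u * (a * n)⁻¹) * a := by group
  rw [h3]
  exact (P : Subgroup G).mul_mem ((P : Subgroup G).mul_mem ((P : Subgroup G).inv_mem ha) h2) ha

/-- Quotient by a normal `p'`-subgroup. -/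
theorem mu_quot_coprime {p : ℕ} [Fact p.Prime] [Finite G] (P : Sylow p G) (N : Subgroup G)
    [N.Normal] (hN : (Nat.card N).Coprime p) (S : Set G) (hS : S ⊆ (P : Subgroup G)) :
    mu (P : Subgroup G) S = cen N S *
      mu ((P : Subgroup G).map (QuotientGroup.mk' N)) ((QuotientGroup.mk' N) '' S) := by
  have hp : p.Prime := Fact.out
  have hPN : (P : Subgroup G) ⊓ N = ⊥ := by
    apply Subgroup.inf_eq_bot_of_coprime
    obtain ⟨k, hk⟩ := IsPGroup.iff_card.mp P.isPGroup'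
    rw [hk]
    exact Nat.Coprime.pow_left k hN.symm
  have hcl : Subgroup.closure S ≤ (P : Subgroup G) := (Subgroup.closure_le _).mpr hS
  -- the three sets
  obtain ⟨A, hA⟩ : ∃ A : Set G, A = {g : G | ∀ s ∈ S, g * s * g⁻¹ ∈ (P : Subgroup G)} :=
    ⟨_, rfl⟩
  obtain ⟨B, hB⟩ : ∃ B : Set (G ⧸ N), B = {q : G ⧸ N | ∀ t ∈ (QuotientGroup.mk' N) '' S,
    q * t * q⁻¹ ∈ (P : Subgroup G).map (QuotientGroup.mk' N)} := ⟨_, rfl⟩
  have hAB : ∀ g ∈ A, QuotientGroup.mk' N g ∈ B := by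
    intro g hg
    rw [hB]
    rintro _ ⟨s, hs, rfl⟩
    rw [hA] at hg
    refine ⟨g * s * g⁻¹, hg s hs, ?_⟩
    simp
  -- (a) right multiplication by C
  have ha : ∀ g ∈ A, ∀ c ∈ N ⊓ Subgroup.centralizer S, g * c ∈ A := by
    intro g hg c hc
    rw [hA] at hg ⊢
    intro s hs
    have hcs : c * s = s * c := ((Subgroup.mem_centralizer_iff.mp hc.2) s hs).symm
    have : g * c * s * (g * c)⁻¹ = g * s * g⁻¹ := by
      rw [mul_assoc g c s, hcs]; group
    rw [this]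
    exact hg s hs
  -- (b) same fibre implies differ by C
  have hb : ∀ g ∈ A, ∀ g' ∈ A, QuotientGroup.mk' N g = QuotientGroup.mk' N g' →
      g⁻¹ * g' ∈ N ⊓ Subgroup.centralizer S := by
    intro g hg g' hg' hgg'
    have hcN : g⁻¹ * g' ∈ N := QuotientGroup.eq.mp hgg'
    refine Subgroup.mem_inf.mpr ⟨hcN, ?_⟩
    rw [Subgroup.mem_centralizer_iff]
    intro s hs
    rw [hA] at hg hg'
    have h1 := hg s hs
    have h2 := hg' s hs
    have h3 : g * ((g⁻¹ * g') * s * (g⁻¹ * g')⁻¹ * s⁻¹) * g⁻¹ ∈ (P : Subgroup G) := by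
      have : g * ((g⁻¹ * g') * s * (g⁻¹ * g')⁻¹ * s⁻¹) * g⁻¹ =
          (g' * s * g'⁻¹) * (g * s * g⁻¹)⁻¹ := by group
      rw [this]
      exact (P : Subgroup G).mul_mem h2 ((P : Subgroup G).inv_mem h1)
    have h4 : g * ((g⁻¹ * g') * s * (g⁻¹ * g')⁻¹ * s⁻¹) * g⁻¹ ∈ N := by
      have hN' : N.Normal := inferInstance
      apply hN'.conj_mem
      have : (g⁻¹ * g') * s * (g⁻¹ * g')⁻¹ * s⁻¹ =
          (g⁻¹ * g') * (s * (g⁻¹ * g')⁻¹ * s⁻¹) := by group
      rw [this]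
      exact N.mul_mem hcN (hN'.conj_mem _ (N.inv_mem hcN) s)
    have h5 : g * ((g⁻¹ * g') * s * (g⁻¹ * g')⁻¹ * s⁻¹) * g⁻¹ ∈ (P : Subgroup G) ⊓ N :=
      ⟨h3, h4⟩
    rw [hPN, Subgroup.mem_bot] at h5
    have h6 : (g⁻¹ * g') * s * (g⁻¹ * g')⁻¹ * s⁻¹ = 1 := by
      have : (g⁻¹ * g') * s * (g⁻¹ * g')⁻¹ * s⁻¹ =
          g⁻¹ * (g * ((g⁻¹ * g') * s * (g⁻¹ * g')⁻¹ * s⁻¹) * g⁻¹) * g := by group
      rw [this, h5]; group
    have h7 : (g⁻¹ * g') * s = s * (g⁻¹ * g') := by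
      have : (g⁻¹ * g') * s = ((g⁻¹ * g') * s * (g⁻¹ * g')⁻¹ * s⁻¹) * (s * (g⁻¹ * g')) := by
        group
      rw [this, h6, one_mul]
    exact h7.symm
  -- (c) surjectivity
  have hc : ∀ q ∈ B, ∃ g ∈ A, QuotientGroup.mk' N g = q := by
    intro q hq
    obtain ⟨g₀, rfl⟩ := QuotientGroup.mk'_surjective N q
    rw [hB] at hq
    have hU : IsPGroup p ((Subgroup.closure S).map (MulAut.conj g₀).toMonoidHom) :=
      (P.isPGroup'.to_le hcl).map _
    have hUle : (Subgroup.closure S).map (MulAut.conj g₀).toMonoidHom ≤ (P : Subgroup G) ⊔ N := by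
      rw [Subgroup.map_le_iff_le_comap, Subgroup.closure_le]
      intro s hs
      show (MulAut.conj g₀) s ∈ (P : Subgroup G) ⊔ N
      rw [MulAut.conj_apply]
      have h1 := hq _ ⟨s, hs, rfl⟩
      obtain ⟨u, hu, hu'⟩ := h1
      have h2 : u⁻¹ * (g₀ * s * g₀⁻¹) ∈ N := by
        apply QuotientGroup.eq.mp
        have e : (QuotientGroup.mk' N) u = (QuotientGroup.mk' N) (g₀ * s * g₀⁻¹) := by
          rw [hu']; simp
        exact e
      have : g₀ * s * g₀⁻¹ = u * (u⁻¹ * (g₀ * s * g₀⁻¹)) := by group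
      rw [this]
      exact Subgroup.mul_mem_sup hu h2
    obtain ⟨n, hn, hnu⟩ := exists_conj_mem P N _ hU hUle
    refine ⟨n * g₀, ?_, ?_⟩
    · rw [hA]
      intro s hs
      have h1 : g₀ * s * g₀⁻¹ ∈ (Subgroup.closure S).map (MulAut.conj g₀).toMonoidHom :=
        ⟨s, Subgroup.subset_closure hs, by simp [MulAut.conj_apply]⟩
      have h2 := hnu _ h1
      have : n * g₀ * s * (n * g₀)⁻¹ = n * (g₀ * s * g₀⁻¹) * n⁻¹ := by group
      rw [this]
      exact h2
    · rw [map_mul]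
      have : QuotientGroup.mk' N n = 1 := by
        rw [QuotientGroup.mk'_apply, QuotientGroup.eq_one_iff]; exact hn
      rw [this, one_mul]
  -- section
  have hsec : ∀ q : B, ∃ g : G, g ∈ A ∧ QuotientGroup.mk' N g = q.1 := fun q => hc q.1 q.2
  choose σ hσA hσq using hsec
  let Φ : B × ↥(N ⊓ Subgroup.centralizer S) → A := fun x => ⟨σ x.1 * x.2.1, ha _ (hσA x.1) _ x.2.2⟩
  have hΦinj : Function.Injective Φ := by
    rintro ⟨q, c⟩ ⟨q', c'⟩ h
    have h1 : σ q * c.1 = σ q' * c'.1 := congrArg Subtype.val h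
    have hq : q = q' := by
      apply Subtype.ext
      rw [← hσq q, ← hσq q']
      have h2 := congrArg (QuotientGroup.mk' N) h1
      rw [map_mul, map_mul] at h2
      have e1 : QuotientGroup.mk' N c.1 = 1 := by
        rw [QuotientGroup.mk'_apply, QuotientGroup.eq_one_iff]; exact c.2.1
      have e2 : QuotientGroup.mk' N c'.1 = 1 := by
        rw [QuotientGroup.mk'_apply, QuotientGroup.eq_one_iff]; exact c'.2.1
      rw [e1, e2, mul_one, mul_one] at h2
      exact h2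
    subst hq
    have hc' : c = c' := Subtype.ext (mul_left_cancel h1)
    rw [hc']
  have hΦsurj : Function.Surjective Φ := by
    rintro ⟨g, hg⟩
    have hq : QuotientGroup.mk' N g ∈ B := hAB g hg
    have h1 := hb (σ ⟨_, hq⟩) (hσA _) g hg (hσq ⟨_, hq⟩)
    refine ⟨(⟨_, hq⟩, ⟨_, h1⟩), ?_⟩
    apply Subtype.ext
    show σ ⟨_, hq⟩ * ((σ ⟨_, hq⟩)⁻¹ * g) = g
    group
  have hcard := Nat.card_congr (Equiv.ofBijective Φ ⟨hΦinj, hΦsurj⟩)
  rw [Nat.card_prod] at hcard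
  unfold mu cen
  have eA : Nat.card {g : G // ∀ s ∈ S, g * s * g⁻¹ ∈ (P : Subgroup G)} = Nat.card A := by
    rw [hA]; rfl
  have eB : Nat.card {g : G ⧸ N // ∀ s ∈ (QuotientGroup.mk' N) '' S,
      g * s * g⁻¹ ∈ (P : Subgroup G).map (QuotientGroup.mk' N)} = Nat.card B := by
    rw [hB]; rfl
  rw [eA, eB, ← hcard, mul_comm]

end Cfsg.Agent.Lib.Helper13.PE
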