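import Mathlib
import Cfsg.Agent.Lib.Helper13.PE1

set_option autoImplicit false

/-!
# The key inequality and its reduction to quotients (helper13)
-/

namespace Cfsg.Agent.Lib.Helper13.PE

open Subgroup

variable {G : Type*} [Group G]

/-- The elements of a subgroup as a finset. -/
noncomputable def fs [Finite G] (P : Subgroup G) : Finset G := (Set.toFinite (P : Set G)).toFinset

theorem mem_fs [Finite G] {P : Subgroup G} {x : G} : x ∈ fs P ↔ x ∈ P := by
  unfold fs
  rw [Set.Finite.mem_toFinset]
  rfl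

theorem card_fs [Finite G] (P : Subgroup G) : (fs P).card = Nat.card P := by
  unfold fs
  rw [← Set.ncard_eq_toFinset_card (P : Set G), ← Nat.card_coe_set_eq]
  rfl

/-- Product of `f` over the elements of `P`. -/
noncomputable def pprod [Finite G] (P : Subgroup G) (f : G → ℕ) : ℕ := ∏ x ∈ fs P, f x

theorem pprod_congr [Finite G] (P : Subgroup G) {f g : G → ℕ} (h : ∀ x ∈ P, f x = g x) :
    pprod P f = pprod P g :=
  Finset.prod_congr rfl (fun x hx => h x (mem_fs.mp hx))

theorem pprod_mul [Finite G] (P : Subgroup G) (f g : G → ℕ) :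
    pprod P (fun x => f x * g x) = pprod P f * pprod P g :=
  Finset.prod_mul_distrib

theorem pprod_const [Finite G] (P : Subgroup G) (c : ℕ) :
    pprod P (fun _ => c) = c ^ Nat.card P := by
  unfold pprod
  rw [Finset.prod_const, card_fs]

open Classical in
theorem fs_map [Finite G] (N P : Subgroup G) [N.Normal] :
    fs (P.map (QuotientGroup.mk' N)) = (fs P).image (QuotientGroup.mk' N) := by
  ext y
  rw [mem_fs, Finset.mem_image]
  constructor
  · rintro ⟨x, hx, rfl⟩
    exact ⟨x, mem_fs.mpr hx, rfl⟩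
  · rintro ⟨x, hx, rfl⟩
    exact ⟨x, mem_fs.mp hx, rfl⟩

theorem pprod_map_of_disjoint [Finite G] (N P : Subgroup G) [N.Normal] (hd : P ⊓ N = ⊥)
    (f : G ⧸ N → ℕ) :
    pprod (P.map (QuotientGroup.mk' N)) f = pprod P (fun x => f (QuotientGroup.mk' N x)) := by
  classical
  unfold pprod
  rw [fs_map, Finset.prod_image]
  intro x hx y hy hxy
  have hx' := mem_fs.mp hx
  have hy' := mem_fs.mp hy
  have h1 : x⁻¹ * y ∈ N := QuotientGroup.eq.mp hxy
  have h2 : x⁻¹ * y ∈ P ⊓ N := ⟨P.mul_mem (P.inv_mem hx') hy', h1⟩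
  rw [hd, Subgroup.mem_bot] at h2
  calc x = x * (x⁻¹ * y) := by rw [h2, mul_one]
    _ = y := by group

theorem card_map_of_disjoint [Finite G] (N P : Subgroup G) [N.Normal] (hd : P ⊓ N = ⊥) :
    Nat.card (P.map (QuotientGroup.mk' N)) = Nat.card P := by
  have h1 := pprod_map_of_disjoint N P hd (fun _ => 2)
  rw [pprod_const, pprod_const] at h1
  exact Nat.pow_right_injective (le_refl 2) h1

open Classical in
theorem card_fibre [Finite G] (N P : Subgroup G) [N.Normal] (hNP : N ≤ P) (x₀ : G)
    (hx₀ : x₀ ∈ P) :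
    ((fs P).filter (fun a => QuotientGroup.mk' N a = QuotientGroup.mk' N x₀)).card =
      Nat.card N := by
  rw [← card_fs N]
  symm
  apply Finset.card_nbij' (fun n => x₀ * n) (fun a => x₀⁻¹ * a)
  · intro n hn
    have hn' : n ∈ N := mem_fs.mp hn
    simp only [Finset.coe_filter, Set.mem_setOf_eq]
    refine ⟨mem_fs.mpr (P.mul_mem hx₀ (hNP hn')), ?_⟩
    rw [map_mul]
    have : QuotientGroup.mk' N n = 1 := by
      rw [QuotientGroup.mk'_apply, QuotientGroup.eq_one_iff]; exact hn'
    rw [this, mul_one]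
  · intro a ha
    simp only [Finset.coe_filter, Set.mem_setOf_eq] at ha
    have h1 : x₀⁻¹ * a ∈ N := QuotientGroup.eq.mp ha.2.symm
    exact mem_fs.mpr h1
  · intro n _
    show x₀⁻¹ * (x₀ * n) = n
    group
  · intro a _
    show x₀ * (x₀⁻¹ * a) = a
    group

theorem pprod_map_of_le [Finite G] (N P : Subgroup G) [N.Normal] (hNP : N ≤ P)
    (f : G ⧸ N → ℕ) :
    pprod P (fun x => f (QuotientGroup.mk' N x)) =
      (pprod (P.map (QuotientGroup.mk' N)) f) ^ Nat.card N := by
  classical
  unfold pprod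
  rw [Finset.prod_comp, fs_map, ← Finset.prod_pow]
  apply Finset.prod_congr rfl
  intro b hb
  obtain ⟨x₀, hx₀, rfl⟩ := Finset.mem_image.mp hb
  rw [card_fibre N P hNP x₀ (mem_fs.mp hx₀)]

theorem card_map_of_le [Finite G] (N P : Subgroup G) [N.Normal] (hNP : N ≤ P) :
    Nat.card (P.map (QuotientGroup.mk' N)) * Nat.card N = Nat.card P := by
  have h1 := pprod_map_of_le N P hNP (fun _ => 2)
  rw [pprod_const, pprod_const, ← pow_mul] at h1
  exact (Nat.pow_right_injective (le_refl 2) h1).symm

/-- The key inequality. -/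
def Kineq [Finite G] (p : ℕ) (P : Subgroup G) : Prop :=
  (pprod P (fun x => mu P {x})) ^ p ≤
    (mu P {1}) ^ Nat.card P * (mu P (P : Set G)) ^ ((p - 1) * Nat.card P)

/-- The coprime action inequality. -/
def Bineq [Finite G] (p : ℕ) (N P : Subgroup G) : Prop :=
  (pprod P (fun x => cen N {x})) ^ p ≤
    (cen N {1}) ^ Nat.card P * (cen N (P : Set G)) ^ ((p - 1) * Nat.card P)

theorem Kineq_of_quot_coprime {p : ℕ} [Fact p.Prime] [Finite G] (P : Sylow p G) (N : Subgroup G)
    [N.Normal] (hN : (Nat.card N).Coprime p)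
    (hK : Kineq p ((P : Subgroup G).map (QuotientGroup.mk' N)))
    (hB : Bineq p N (P : Subgroup G)) : Kineq p (P : Subgroup G) := by
  have hPN : (P : Subgroup G) ⊓ N = ⊥ := by
    apply Subgroup.inf_eq_bot_of_coprime
    obtain ⟨k, hk⟩ := IsPGroup.iff_card.mp P.isPGroup'
    rw [hk]
    exact Nat.Coprime.pow_left k hN.symm
  unfold Kineq Bineq at *
  have e1 : ∀ x ∈ (P : Subgroup G), mu (P : Subgroup G) {x} = cen N {x} *
      mu ((P : Subgroup G).map (QuotientGroup.mk' N)) {QuotientGroup.mk' N x} := by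
    intro x hx
    have := mu_quot_coprime P N hN {x} (by
      intro y hy
      rw [Set.mem_singleton_iff] at hy
      rw [hy]; exact hx)
    rw [Set.image_singleton] at this
    exact this
  have e2 : mu (P : Subgroup G) {1} = cen N {1} *
      mu ((P : Subgroup G).map (QuotientGroup.mk' N)) {1} := by
    have := e1 1 (P : Subgroup G).one_mem
    rw [map_one] at this
    exact this
  have e3 : mu (P : Subgroup G) ((P : Subgroup G) : Set G) = cen N ((P : Subgroup G) : Set G) *
      mu ((P : Subgroup G).map (QuotientGroup.mk' N))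
        (((P : Subgroup G).map (QuotientGroup.mk' N) : Subgroup (G ⧸ N)) : Set (G ⧸ N)) := by
    have := mu_quot_coprime P N hN ((P : Subgroup G) : Set G) (le_refl _)
    rw [Subgroup.coe_map]
    exact this
  rw [pprod_congr _ e1, pprod_mul, ← pprod_map_of_disjoint N (P : Subgroup G) hPN
    (fun y => mu ((P : Subgroup G).map (QuotientGroup.mk' N)) {y}), e2, e3, mul_pow]
  rw [card_map_of_disjoint N (P : Subgroup G) hPN] at hK
  calc _ ≤ (cen N {1} ^ Nat.card (P : Subgroup G) *
          cen N ((P : Subgroup G) : Set G) ^ ((p - 1) * Nat.card (P : Subgroup G))) *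
        (mu ((P : Subgroup G).map (QuotientGroup.mk' N)) {1} ^ Nat.card (P : Subgroup G) *
          mu ((P : Subgroup G).map (QuotientGroup.mk' N))
            (((P : Subgroup G).map (QuotientGroup.mk' N) : Subgroup (G ⧸ N)) : Set (G ⧸ N)) ^
              ((p - 1) * Nat.card (P : Subgroup G))) := Nat.mul_le_mul hB hK
    _ = _ := by rw [mul_pow, mul_pow]; ring

theorem Kineq_of_quot_le {p : ℕ} [Fact p.Prime] [Finite G] (P N : Subgroup G) [N.Normal]
    (hNP : N ≤ P) (hK : Kineq p (P.map (QuotientGroup.mk' N))) : Kineq p P := by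
  have hp : p.Prime := Fact.out
  unfold Kineq at *
  have e1 : ∀ x ∈ P, mu P {x} = Nat.card N *
      mu (P.map (QuotientGroup.mk' N)) {QuotientGroup.mk' N x} := by
    intro x _
    have := mu_quot_le N P hNP {x}
    rw [Set.image_singleton] at this
    exact this
  have e2 : mu P {1} = Nat.card N * mu (P.map (QuotientGroup.mk' N)) {1} := by
    have := e1 1 P.one_mem
    rw [map_one] at this
    exact this
  have e3 : mu P (P : Set G) = Nat.card N * mu (P.map (QuotientGroup.mk' N))
      ((P.map (QuotientGroup.mk' N) : Subgroup (G ⧸ N)) : Set (G ⧸ N)) := by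
    have := mu_quot_le N P hNP (P : Set G)
    rw [Subgroup.coe_map]
    exact this
  rw [pprod_congr _ e1, pprod_mul, pprod_const, pprod_map_of_le N P hNP
    (fun y => mu (P.map (QuotientGroup.mk' N)) {y}), e2, e3, mul_pow, ← pow_mul, ← pow_mul,
    mul_comm (Nat.card N) p, pow_mul _ p (Nat.card N)]
  have hcard := card_map_of_le N P hNP
  have h1 : (pprod (P.map (QuotientGroup.mk' N))
      (fun y => mu (P.map (QuotientGroup.mk' N)) {y}) ^ p) ^ Nat.card N ≤
      mu (P.map (QuotientGroup.mk' N)) {1} ^ Nat.card P *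
        mu (P.map (QuotientGroup.mk' N))
          ((P.map (QuotientGroup.mk' N) : Subgroup (G ⧸ N)) : Set (G ⧸ N)) ^
            ((p - 1) * Nat.card P) := by
    calc _ ≤ (mu (P.map (QuotientGroup.mk' N)) {1} ^ Nat.card (P.map (QuotientGroup.mk' N)) *
          mu (P.map (QuotientGroup.mk' N))
            ((P.map (QuotientGroup.mk' N) : Subgroup (G ⧸ N)) : Set (G ⧸ N)) ^
              ((p - 1) * Nat.card (P.map (QuotientGroup.mk' N)))) ^ Nat.card N :=
          Nat.pow_le_pow_left hK (Nat.card N)
      _ = _ := by rw [mul_pow, ← pow_mul, ← pow_mul, mul_assoc, hcard]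
  have hp1 : p - 1 + 1 = p := Nat.sub_add_cancel hp.one_le
  calc Nat.card N ^ (Nat.card P * p) *
        (pprod (P.map (QuotientGroup.mk' N)) (fun y => mu (P.map (QuotientGroup.mk' N)) {y}) ^ p) ^
          Nat.card N
      ≤ Nat.card N ^ (Nat.card P * p) *
        (mu (P.map (QuotientGroup.mk' N)) {1} ^ Nat.card P *
          mu (P.map (QuotientGroup.mk' N))
            ((P.map (QuotientGroup.mk' N) : Subgroup (G ⧸ N)) : Set (G ⧸ N)) ^
              ((p - 1) * Nat.card P)) := Nat.mul_le_mul_left _ h1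
    _ = _ := by
      rw [mul_pow, mul_pow]
      have : Nat.card N ^ (Nat.card P * p) =
          Nat.card N ^ Nat.card P * Nat.card N ^ ((p - 1) * Nat.card P) := by
        rw [← pow_add]
        congr 1
        nth_rewrite 1 [← hp1]
        ring
      rw [this]
      ring

end Cfsg.Agent.Lib.Helper13.PE
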