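import Mathlib
import Cfsg.Agent.Lib.Helper13.PE2
import Cfsg.Agent.Lib.Helper13.BWleAmb

set_option autoImplicit false

/-!
# Transport of the coprime action inequality and the central-element step (helper13)
-/

namespace Cfsg.Agent.Lib.Helper13.PE

open Subgroup

variable {G : Type*} [Group G]

theorem mu_top [Finite G] (S : Set G) : mu (⊤ : Subgroup G) S = Nat.card G := by
  unfold mu
  apply Nat.card_congr
  exact Equiv.subtypeUnivEquiv (fun g s _ => Subgroup.mem_top _)

theorem cen_one (N : Subgroup G) : cen N {1} = Nat.card N := by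
  unfold cen
  have : Subgroup.centralizer ({1} : Set G) = ⊤ := by
    rw [eq_top_iff]
    intro x _
    rw [Subgroup.mem_centralizer_iff]
    intro y hy
    rw [Set.mem_singleton_iff] at hy
    rw [hy, one_mul, mul_one]
  rw [this, inf_top_eq]

theorem cen_pos [Finite G] (N : Subgroup G) (S : Set G) : 0 < cen N S := Nat.card_pos

/-- If `V` is a normal `p`-complement, the key inequality gives the coprime action inequality. -/
theorem Bineq_of_Kineq_top {p : ℕ} [Fact p.Prime] [Finite G] (P : Sylow p G) (V : Subgroup G)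
    [V.Normal] (hV : (Nat.card V).Coprime p) (htop : V ⊔ (P : Subgroup G) = ⊤)
    (hK : Kineq p (P : Subgroup G)) : Bineq p V (P : Subgroup G) := by
  have hp : p.Prime := Fact.out
  have hmap : (P : Subgroup G).map (QuotientGroup.mk' V) = ⊤ := by
    have h1 : (V ⊔ (P : Subgroup G)).map (QuotientGroup.mk' V) = ⊤ := by
      rw [htop, ← MonoidHom.range_eq_map, MonoidHom.range_eq_top]
      exact QuotientGroup.mk'_surjective V
    rw [Subgroup.map_sup] at h1
    have h2 : V.map (QuotientGroup.mk' V) = ⊥ :=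
      (Subgroup.map_eq_bot_iff _).mpr (le_of_eq (QuotientGroup.ker_mk' V).symm)
    rwa [h2, bot_sup_eq] at h1
  unfold Kineq at hK
  unfold Bineq
  have e1 : ∀ x ∈ (P : Subgroup G), mu (P : Subgroup G) {x} = cen V {x} * Nat.card (G ⧸ V) := by
    intro x hx
    have := mu_quot_coprime P V hV {x} (by
      intro y hy
      rw [Set.mem_singleton_iff] at hy
      rw [hy]; exact hx)
    rw [hmap, mu_top] at this
    exact this
  have e2 : mu (P : Subgroup G) {1} = cen V {1} * Nat.card (G ⧸ V) := e1 1 (P : Subgroup G).one_mem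
  have e3 : mu (P : Subgroup G) ((P : Subgroup G) : Set G) =
      cen V ((P : Subgroup G) : Set G) * Nat.card (G ⧸ V) := by
    have := mu_quot_coprime P V hV ((P : Subgroup G) : Set G) (le_refl _)
    rw [hmap, mu_top] at this
    exact this
  rw [pprod_congr _ e1, pprod_mul, pprod_const, e2, e3, mul_pow, mul_pow, mul_pow] at hK
  have hp1 : p - 1 + 1 = p := Nat.sub_add_cancel hp.one_le
  have ht : (Nat.card (G ⧸ V) ^ Nat.card (P : Subgroup G)) ^ p =
      Nat.card (G ⧸ V) ^ Nat.card (P : Subgroup G) *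
        Nat.card (G ⧸ V) ^ ((p - 1) * Nat.card (P : Subgroup G)) := by
    rw [← pow_mul, ← pow_add]
    congr 1
    calc Nat.card (P : Subgroup G) * p = Nat.card (P : Subgroup G) * (p - 1 + 1) := by rw [hp1]
      _ = _ := by ring
  have hpos : 0 < (Nat.card (G ⧸ V) ^ Nat.card (P : Subgroup G)) ^ p :=
    pow_pos (pow_pos Nat.card_pos _) _
  apply Nat.le_of_mul_le_mul_right _ hpos
  calc _ ≤ _ := hK
    _ = _ := by rw [ht]; ring

/-- The map of `V' ⊓ C(S')` under the inclusion of a subgroup. -/
theorem cen_subgroupOf (H V : Subgroup G) (hVH : V ≤ H) (S' : Set H) :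
    cen (V.subgroupOf H) S' = cen V (H.subtype '' S') := by
  unfold cen
  have : ((V.subgroupOf H) ⊓ Subgroup.centralizer S').map H.subtype =
      V ⊓ Subgroup.centralizer (H.subtype '' S') := by
    ext x
    constructor
    · rintro ⟨y, hy, rfl⟩
      obtain ⟨hy1, hy2⟩ := Subgroup.mem_inf.mp hy
      refine Subgroup.mem_inf.mpr ⟨Subgroup.mem_subgroupOf.mp hy1, ?_⟩
      rw [Subgroup.mem_centralizer_iff]
      rintro _ ⟨s, hs, rfl⟩
      have := (Subgroup.mem_centralizer_iff.mp hy2) s hs
      exact congrArg Subtype.val this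
    · intro hx
      obtain ⟨hx1, hx2⟩ := Subgroup.mem_inf.mp hx
      refine ⟨⟨x, hVH hx1⟩, Subgroup.mem_inf.mpr ⟨Subgroup.mem_subgroupOf.mpr hx1, ?_⟩, rfl⟩
      rw [Subgroup.mem_centralizer_iff]
      intro s hs
      apply Subtype.ext
      exact (Subgroup.mem_centralizer_iff.mp hx2) _ ⟨s, hs, rfl⟩
  rw [← this, Subgroup.card_map_of_injective H.subtype_injective]

open Classical in
theorem pprod_subgroupOf [Finite G] (H P : Subgroup G) (hPH : P ≤ H) (f : G → ℕ) :
    pprod (P.subgroupOf H) (fun x => f x.1) = pprod P f := by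
  unfold pprod
  apply Finset.prod_nbij' (fun x : H => (x : G)) (fun x : G => if h : x ∈ H then ⟨x, h⟩ else 1)
  · intro a ha
    have := mem_fs.mp (Finset.mem_coe.mp ha)
    exact Finset.mem_coe.mpr (mem_fs.mpr (Subgroup.mem_subgroupOf.mp this))
  · intro a ha
    have ha' : a ∈ P := mem_fs.mp (Finset.mem_coe.mp ha)
    apply Finset.mem_coe.mpr
    apply mem_fs.mpr
    rw [dif_pos (hPH ha')]
    exact Subgroup.mem_subgroupOf.mpr ha'
  · intro a _
    simp
  · intro a ha
    have ha' : a ∈ P := mem_fs.mp (Finset.mem_coe.mp ha)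
    rw [dif_pos (hPH ha')]
  · intro a _
    rfl

theorem Bineq_subgroupOf [Finite G] (p : ℕ) (H V P : Subgroup G) (hVH : V ≤ H) (hPH : P ≤ H)
    (h : Bineq p (V.subgroupOf H) (P.subgroupOf H)) : Bineq p V P := by
  unfold Bineq at *
  have e1 : ∀ x : H, cen (V.subgroupOf H) {x} = cen V {(x : G)} := by
    intro x
    rw [cen_subgroupOf H V hVH, Set.image_singleton]
    rfl
  have e2 : cen (V.subgroupOf H) {1} = cen V {1} := by
    rw [e1 1]; rfl
  have e3 : cen (V.subgroupOf H) ((P.subgroupOf H : Subgroup H) : Set H) = cen V (P : Set G) := by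
    rw [cen_subgroupOf H V hVH]
    congr 1
    ext x
    constructor
    · rintro ⟨y, hy, rfl⟩
      exact Subgroup.mem_subgroupOf.mp hy
    · intro hx
      exact ⟨⟨x, hPH hx⟩, Subgroup.mem_subgroupOf.mpr hx, rfl⟩
  have e4 : Nat.card (P.subgroupOf H) = Nat.card P :=
    Nat.card_congr (Subgroup.subgroupOfEquivOfLe hPH).toEquiv
  have e5 : pprod (P.subgroupOf H) (fun x => cen (V.subgroupOf H) {x}) =
      pprod P (fun x => cen V {x}) := by
    rw [← pprod_subgroupOf H P hPH (fun x => cen V {x})]
    exact pprod_congr _ (fun x _ => e1 x)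
  rw [e5, e2, e3, e4] at h
  exact h

/-- The central-element step. -/
theorem Bineq_of_central {p : ℕ} [Fact p.Prime] [Finite G] (P V : Subgroup G) (hP : IsPGroup p P)
    (hV : (Nat.card V).Coprime p) (hPV : P ≤ normalizer (V : Set G)) (z : G) (hz : z ∈ P)
    (hzp : z ^ p = 1) (hzc : ∀ x ∈ P, x * z = z * x)
    (hW : Bineq p (V ⊓ Subgroup.centralizer {z}) P) : Bineq p V P := by
  classical
  have hp : p.Prime := Fact.out
  unfold Bineq at *
  obtain ⟨W, hWdef⟩ : ∃ W : Subgroup G, W = V ⊓ Subgroup.centralizer {z} := ⟨_, rfl⟩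
  rw [← hWdef] at hW
  -- per-element inequality
  have key : ∀ x ∈ P, Nat.card W * ∏ j ∈ Finset.range p, cen V {x * z ^ j} ≤
      Nat.card V * cen W {x} ^ p := by
    intro x hx
    have hcomm : ∀ a ∈ ({x, z} : Set G), ∀ b ∈ ({x, z} : Set G), a * b = b * a := by
      intro a ha b hb
      rcases ha with rfl | ha <;> rcases hb with rfl | hb
      · rfl
      · rw [Set.mem_singleton_iff] at hb; rw [hb]; exact hzc a hx
      · rw [Set.mem_singleton_iff] at ha; rw [ha]; exact (hzc b hx).symm
      · rw [Set.mem_singleton_iff] at ha hb; rw [ha, hb]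
    have hAle : Subgroup.closure ({x, z} : Set G) ≤ P := by
      rw [Subgroup.closure_le]
      intro a ha
      rcases ha with rfl | ha
      · exact hx
      · rw [Set.mem_singleton_iff] at ha; rw [ha]; exact hz
    have hAcomm : ∀ a ∈ Subgroup.closure ({x, z} : Set G),
        ∀ b ∈ Subgroup.closure ({x, z} : Set G), a * b = b * a := by
      intro a ha b hb
      have inst := Subgroup.isMulCommutative_closure hcomm
      have := inst.is_comm.comm ⟨a, ha⟩ ⟨b, hb⟩
      exact congrArg Subtype.val this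
    have h := Cfsg.Agent.Lib.Helper13.BWle.bw_ambient_le p (Subgroup.closure ({x, z} : Set G)) V
      (hP.to_le hAle) hAcomm (hAle.trans hPV) hV x z
      (Subgroup.subset_closure (Set.mem_insert x _))
      (Subgroup.subset_closure (Set.mem_insert_of_mem x rfl)) hzp
    have e1 : Nat.card ↥(Cfsg.Agent.Lib.Helper10.BW.Cn V z z) = Nat.card W := by
      rw [Cfsg.Agent.Lib.Helper10.BW.Cn_self, hWdef]
    have e2 : Nat.card ↥(Cfsg.Agent.Lib.Helper10.BW.Cn V x z) = cen W {x} := by
      unfold cen Cfsg.Agent.Lib.Helper10.BW.Cn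
      rw [hWdef, inf_assoc, inf_assoc, inf_comm (Subgroup.centralizer {x})]
    have e3 : ∀ j ∈ Finset.range p,
        Nat.card ↥(Cfsg.Agent.Lib.Helper10.BW.Cn V (x * z ^ j) (x * z ^ j)) =
          cen V {x * z ^ j} := by
      intro j _
      rw [Cfsg.Agent.Lib.Helper10.BW.Cn_self]
      rfl
    rw [e1, e2, Finset.prod_congr rfl e3] at h
    exact h
  -- reindexing
  have hshift : ∀ j : ℕ, pprod P (fun x => cen V {x * z ^ j}) = pprod P (fun x => cen V {x}) := by
    intro j
    unfold pprod
    apply Finset.prod_nbij' (fun x => x * z ^ j) (fun x => x * (z ^ j)⁻¹)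
    · intro a ha
      exact Finset.mem_coe.mpr (mem_fs.mpr (P.mul_mem (mem_fs.mp (Finset.mem_coe.mp ha))
        (P.pow_mem hz j)))
    · intro a ha
      exact Finset.mem_coe.mpr (mem_fs.mpr (P.mul_mem (mem_fs.mp (Finset.mem_coe.mp ha))
        (P.inv_mem (P.pow_mem hz j))))
    · intro a _
      show a * z ^ j * (z ^ j)⁻¹ = a
      group
    · intro a _
      show a * (z ^ j)⁻¹ * z ^ j = a
      group
    · intro a _
      rfl
  have hpow : (pprod P (fun x => cen V {x})) ^ p =
      pprod P (fun x => ∏ j ∈ Finset.range p, cen V {x * z ^ j}) := by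
    unfold pprod
    rw [Finset.prod_comm]
    have : ∀ j ∈ Finset.range p, ∏ x ∈ fs P, cen V {x * z ^ j} = ∏ x ∈ fs P, cen V {x} :=
      fun j _ => hshift j
    rw [Finset.prod_congr rfl this, Finset.prod_const, Finset.card_range]
  -- product of the per-element inequalities
  have hprod : Nat.card W ^ Nat.card P * (pprod P (fun x => cen V {x})) ^ p ≤
      Nat.card V ^ Nat.card P * (pprod P (fun x => cen W {x})) ^ p := by
    rw [hpow, ← pprod_const P (Nat.card W), ← pprod_const P (Nat.card V), ← pprod_mul]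
    have : (pprod P (fun x => cen W {x})) ^ p = pprod P (fun x => cen W {x} ^ p) := by
      unfold pprod
      rw [Finset.prod_pow]
    rw [this, ← pprod_mul]
    unfold pprod
    apply Finset.prod_le_prod
    · intro i _
      exact Nat.zero_le _
    · intro x hx
      exact key x (mem_fs.mp hx)
  -- C_W(P) = C_V(P)
  have hcenP : cen W (P : Set G) = cen V (P : Set G) := by
    unfold cen
    have : Subgroup.centralizer {z} ⊓ Subgroup.centralizer (P : Set G) =
        Subgroup.centralizer (P : Set G) := by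
      apply inf_eq_right.mpr
      apply Subgroup.centralizer_le
      intro a ha
      rw [Set.mem_singleton_iff] at ha
      rw [ha]
      exact hz
    rw [hWdef, inf_assoc, this]
  rw [cen_one] at hW ⊢
  rw [hcenP] at hW
  have hWpos : 0 < Nat.card W ^ Nat.card P := pow_pos Nat.card_pos _
  apply Nat.le_of_mul_le_mul_left _ hWpos
  calc Nat.card W ^ Nat.card P * (pprod P (fun x => cen V {x})) ^ p
      ≤ Nat.card V ^ Nat.card P * (pprod P (fun x => cen W {x})) ^ p := hprod
    _ ≤ Nat.card V ^ Nat.card P * (Nat.card W ^ Nat.card P *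
          cen V (P : Set G) ^ ((p - 1) * Nat.card P)) := Nat.mul_le_mul_left _ hW
    _ = _ := by ring

end Cfsg.Agent.Lib.Helper13.PE
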