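import Mathlib
import Cfsg.Prelude.Def_Local
import Cfsg.Agent.Lib.Helper13.PE3
import Cfsg.Agent.Lib.Helper17.PSolvBasic

set_option autoImplicit false

/-!
# The key inequality in `p`-solvable groups (helper13)

`Kineq_main`: in a finite `p`-solvable group with Sylow `p`-subgroup `P`,
`(∏_{x ∈ P} μ(x)) ^ p ≤ |G| ^ |P| * |N_G(P)| ^ ((p-1)|P|)` where `μ(x) = #{g | g x g⁻¹ ∈ P}`.
-/

namespace Cfsg.Agent.Lib.Helper13.PE

open Subgroup Cfsg.Agent.Lib.Helper17.PSolvBasic

universe u

/-- subgroups of `p`-solvable groups are `p`-solvable (copy of helper15's proof). -/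
theorem isPSolvable_subgroup_pe {p : ℕ} (hp : p.Prime) {G : Type*} [Group G]
    (hsol : Cfsg.IsPSolvable p G) (L : Subgroup G) : Cfsg.IsPSolvable p L := by
  obtain ⟨n, H, h0, hlast, hmono, hnorm, hstep⟩ := hsol
  refine ⟨n, fun i => (H i).subgroupOf L, ?_, ?_, ?_, ?_, ?_⟩
  · simp only [h0, Subgroup.bot_subgroupOf]
  · simp only [hlast, Subgroup.top_subgroupOf]
  · intro i j hij
    exact Subgroup.subgroupOf_mono L (hmono hij)
  · intro i
    exact (hnorm i).subgroupOf L
  · intro i
    have hle : H i.castSucc ≤ H i.succ := hmono (Fin.castSucc_le_succ i)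
    have h1 : ((H i.castSucc).subgroupOf L).relIndex ((H i.succ).subgroupOf L)
        = (H i.castSucc ⊓ L).relIndex (H i.succ ⊓ L) := by
      rw [← Subgroup.inf_subgroupOf_right (H i.succ) L,
        Subgroup.relIndex_subgroupOf inf_le_right]
      have h2 : H i.castSucc ⊓ L = H i.castSucc ⊓ (H i.succ ⊓ L) := by
        rw [← inf_assoc, inf_eq_left.mpr hle]
      rw [h2, Subgroup.inf_relIndex_right]
    have hd : ((H i.castSucc).subgroupOf L).relIndex ((H i.succ).subgroupOf L) ∣
        (H i.castSucc).relIndex (H i.succ) := by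
      rw [h1]; exact inf_relIndex_inf_dvd (hnorm _) hle
    have : IsPOrP' p ((H i.castSucc).relIndex (H i.succ)) := by
      rcases hstep i with ⟨m, hm⟩ | h
      · exact Or.inl ⟨m, hm⟩
      · exact Or.inr h
    rcases this.of_dvd hp hd with ⟨m, hm⟩ | h
    · exact Or.inl ⟨m, hm⟩
    · exact Or.inr h

variable {G : Type u} [Group G]

theorem fs_bot [Finite G] : fs (⊥ : Subgroup G) = {1} := by
  ext x
  rw [mem_fs, Subgroup.mem_bot, Finset.mem_singleton]

theorem Kineq_bot [Finite G] {p : ℕ} (hp : p.Prime) (P : Subgroup G) (hP : P = ⊥) : Kineq p P := by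
  subst hP
  unfold Kineq
  have h1 : pprod (⊥ : Subgroup G) (fun x => mu (⊥ : Subgroup G) {x}) = mu (⊥ : Subgroup G) {1} := by
    unfold pprod
    rw [fs_bot, Finset.prod_singleton]
  have h2 : (((⊥ : Subgroup G) : Subgroup G) : Set G) = {1} := Subgroup.coe_bot
  rw [h1, h2, Subgroup.card_bot, pow_one, mul_one, ← pow_succ']
  rw [Nat.sub_add_cancel hp.one_le]

theorem normal_pgroup_le_sylow {p : ℕ} [Fact p.Prime] (P : Sylow p G) (M : Subgroup G) [M.Normal]
    (hM : IsPGroup p M) : M ≤ (P : Subgroup G) := by
  have h1 : IsPGroup p ↥(M ⊔ (P : Subgroup G)) := hM.to_sup_of_normal_left P.isPGroup'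
  have h2 := P.is_maximal' h1 le_sup_right
  calc M ≤ M ⊔ (P : Subgroup G) := le_sup_left
    _ = P := h2

theorem card_quot_lt [Finite G] (M : Subgroup G) (hM : M ≠ ⊥) : Nat.card (G ⧸ M) < Nat.card G := by
  have h1 := Subgroup.card_eq_card_quotient_mul_card_subgroup M
  have h2 : 1 < Nat.card M := by
    rcases Nat.lt_or_ge 1 (Nat.card M) with h | h
    · exact h
    · exfalso
      have : Nat.card M = 1 := le_antisymm h Nat.card_pos
      exact hM (Subgroup.card_eq_one.mp this)
  have h3 : 0 < Nat.card (G ⧸ M) := Nat.card_pos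
  rw [h1]
  nlinarith

theorem card_sub_lt [Finite G] (H : Subgroup G) (hH : H ≠ ⊤) : Nat.card H < Nat.card G := by
  rcases lt_or_eq_of_le (Subgroup.card_le_card_group H) with h | h
  · exact h
  · exact absurd ((Subgroup.card_eq_iff_eq_top H).mp h) hH

/-- If `G` has a nontrivial normal `p`-subgroup, the key inequality follows by induction. -/
theorem Kineq_of_normal_pgroup [Finite G] {p : ℕ} [Fact p.Prime] (hsol : Cfsg.IsPSolvable p G)
    (P : Sylow p G) (M : Subgroup G) [M.Normal] (hM : IsPGroup p M) (hM0 : M ≠ ⊥)
    (ih : ∀ (H : Type u) [Group H] [Finite H], Nat.card H < Nat.card G → Cfsg.IsPSolvable p H →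
      ∀ Q : Sylow p H, Kineq p (Q : Subgroup H)) : Kineq p (P : Subgroup G) := by
  have hp : p.Prime := Fact.out
  have hMP : M ≤ (P : Subgroup G) := normal_pgroup_le_sylow P M hM
  apply Kineq_of_quot_le (P : Subgroup G) M hMP
  have := ih (G ⧸ M) (card_quot_lt M hM0) (isPSolvable_quotient hp hsol M)
    (P.mapSurjective (QuotientGroup.mk'_surjective M))
  rwa [Sylow.coe_mapSurjective] at this

/-- The coprime action inequality for `V` with `V P` a proper subgroup, by induction. -/
theorem Bineq_of_proper [Finite G] {p : ℕ} [Fact p.Prime] (hsol : Cfsg.IsPSolvable p G)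
    (P : Sylow p G) (V : Subgroup G) (hV : (Nat.card V).Coprime p)
    (hPV : (P : Subgroup G) ≤ normalizer (V : Set G)) (hne : V ⊔ (P : Subgroup G) ≠ ⊤)
    (ih : ∀ (H : Type u) [Group H] [Finite H], Nat.card H < Nat.card G → Cfsg.IsPSolvable p H →
      ∀ Q : Sylow p H, Kineq p (Q : Subgroup H)) : Bineq p V (P : Subgroup G) := by
  have hp : p.Prime := Fact.out
  obtain ⟨H, hH⟩ : ∃ H : Subgroup G, H = V ⊔ (P : Subgroup G) := ⟨_, rfl⟩
  have hVH : V ≤ H := hH ▸ le_sup_left
  have hPH : (P : Subgroup G) ≤ H := hH ▸ le_sup_right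
  have hHN : H ≤ normalizer (V : Set G) := by
    rw [hH]; exact sup_le Subgroup.le_normalizer hPV
  haveI : (V.subgroupOf H).Normal := (Subgroup.normal_subgroupOf_iff_le_normalizer hVH).mpr hHN
  have hcard : Nat.card (V.subgroupOf H) = Nat.card V :=
    Nat.card_congr (Subgroup.subgroupOfEquivOfLe hVH).toEquiv
  have htop : V.subgroupOf H ⊔ ((P.subtype hPH : Sylow p H) : Subgroup H) = ⊤ := by
    rw [Sylow.coe_subtype, ← Subgroup.subgroupOf_sup hVH hPH, ← hH, Subgroup.subgroupOf_self]
  have hK := ih H (card_sub_lt H (hH ▸ hne)) (isPSolvable_subgroup_pe hp hsol H) (P.subtype hPH)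
  have hB := Bineq_of_Kineq_top (P.subtype hPH) (V.subgroupOf H) (hcard ▸ hV) htop hK
  rw [Sylow.coe_subtype] at hB
  exact Bineq_subgroupOf p H V (P : Subgroup G) hVH hPH hB

/-- A nontrivial finite `p`-group has a central element of order `p`. -/
theorem exists_central_order_p [Finite G] {p : ℕ} [Fact p.Prime] (P : Subgroup G)
    (hP : IsPGroup p P) (hP0 : P ≠ ⊥) :
    ∃ z : G, z ∈ P ∧ z ≠ 1 ∧ z ^ p = 1 ∧ ∀ x ∈ P, x * z = z * x := by
  have hp : p.Prime := Fact.out
  haveI : Nontrivial P := (Subgroup.nontrivial_iff_ne_bot P).mpr hP0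
  haveI := hP.center_nontrivial
  have h1 : IsPGroup p (Subgroup.center P) := hP.to_subgroup _
  have h2 : p ∣ Nat.card (Subgroup.center P) := by
    rcases h1.card_eq_or_dvd with h | h
    · exfalso
      have := Subgroup.card_eq_one.mp h
      exact (Subgroup.nontrivial_iff_ne_bot _).mp inferInstance this
    · exact h
  obtain ⟨z, hz⟩ := exists_prime_orderOf_dvd_card' p h2
  refine ⟨((z : P) : G), (z : P).2, ?_, ?_, ?_⟩
  · intro h
    have : z = 1 := by
      apply Subtype.ext; apply Subtype.ext; exact h
    rw [this, orderOf_one] at hz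
    exact hp.one_lt.ne hz
  · have : z ^ p = 1 := by rw [← hz]; exact pow_orderOf_eq_one z
    have := congrArg (fun w : Subgroup.center P => ((w : P) : G)) this
    simpa using this
  · intro x hx
    have := (Subgroup.mem_center_iff.mp z.2) ⟨x, hx⟩
    exact congrArg Subtype.val this

theorem Kineq_main (p : ℕ) [Fact p.Prime] : ∀ n : ℕ, ∀ (G : Type u) [Group G] [Finite G],
    Nat.card G = n → Cfsg.IsPSolvable p G → ∀ P : Sylow p G, Kineq p (P : Subgroup G) := by
  intro n
  induction n using Nat.strong_induction_on with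
  | _ n ih =>
  intro G _ _ hn hsol P
  have hp : p.Prime := Fact.out
  have ih' : ∀ (H : Type u) [Group H] [Finite H], Nat.card H < Nat.card G → Cfsg.IsPSolvable p H →
      ∀ Q : Sylow p H, Kineq p (Q : Subgroup H) := by
    intro H _ _ hlt hs Q
    exact ih (Nat.card H) (hn ▸ hlt) H rfl hs Q
  by_cases hPbot : (P : Subgroup G) = ⊥
  · exact Kineq_bot hp _ hPbot
  have hGnt : (⊥ : Subgroup G) < ⊤ := by
    rw [bot_lt_iff_ne_bot]
    intro h
    apply hPbot
    rw [eq_bot_iff, ← h]
    exact le_top
  obtain ⟨M, hMn, hM0, -, hMp⟩ := exists_normal_between hp hsol (Z := ⊥) (C := ⊤)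
    inferInstance inferInstance hGnt
  rw [Subgroup.relIndex_bot_left] at hMp
  haveI := hMn
  have hM0' : M ≠ ⊥ := (bot_lt_iff_ne_bot.mp hM0)
  rcases hMp with ⟨m, hm⟩ | hcop
  · exact Kineq_of_normal_pgroup hsol P M (IsPGroup.of_card hm) hM0' ih'
  · have hquot : Kineq p ((P : Subgroup G).map (QuotientGroup.mk' M)) := by
      have := ih' (G ⧸ M) (card_quot_lt M hM0') (isPSolvable_quotient hp hsol M)
        (P.mapSurjective (QuotientGroup.mk'_surjective M))
      rwa [Sylow.coe_mapSurjective] at this
    have hPM : (P : Subgroup G) ≤ normalizer (M : Set G) := by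
      rw [Subgroup.normalizer_eq_top]; exact le_top
    by_cases htop : M ⊔ (P : Subgroup G) = ⊤
    · obtain ⟨z, hzP, hz1, hzp, hzc⟩ := exists_central_order_p (P : Subgroup G) P.isPGroup' hPbot
      by_cases hzM : ∀ x ∈ M, x * z = z * x
      · -- z is central in G
        have hzcent : z ∈ Subgroup.center G := by
          have : (⊤ : Subgroup G) ≤ Subgroup.centralizer {z} := by
            rw [← htop]
            apply sup_le
            · intro x hx
              rw [Subgroup.mem_centralizer_iff]
              intro y hy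
              rw [Set.mem_singleton_iff] at hy
              rw [hy]; exact (hzM x hx).symm
            · intro x hx
              rw [Subgroup.mem_centralizer_iff]
              intro y hy
              rw [Set.mem_singleton_iff] at hy
              rw [hy]; exact (hzc x hx).symm
          rw [Subgroup.mem_center_iff]
          intro g
          have := (Subgroup.mem_centralizer_iff.mp (this (Subgroup.mem_top g))) z rfl
          exact this.symm
        haveI : (Subgroup.zpowers z).Normal := by
          constructor
          intro x hx g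
          have hxc : x ∈ Subgroup.center G :=
            (Subgroup.zpowers_le.mpr hzcent) hx
          have : g * x * g⁻¹ = x := by
            rw [(Subgroup.mem_center_iff.mp hxc) g, mul_inv_cancel_right]
          rw [this]; exact hx
        have hzpg : IsPGroup p (Subgroup.zpowers z) := P.isPGroup'.to_le (Subgroup.zpowers_le.mpr hzP)
        have hz0 : Subgroup.zpowers z ≠ ⊥ := by
          intro h
          exact hz1 (Subgroup.zpowers_eq_bot.mp h)
        exact Kineq_of_normal_pgroup hsol P _ hzpg hz0 ih'
      · -- z does not centralize M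
        apply Kineq_of_quot_coprime P M hcop hquot
        apply Bineq_of_central (P : Subgroup G) M P.isPGroup' hcop hPM z hzP hzp hzc
        have hWcop : (Nat.card ↥(M ⊓ Subgroup.centralizer {z})).Coprime p :=
          Nat.Coprime.coprime_dvd_left (Subgroup.card_dvd_of_le inf_le_left) hcop
        have hPW : (P : Subgroup G) ≤ normalizer ((M ⊓ Subgroup.centralizer {z} : Subgroup G) : Set G) := by
          intro g hg
          have hgz : g * z = z * g := hzc g hg
          have hgz' : g⁻¹ * z = z * g⁻¹ := by
            have := (hzc g⁻¹ ((P : Subgroup G).inv_mem hg))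
            exact this
          rw [Subgroup.mem_normalizer_iff]
          intro h
          constructor
          · intro hh
            obtain ⟨hh1, hh2⟩ := Subgroup.mem_inf.mp hh
            refine Subgroup.mem_inf.mpr ⟨hMn.conj_mem h hh1 g, ?_⟩
            rw [Subgroup.mem_centralizer_iff] at hh2 ⊢
            intro y hy
            rw [Set.mem_singleton_iff] at hy
            have hhz : z * h = h * z := hh2 z rfl
            rw [hy]
            calc z * (g * h * g⁻¹) = (z * g) * h * g⁻¹ := by group
              _ = g * (z * h) * g⁻¹ := by rw [← hgz]; group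
              _ = g * h * (z * g⁻¹) := by rw [hhz]; group
              _ = g * h * g⁻¹ * z := by rw [← hgz']; group
          · intro hh
            obtain ⟨hh1, hh2⟩ := Subgroup.mem_inf.mp hh
            have e : h = g⁻¹ * (g * h * g⁻¹) * g⁻¹⁻¹ := by group
            refine Subgroup.mem_inf.mpr ⟨?_, ?_⟩
            · rw [e]; exact hMn.conj_mem _ hh1 g⁻¹
            · rw [Subgroup.mem_centralizer_iff] at hh2 ⊢
              intro y hy
              rw [Set.mem_singleton_iff] at hy
              have hhz : z * (g * h * g⁻¹) = (g * h * g⁻¹) * z := hh2 z rfl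
              rw [hy]
              have e1 : z * h = g⁻¹ * (z * (g * h * g⁻¹)) * g := by
                calc z * h = (z * g⁻¹) * (g * h * g⁻¹) * g := by group
                  _ = g⁻¹ * (z * (g * h * g⁻¹)) * g := by rw [← hgz']; group
              rw [e1, hhz]
              calc g⁻¹ * (g * h * g⁻¹ * z) * g = h * (g⁻¹ * z) * g := by group
                _ = h * (z * g⁻¹) * g := by rw [hgz']
                _ = h * z := by group
        have hWne : (M ⊓ Subgroup.centralizer {z}) ⊔ (P : Subgroup G) ≠ ⊤ := by
          intro h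
          apply hzM
          have : (⊤ : Subgroup G) ≤ Subgroup.centralizer {z} := by
            rw [← h]
            apply sup_le inf_le_right
            intro x hx
            rw [Subgroup.mem_centralizer_iff]
            intro y hy
            rw [Set.mem_singleton_iff] at hy
            rw [hy]; exact (hzc x hx).symm
          intro x _
          have := (Subgroup.mem_centralizer_iff.mp (this (Subgroup.mem_top x))) z rfl
          exact this.symm
        exact Bineq_of_proper hsol P _ hWcop hPW hWne ih'
    · apply Kineq_of_quot_coprime P M hcop hquot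
      exact Bineq_of_proper hsol P M hcop hPM htop ih'

end Cfsg.Agent.Lib.Helper13.PE
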