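import Mathlib
import Cfsg.Agent.Lib.Helper13.PE4

set_option autoImplicit false

/-!
# Counting `p`-elements against the Sylow number (helper13)

The final assembly: the counting formula `u = ∑_{x ∈ P} |G| / μ(x)`, the inequality of the means,
and the arithmetic giving `|P| ^ p * n ^ (p - 1) ≤ u ^ p`.
-/

namespace Cfsg.Agent.Lib.Helper13.PE

open Subgroup

variable {G : Type*} [Group G]

theorem mu_self [Finite G] (P : Subgroup G) :
    mu P (P : Set G) = Nat.card (normalizer (P : Set G)) := by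
  unfold mu
  apply Nat.card_congr
  apply Equiv.subtypeEquivRight
  intro g
  constructor
  · intro h
    rw [Subgroup.mem_normalizer_iff]
    intro x
    constructor
    · intro hx; exact h x hx
    · intro hx
      have hinj : Function.Injective (fun s : P => (⟨g * s * g⁻¹, h s s.2⟩ : P)) := by
        intro s t hst
        have := congrArg Subtype.val hst
        simp only at this
        apply Subtype.ext
        have h2 : g * (s : G) = g * (t : G) := mul_right_cancel this
        exact mul_left_cancel h2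
      have hsurj := Finite.injective_iff_surjective.mp hinj
      obtain ⟨s, hs⟩ := hsurj ⟨g * x * g⁻¹, hx⟩
      have := congrArg Subtype.val hs
      simp only at this
      have h2 : g * (s : G) = g * x := mul_right_cancel this
      have h3 : (s : G) = x := mul_left_cancel h2
      rw [← h3]; exact s.2
  · intro h s hs
    exact (Subgroup.mem_normalizer_iff.mp h s).mp hs

theorem mu_one_eq [Finite G] (P : Subgroup G) : mu P {1} = Nat.card G := by
  unfold mu
  apply Nat.card_congr
  apply Equiv.subtypeUnivEquiv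
  intro g s hs
  rw [Set.mem_singleton_iff] at hs
  rw [hs, mul_one, mul_inv_cancel]
  exact P.one_mem

theorem mu_conj (P : Subgroup G) (h x : G) : mu P {h * x * h⁻¹} = mu P {x} := by
  unfold mu
  apply Nat.card_congr
  refine Equiv.subtypeEquiv (Equiv.mulRight h) ?_
  intro g
  simp only [Set.mem_singleton_iff, forall_eq, Equiv.coe_mulRight]
  have : g * h * x * (g * h)⁻¹ = g * (h * x * h⁻¹) * g⁻¹ := by group
  rw [this]

theorem mu_pos_of_mem [Finite G] (P : Subgroup G) (x : G) (hx : x ∈ P) : 0 < mu P {x} := by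
  unfold mu
  haveI : Nonempty {g : G // ∀ s ∈ ({x} : Set G), g * s * g⁻¹ ∈ P} := by
    refine ⟨⟨1, ?_⟩⟩
    intro s hs
    rw [Set.mem_singleton_iff] at hs
    rw [hs, one_mul, inv_one, mul_one]
    exact hx
  exact Nat.card_pos

theorem mu_pos_iff {p : ℕ} [Fact p.Prime] [Finite G] (P : Sylow p G) (y : G) :
    0 < mu (P : Subgroup G) {y} ↔ ∃ k : ℕ, orderOf y = p ^ k := by
  unfold mu
  rw [Nat.card_pos_iff]
  constructor
  · rintro ⟨⟨⟨g, hg⟩⟩, -⟩
    have h1 : g * y * g⁻¹ ∈ (P : Subgroup G) := hg y rfl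
    obtain ⟨k, hk⟩ := (IsPGroup.iff_orderOf.mp P.isPGroup') ⟨_, h1⟩
    rw [Subgroup.orderOf_mk] at hk
    refine ⟨k, ?_⟩
    rw [← hk]
    have : SemiconjBy g y (g * y * g⁻¹) := by
      unfold SemiconjBy; group
    exact this.orderOf_eq
  · rintro ⟨k, hk⟩
    have hz : IsPGroup p (Subgroup.zpowers y) := by
      apply IsPGroup.of_card (n := k)
      rw [Nat.card_zpowers, hk]
    obtain ⟨Q, hQ⟩ := hz.exists_le_sylow
    obtain ⟨g, hg⟩ := MulAction.exists_smul_eq G Q P
    refine ⟨⟨⟨g, ?_⟩⟩, inferInstance⟩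
    intro s hs
    rw [Set.mem_singleton_iff] at hs
    rw [hs]
    have hy : y ∈ (Q : Subgroup G) := hQ (Subgroup.mem_zpowers y)
    have h1 : g * y * g⁻¹ ∈ ((g • Q : Sylow p G) : Subgroup G) := by
      rw [Sylow.coe_subgroup_smul, Subgroup.mem_pointwise_smul_iff_inv_smul_mem, MulAut.smul_def]
      simp only [MulAut.conj_inv_apply]
      have : g⁻¹ * (g * y * g⁻¹) * g = y := by group
      rw [this]
      exact hy
    rw [hg] at h1
    exact h1

open Classical in
theorem u_formula {p : ℕ} [Fact p.Prime] [Finite G] (P : Sylow p G) :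
    (Nat.card {g : G // ∃ k : ℕ, orderOf g = p ^ k} : ℝ) =
      ∑ x ∈ fs (P : Subgroup G), (Nat.card G : ℝ) / (mu (P : Subgroup G) {x} : ℝ) := by
  haveI : Fintype G := Fintype.ofFinite G
  have hcount : ∀ y : G, ((Finset.univ.filter (fun g : G => g * y * g⁻¹ ∈ (P : Subgroup G))).card) =
      mu (P : Subgroup G) {y} := by
    intro y
    unfold mu
    rw [Nat.card_eq_fintype_card, Fintype.card_subtype]
    congr 1
    ext g
    simp
  have h1 : ∀ y : G, (∑ g : G, if g * y * g⁻¹ ∈ (P : Subgroup G) then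
      (1 : ℝ) / mu (P : Subgroup G) {y} else 0) = if (∃ k : ℕ, orderOf y = p ^ k) then 1 else 0 := by
    intro y
    rw [← Finset.sum_filter, Finset.sum_const, nsmul_eq_mul, hcount]
    by_cases hy : ∃ k : ℕ, orderOf y = p ^ k
    · rw [if_pos hy]
      have hpos : (0 : ℝ) < mu (P : Subgroup G) {y} := by
        exact_mod_cast (mu_pos_iff P y).mpr hy
      field_simp
    · rw [if_neg hy]
      have : mu (P : Subgroup G) {y} = 0 := by
        by_contra h
        exact hy ((mu_pos_iff P y).mp (Nat.pos_of_ne_zero h))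
      rw [this]; simp
  have h2 : ∀ g : G, (∑ y : G, if g * y * g⁻¹ ∈ (P : Subgroup G) then
      (1 : ℝ) / mu (P : Subgroup G) {y} else 0) =
        ∑ x ∈ fs (P : Subgroup G), (1 : ℝ) / mu (P : Subgroup G) {x} := by
    intro g
    rw [Fintype.sum_equiv (MulAut.conj g).toEquiv _
      (fun x => if x ∈ (P : Subgroup G) then (1 : ℝ) / mu (P : Subgroup G) {x} else 0)]
    · rw [← Finset.sum_filter]
      apply Finset.sum_congr _ (fun _ _ => rfl)
      ext x
      simp [mem_fs]
    · intro y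
      simp only [MulEquiv.toEquiv_eq_coe, MulEquiv.coe_toEquiv, MulAut.conj_apply]
      rw [mu_conj]
      exact if_congr Iff.rfl rfl rfl
  calc (Nat.card {g : G // ∃ k : ℕ, orderOf g = p ^ k} : ℝ)
      = ∑ y : G, if (∃ k : ℕ, orderOf y = p ^ k) then (1 : ℝ) else 0 := by
        rw [Nat.card_eq_fintype_card, Fintype.card_subtype, Finset.sum_boole]
    _ = ∑ y : G, ∑ g : G, if g * y * g⁻¹ ∈ (P : Subgroup G) then
          (1 : ℝ) / mu (P : Subgroup G) {y} else 0 := by
        apply Finset.sum_congr rfl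
        intro y _
        rw [h1]
    _ = ∑ g : G, ∑ y : G, if g * y * g⁻¹ ∈ (P : Subgroup G) then
          (1 : ℝ) / mu (P : Subgroup G) {y} else 0 := Finset.sum_comm
    _ = ∑ g : G, ∑ x ∈ fs (P : Subgroup G), (1 : ℝ) / mu (P : Subgroup G) {x} := by
        apply Finset.sum_congr rfl
        intro g _
        rw [h2]
    _ = (Nat.card G : ℝ) * ∑ x ∈ fs (P : Subgroup G), (1 : ℝ) / mu (P : Subgroup G) {x} := by
        rw [Finset.sum_const, Finset.card_univ, nsmul_eq_mul, Nat.card_eq_fintype_card]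
    _ = ∑ x ∈ fs (P : Subgroup G), (Nat.card G : ℝ) / (mu (P : Subgroup G) {x} : ℝ) := by
        rw [Finset.mul_sum]
        apply Finset.sum_congr rfl
        intro x _
        ring

/-- The inequality of the arithmetic and geometric means, in integer exponent form. -/
theorem amgm_card {ι : Type*} (s : Finset ι) (z : ι → ℝ) (hz : ∀ i ∈ s, 0 ≤ z i) :
    (s.card : ℝ) ^ s.card * ∏ i ∈ s, z i ≤ (∑ i ∈ s, z i) ^ s.card := by
  rcases s.eq_empty_or_nonempty with rfl | hs
  · simp
  have hn : (0 : ℝ) < s.card := by exact_mod_cast hs.card_pos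
  have hn' : s.card ≠ 0 := hs.card_pos.ne'
  have h := Real.geom_mean_le_arith_mean_weighted s (fun _ => ((s.card : ℝ))⁻¹) z
    (fun _ _ => by positivity)
    (by rw [Finset.sum_const, nsmul_eq_mul]; field_simp) hz
  rw [Real.finset_prod_rpow s z hz, ← Finset.mul_sum] at h
  have h0 : (0 : ℝ) ≤ (∏ i ∈ s, z i) ^ ((s.card : ℝ))⁻¹ :=
    Real.rpow_nonneg (Finset.prod_nonneg hz) _
  have h' := pow_le_pow_left₀ h0 h s.card
  rw [Real.rpow_inv_natCast_pow (Finset.prod_nonneg hz) hn', mul_pow] at h'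
  calc (s.card : ℝ) ^ s.card * ∏ i ∈ s, z i
      ≤ (s.card : ℝ) ^ s.card * (((s.card : ℝ))⁻¹ ^ s.card * (∑ i ∈ s, z i) ^ s.card) :=
        mul_le_mul_of_nonneg_left h' (by positivity)
    _ = (∑ i ∈ s, z i) ^ s.card := by
        rw [← mul_assoc, ← mul_pow, mul_inv_cancel₀ hn.ne', one_pow, one_mul]

theorem final_arith (a g N s u A m q : ℕ) (hg : g = s * N) (hgpos : 0 < g) (hNpos : 0 < N)
    (hm : m ≠ 0) (h1 : a ^ m * g ^ m ≤ u ^ m * A) (h2 : A ^ (q + 1) ≤ g ^ m * N ^ (q * m)) :
    a ^ (q + 1) * s ^ q ≤ u ^ (q + 1) := by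
  have h3 : (a ^ m * g ^ m) ^ (q + 1) ≤ (u ^ m * A) ^ (q + 1) := Nat.pow_le_pow_left h1 _
  have h4 : (u ^ m * A) ^ (q + 1) ≤ (u ^ m) ^ (q + 1) * (g ^ m * N ^ (q * m)) := by
    rw [mul_pow]
    exact Nat.mul_le_mul_left _ h2
  have h5 := h3.trans h4
  have e1 : (a ^ m * g ^ m) ^ (q + 1) = (g ^ m * N ^ (q * m)) * (a ^ (q + 1) * s ^ q) ^ m := by
    rw [hg]; ring
  have e2 : (u ^ m) ^ (q + 1) * (g ^ m * N ^ (q * m)) = (g ^ m * N ^ (q * m)) * (u ^ (q + 1)) ^ m := by
    ring
  rw [e1, e2] at h5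
  have hpos : 0 < g ^ m * N ^ (q * m) := Nat.mul_pos (pow_pos hgpos _) (pow_pos hNpos _)
  have h6 := Nat.le_of_mul_le_mul_left h5 hpos
  exact (Nat.pow_le_pow_iff_left hm).mp h6

theorem count_main {G : Type*} [Group G] [Finite G] (p : ℕ) [Fact p.Prime]
    (hG : Cfsg.IsPSolvable p G) (P : Sylow p G) :
    Nat.card (P : Subgroup G) ^ p * Nat.card (Sylow p G) ^ (p - 1) ≤
      Nat.card {g : G // ∃ k : ℕ, orderOf g = p ^ k} ^ p := by
  have hp : p.Prime := Fact.out
  have hK := Kineq_main p (Nat.card G) G rfl hG P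
  unfold Kineq at hK
  rw [mu_self, mu_one_eq] at hK
  obtain ⟨u, hu⟩ : ∃ u : ℕ, u = Nat.card {g : G // ∃ k : ℕ, orderOf g = p ^ k} := ⟨_, rfl⟩
  obtain ⟨A, hA⟩ : ∃ A : ℕ, A = pprod (P : Subgroup G) (fun x => mu (P : Subgroup G) {x}) :=
    ⟨_, rfl⟩
  rw [← hA] at hK
  rw [← hu]
  -- the first inequality
  have h1 : Nat.card (P : Subgroup G) ^ Nat.card (P : Subgroup G) *
      Nat.card G ^ Nat.card (P : Subgroup G) ≤ u ^ Nat.card (P : Subgroup G) * A := by
    have hf := u_formula P
    rw [← hu] at hf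
    have ham := amgm_card (fs (P : Subgroup G))
      (fun x => (Nat.card G : ℝ) / (mu (P : Subgroup G) {x} : ℝ)) (fun x _ => by positivity)
    rw [← hf, card_fs, Finset.prod_div_distrib, Finset.prod_const, card_fs] at ham
    have hAr : (∏ x ∈ fs (P : Subgroup G), (mu (P : Subgroup G) {x} : ℝ)) = (A : ℝ) := by
      rw [hA]; unfold pprod; push_cast; rfl
    rw [hAr] at ham
    have hApos : (0 : ℝ) < A := by
      rw [← hAr]
      apply Finset.prod_pos
      intro x hx
      exact_mod_cast mu_pos_of_mem _ x (mem_fs.mp hx)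
    rw [← mul_div_assoc, div_le_iff₀ hApos] at ham
    exact_mod_cast ham
  have hidx : Nat.card G = Nat.card (Sylow p G) * Nat.card (normalizer ((P : Subgroup G) : Set G)) := by
    rw [Sylow.card_eq_index_normalizer P]
    exact (Subgroup.index_mul_card _).symm
  have hmain := final_arith (Nat.card (P : Subgroup G)) (Nat.card G)
    (Nat.card (normalizer ((P : Subgroup G) : Set G))) (Nat.card (Sylow p G)) u A
    (Nat.card (P : Subgroup G)) (p - 1) hidx Nat.card_pos Nat.card_pos Nat.card_pos.ne' h1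
    (by rw [Nat.sub_add_cancel hp.one_le]; exact hK)
  rw [Nat.sub_add_cancel hp.one_le] at hmain
  exact hmain

end Cfsg.Agent.Lib.Helper13.PE
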