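import Mathlib
import Cfsg.Prelude.Def_OddOrderLocal
import Cfsg.Agent.Lib.Helper13.SZConjA

/-!
# `p`-rank passes to quotients by normal `p'`-subgroups; a criterion for normal `p`-complements
(helper13)
-/

set_option autoImplicit false
set_option maxHeartbeats 1000000
set_option linter.style.haveILetI false

namespace Cfsg.Agent.Lib.Helper13.PRankQuot

open Cfsg Subgroup

/-- If `N ⊴ G` has order coprime to `p`, then the `p`-rank bound passes to `G ⧸ N`. -/
theorem prankLE_quotient_of_coprime {G : Type*} [Group G] [Finite G] {p k : ℕ} [hp : Fact p.Prime]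
    (N : Subgroup G) [hN : N.Normal] (hNp : (Nat.card N).Coprime p) (h : Cfsg.PRankLE p k G) :
    Cfsg.PRankLE p k (G ⧸ N) := by
  intro A hA hAe
  obtain ⟨H, hH⟩ : ∃ H : Subgroup G, H = A.comap (QuotientGroup.mk' N) := ⟨_, rfl⟩
  have hmemH : ∀ g : G, g ∈ H ↔ (QuotientGroup.mk' N g) ∈ A := by
    intro g; rw [hH]; exact Subgroup.mem_comap
  have hNH : N ≤ H := by
    intro n hn
    rw [hmemH]
    have : (QuotientGroup.mk' N n) = 1 := (QuotientGroup.eq_one_iff n).mpr hn
    rw [this]; exact one_mem _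
  haveI hN'n : (N.subgroupOf H).Normal := inferInstance
  have hcardN' : Nat.card (N.subgroupOf H) = Nat.card N :=
    Cfsg.Agent.Lib.Helper13.card_subgroupOf_of_le hNH
  have hpq : IsPGroup p (↥H ⧸ N.subgroupOf H) := by
    intro x
    refine ⟨1, ?_⟩
    induction x using QuotientGroup.induction_on with
    | H x =>
      rw [pow_one, ← QuotientGroup.mk_pow, QuotientGroup.eq_one_iff, Subgroup.mem_subgroupOf]
      have hx := (hmemH x).mp x.2
      have h1 := hAe _ hx
      rw [← map_pow] at h1
      have h2 := (QuotientGroup.eq_one_iff _).mp h1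
      simpa using h2
  obtain ⟨n, hn⟩ := IsPGroup.iff_card.mp hpq
  have hidx : (N.subgroupOf H).index = p ^ n := by
    rw [Subgroup.index_eq_card]; exact hn
  have hcop : (Nat.card (N.subgroupOf H)).Coprime (N.subgroupOf H).index := by
    rw [hidx, hcardN']
    exact Nat.Coprime.pow_right n hNp
  obtain ⟨K, hK⟩ := Subgroup.exists_right_complement'_of_coprime hcop
  have hdisj : ∀ x : ↥H, x ∈ K → (x : G) ∈ N → x = 1 := by
    intro x hxK hxN
    have := hK.disjoint
    rw [Subgroup.disjoint_def] at this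
    exact this (Subgroup.mem_subgroupOf.mpr hxN) hxK
  obtain ⟨B, hB⟩ : ∃ B : Subgroup G, B = K.map H.subtype := ⟨_, rfl⟩
  have hBc : IsMulCommutative B := by
    refine ⟨⟨?_⟩⟩
    rintro ⟨a, ha⟩ ⟨b, hb⟩
    apply Subtype.ext
    show a * b = b * a
    rw [hB] at ha hb
    obtain ⟨x, hx, rfl⟩ := ha
    obtain ⟨y, hy, rfl⟩ := hb
    have hc : x * y * x⁻¹ * y⁻¹ ∈ K := K.mul_mem (K.mul_mem (K.mul_mem hx hy) (K.inv_mem hx))
      (K.inv_mem hy)
    have hcN : ((x * y * x⁻¹ * y⁻¹ : ↥H) : G) ∈ N := by
      rw [← QuotientGroup.eq_one_iff]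
      have hxA := (hmemH x).mp x.2
      have hyA := (hmemH y).mp y.2
      have hcomm := hA.is_comm.comm ⟨_, hxA⟩ ⟨_, hyA⟩
      have hcomm' : (QuotientGroup.mk' N (x : G)) * (QuotientGroup.mk' N (y : G)) =
          (QuotientGroup.mk' N (y : G)) * (QuotientGroup.mk' N (x : G)) := congrArg Subtype.val hcomm
      have : (((x * y * x⁻¹ * y⁻¹ : ↥H) : G) : G ⧸ N) =
          (QuotientGroup.mk' N (x : G)) * (QuotientGroup.mk' N (y : G)) *
            (QuotientGroup.mk' N (x : G))⁻¹ * (QuotientGroup.mk' N (y : G))⁻¹ := by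
        simp
      rw [this, hcomm']
      group
    have h1 := hdisj _ hc hcN
    have h2 : x * y = y * x := by
      calc x * y = (x * y * x⁻¹ * y⁻¹) * (y * x) := by group
        _ = y * x := by rw [h1, one_mul]
    have := congrArg (fun z : ↥H => (z : G)) h2
    simpa using this
  have hBe : ∀ a ∈ B, a ^ p = 1 := by
    intro a ha
    rw [hB] at ha
    obtain ⟨x, hx, rfl⟩ := ha
    have hc : x ^ p ∈ K := K.pow_mem hx p
    have hcN : ((x ^ p : ↥H) : G) ∈ N := by
      rw [← QuotientGroup.eq_one_iff]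
      have hxA := (hmemH x).mp x.2
      have h1 := hAe _ hxA
      rw [← map_pow] at h1
      simpa using h1
    have h1 := hdisj _ hc hcN
    have := congrArg (fun z : ↥H => (z : G)) h1
    simpa using this
  have hAB : A ≤ B.map (QuotientGroup.mk' N) := by
    intro a ha
    obtain ⟨g, rfl⟩ := QuotientGroup.mk'_surjective N a
    have hg : g ∈ H := (hmemH g).mpr ha
    have hK' := Subgroup.isComplement'_def.mp hK
    obtain ⟨⟨⟨u, hu⟩, ⟨v, hv⟩⟩, huv, -⟩ := hK'.existsUnique (⟨g, hg⟩ : ↥H)
    simp only at huv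
    refine ⟨(v : G), ?_, ?_⟩
    · rw [hB]; exact ⟨v, hv, rfl⟩
    · have huN : (u : G) ∈ N := Subgroup.mem_subgroupOf.mp hu
      have h1 : (u : G) * (v : G) = g := by
        have := congrArg (fun z : ↥H => (z : G)) huv
        simpa using this
      rw [← h1, map_mul]
      have : (QuotientGroup.mk' N (u : G)) = 1 := (QuotientGroup.eq_one_iff _).mpr huN
      rw [this, one_mul]
  have h1 := h B hBc hBe
  have h2 : Nat.card A ≤ Nat.card (B.map (QuotientGroup.mk' N)) := Subgroup.card_le_of_le hAB
  have h3 : Nat.card (B.map (QuotientGroup.mk' N)) ≤ Nat.card B :=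
    Nat.le_of_dvd Nat.card_pos (Subgroup.card_map_dvd _ _)
  omega

/-- A normal subgroup of order coprime to `p` and index a power of `p` is a normal
`p`-complement. -/
theorem hasNormalPComplement_of_coprime_of_index {H : Type*} [Group H] [Finite H] {p : ℕ}
    [hp : Fact p.Prime] (K : Subgroup H) [hK : K.Normal] (hKp : (Nat.card K).Coprime p) (n : ℕ)
    (hidx : K.index = p ^ n) : Cfsg.HasNormalPComplement p H := by
  obtain ⟨P⟩ : Nonempty (Sylow p H) := inferInstance
  refine ⟨P, K, hK, ?_⟩
  have hcard : Nat.card K * p ^ n = Nat.card H := by rw [← hidx]; exact K.card_mul_index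
  have hP : Nat.card (P : Subgroup H) = p ^ n := by
    rw [Sylow.card_eq_multiplicity, ← hcard]
    congr 1
    rw [Nat.factorization_mul Nat.card_pos.ne' (pow_ne_zero _ hp.out.pos.ne')]
    have h0 : (Nat.card K).factorization p = 0 := by
      apply Nat.factorization_eq_zero_of_not_dvd
      intro hdvd
      have := Nat.Coprime.eq_one_of_dvd hKp.symm hdvd
      exact hp.out.one_lt.ne' this
    simp [h0, hp.out.factorization_pow]
  apply Subgroup.isComplement'_of_coprime
  · rw [hP]; exact hcard
  · rw [hP]; exact Nat.Coprime.pow_right n hKp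

end Cfsg.Agent.Lib.Helper13.PRankQuot
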