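import Cfsg.Agent.Lib.Helper13.SimpCrit2
import Cfsg.Agent.Lib.Helper9.QuatSylow
import Cfsg.Agent.Lib.Helper12.SL2b
import Cfsg.Agent.S0261
import Cfsg.Agent.S0809

/-!
The `2`-fusion system of `PSL₂(q)`, `q` odd with `16 ∣ q² - 1`, is simple (helper13).

The Sylow `2`-subgroup of `SL₂(q)` is generalized quaternion of order at least `16` (S0261), so it
has no nontrivial automorphism of odd order (helper9's `nonempty_mulEquiv_quat8`); all involutions
of `PSL₂(q)` are conjugate (S0809) and the Sylow `2`-subgroup of `PSL₂(q)` is generated by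
involutions.
-/

set_option autoImplicit false

namespace Cfsg.Agent.Lib.Helper13.PSL2Fus

open Cfsg Matrix QuaternionGroup

variable {F : Type*} [Field F]

local notation "SL2" => Matrix.SpecialLinearGroup (Fin 2) F
local notation "PSL2" => Matrix.ProjectiveSpecialLinearGroup (Fin 2) F

/-- central elements of `SL₂` square to one -/
theorem sq_eq_one_of_mem_center {z : SL2} (hz : z ∈ Subgroup.center SL2) : z ^ 2 = 1 := by
  rw [Matrix.SpecialLinearGroup.mem_center_iff] at hz
  obtain ⟨r, hr, hrz⟩ := hz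
  rw [Fintype.card_fin] at hr
  apply Subtype.ext
  rw [Matrix.SpecialLinearGroup.coe_pow, ← hrz, ← map_pow, hr, map_one]
  rfl

/-- elements of `SL₂` squaring to one are central, in characteristic not two -/
theorem mem_center_of_sq_eq_one (h2 : (2 : F) ≠ 0) {A : SL2} (hA : A ^ 2 = 1) :
    A ∈ Subgroup.center SL2 := by
  rw [Matrix.SpecialLinearGroup.mem_center_iff]
  have hdet := A.det_coe
  rw [Matrix.det_fin_two] at hdet
  have hA' : (A : Matrix (Fin 2) (Fin 2) F) * (A : Matrix (Fin 2) (Fin 2) F) = 1 := by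
    have := congrArg (fun B : SL2 => (B : Matrix (Fin 2) (Fin 2) F)) hA
    simpa [pow_two] using this
  have e00 := congrFun (congrFun hA' 0) 0
  have e01 := congrFun (congrFun hA' 0) 1
  have e10 := congrFun (congrFun hA' 1) 0
  have e11 := congrFun (congrFun hA' 1) 1
  simp [Matrix.mul_apply, Fin.sum_univ_two] at e00 e01 e10 e11
  have htr : (A : Matrix (Fin 2) (Fin 2) F) 0 0 + (A : Matrix (Fin 2) (Fin 2) F) 1 1 ≠ 0 := by
    intro h
    apply h2
    have hd : (A : Matrix (Fin 2) (Fin 2) F) 1 1 = -(A : Matrix (Fin 2) (Fin 2) F) 0 0 := by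
      linear_combination h
    rw [hd] at hdet
    linear_combination -e00 - hdet
  have hb : (A : Matrix (Fin 2) (Fin 2) F) 0 1 = 0 := by
    have : (A : Matrix (Fin 2) (Fin 2) F) 0 1 *
        ((A : Matrix (Fin 2) (Fin 2) F) 0 0 + (A : Matrix (Fin 2) (Fin 2) F) 1 1) = 0 := by
      linear_combination e01
    rcases mul_eq_zero.1 this with h | h
    · exact h
    · exact absurd h htr
  have hc : (A : Matrix (Fin 2) (Fin 2) F) 1 0 = 0 := by
    have : (A : Matrix (Fin 2) (Fin 2) F) 1 0 *
        ((A : Matrix (Fin 2) (Fin 2) F) 0 0 + (A : Matrix (Fin 2) (Fin 2) F) 1 1) = 0 := by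
      linear_combination e10
    rcases mul_eq_zero.1 this with h | h
    · exact h
    · exact absurd h htr
  rw [hb, hc] at hdet e00 e11
  have had : (A : Matrix (Fin 2) (Fin 2) F) 0 0 = (A : Matrix (Fin 2) (Fin 2) F) 1 1 := by
    have : ((A : Matrix (Fin 2) (Fin 2) F) 0 0 - (A : Matrix (Fin 2) (Fin 2) F) 1 1) *
        ((A : Matrix (Fin 2) (Fin 2) F) 0 0 + (A : Matrix (Fin 2) (Fin 2) F) 1 1) = 0 := by
      linear_combination e00 - e11
    rcases mul_eq_zero.1 this with h | h
    · linear_combination h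
    · exact absurd h htr
  refine ⟨(A : Matrix (Fin 2) (Fin 2) F) 0 0, ?_, ?_⟩
  · rw [Fintype.card_fin]
    linear_combination e00
  · ext i j
    fin_cases i <;> fin_cases j <;> simp [Matrix.scalar_apply, hb, hc, ← had]

/-- the quaternion group is generated by the elements `xa i` -/
theorem closure_xa (n : ℕ) :
    Subgroup.closure {g : QuaternionGroup n | ∃ i, g = xa i} = ⊤ := by
  rw [eq_top_iff]
  intro g _
  cases g with
  | a i =>
    have : (a i : QuaternionGroup n) = xa 0 * xa (i - (n : ZMod (2 * n))) := by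
      rw [xa_mul_xa]
      congr 1
      ring
    rw [this]
    exact Subgroup.mul_mem _ (Subgroup.subset_closure ⟨0, rfl⟩) (Subgroup.subset_closure ⟨_, rfl⟩)
  | xa i => exact Subgroup.subset_closure ⟨i, rfl⟩

variable [Fintype F]

/-- The `2`-fusion system of `PSL₂(q)`, `q` odd, `16 ∣ q² - 1`, is simple. -/
theorem fusion_simple (hodd : Odd (Fintype.card F)) (h16 : 16 ∣ Fintype.card F ^ 2 - 1)
    (S : Sylow 2 PSL2) : (groupFusionSystem (S : Subgroup PSL2)).IsSimple 2 := by
  have : Fact (Nat.Prime 2) := ⟨Nat.prime_two⟩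
  have h2 : (2 : F) ≠ 0 := Cfsg.Agent.S0261.two_ne_zero_of_odd hodd
  -- the quotient map
  obtain ⟨π, hπ⟩ : ∃ π : SL2 →* PSL2, π = QuotientGroup.mk' (Subgroup.center SL2) := ⟨_, rfl⟩
  have hπs : Function.Surjective π := by
    rw [hπ]
    exact QuotientGroup.mk'_surjective _
  have hker : ∀ x : SL2, π x = 1 ↔ x ∈ Subgroup.center SL2 := by
    intro x
    rw [hπ]
    exact QuotientGroup.eq_one_iff x
  obtain ⟨P, hP⟩ := Sylow.mapSurjective_surjective hπs 2 S
  have hPS : (P : Subgroup SL2).map π = (S : Subgroup PSL2) := by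
    rw [← hP]
    rfl
  obtain ⟨k, -, ⟨e⟩⟩ := Cfsg.Agent.S0261.result hodd P
  have hZ2 : ∀ z ∈ Subgroup.center SL2, z ^ 2 = 1 := fun z hz => sq_eq_one_of_mem_center hz
  -- orders
  have hcardSL : (16 : ℕ) ∣ Nat.card SL2 := by
    rw [Cfsg.Agent.Lib.Helper12.SL2.card_SL2]
    exact Dvd.dvd.mul_left h16 _
  have hcardP : (16 : ℕ) ∣ Nat.card (P : Subgroup SL2) := by
    have h : (2 : ℕ) ^ 4 ∣ Nat.card SL2 := by
      norm_num
      exact hcardSL
    have := P.pow_dvd_card_of_pow_dvd_card h
    norm_num at this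
    exact this
  -- the center lies in `P`
  have hZP : Subgroup.center SL2 ≤ (P : Subgroup SL2) := by
    have hZp : IsPGroup 2 (Subgroup.center SL2) := by
      intro z
      refine ⟨1, ?_⟩
      apply Subtype.ext
      simpa using hZ2 z.1 z.2
    have hsup : IsPGroup 2 ((P : Subgroup SL2) ⊔ Subgroup.center SL2 : Subgroup SL2) :=
      P.isPGroup'.to_sup_of_normal_right hZp
    have := P.is_maximal' hsup le_sup_left
    rw [← this]
    exact le_sup_right
  have hmemP : ∀ x : SL2, π x ∈ (S : Subgroup PSL2) ↔ x ∈ (P : Subgroup SL2) := by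
    intro x
    constructor
    · intro hx
      rw [← hPS] at hx
      obtain ⟨x', hx', hxx⟩ := hx
      have h1 : π (x'⁻¹ * x) = 1 := by rw [map_mul, map_inv, hxx, inv_mul_cancel]
      have h3 := hZP ((hker _).1 h1)
      have : x = x' * (x'⁻¹ * x) := by group
      rw [this]
      exact Subgroup.mul_mem _ hx' h3
    · intro hx
      rw [← hPS]
      exact ⟨x, hx, rfl⟩
  -- the quaternion group maps onto `S`
  obtain ⟨ψ, hψ⟩ : ∃ ψ : QuaternionGroup (2 ^ k) →* PSL2,
      ψ = π.comp ((P : Subgroup SL2).subtype.comp e.symm.toMonoidHom) := ⟨_, rfl⟩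
  have hψv : ∀ g, ψ g = π ((e.symm g : (P : Subgroup SL2)) : SL2) := by
    intro g
    rw [hψ]
    rfl
  have hψS : ∀ g, ψ g ∈ (S : Subgroup PSL2) := by
    intro g
    rw [hψv, hmemP]
    exact (e.symm g).2
  have hψsurj : ∀ s ∈ (S : Subgroup PSL2), ∃ g, ψ g = s := by
    intro s hs
    rw [← hPS] at hs
    obtain ⟨x, hx, rfl⟩ := hs
    refine ⟨e ⟨x, hx⟩, ?_⟩
    rw [hψv, MulEquiv.symm_apply_apply]
  -- the images of the `xa i` are involutions
  have hxa2 : ∀ i, orderOf (ψ (xa i)) = 2 := by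
    intro i
    apply orderOf_eq_prime
    · rw [← map_pow, hψv, hker]
      apply mem_center_of_sq_eq_one h2
      have : ((e.symm (xa i ^ 2) : (P : Subgroup SL2)) : SL2) ^ 2 =
          ((e.symm ((xa i ^ 2) ^ 2) : (P : Subgroup SL2)) : SL2) := by
        rw [map_pow e.symm (xa i ^ 2) 2]
        rfl
      rw [this, ← pow_mul, xa_pow_four, map_one]
      rfl
    · intro h1
      rw [hψv, hker] at h1
      have h3 := hZ2 _ h1
      have h4 : (e.symm (xa i) : (P : Subgroup SL2)) ^ 2 = 1 := Subtype.ext h3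
      rw [← map_pow, MulEquiv.map_eq_one_iff] at h4
      have h5 := orderOf_dvd_of_pow_eq_one h4
      rw [orderOf_xa] at h5
      norm_num at h5
  -- all involutions are conjugate
  obtain ⟨A, hA⟩ := Sylow.exists_subgroup_card_pow_prime (G := SL2) 2 (n := 2)
    (by
      have : (2 : ℕ) ^ 2 ∣ 16 := by norm_num
      exact this.trans hcardSL)
  have hconj := (Cfsg.Agent.S0809.result (q := Fintype.card F) rfl hodd A
    (by rw [hA]; norm_num)).2.2.2
  apply SimpCrit.isSimple_of_pPrime_centralize 2 S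
  · -- nontrivial
    intro hb
    have h1 := hψS (xa 0)
    rw [hb, Subgroup.mem_bot] at h1
    have h3 := hxa2 0
    rw [h1, orderOf_one] at h3
    norm_num at h3
  · -- no strongly closed subgroups
    intro T hTS hT hcl
    have hTp : IsPGroup 2 T := S.isPGroup'.to_le hTS
    have h2T : 2 ∣ Nat.card T := by
      rcases hTp.card_eq_or_dvd with h | h
      · exact absurd (Subgroup.card_eq_one.1 h) hT
      · exact h
    obtain ⟨t, ht⟩ := exists_prime_orderOf_dvd_card' 2 h2T
    have ht' : orderOf (t : PSL2) = 2 := by rw [Subgroup.orderOf_coe, ht]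
    have hxaT : ∀ i, ψ (xa i) ∈ T := by
      intro i
      obtain ⟨g, hg⟩ := isConj_iff.1 (hconj _ _ ht' (hxa2 i))
      rw [← hg]
      apply hcl _ t.2
      rw [hg]
      exact hψS _
    have htop : T.comap ψ = ⊤ := by
      rw [eq_top_iff, ← closure_xa, Subgroup.closure_le]
      rintro _ ⟨i, rfl⟩
      exact hxaT i
    apply le_antisymm hTS
    intro s hs
    obtain ⟨g, rfl⟩ := hψsurj s hs
    have : g ∈ T.comap ψ := by rw [htop]; exact Subgroup.mem_top g
    exact this
  · -- elements of odd order normalizing `S` centralize it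
    intro y hy hyN s hs
    obtain ⟨y0, rfl⟩ := hπs y
    obtain ⟨m, hm⟩ : ∃ m, m = orderOf (π y0) := ⟨_, rfl⟩
    have hmodd : Odd m := by
      rw [hm]
      exact Nat.Coprime.odd_of_right hy
    have h1 : y0 ^ m ∈ Subgroup.center SL2 := by
      rw [← hker, map_pow, hm, pow_orderOf_eq_one]
    have h2m : y0 ^ (2 * m) = 1 := by
      rw [mul_comm, pow_mul]
      exact hZ2 _ h1
    obtain ⟨c, hc⟩ := hmodd
    obtain ⟨yt, hytdef⟩ : ∃ yt, yt = y0 ^ (m + 1) := ⟨_, rfl⟩
    have hyt : π yt = π y0 := by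
      rw [hytdef, map_pow, pow_succ, hm, pow_orderOf_eq_one, one_mul]
    have hytm : yt ^ m = 1 := by
      rw [hytdef, ← pow_mul]
      have : (m + 1) * m = 2 * m * (c + 1) := by
        rw [hc]
        ring
      rw [this, pow_mul, h2m, one_pow]
    have hytN : yt ∈ Subgroup.normalizer (((P : Subgroup SL2)) : Set SL2) := by
      rw [Subgroup.mem_set_normalizer_iff]
      intro x
      rw [SetLike.mem_coe, SetLike.mem_coe, ← hmemP x, ← hmemP (yt * x * yt⁻¹), map_mul, map_mul,
        map_inv, hyt]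
      exact Subgroup.mem_set_normalizer_iff.1 hyN (π x)
    obtain ⟨σ, hσ⟩ : ∃ σ : MulAut (P : Subgroup SL2),
        σ = (P : Subgroup SL2).normalizerMonoidHom ⟨yt, hytN⟩ := ⟨_, rfl⟩
    have hσm : σ ^ m = 1 := by
      rw [hσ, ← map_pow]
      have : (⟨yt, hytN⟩ : Subgroup.normalizer (((P : Subgroup SL2)) : Set SL2)) ^ m = 1 :=
        Subtype.ext hytm
      rw [this, map_one]
    have hσ1 : σ = 1 := by
      by_contra hne
      obtain ⟨e8⟩ := Cfsg.Agent.Lib.Helper9.QuatSylow.nonempty_mulEquiv_quat8 e.toMonoidHom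
        e.injective σ ⟨c, hc⟩ hσm hne
      have hc8 : Nat.card (P : Subgroup SL2) = 8 := by
        rw [Nat.card_congr e8.toEquiv, Nat.card_eq_fintype_card, QuaternionGroup.card]
      rw [hc8] at hcardP
      norm_num at hcardP
    rw [← hPS] at hs
    obtain ⟨x, hx, rfl⟩ := hs
    have h3 : yt * x * yt⁻¹ = x := by
      have := congrArg (fun τ : MulAut (P : Subgroup SL2) =>
        ((τ ⟨x, hx⟩ : (P : Subgroup SL2)) : SL2)) hσ1
      rw [hσ] at this
      exact this
    rw [← hyt, ← map_inv, ← map_mul, ← map_mul, h3]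

end Cfsg.Agent.Lib.Helper13.PSL2Fus
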