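import Mathlib

/-!
Matrix preliminaries for the `2`-fusion system of `PSL₃(q)`, `q` odd (helper13):
the involution `z0 = diag(-1,-1,1)` of `SL₃`, its centralizer (block matrices), the embedding
`SL₂ → SL₃` and the character `M ↦ M 2 2` of the centralizer.
-/

set_option autoImplicit false
set_option linter.unusedSimpArgs false
set_option linter.unusedSectionVars false

namespace Cfsg.Agent.Lib.Helper13.PSL3Fus

open Matrix

variable {F : Type*} [Field F]

local notation "SL3" => Matrix.SpecialLinearGroup (Fin 3) F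
local notation "SL2" => Matrix.SpecialLinearGroup (Fin 2) F

/-- entries of a product in `SL₃` -/
theorem mul_entry (M N : SL3) (i j : Fin 3) :
    (M * N).1 i j = M.1 i 0 * N.1 0 j + M.1 i 1 * N.1 1 j + M.1 i 2 * N.1 2 j := by
  rw [Matrix.SpecialLinearGroup.coe_mul, Matrix.mul_apply, Fin.sum_univ_three]

/-- entries of a product in `SL₂` -/
theorem mul_entry2 (M N : SL2) (i j : Fin 2) :
    (M * N).1 i j = M.1 i 0 * N.1 0 j + M.1 i 1 * N.1 1 j := by
  rw [Matrix.SpecialLinearGroup.coe_mul, Matrix.mul_apply, Fin.sum_univ_two]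

theorem one_entry (i j : Fin 3) : (1 : SL3).1 i j = if i = j then 1 else 0 := by
  rw [Matrix.SpecialLinearGroup.coe_one, Matrix.one_apply]

theorem one_entry2 (i j : Fin 2) : (1 : SL2).1 i j = if i = j then 1 else 0 := by
  rw [Matrix.SpecialLinearGroup.coe_one, Matrix.one_apply]

theorem ext3 {M N : SL3} (h : ∀ i j, M.1 i j = N.1 i j) : M = N :=
  Subtype.ext (Matrix.ext h)

theorem ext2 {M N : SL2} (h : ∀ i j, M.1 i j = N.1 i j) : M = N :=
  Subtype.ext (Matrix.ext h)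

/-- an element of `SL₃` from nine entries -/
def mk3 (a b c d e f g h i : F)
    (hdet : a * e * i - a * f * h - b * d * i + b * f * g + c * d * h - c * e * g = 1) : SL3 :=
  ⟨!![a, b, c; d, e, f; g, h, i], by
    rw [Matrix.det_fin_three]
    simp only [Matrix.of_apply, Matrix.cons_val', Matrix.cons_val_zero, Matrix.cons_val_one,
      Matrix.cons_val_two, Matrix.empty_val', Matrix.cons_val_fin_one, Matrix.head_cons,
      Matrix.tail_cons, Matrix.head_fin_const]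
    linear_combination hdet⟩

theorem mk3_entry (a b c d e f g h i : F)
    (hdet : a * e * i - a * f * h - b * d * i + b * f * g + c * d * h - c * e * g = 1) :
    (mk3 a b c d e f g h i hdet).1 0 0 = a ∧ (mk3 a b c d e f g h i hdet).1 0 1 = b ∧
    (mk3 a b c d e f g h i hdet).1 0 2 = c ∧ (mk3 a b c d e f g h i hdet).1 1 0 = d ∧
    (mk3 a b c d e f g h i hdet).1 1 1 = e ∧ (mk3 a b c d e f g h i hdet).1 1 2 = f ∧
    (mk3 a b c d e f g h i hdet).1 2 0 = g ∧ (mk3 a b c d e f g h i hdet).1 2 1 = h ∧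
    (mk3 a b c d e f g h i hdet).1 2 2 = i := by
  simp [mk3]

@[simp] theorem mk3_00 (a b c d e f g h i : F)
    (hdet : a * e * i - a * f * h - b * d * i + b * f * g + c * d * h - c * e * g = 1) :
    (mk3 a b c d e f g h i hdet).1 0 0 = a := (mk3_entry a b c d e f g h i hdet).1

@[simp] theorem mk3_01 (a b c d e f g h i : F)
    (hdet : a * e * i - a * f * h - b * d * i + b * f * g + c * d * h - c * e * g = 1) :
    (mk3 a b c d e f g h i hdet).1 0 1 = b := (mk3_entry a b c d e f g h i hdet).2.1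

@[simp] theorem mk3_02 (a b c d e f g h i : F)
    (hdet : a * e * i - a * f * h - b * d * i + b * f * g + c * d * h - c * e * g = 1) :
    (mk3 a b c d e f g h i hdet).1 0 2 = c := (mk3_entry a b c d e f g h i hdet).2.2.1

@[simp] theorem mk3_10 (a b c d e f g h i : F)
    (hdet : a * e * i - a * f * h - b * d * i + b * f * g + c * d * h - c * e * g = 1) :
    (mk3 a b c d e f g h i hdet).1 1 0 = d := (mk3_entry a b c d e f g h i hdet).2.2.2.1

@[simp] theorem mk3_11 (a b c d e f g h i : F)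
    (hdet : a * e * i - a * f * h - b * d * i + b * f * g + c * d * h - c * e * g = 1) :
    (mk3 a b c d e f g h i hdet).1 1 1 = e := (mk3_entry a b c d e f g h i hdet).2.2.2.2.1

@[simp] theorem mk3_12 (a b c d e f g h i : F)
    (hdet : a * e * i - a * f * h - b * d * i + b * f * g + c * d * h - c * e * g = 1) :
    (mk3 a b c d e f g h i hdet).1 1 2 = f := (mk3_entry a b c d e f g h i hdet).2.2.2.2.2.1

@[simp] theorem mk3_20 (a b c d e f g h i : F)
    (hdet : a * e * i - a * f * h - b * d * i + b * f * g + c * d * h - c * e * g = 1) :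
    (mk3 a b c d e f g h i hdet).1 2 0 = g := (mk3_entry a b c d e f g h i hdet).2.2.2.2.2.2.1

@[simp] theorem mk3_21 (a b c d e f g h i : F)
    (hdet : a * e * i - a * f * h - b * d * i + b * f * g + c * d * h - c * e * g = 1) :
    (mk3 a b c d e f g h i hdet).1 2 1 = h := (mk3_entry a b c d e f g h i hdet).2.2.2.2.2.2.2.1

@[simp] theorem mk3_22 (a b c d e f g h i : F)
    (hdet : a * e * i - a * f * h - b * d * i + b * f * g + c * d * h - c * e * g = 1) :
    (mk3 a b c d e f g h i hdet).1 2 2 = i := (mk3_entry a b c d e f g h i hdet).2.2.2.2.2.2.2.2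

/-- the determinant of an element of `SL₃` in terms of entries -/
theorem det_entry (M : SL3) :
    M.1 0 0 * M.1 1 1 * M.1 2 2 - M.1 0 0 * M.1 1 2 * M.1 2 1 - M.1 0 1 * M.1 1 0 * M.1 2 2
      + M.1 0 1 * M.1 1 2 * M.1 2 0 + M.1 0 2 * M.1 1 0 * M.1 2 1
      - M.1 0 2 * M.1 1 1 * M.1 2 0 = 1 := by
  have h := M.2
  rw [Matrix.det_fin_three] at h
  exact h

theorem det_entry2 (M : SL2) : M.1 0 0 * M.1 1 1 - M.1 0 1 * M.1 1 0 = 1 := by
  have h := M.2
  rw [Matrix.det_fin_two] at h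
  exact h

/-- an element of `SL₂` from four entries -/
def mk2 (a b c d : F) (hdet : a * d - b * c = 1) : SL2 :=
  ⟨!![a, b; c, d], by rw [Matrix.det_fin_two_of]; exact hdet⟩

theorem mk2_entry (a b c d : F) (hdet : a * d - b * c = 1) :
    (mk2 a b c d hdet).1 0 0 = a ∧ (mk2 a b c d hdet).1 0 1 = b ∧
    (mk2 a b c d hdet).1 1 0 = c ∧ (mk2 a b c d hdet).1 1 1 = d := by
  simp [mk2]

@[simp] theorem mk2_00 (a b c d : F) (hdet : a * d - b * c = 1) :
    (mk2 a b c d hdet).1 0 0 = a := (mk2_entry a b c d hdet).1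

@[simp] theorem mk2_01 (a b c d : F) (hdet : a * d - b * c = 1) :
    (mk2 a b c d hdet).1 0 1 = b := (mk2_entry a b c d hdet).2.1

@[simp] theorem mk2_10 (a b c d : F) (hdet : a * d - b * c = 1) :
    (mk2 a b c d hdet).1 1 0 = c := (mk2_entry a b c d hdet).2.2.1

@[simp] theorem mk2_11 (a b c d : F) (hdet : a * d - b * c = 1) :
    (mk2 a b c d hdet).1 1 1 = d := (mk2_entry a b c d hdet).2.2.2

/-- `diag(-1,-1,1)` -/
def z0 : SL3 := mk3 (-1) 0 0 0 (-1) 0 0 0 1 (by ring)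

/-- the block embedding `SL₂ → SL₃`, as a function -/
def iotaF (A : SL2) : SL3 :=
  mk3 (A.1 0 0) (A.1 0 1) 0 (A.1 1 0) (A.1 1 1) 0 0 0 1 (by
    have h := det_entry2 A
    linear_combination h)

theorem iotaF_entry (A : SL2) :
    (iotaF A).1 0 0 = A.1 0 0 ∧ (iotaF A).1 0 1 = A.1 0 1 ∧ (iotaF A).1 0 2 = 0 ∧
    (iotaF A).1 1 0 = A.1 1 0 ∧ (iotaF A).1 1 1 = A.1 1 1 ∧ (iotaF A).1 1 2 = 0 ∧
    (iotaF A).1 2 0 = 0 ∧ (iotaF A).1 2 1 = 0 ∧ (iotaF A).1 2 2 = 1 :=
  mk3_entry _ _ _ _ _ _ _ _ _ _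

theorem iotaF_one : iotaF (1 : SL2) = 1 := by
  apply ext3
  intro i j
  obtain ⟨h1, h2, h3, h4, h5, h6, h7, h8, h9⟩ := iotaF_entry (1 : SL2)
  rw [one_entry2] at h1 h2 h4 h5
  have := one_entry (F := F) i j
  fin_cases i <;> fin_cases j <;> simp_all

theorem iotaF_mul (A B : SL2) : iotaF (A * B) = iotaF A * iotaF B := by
  apply ext3
  intro i j
  rw [mul_entry]
  obtain ⟨h1, h2, h3, h4, h5, h6, h7, h8, h9⟩ := iotaF_entry (A * B)
  obtain ⟨a1, a2, a3, a4, a5, a6, a7, a8, a9⟩ := iotaF_entry A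
  obtain ⟨b1, b2, b3, b4, b5, b6, b7, b8, b9⟩ := iotaF_entry B
  rw [mul_entry2] at h1 h2 h4 h5
  fin_cases i <;> fin_cases j <;> simp_all

/-- the block embedding `SL₂ → SL₃` -/
def iota : SL2 →* SL3 where
  toFun := iotaF
  map_one' := iotaF_one
  map_mul' := iotaF_mul

theorem iota_entry (A : SL2) :
    (iota A).1 0 0 = A.1 0 0 ∧ (iota A).1 0 1 = A.1 0 1 ∧ (iota A).1 0 2 = 0 ∧
    (iota A).1 1 0 = A.1 1 0 ∧ (iota A).1 1 1 = A.1 1 1 ∧ (iota A).1 1 2 = 0 ∧
    (iota A).1 2 0 = 0 ∧ (iota A).1 2 1 = 0 ∧ (iota A).1 2 2 = 1 :=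
  iotaF_entry A

theorem iota_injective : Function.Injective (iota : SL2 →* SL3) := by
  intro A B h
  apply ext2
  intro i j
  have hA := iota_entry A
  have hB := iota_entry B
  rw [h] at hA
  obtain ⟨a1, a2, -, a3, a4, -⟩ := hA
  obtain ⟨b1, b2, -, b3, b4, -⟩ := hB
  fin_cases i <;> fin_cases j
  · exact a1.symm.trans b1
  · exact a2.symm.trans b2
  · exact a3.symm.trans b3
  · exact a4.symm.trans b4

theorem z0_entry :
    (z0 : SL3).1 0 0 = -1 ∧ (z0 : SL3).1 0 1 = 0 ∧ (z0 : SL3).1 0 2 = 0 ∧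
    (z0 : SL3).1 1 0 = 0 ∧ (z0 : SL3).1 1 1 = -1 ∧ (z0 : SL3).1 1 2 = 0 ∧
    (z0 : SL3).1 2 0 = 0 ∧ (z0 : SL3).1 2 1 = 0 ∧ (z0 : SL3).1 2 2 = 1 :=
  mk3_entry _ _ _ _ _ _ _ _ _ _

/-- the centralizer of `z0` -/
def Hc : Subgroup SL3 := Subgroup.centralizer ({z0} : Set SL3)

theorem mem_Hc_iff' (M : SL3) : M ∈ (Hc : Subgroup SL3) ↔ z0 * M = M * z0 := by
  rw [Hc, Subgroup.mem_centralizer_iff]
  constructor
  · intro h
    exact h z0 rfl
  · intro h x hx
    rw [Set.mem_singleton_iff] at hx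
    rw [hx]
    exact h

variable [NeZero (2 : F)]

theorem eq_zero_of_neg_eq {x : F} (h : -x = x) : x = 0 := by
  have h2 : (2 : F) * x = 0 := by linear_combination -h
  rcases mul_eq_zero.1 h2 with h3 | h3
  · exact absurd h3 (NeZero.ne 2)
  · exact h3

theorem mem_Hc_iff (M : SL3) : M ∈ (Hc : Subgroup SL3) ↔
    M.1 0 2 = 0 ∧ M.1 1 2 = 0 ∧ M.1 2 0 = 0 ∧ M.1 2 1 = 0 := by
  rw [mem_Hc_iff']
  obtain ⟨z1, z2, z3, z4, z5, z6, z7, z8, z9⟩ := z0_entry (F := F)
  constructor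
  · intro h
    have e := fun i j => congrArg (fun X : SL3 => X.1 i j) h
    simp only [mul_entry] at e
    have e02 := e 0 2
    have e12 := e 1 2
    have e20 := e 2 0
    have e21 := e 2 1
    rw [z1, z2, z3, z6, z9] at e02
    rw [z4, z5, z6, z3, z9] at e12
    rw [z7, z8, z9, z1, z4] at e20
    rw [z7, z8, z9, z2, z5] at e21
    refine ⟨eq_zero_of_neg_eq ?_, eq_zero_of_neg_eq ?_, (eq_zero_of_neg_eq ?_), (eq_zero_of_neg_eq ?_)⟩
    · linear_combination e02
    · linear_combination e12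
    · linear_combination -e20
    · linear_combination -e21
  · rintro ⟨h1, h2, h3, h4⟩
    apply ext3
    intro i j
    rw [mul_entry, mul_entry]
    fin_cases i <;> fin_cases j <;> simp [z1, z2, z3, z4, z5, z6, z7, z8, z9, h1, h2, h3, h4]

theorem z0_mem_Hc : (z0 : SL3) ∈ (Hc : Subgroup SL3) := by
  rw [mem_Hc_iff']

theorem iota_mem_Hc (A : SL2) : iota A ∈ (Hc : Subgroup SL3) := by
  rw [mem_Hc_iff]
  obtain ⟨-, -, h3, -, -, h6, h7, h8, -⟩ := iota_entry A
  exact ⟨h3, h6, h7, h8⟩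

/-- the `(2,2)` entry is multiplicative on `Hc` -/
theorem entry22_mul {M N : SL3} (hM : M ∈ (Hc : Subgroup SL3)) :
    (M * N).1 2 2 = M.1 2 2 * N.1 2 2 := by
  rw [mem_Hc_iff] at hM
  rw [mul_entry, hM.2.2.1, hM.2.2.2]
  ring

/-- the `(2,2)` entry, as a homomorphism `Hc → F` -/
def delta0 : (Hc : Subgroup SL3) →* F where
  toFun M := M.1.1 2 2
  map_one' := by
    show (1 : SL3).1 2 2 = 1
    rw [one_entry]
    simp
  map_mul' M N := by
    show (M.1 * N.1).1 2 2 = M.1.1 2 2 * N.1.1 2 2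
    exact entry22_mul M.2

/-- the `(2,2)` entry, as a homomorphism `Hc → Fˣ` -/
def delta : (Hc : Subgroup SL3) →* Fˣ := (delta0 (F := F)).toHomUnits

theorem delta_val (M : (Hc : Subgroup SL3)) : ((delta M : Fˣ) : F) = M.1.1 2 2 := rfl

theorem delta_eq_one_iff (M : (Hc : Subgroup SL3)) : delta M = 1 ↔ M.1.1 2 2 = 1 := by
  rw [← delta_val, Units.ext_iff]
  rfl

/-- elements of `Hc` with `(2,2)` entry one come from `SL₂` -/
theorem exists_iota_eq {M : SL3} (hM : M ∈ (Hc : Subgroup SL3)) (h22 : M.1 2 2 = 1) :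
    ∃ A : SL2, iota A = M := by
  have hM' := (mem_Hc_iff M).1 hM
  obtain ⟨h1, h2, h3, h4⟩ := hM'
  have hdet := det_entry M
  rw [h1, h2, h3, h4, h22] at hdet
  refine ⟨mk2 (M.1 0 0) (M.1 0 1) (M.1 1 0) (M.1 1 1) (by linear_combination hdet), ?_⟩
  apply ext3
  intro i j
  obtain ⟨a1, a2, a3, a4, a5, a6, a7, a8, a9⟩ := iota_entry
    (mk2 (M.1 0 0) (M.1 0 1) (M.1 1 0) (M.1 1 1) (by linear_combination hdet))
  obtain ⟨b1, b2, b3, b4⟩ := mk2_entry (M.1 0 0) (M.1 0 1) (M.1 1 0) (M.1 1 1)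
    (by linear_combination hdet)
  fin_cases i <;> fin_cases j <;> simp_all

theorem mem_range_iota_iff (M : SL3) :
    M ∈ (iota : SL2 →* SL3).range ↔ M ∈ (Hc : Subgroup SL3) ∧ M.1 2 2 = 1 := by
  constructor
  · rintro ⟨A, rfl⟩
    exact ⟨iota_mem_Hc A, (iota_entry A).2.2.2.2.2.2.2.2⟩
  · rintro ⟨h1, h2⟩
    exact exists_iota_eq h1 h2

end Cfsg.Agent.Lib.Helper13.PSL3Fus
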