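import Cfsg.Agent.Lib.Helper13.PSL3A

/-!
Explicit elements of `SL₃` and conjugacy of the elements of order four of `SL₂(q)` (helper13).
-/

set_option autoImplicit false
set_option linter.unusedSimpArgs false
set_option linter.unusedSectionVars false

namespace Cfsg.Agent.Lib.Helper13.PSL3Fus

open Matrix

variable {F : Type*} [Field F]

local notation "SL3" => Matrix.SpecialLinearGroup (Fin 3) F
local notation "SL2" => Matrix.SpecialLinearGroup (Fin 2) F

/-- `-1` in `SL₂` -/
def negOne2 : SL2 := mk2 (-1) 0 0 (-1) (by ring)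

/-- the standard element of order four of `SL₂` -/
def J0 : SL2 := mk2 0 1 (-1) 0 (by ring)

theorem negOne2_entry : (negOne2 : SL2).1 0 0 = -1 ∧ (negOne2 : SL2).1 0 1 = 0 ∧
    (negOne2 : SL2).1 1 0 = 0 ∧ (negOne2 : SL2).1 1 1 = -1 := mk2_entry _ _ _ _ _

theorem J0_entry : (J0 : SL2).1 0 0 = 0 ∧ (J0 : SL2).1 0 1 = 1 ∧
    (J0 : SL2).1 1 0 = -1 ∧ (J0 : SL2).1 1 1 = 0 := mk2_entry _ _ _ _ _

theorem J0_sq : (J0 : SL2) * J0 = negOne2 := by
  apply ext2
  intro i j
  rw [mul_entry2]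
  obtain ⟨a1, a2, a3, a4⟩ := J0_entry (F := F)
  obtain ⟨b1, b2, b3, b4⟩ := negOne2_entry (F := F)
  fin_cases i <;> fin_cases j <;> simp [a1, a2, a3, a4, b1, b2, b3, b4]

theorem iota_negOne2 : iota (negOne2 : SL2) = z0 := by
  apply ext3
  intro i j
  obtain ⟨a1, a2, a3, a4, a5, a6, a7, a8, a9⟩ := iota_entry (negOne2 : SL2)
  obtain ⟨b1, b2, b3, b4⟩ := negOne2_entry (F := F)
  obtain ⟨z1, z2, z3, z4, z5, z6, z7, z8, z9⟩ := z0_entry (F := F)
  rw [b1] at a1
  rw [b2] at a2
  rw [b3] at a4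
  rw [b4] at a5
  fin_cases i <;> fin_cases j <;> simp_all

/-- every element of a finite field of odd order is a sum of two squares -/
theorem exists_sq_add_sq_eq [Fintype F] (hF : Odd (Fintype.card F)) (c : F) :
    ∃ a b : F, a ^ 2 + b ^ 2 = c := by
  classical
  let f : Polynomial F := Polynomial.X ^ 2
  let g : Polynomial F := Polynomial.X ^ 2 - Polynomial.C c
  obtain ⟨a, b, hab⟩ :=
    @FiniteField.exists_root_sum_quadratic _ _ _ _ f g (Polynomial.degree_X_pow 2)
      (Polynomial.degree_X_pow_sub_C (by decide) _) (Nat.odd_iff.mp hF)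
  refine ⟨a, b, ?_⟩
  simp only [f, g, Polynomial.eval_C, Polynomial.eval_X, Polynomial.eval_pow,
    Polynomial.eval_sub] at hab
  linear_combination hab

variable [NeZero (2 : F)]

/-- an element of `SL₂(q)` with square `-1` is conjugate to `J0` -/
theorem exists_conj_J0 [Fintype F] (hF : Odd (Fintype.card F)) (A : SL2)
    (hA : A * A = negOne2) : ∃ G : SL2, A * G = G * J0 := by
  obtain ⟨n1, n2, n3, n4⟩ := negOne2_entry (F := F)
  obtain ⟨j1, j2, j3, j4⟩ := J0_entry (F := F)
  have e := fun i j => congrArg (fun X : SL2 => X.1 i j) hA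
  simp only [mul_entry2] at e
  have e00 := e 0 0
  have e01 := e 0 1
  have e10 := e 1 0
  have e11 := e 1 1
  rw [n1] at e00
  rw [n2] at e01
  rw [n3] at e10
  rw [n4] at e11
  have hdet := det_entry2 A
  obtain ⟨a, ha⟩ : ∃ a, a = A.1 0 0 := ⟨_, rfl⟩
  obtain ⟨b, hb⟩ : ∃ b, b = A.1 0 1 := ⟨_, rfl⟩
  obtain ⟨c, hc⟩ : ∃ c, c = A.1 1 0 := ⟨_, rfl⟩
  obtain ⟨d, hd⟩ : ∃ d, d = A.1 1 1 := ⟨_, rfl⟩
  simp only [← ha, ← hb, ← hc, ← hd] at e00 e01 e10 e11 hdet
  have h2 : (2 : F) ≠ 0 := NeZero.ne 2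
  -- trace zero
  have htr : d = -a := by
    by_contra hne
    have hs : a + d ≠ 0 := fun h => hne (by linear_combination h)
    have hb0 : b = 0 := by
      have : b * (a + d) = 0 := by linear_combination e01
      rcases mul_eq_zero.1 this with h | h
      · exact h
      · exact absurd h hs
    have hc0 : c = 0 := by
      have : c * (a + d) = 0 := by linear_combination e10
      rcases mul_eq_zero.1 this with h | h
      · exact h
      · exact absurd h hs
    rw [hb0, hc0] at e00 e11 hdet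
    -- a^2 = -1, a d = 1, so d = -a
    apply hne
    have : a * (d + a) = 0 := by linear_combination hdet + e00
    rcases mul_eq_zero.1 this with h | h
    · rw [h] at e00
      norm_num at e00
    · linear_combination h
  subst htr
  -- find `(x, y)` with `b y² + 2 a x y - c x² = 1`
  obtain ⟨x, y, hxy⟩ : ∃ x y : F, b * y ^ 2 + 2 * a * x * y - c * x ^ 2 = 1 := by
    by_cases hb0 : b = 0
    · rw [hb0] at e00
      have ha0 : a ≠ 0 := by
        intro h
        rw [h] at e00
        norm_num at e00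
      refine ⟨1, (1 + c) / (2 * a), ?_⟩
      rw [hb0]
      field_simp
      ring
    · obtain ⟨p, r, hpr⟩ := exists_sq_add_sq_eq hF b
      obtain ⟨y, hy⟩ : ∃ y, b * y = p - a * r := ⟨(p - a * r) / b, by field_simp⟩
      refine ⟨r, y, ?_⟩
      apply mul_left_cancel₀ hb0
      have : b * (b * y ^ 2 + 2 * a * r * y - c * r ^ 2) =
          (b * y) ^ 2 + 2 * a * r * (b * y) - b * c * r ^ 2 := by ring
      rw [this, hy]
      linear_combination hpr + (-r ^ 2) * e00
  refine ⟨mk2 x (-(a * x + b * y)) y (-(c * x - a * y)) (by linear_combination hxy), ?_⟩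
  obtain ⟨g1, g2, g3, g4⟩ := mk2_entry x (-(a * x + b * y)) y (-(c * x - a * y))
    (by linear_combination hxy)
  apply ext2
  intro i j
  rw [mul_entry2, mul_entry2]
  fin_cases i <;> fin_cases j
  · simp only [Fin.zero_eta, Fin.isValue, g1, g2, g3, g4, j1, j2, j3, j4, ← ha, ← hb, ← hc, ← hd]
    ring
  · simp only [Fin.zero_eta, Fin.isValue, Fin.mk_one, g1, g2, g3, g4, j1, j2, j3, j4, ← ha, ← hb,
      ← hc, ← hd]
    linear_combination (-x) * e00
  · simp only [Fin.zero_eta, Fin.isValue, Fin.mk_one, g1, g2, g3, g4, j1, j2, j3, j4, ← ha, ← hb,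
      ← hc, ← hd]
    ring
  · simp only [Fin.isValue, Fin.mk_one, g1, g2, g3, g4, j1, j2, j3, j4, ← ha, ← hb, ← hc, ← hd]
    linear_combination (-y) * e00

/-- diagonal matrices of `SL₃` -/
def dg (a b c : F) (h : a * b * c = 1) : SL3 := mk3 a 0 0 0 b 0 0 0 c (by linear_combination h)

omit [NeZero (2 : F)] in
theorem dg_mul (a b c a' b' c' : F) (h : a * b * c = 1) (h' : a' * b' * c' = 1) :
    dg a b c h * dg a' b' c' h' = dg (a * a') (b * b') (c * c')
      (by linear_combination (a' * b' * c') * h + h') := by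
  apply ext3
  intro i j
  fin_cases i <;> fin_cases j <;> simp [mul_entry, dg]

omit [NeZero (2 : F)] in
theorem dg_one : dg (1 : F) 1 1 (by ring) = 1 := by
  apply ext3
  intro i j
  fin_cases i <;> fin_cases j <;> simp [one_entry, dg]

/-- `diag(1,-1,-1)` -/
def t1 : SL3 := dg 1 (-1) (-1) (by ring)

/-- the involution swapping the first two coordinates -/
def s1 : SL3 := mk3 0 1 0 1 0 0 0 0 (-1) (by ring)

/-- the cyclic permutation matrix -/
def cyc : SL3 := mk3 0 0 1 1 0 0 0 1 0 (by ring)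

/-- a matrix conjugating `z0` to `s1` -/
def gs : SL3 := mk3 1 0 1 (-1) 0 1 0 (-(2 : F)⁻¹) 0 (by
  have h2 : (2 : F) ≠ 0 := NeZero.ne 2
  field_simp
  ring)

/-- the signed permutation matrix swapping the last two coordinates -/
def wsw : SL3 := mk3 1 0 0 0 0 1 0 (-1) 0 (by ring)

omit [NeZero (2 : F)] in
theorem t1_conj : (t1 : SL3) * cyc = cyc * z0 := by
  apply ext3
  intro i j
  fin_cases i <;> fin_cases j <;> simp [mul_entry, t1, dg, cyc, z0]

theorem s1_conj : (s1 : SL3) * gs = gs * z0 := by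
  apply ext3
  intro i j
  fin_cases i <;> fin_cases j <;> simp [mul_entry, s1, gs, z0]

omit [NeZero (2 : F)] in
theorem t1_mul_s1 : (t1 : SL3) * s1 = iota J0 := by
  apply ext3
  intro i j
  obtain ⟨a1, a2, a3, a4, a5, a6, a7, a8, a9⟩ := iota_entry (J0 : SL2)
  obtain ⟨b1, b2, b3, b4⟩ := J0_entry (F := F)
  rw [b1] at a1
  rw [b2] at a2
  rw [b3] at a4
  rw [b4] at a5
  fin_cases i <;> fin_cases j <;> simp [mul_entry, t1, dg, s1, a1, a2, a3, a4, a5, a6, a7, a8, a9]

omit [NeZero (2 : F)] in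
theorem t1_sq : (t1 : SL3) * t1 = 1 := by
  apply ext3
  intro i j
  fin_cases i <;> fin_cases j <;> simp [mul_entry, one_entry, t1, dg]

omit [NeZero (2 : F)] in
theorem s1_sq : (s1 : SL3) * s1 = 1 := by
  apply ext3
  intro i j
  fin_cases i <;> fin_cases j <;> simp [mul_entry, one_entry, s1]

theorem t1_mem_Hc : (t1 : SL3) ∈ (Hc : Subgroup SL3) := by
  rw [mem_Hc_iff]
  simp [t1, dg]

theorem s1_mem_Hc : (s1 : SL3) ∈ (Hc : Subgroup SL3) := by
  rw [mem_Hc_iff]
  simp [s1]

theorem dg_mem_Hc (a b c : F) (h : a * b * c = 1) : dg a b c h ∈ (Hc : Subgroup SL3) := by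
  rw [mem_Hc_iff]
  simp [dg]

omit [NeZero (2 : F)] in
theorem dg_conj_wsw (a b c : F) (h : a * b * c = 1) :
    dg a b c h * wsw = wsw * dg a c b (by linear_combination h) := by
  apply ext3
  intro i j
  fin_cases i <;> fin_cases j <;> simp [mul_entry, dg, wsw]

omit [NeZero (2 : F)] in
theorem dg_eq_iota (a b : F) (h : a * b * 1 = 1) :
    dg a b 1 h = iota (mk2 a 0 0 b (by linear_combination h)) := by
  apply ext3
  intro i j
  obtain ⟨a1, a2, a3, a4, a5, a6, a7, a8, a9⟩ := iota_entry (mk2 a 0 0 b (by linear_combination h))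
  fin_cases i <;> fin_cases j <;> simp [dg, a1, a2, a3, a4, a5, a6, a7, a8, a9]

end Cfsg.Agent.Lib.Helper13.PSL3Fus
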