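import Cfsg.Agent.Lib.Helper13.PSL3B

/-!
Elements of the centralizer of `z0` commuting with two non-commuting elements of `SL₂` are
scalar on the first two coordinates (helper13).
-/

set_option autoImplicit false
set_option linter.unusedSimpArgs false
set_option linter.unusedSectionVars false

namespace Cfsg.Agent.Lib.Helper13.PSL3Fus

open Matrix

variable {F : Type*} [Field F] [NeZero (2 : F)]

local notation "SL3" => Matrix.SpecialLinearGroup (Fin 3) F
local notation "SL2" => Matrix.SpecialLinearGroup (Fin 2) F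

/-- the equations expressing that `M ∈ Hc` commutes with `iota A` -/
theorem comm_iota_eqs {M : SL3} (hM : M ∈ (Hc : Subgroup SL3)) (A : SL2)
    (hA : M * iota A = iota A * M) :
    M.1 0 1 * A.1 1 0 = A.1 0 1 * M.1 1 0 ∧
    M.1 0 1 * (A.1 0 0 - A.1 1 1) = A.1 0 1 * (M.1 0 0 - M.1 1 1) ∧
    M.1 1 0 * (A.1 0 0 - A.1 1 1) = A.1 1 0 * (M.1 0 0 - M.1 1 1) := by
  obtain ⟨m1, m2, m3, m4⟩ := (mem_Hc_iff M).1 hM
  obtain ⟨a1, a2, a3, a4, a5, a6, a7, a8, a9⟩ := iota_entry A
  have e := fun i j => congrArg (fun X : SL3 => X.1 i j) hA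
  simp only [mul_entry] at e
  have e00 := e 0 0
  have e01 := e 0 1
  have e10 := e 1 0
  simp only [a1, a2, a3, a4, a5, a6, a7, a8, a9, m1, m2, m3, m4] at e00 e01 e10
  refine ⟨?_, ?_, ?_⟩
  · linear_combination e00
  · linear_combination -e01
  · linear_combination e10

/-- the cross product argument over a field -/
theorem cross_aux (q r t a b c a' b' c' : F)
    (x1 : q * c = b * r) (x2 : q * a = b * t) (x3 : r * a = c * t)
    (y1 : q * c' = b' * r) (y2 : q * a' = b' * t) (y3 : r * a' = c' * t)
    (hne : ¬ (q = 0 ∧ r = 0 ∧ t = 0)) :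
    b * c' - c * b' = 0 ∧ b' * a - b * a' = 0 ∧ c * a' - c' * a = 0 := by
  by_cases hq0 : q = 0
  · by_cases hr0 : r = 0
    · have ht0 : t ≠ 0 := fun h => hne ⟨hq0, hr0, h⟩
      have h2 : b' * a - b * a' = 0 := by
        apply mul_left_cancel₀ ht0
        linear_combination (-a) * y2 + (a') * x2
      have h3 : c * a' - c' * a = 0 := by
        apply mul_left_cancel₀ ht0
        linear_combination (-a') * x3 + (a) * y3
      have h1 : b * c' - c * b' = 0 := by
        apply mul_left_cancel₀ ht0
        apply mul_left_cancel₀ ht0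
        linear_combination (-(c' * t)) * x2 + (-(q * a)) * y3 + (c * t) * y2 + (q * a') * x3
      exact ⟨h1, h2, h3⟩
    · have h1 : b * c' - c * b' = 0 := by
        apply mul_left_cancel₀ hr0
        linear_combination (-c') * x1 + (c) * y1
      have h3 : c * a' - c' * a = 0 := by
        apply mul_left_cancel₀ hr0
        linear_combination (c) * y3 + (-c') * x3
      have h2 : b' * a - b * a' = 0 := by
        apply mul_left_cancel₀ hr0
        linear_combination (b') * x3 + (-b) * y3 + (-t) * h1
      exact ⟨h1, h2, h3⟩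
  · have h1 : b * c' - c * b' = 0 := by
      apply mul_left_cancel₀ hq0
      linear_combination (b) * y1 + (-b') * x1
    have h2 : b' * a - b * a' = 0 := by
      apply mul_left_cancel₀ hq0
      linear_combination (b') * x2 + (-b) * y2
    have h3 : c * a' - c' * a = 0 := by
      apply mul_left_cancel₀ hq0
      linear_combination (c) * y2 + (-c') * x2 + (-t) * h1
    exact ⟨h1, h2, h3⟩

/-- an element of `Hc` commuting with two non-commuting elements of `SL₂` is scalar on the first
two coordinates -/
theorem scalar_of_comm {M : SL3} (hM : M ∈ (Hc : Subgroup SL3)) (A B : SL2)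
    (hAB : A * B ≠ B * A) (hA : M * iota A = iota A * M) (hB : M * iota B = iota B * M) :
    M.1 0 1 = 0 ∧ M.1 1 0 = 0 ∧ M.1 0 0 = M.1 1 1 := by
  obtain ⟨x1, x2, x3⟩ := comm_iota_eqs hM A hA
  obtain ⟨y1, y2, y3⟩ := comm_iota_eqs hM B hB
  have key : M.1 0 1 = 0 ∧ M.1 1 0 = 0 ∧ M.1 0 0 - M.1 1 1 = 0 := by
    by_contra hne
    apply hAB
    obtain ⟨h1, h2, h3⟩ := cross_aux _ _ _ _ _ _ _ _ _ x1 x2 x3 y1 y2 y3 hne
    apply ext2
    intro i j
    rw [mul_entry2, mul_entry2]
    fin_cases i <;> fin_cases j
    · simp only [Fin.zero_eta, Fin.isValue]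
      linear_combination h1
    · simp only [Fin.zero_eta, Fin.isValue, Fin.mk_one]
      linear_combination h2
    · simp only [Fin.zero_eta, Fin.isValue, Fin.mk_one]
      linear_combination h3
    · simp only [Fin.isValue, Fin.mk_one]
      linear_combination -h1
  obtain ⟨k1, k2, k3⟩ := key
  exact ⟨k1, k2, by linear_combination k3⟩

end Cfsg.Agent.Lib.Helper13.PSL3Fus
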