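import Cfsg.Agent.Lib.Helper13.SimpCrit
import Cfsg.Agent.Lib.Helper29.FusionInner

/-!
Simplicity of the `p`-fusion system of a finite group whose Sylow `p`-subgroup has no proper
nontrivial strongly closed subgroup and is centralized by the `p'`-elements of its normalizer
(helper13).
-/

set_option autoImplicit false

namespace Cfsg.Agent.Lib.Helper13.SimpCrit

open Cfsg Cfsg.Agent.Lib.Helper29

variable {G : Type*} [Group G]

theorem isCentric_self [Finite G] (S : Subgroup G) : (groupFusionSystem S).IsCentric S := by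
  refine ⟨le_rfl, fun Q hQ => ?_⟩
  have hQS := isConj_le_right (groupFusionSystem S) hQ
  have hc := card_eq_of_isConj (groupFusionSystem S) hQ
  have : Q = S := Subgroup.eq_of_le_of_card_ge hQS hc.le
  rw [this]
  exact inf_le_left

/-- splitting an element into a `p`-part and a `p'`-part, both powers of it -/
theorem exists_pPart [Finite G] (p : ℕ) [Fact p.Prime] (g : G) :
    ∃ i j : ℕ, g = g ^ i * g ^ j ∧ (∃ k : ℕ, orderOf (g ^ i) = p ^ k) ∧
      (orderOf (g ^ j)).Coprime p := by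
  have hp : p.Prime := Fact.out
  have hn : orderOf g ≠ 0 := (orderOf_pos g).ne'
  obtain ⟨a, m, hm, hnm⟩ := Nat.exists_eq_pow_mul_and_not_dvd hn p hp.ne_one
  have hcop : Nat.Coprime (p ^ a) m := (Nat.Coprime.pow_left a ((Nat.Prime.coprime_iff_not_dvd hp).2 hm))
  -- Bezout
  obtain ⟨i, hi1, hi2⟩ : ∃ i : ℕ, i % (p ^ a) = 1 % (p ^ a) ∧ i % m = 0 % m := by
    have := Nat.chineseRemainder hcop 1 0
    exact ⟨this.1, this.2.1, this.2.2⟩
  obtain ⟨j, hj1, hj2⟩ : ∃ j : ℕ, j % (p ^ a) = 0 % (p ^ a) ∧ j % m = 1 % m := by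
    have := Nat.chineseRemainder hcop 0 1
    exact ⟨this.1, this.2.1, this.2.2⟩
  refine ⟨i, j, ?_, ?_, ?_⟩
  · rw [← pow_add]
    have h1 : (i + j) % (p ^ a) = 1 % (p ^ a) := by
      rw [Nat.add_mod, hi1, hj1, ← Nat.add_mod]
    have h2 : (i + j) % m = 1 % m := by
      rw [Nat.add_mod, hi2, hj2, ← Nat.add_mod]
    have h3 : (i + j) ≡ 1 [MOD p ^ a * m] :=
      (Nat.modEq_and_modEq_iff_modEq_mul hcop).1 ⟨h1, h2⟩
    rw [← hnm] at h3
    have := (pow_eq_pow_iff_modEq (x := g)).2 h3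
    rw [this, pow_one]
  · have hdvd : m ∣ i := by
      have : i % m = 0 := by rw [hi2, Nat.zero_mod]
      exact Nat.dvd_of_mod_eq_zero this
    have h1 : (g ^ i) ^ (p ^ a) = 1 := by
      obtain ⟨c, rfl⟩ := hdvd
      rw [← pow_mul, mul_comm m c, mul_assoc, mul_comm m, ← hnm, mul_comm, pow_mul,
        pow_orderOf_eq_one, one_pow]
    obtain ⟨k, -, hk⟩ := (Nat.dvd_prime_pow hp).1 (orderOf_dvd_of_pow_eq_one h1)
    exact ⟨k, hk⟩
  · have hdvd : p ^ a ∣ j := by
      have : j % (p ^ a) = 0 := by rw [hj1, Nat.zero_mod]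
      exact Nat.dvd_of_mod_eq_zero this
    have h1 : (g ^ j) ^ m = 1 := by
      obtain ⟨c, rfl⟩ := hdvd
      rw [← pow_mul, mul_comm (p ^ a) c, mul_assoc, ← hnm, mul_comm, pow_mul, pow_orderOf_eq_one,
        one_pow]
    have h2 : orderOf (g ^ j) ∣ m := orderOf_dvd_of_pow_eq_one h1
    exact Nat.Coprime.coprime_dvd_left h2 ((Nat.Prime.coprime_iff_not_dvd hp).2 hm).symm

/-- The `p`-fusion system of a finite group is simple if the Sylow `p`-subgroup `S` is nontrivial,
has no proper nontrivial strongly closed subgroup, and the `p'`-elements normalizing `S`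
centralize it. -/
theorem isSimple_of_pPrime_centralize [Finite G] (p : ℕ) [Fact p.Prime] (S : Sylow p G)
    (hS1 : (S : Subgroup G) ≠ ⊥)
    (hsc : ∀ T : Subgroup G, T ≤ (S : Subgroup G) → T ≠ ⊥ →
      (∀ x ∈ T, ∀ g : G, g * x * g⁻¹ ∈ (S : Subgroup G) → g * x * g⁻¹ ∈ T) → T = (S : Subgroup G))
    (hcen : ∀ y : G, (orderOf y).Coprime p →
      y ∈ Subgroup.normalizer ((S : Subgroup G) : Set G) →
      ∀ s ∈ (S : Subgroup G), y * s * y⁻¹ = s) :
    (groupFusionSystem (S : Subgroup G)).IsSimple p := by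
  apply isSimple_of_centric_gen p S hS1
  · intro T hT
    by_cases hb : T = ⊥
    · left; exact hb
    right
    apply hsc T hT.1 hb
    intro x hx g hgx
    have hR : Subgroup.zpowers x ≤ T := by
      rw [Subgroup.zpowers_le]; exact hx
    have hφ : conjHom (Subgroup.zpowers x) g ∈
        (groupFusionSystem (S : Subgroup G)).Hom (Subgroup.zpowers x) := by
      refine ⟨hR.trans hT.1, ?_, g, fun y => rfl⟩
      rintro ⟨y, hy⟩
      obtain ⟨n, rfl⟩ := Subgroup.mem_zpowers_iff.1 hy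
      show g * x ^ n * g⁻¹ ∈ (S : Subgroup G)
      rw [← conj_zpow]
      exact Subgroup.zpow_mem _ hgx n
    exact hT.2 _ hR _ hφ ⟨x, Subgroup.mem_zpowers x⟩
  · refine le_trans ?_ (le_iSup₂_of_le (f := fun (R : Subgroup G)
      (_ : (groupFusionSystem (S : Subgroup G)).IsCentric R) =>
        autInducedBy (pNorm p R) (S : Subgroup G)) (S : Subgroup G) (isCentric_self _) le_rfl)
    unfold autInducedBy
    rw [Subgroup.closure_le]
    rintro α ⟨g, -, hαg⟩
    -- `g` normalizes `S`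
    have hgS : ∀ s ∈ (S : Subgroup G), g * s * g⁻¹ ∈ (S : Subgroup G) := by
      intro s hs
      rw [← hαg ⟨s, hs⟩]
      exact (α ⟨s, hs⟩).2
    obtain ⟨i, j, hij, ⟨k, hk⟩, hj⟩ := exists_pPart p g
    -- `g` normalizes `S`
    have hgN : g ∈ Subgroup.normalizer ((S : Subgroup G) : Set G) := by
      rw [Subgroup.mem_set_normalizer_iff]
      intro h
      constructor
      · intro hh
        exact hgS h hh
      · intro hh
        obtain ⟨s', hs'⟩ := α.surjective ⟨g * h * g⁻¹, hh⟩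
        have h2 := hαg s'
        rw [hs'] at h2
        have h3 : h = (s' : G) := mul_left_cancel (mul_right_cancel h2)
        rw [h3]
        exact s'.2
    have hnorm : g ^ i ∈ Subgroup.normalizer ((S : Subgroup G) : Set G) :=
      Subgroup.pow_mem _ hgN i
    have hcj := hcen (g ^ j) hj (Subgroup.pow_mem _ hgN j)
    apply Subgroup.subset_closure
    refine ⟨g ^ i, Subgroup.subset_closure ⟨hnorm, k, hk⟩, fun x => ?_⟩
    rw [hαg x]
    have h1 := hcj x x.2
    conv_lhs => rw [hij]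
    rw [mul_inv_rev]
    have : g ^ i * g ^ j * (x : G) * ((g ^ j)⁻¹ * (g ^ i)⁻¹) =
        g ^ i * (g ^ j * (x : G) * (g ^ j)⁻¹) * (g ^ i)⁻¹ := by group
    rw [this, h1]

end Cfsg.Agent.Lib.Helper13.SimpCrit
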