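import Mathlib
import Cfsg.Agent.Lib.Helper2.NilpotentBasic
import Cfsg.Agent.Lib.Helper13.SimpCrit2

/-!
General group theoretic lemmas for the fusion system of `PSL₃(q)` (helper13).
-/

set_option autoImplicit false

namespace Cfsg.Agent.Lib.Helper13.PSL3Fus

variable {G : Type*} [Group G] [Finite G]

/-- a nontrivial subgroup of a `2`-group `P` normalized by `P` contains a central involution -/
theorem exists_central_invol (P T : Subgroup G) (hP : IsPGroup 2 P) (hTP : T ≤ P) (hT : T ≠ ⊥)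
    (hn : ∀ x ∈ T, ∀ g ∈ P, g * x * g⁻¹ ∈ T) :
    ∃ z ∈ T, z ≠ 1 ∧ z * z = 1 ∧ ∀ s ∈ P, s * z = z * s := by
  have : Fact (Nat.Prime 2) := ⟨Nat.prime_two⟩
  have hnil : Group.IsNilpotent P := hP.isNilpotent
  have hnorm : (T.subgroupOf P).Normal := by
    constructor
    intro a ha g
    rw [Subgroup.mem_subgroupOf] at ha ⊢
    exact hn _ ha _ g.2
  have hne : T.subgroupOf P ≠ ⊥ := by
    intro h
    apply hT
    rw [eq_bot_iff]
    intro x hx
    have h1 : (⟨x, hTP hx⟩ : P) ∈ T.subgroupOf P := by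
      rw [Subgroup.mem_subgroupOf]
      exact hx
    rw [h, Subgroup.mem_bot] at h1
    rw [Subgroup.mem_bot]
    exact congrArg Subtype.val h1
  have hW := Cfsg.Agent.Lib.Helper2.normal_inf_center_ne_bot (T.subgroupOf P) hne
  obtain ⟨W, hWdef⟩ : ∃ W : Subgroup P, W = T.subgroupOf P ⊓ Subgroup.center P := ⟨_, rfl⟩
  rw [← hWdef] at hW
  have hWp : IsPGroup 2 W := hP.to_subgroup W
  have hdvd : 2 ∣ Nat.card W := by
    rcases hWp.card_eq_or_dvd with h | h
    · exact absurd (Subgroup.card_eq_one.1 h) hW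
    · exact h
  obtain ⟨w, hw⟩ := exists_prime_orderOf_dvd_card' 2 hdvd
  have hwW : (w : P) ∈ T.subgroupOf P ⊓ Subgroup.center P := hWdef ▸ w.2
  obtain ⟨hwT, hwZ⟩ := Subgroup.mem_inf.mp hwW
  refine ⟨((w : P) : G), ?_, ?_, ?_, ?_⟩
  · exact Subgroup.mem_subgroupOf.1 hwT
  · intro h
    have h1 : w = 1 := Subtype.ext (Subtype.ext h)
    rw [h1, orderOf_one] at hw
    norm_num at hw
  · have h1 : w ^ 2 = 1 := by
      rw [← hw]
      exact pow_orderOf_eq_one w
    have h2 := congrArg Subtype.val (congrArg Subtype.val h1)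
    simpa [pow_two] using h2
  · intro s hs
    have h1 := Subgroup.mem_center_iff.mp hwZ ⟨s, hs⟩
    exact congrArg Subtype.val h1

/-- to show that elements of odd order normalizing `S` centralize it, it suffices to do so for
elements of odd prime power order -/
theorem centralize_of_prime_pow (S : Subgroup G)
    (h : ∀ y : G, (∃ p n : ℕ, p.Prime ∧ p ≠ 2 ∧ orderOf y = p ^ n) →
      y ∈ Subgroup.normalizer (S : Set G) → ∀ s ∈ S, y * s * y⁻¹ = s) :
    ∀ y : G, (orderOf y).Coprime 2 → y ∈ Subgroup.normalizer (S : Set G) →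
      ∀ s ∈ S, y * s * y⁻¹ = s := by
  have key : ∀ n : ℕ, ∀ y : G, orderOf y = n → (orderOf y).Coprime 2 →
      y ∈ Subgroup.normalizer (S : Set G) → ∀ s ∈ S, y * s * y⁻¹ = s := by
    intro n
    induction n using Nat.strong_induction_on with
    | _ n ih =>
      intro y hn hcop hyN s hs
      by_cases h1 : orderOf y = 1
      · rw [orderOf_eq_one_iff] at h1
        rw [h1]
        simp
      obtain ⟨p, hp, hpd⟩ := Nat.exists_prime_and_dvd h1
      have : Fact p.Prime := ⟨hp⟩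
      have hp2 : p ≠ 2 := by
        rintro rfl
        have := Nat.Coprime.eq_one_of_dvd hcop.symm hpd
        norm_num at this
      obtain ⟨i, j, hij, ⟨k, hk⟩, hj⟩ := SimpCrit.exists_pPart p y
      have hyi : y ^ i ∈ Subgroup.normalizer (S : Set G) := Subgroup.pow_mem _ hyN i
      have hyj : y ^ j ∈ Subgroup.normalizer (S : Set G) := Subgroup.pow_mem _ hyN j
      have c1 := h (y ^ i) ⟨p, k, hp, hp2, hk⟩ hyi
      have hjd : orderOf (y ^ j) ∣ orderOf y := orderOf_pow_dvd j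
      have hjlt : orderOf (y ^ j) < n := by
        rw [← hn]
        apply lt_of_le_of_ne (Nat.le_of_dvd (orderOf_pos y) hjd)
        intro heq
        rw [heq] at hj
        have := Nat.Coprime.eq_one_of_dvd hj.symm hpd
        exact hp.one_lt.ne' this
      have c2 := ih _ hjlt (y ^ j) rfl (Nat.Coprime.coprime_dvd_left hjd hcop) hyj
      have e1 := c2 s hs
      have e2 := c1 s hs
      calc y * s * y⁻¹ = (y ^ i * y ^ j) * s * (y ^ i * y ^ j)⁻¹ := by rw [← hij]
        _ = y ^ i * (y ^ j * s * (y ^ j)⁻¹) * (y ^ i)⁻¹ := by group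
        _ = s := by rw [e1, e2]
  intro y
  exact key _ y rfl

/-- an element of odd prime power order acting by conjugation on a set of `2`-power size has a
fixed point -/
theorem exists_fixed_of_prime_pow {p n : ℕ} (hp : p.Prime) (hp2 : p ≠ 2) (y : G)
    (hy : orderOf y = p ^ n) (X : Set G) (hX : ∀ x, y * x * y⁻¹ ∈ X ↔ x ∈ X)
    (hcard : ∃ a : ℕ, Nat.card X = 2 ^ a) : ∃ c ∈ X, y * c * y⁻¹ = c := by
  classical
  have : Fact p.Prime := ⟨hp⟩
  have : Fintype X := Fintype.ofFinite X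
  obtain ⟨σ0, hσ0⟩ : ∃ σ0 : Equiv.Perm G, σ0 = MulAut.toPerm G (MulAut.conj y) := ⟨_, rfl⟩
  have hσ0v : ∀ x, σ0 x = y * x * y⁻¹ := by
    intro x
    rw [hσ0]
    rfl
  have hσ0p : σ0 ^ p ^ n = 1 := by
    rw [hσ0, ← map_pow, ← map_pow, ← hy, pow_orderOf_eq_one, map_one, map_one]
  have hinv : ∀ x, (fun g : G => g ∈ X) (σ0 x) ↔ (fun g : G => g ∈ X) x := by
    intro x
    show σ0 x ∈ X ↔ x ∈ X
    rw [hσ0v]
    exact hX x
  obtain ⟨σ, hσ⟩ : ∃ σ : Equiv.Perm {g : G // g ∈ X}, σ = σ0.subtypePerm hinv := ⟨_, rfl⟩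
  have hσp : σ ^ p ^ n = 1 := by
    rw [hσ, Equiv.Perm.subtypePerm_pow]
    ext x
    simp [hσ0p]
  have hcard' : ¬ p ∣ Fintype.card {g : G // g ∈ X} := by
    obtain ⟨a, ha⟩ := hcard
    have h1 : Fintype.card {g : G // g ∈ X} = 2 ^ a := by
      rw [← ha, Nat.card_eq_fintype_card]
    rw [h1]
    intro hd
    have h2 := hp.dvd_of_dvd_pow hd
    exact hp2 ((Nat.prime_dvd_prime_iff_eq hp Nat.prime_two).1 h2)
  obtain ⟨c, hc⟩ := Equiv.Perm.exists_fixed_point_of_prime hcard' hσp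
  refine ⟨c.1, c.2, ?_⟩
  have h1 := congrArg Subtype.val hc
  rw [hσ] at h1
  rw [← hσ0v]
  exact h1

end Cfsg.Agent.Lib.Helper13.PSL3Fus
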