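import Cfsg.Agent.Lib.Helper13.PSL3C

/-!
Matrix lemmas for the fusion system of `PSL₃(q)`: central involutions, the dihedral group
generated by `t1` and `s1` (helper13).
-/

set_option autoImplicit false
set_option linter.unusedSimpArgs false
set_option linter.unusedSectionVars false

namespace Cfsg.Agent.Lib.Helper13.PSL3Fus

open Matrix

section general

variable {G : Type*} [Group G]

theorem isPGroup_zpowers (x : G) (n : ℕ) (h : x ^ 2 ^ n = 1) :
    IsPGroup 2 (Subgroup.zpowers x) := by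
  have hd := orderOf_dvd_of_pow_eq_one h
  obtain ⟨m, -, hm⟩ := (Nat.dvd_prime_pow Nat.prime_two).1 hd
  apply IsPGroup.of_card (n := m)
  rw [Nat.card_zpowers, hm]

theorem mem_normalizer_zpowers_of_inv (t u : G) (ht : t * t = 1) (h : t * u * t⁻¹ = u⁻¹) :
    t ∈ Subgroup.normalizer ((Subgroup.zpowers u : Subgroup G) : Set G) := by
  have htinv : t⁻¹ = t := inv_eq_of_mul_eq_one_left ht
  have key : ∀ x ∈ Subgroup.zpowers u, t * x * t⁻¹ ∈ Subgroup.zpowers u := by
    intro x hx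
    obtain ⟨k, rfl⟩ := Subgroup.mem_zpowers_iff.1 hx
    rw [← conj_zpow, h]
    exact Subgroup.zpow_mem _ (Subgroup.inv_mem _ (Subgroup.mem_zpowers u)) k
  rw [Subgroup.mem_set_normalizer_iff]
  intro x
  rw [SetLike.mem_coe, SetLike.mem_coe]
  constructor
  · exact key x
  · intro hx
    have h1 := key _ hx
    have h2 : t * (t * x * t⁻¹) * t⁻¹ = x := by
      rw [htinv]
      calc t * (t * x * t) * t = (t * t) * x * (t * t) := by group
        _ = x := by rw [ht, one_mul, mul_one]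
    rw [h2] at h1
    exact h1

theorem mem_normalizer_zpowers_of_comm (t u : G) (h : t * u = u * t) :
    t ∈ Subgroup.normalizer ((Subgroup.zpowers u : Subgroup G) : Set G) := by
  rw [Subgroup.mem_set_normalizer_iff]
  intro x
  rw [SetLike.mem_coe, SetLike.mem_coe]
  have hc : ∀ k : ℤ, t * u ^ k * t⁻¹ = u ^ k := by
    intro k
    rw [← conj_zpow]
    congr 1
    rw [h, mul_inv_cancel_right]
  constructor
  · intro hx
    obtain ⟨k, rfl⟩ := Subgroup.mem_zpowers_iff.1 hx
    rw [hc]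
    exact hx
  · intro hx
    obtain ⟨k, hk⟩ := Subgroup.mem_zpowers_iff.1 hx
    have : x = u ^ k := by
      have h1 : x = t⁻¹ * (t * x * t⁻¹) * t := by group
      rw [h1, ← hk]
      have h2 := hc k
      calc t⁻¹ * u ^ k * t = t⁻¹ * (t * u ^ k * t⁻¹) * t := by rw [h2]
        _ = u ^ k := by group
    rw [this]
    exact Subgroup.zpow_mem _ (Subgroup.mem_zpowers u) k

/-- two elements of `2`-power order, one inverting or centralizing the other, generate a
`2`-group -/
theorem isPGroup_sup_zpowers (t u : G) (n m : ℕ) (ht : t ^ 2 ^ n = 1) (hu : u ^ 2 ^ m = 1)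
    (hN : t ∈ Subgroup.normalizer ((Subgroup.zpowers u : Subgroup G) : Set G)) :
    IsPGroup 2 (Subgroup.zpowers t ⊔ Subgroup.zpowers u : Subgroup G) := by
  have : Fact (Nat.Prime 2) := ⟨Nat.prime_two⟩
  apply IsPGroup.to_sup_of_normal_right' (isPGroup_zpowers t n ht) (isPGroup_zpowers u m hu)
  rw [Subgroup.zpowers_le]
  exact hN

end general

variable {F : Type*} [Field F] [NeZero (2 : F)]

local notation "SL3" => Matrix.SpecialLinearGroup (Fin 3) F
local notation "SL2" => Matrix.SpecialLinearGroup (Fin 2) F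

/-- elements of `Hc` of scalar shape: the determinant condition -/
theorem det_of_scalar {M : SL3} (hM : M ∈ (Hc : Subgroup SL3)) (h01 : M.1 0 1 = 0)
    (h00 : M.1 0 0 = M.1 1 1) : M.1 2 2 * M.1 0 0 * M.1 0 0 = 1 := by
  obtain ⟨m1, m2, m3, m4⟩ := (mem_Hc_iff M).1 hM
  have hd := det_entry M
  rw [m1, m2, m3, m4, h01, ← h00] at hd
  linear_combination hd

/-- an involution of `Hc` of scalar shape is `z0` -/
theorem eq_one_or_z0 {M : SL3} (hM : M ∈ (Hc : Subgroup SL3)) (h01 : M.1 0 1 = 0)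
    (h10 : M.1 1 0 = 0) (h00 : M.1 0 0 = M.1 1 1) (hsq : M * M = 1) : M = 1 ∨ M = z0 := by
  obtain ⟨m1, m2, m3, m4⟩ := (mem_Hc_iff M).1 hM
  have hd := det_of_scalar hM h01 h00
  have e := fun i j => congrArg (fun X : SL3 => X.1 i j) hsq
  simp only [mul_entry, one_entry] at e
  have e00 := e 0 0
  simp only [h01, m1, if_true] at e00
  have hfac : (M.1 0 0 - 1) * (M.1 0 0 + 1) = 0 := by linear_combination e00
  have h22 : M.1 2 2 = 1 := by linear_combination hd - (M.1 2 2) * e00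
  obtain ⟨z1, z2, z3, z4, z5, z6, z7, z8, z9⟩ := z0_entry (F := F)
  rcases mul_eq_zero.1 hfac with h | h
  · left
    have h1 : M.1 0 0 = 1 := by linear_combination h
    apply ext3
    intro i j
    rw [one_entry]
    fin_cases i <;> fin_cases j <;> simp [h1, ← h00, h01, h10, m1, m2, m3, m4, h22]
  · right
    have h1 : M.1 0 0 = -1 := by linear_combination h
    apply ext3
    intro i j
    fin_cases i <;> fin_cases j <;> simp [h1, ← h00, h01, h10, m1, m2, m3, m4, h22, z1, z2, z3,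
      z4, z5, z6, z7, z8, z9]

/-- a nontrivial involution commuting with `z0` and with two non-commuting elements of `SL₂`
is `z0` -/
theorem invol_eq_z0 (A B : SL2) (hAB : A * B ≠ B * A) {z : SL3} (hz0 : z0 * z = z * z0)
    (hzA : z * iota A = iota A * z) (hzB : z * iota B = iota B * z) (hz1 : z ≠ 1)
    (hz2 : z * z = 1) : z = z0 := by
  have hzH : z ∈ (Hc : Subgroup SL3) := (mem_Hc_iff' z).2 hz0
  obtain ⟨h1, h2, h3⟩ := scalar_of_comm hzH A B hAB hzA hzB
  rcases eq_one_or_z0 hzH h1 h2 h3 hz2 with h | h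
  · exact absurd h hz1
  · exact h

/-- `t1` is conjugate to `z0` -/
theorem t1_eq_conj : (t1 : SL3) = cyc * z0 * cyc⁻¹ := by
  rw [← t1_conj, mul_inv_cancel_right]

/-- `s1` is conjugate to `z0` -/
theorem s1_eq_conj : (s1 : SL3) = gs * z0 * gs⁻¹ := by
  rw [← s1_conj, mul_inv_cancel_right]

theorem z0_sq : (z0 : SL3) * z0 = 1 := by
  apply ext3
  intro i j
  fin_cases i <;> fin_cases j <;> simp [mul_entry, one_entry, z0]

/-- `iota J0` has square `z0` -/
theorem iotaJ0_sq : (iota (J0 : SL2) : SL3) * iota J0 = z0 := by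
  rw [← map_mul, J0_sq, iota_negOne2]

theorem iotaJ0_pow_four : (iota (J0 : SL2) : SL3) ^ 2 ^ 2 = 1 := by
  have : (iota (J0 : SL2) : SL3) ^ 2 ^ 2 = (iota J0 * iota J0) * (iota J0 * iota J0) := by
    norm_num [pow_succ]
    group
  rw [this, iotaJ0_sq, z0_sq]

/-- `t1` inverts `iota J0` -/
theorem t1_conj_iotaJ0 : (t1 : SL3) * iota J0 * t1⁻¹ = (iota J0)⁻¹ := by
  have htinv : (t1 : SL3)⁻¹ = t1 := inv_eq_of_mul_eq_one_left t1_sq
  have hsinv : (s1 : SL3)⁻¹ = s1 := inv_eq_of_mul_eq_one_left s1_sq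
  rw [← t1_mul_s1, _root_.mul_inv_rev, htinv, hsinv]
  calc (t1 : SL3) * (t1 * s1) * t1 = (t1 * t1) * s1 * t1 := by group
    _ = s1 * t1 := by rw [t1_sq, one_mul]

/-- the dihedral group generated by `t1` and `s1` is a `2`-group -/
theorem isPGroup_D :
    IsPGroup 2 (Subgroup.zpowers (t1 : SL3) ⊔ Subgroup.zpowers (iota J0 : SL3) : Subgroup SL3) := by
  apply isPGroup_sup_zpowers (t1 : SL3) (iota J0) 1 2
  · rw [pow_one, pow_two]
    exact t1_sq
  · exact iotaJ0_pow_four
  · exact mem_normalizer_zpowers_of_inv _ _ t1_sq t1_conj_iotaJ0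

theorem t1_mem_D :
    (t1 : SL3) ∈ (Subgroup.zpowers (t1 : SL3) ⊔ Subgroup.zpowers (iota J0 : SL3) : Subgroup SL3) :=
  (le_sup_left : Subgroup.zpowers (t1 : SL3) ≤ _) (Subgroup.mem_zpowers _)

theorem s1_mem_D :
    (s1 : SL3) ∈ (Subgroup.zpowers (t1 : SL3) ⊔ Subgroup.zpowers (iota J0 : SL3) : Subgroup SL3) := by
  have h : (s1 : SL3) = t1 * iota J0 := by
    rw [← t1_mul_s1, ← mul_assoc, t1_sq, one_mul]
  rw [h]
  exact Subgroup.mul_mem _ t1_mem_D
    ((le_sup_right : Subgroup.zpowers (iota J0 : SL3) ≤ _) (Subgroup.mem_zpowers _))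

theorem D_le_Hc :
    (Subgroup.zpowers (t1 : SL3) ⊔ Subgroup.zpowers (iota J0 : SL3) : Subgroup SL3) ≤ Hc := by
  rw [sup_le_iff, Subgroup.zpowers_le, Subgroup.zpowers_le]
  exact ⟨t1_mem_Hc, iota_mem_Hc _⟩

end Cfsg.Agent.Lib.Helper13.PSL3Fus
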