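import Cfsg.Agent.Lib.Helper13.PSL3D
import Cfsg.Agent.Lib.Helper13.PSL3E
import Cfsg.Agent.Lib.Helper13.PSL2Fus
import Cfsg.Agent.Lib.Helper17.SylowConj

/-!
A Sylow `2`-subgroup of `SL₃(q)`, `q` odd, inside the centralizer of `z0` (helper13).
-/

set_option autoImplicit false
set_option linter.unusedSimpArgs false
set_option linter.unusedSectionVars false

namespace Cfsg.Agent.Lib.Helper13.PSL3Fus

open Matrix QuaternionGroup

variable {F : Type*} [Field F] [NeZero (2 : F)]

local notation "SL3" => Matrix.SpecialLinearGroup (Fin 3) F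
local notation "SL2" => Matrix.SpecialLinearGroup (Fin 2) F

theorem negOne2_comm (M : SL2) : (negOne2 : SL2) * M = M * negOne2 := by
  apply ext2
  intro i j
  obtain ⟨n1, n2, n3, n4⟩ := negOne2_entry (F := F)
  rw [mul_entry2, mul_entry2]
  fin_cases i <;> fin_cases j <;> simp [n1, n2, n3, n4]

theorem negOne2_sq : (negOne2 : SL2) * negOne2 = 1 := by
  apply ext2
  intro i j
  obtain ⟨n1, n2, n3, n4⟩ := negOne2_entry (F := F)
  rw [mul_entry2, one_entry2]
  fin_cases i <;> fin_cases j <;> simp [n1, n2, n3, n4]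

theorem z0_ne_one : (z0 : SL3) ≠ 1 := by
  intro h
  have h1 := congrArg (fun X : SL3 => X.1 0 0) h
  obtain ⟨z1, -⟩ := z0_entry (F := F)
  simp only [z1, one_entry, if_true] at h1
  have h2 : (2 : F) = 0 := by linear_combination -h1
  exact NeZero.ne 2 h2

/-- an element of `SL₂` with square one is `1` or `-1` -/
theorem eq_one_or_negOne2 {M : SL2} (h : M * M = 1) : M = 1 ∨ M = negOne2 := by
  have hc := PSL2Fus.mem_center_of_sq_eq_one (NeZero.ne 2) (A := M) (by rw [pow_two]; exact h)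
  rw [Matrix.SpecialLinearGroup.mem_center_iff] at hc
  obtain ⟨r, hr, hrM⟩ := hc
  rw [Fintype.card_fin] at hr
  have hfac : (r - 1) * (r + 1) = 0 := by linear_combination hr
  obtain ⟨n1, n2, n3, n4⟩ := negOne2_entry (F := F)
  have hM : ∀ i j, M.1 i j = if i = j then r else 0 := by
    intro i j
    have := congrFun (congrFun hrM i) j
    rw [← this]
    simp [Matrix.scalar_apply, Matrix.diagonal_apply]
  rcases mul_eq_zero.1 hfac with h1 | h1
  · left
    have hr1 : r = 1 := by linear_combination h1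
    apply ext2
    intro i j
    rw [hM, one_entry2, hr1]
  · right
    have hr1 : r = -1 := by linear_combination h1
    apply ext2
    intro i j
    rw [hM, hr1]
    fin_cases i <;> fin_cases j <;> simp [n1, n2, n3, n4]

variable [Fintype F]

/-- `-1` lies in every Sylow `2`-subgroup of `SL₂` -/
theorem negOne2_mem (S2 : Sylow 2 SL2) : (negOne2 : SL2) ∈ (S2 : Subgroup SL2) := by
  have : Fact (Nat.Prime 2) := ⟨Nat.prime_two⟩
  have h1 : IsPGroup 2 (Subgroup.zpowers (negOne2 : SL2)) := by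
    apply isPGroup_zpowers _ 1
    rw [pow_one, pow_two]
    exact negOne2_sq
  have hN : Subgroup.zpowers (negOne2 : SL2) ≤
      Subgroup.normalizer (((S2 : Subgroup SL2)) : Set SL2) := by
    rw [Subgroup.zpowers_le, Subgroup.mem_set_normalizer_iff]
    intro x
    rw [negOne2_comm, mul_inv_cancel_right]
  have hsup := IsPGroup.to_sup_of_normal_left' S2.isPGroup' h1 hN
  have := S2.is_maximal' hsup le_sup_left
  rw [← this]
  exact (le_sup_right : Subgroup.zpowers (negOne2 : SL2) ≤ _) (Subgroup.mem_zpowers _)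

/-- noncommuting elements of the quaternion group -/
theorem quat_noncomm (k : ℕ) (hk : 1 ≤ k) :
    (xa 0 : QuaternionGroup (2 ^ k)) * xa 1 ≠ xa 1 * xa 0 := by
  rw [xa_mul_xa, xa_mul_xa]
  intro h
  have h1 := QuaternionGroup.a.inj h
  have h2 : ((2 : ℕ) : ZMod (2 * 2 ^ k)) = 0 := by
    push_cast
    linear_combination h1
  rw [ZMod.natCast_eq_zero_iff] at h2
  have h3 : 2 * 2 ^ k ≤ 2 := Nat.le_of_dvd (by norm_num) h2
  have h4 : 2 ^ 1 ≤ 2 ^ k := Nat.pow_le_pow_right (by norm_num) hk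
  omega

/-- the Sylow `2`-subgroups of `SL₂` contain non-commuting elements -/
theorem exists_noncomm (hF : Odd (Fintype.card F)) (S2 : Sylow 2 SL2) :
    ∃ A ∈ (S2 : Subgroup SL2), ∃ B ∈ (S2 : Subgroup SL2), A * B ≠ B * A := by
  obtain ⟨k, hk, ⟨e⟩⟩ := Cfsg.Agent.S0261.result hF S2
  refine ⟨(e.symm (xa 0)).1, (e.symm (xa 0)).2, (e.symm (xa 1)).1, (e.symm (xa 1)).2, ?_⟩
  intro h
  apply quat_noncomm k hk
  apply e.symm.injective
  rw [map_mul, map_mul]
  exact Subtype.ext h

/-- the data of a good Sylow `2`-subgroup of `SL₃` -/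
structure Good (P : Sylow 2 SL3) (S2 : Sylow 2 SL2) : Prop where
  le_Hc : (P : Subgroup SL3) ≤ Hc
  comap : (P : Subgroup SL3).comap iota = (S2 : Subgroup SL2)

/-- existence of a good Sylow `2`-subgroup -/
theorem exists_good (hF : Odd (Fintype.card F)) :
    ∃ (P : Sylow 2 SL3) (S2 : Sylow 2 SL2), Good P S2 := by
  have : Fact (Nat.Prime 2) := ⟨Nat.prime_two⟩
  obtain ⟨S2⟩ : Nonempty (Sylow 2 SL2) := inferInstance
  have hR1 : IsPGroup 2 ((S2 : Subgroup SL2).map iota) := S2.isPGroup'.map iota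
  obtain ⟨P, hP⟩ := hR1.exists_le_sylow
  have hS2P : ∀ x ∈ (S2 : Subgroup SL2), iota x ∈ (P : Subgroup SL3) :=
    fun x hx => hP (Subgroup.mem_map_of_mem _ hx)
  have hz0P : (z0 : SL3) ∈ (P : Subgroup SL3) := by
    rw [← iota_negOne2]
    exact hS2P _ (negOne2_mem S2)
  obtain ⟨A, hA, B, hB, hAB⟩ := exists_noncomm hF S2
  have hPne : (P : Subgroup SL3) ≠ ⊥ := by
    intro h
    rw [h, Subgroup.mem_bot] at hz0P
    exact z0_ne_one hz0P
  obtain ⟨z, hzP, hz1, hz2, hzc⟩ := exists_central_invol (P : Subgroup SL3) (P : Subgroup SL3)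
    P.isPGroup' le_rfl hPne (fun x hx g hg =>
      Subgroup.mul_mem _ (Subgroup.mul_mem _ hg hx) (Subgroup.inv_mem _ hg))
  have hzz0 : z = z0 :=
    invol_eq_z0 A B hAB (hzc _ hz0P) (hzc _ (hS2P A hA)).symm (hzc _ (hS2P B hB)).symm hz1 hz2
  rw [hzz0] at hzc
  have hle : (P : Subgroup SL3) ≤ Hc := by
    intro s hs
    rw [mem_Hc_iff']
    exact (hzc s hs).symm
  refine ⟨P, S2, hle, ?_⟩
  apply S2.is_maximal' (P.isPGroup'.comap_of_injective iota iota_injective)
  intro x hx
  exact hS2P x hx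

end Cfsg.Agent.Lib.Helper13.PSL3Fus
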