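import Cfsg.Agent.Lib.Helper13.PSL3F

/-!
Structure of a good Sylow `2`-subgroup of `SL₃(q)` (helper13).
-/

set_option autoImplicit false
set_option linter.unusedSimpArgs false
set_option linter.unusedSectionVars false

namespace Cfsg.Agent.Lib.Helper13.PSL3Fus

open Matrix QuaternionGroup

variable {F : Type*} [Field F] [NeZero (2 : F)]

local notation "SL3" => Matrix.SpecialLinearGroup (Fin 3) F
local notation "SL2" => Matrix.SpecialLinearGroup (Fin 2) F

theorem entry22_one : (1 : SL3).1 2 2 = 1 := by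
  rw [one_entry]
  simp

theorem entry22_inv_mul {g : SL3} (hg : g ∈ (Hc : Subgroup SL3)) :
    (g⁻¹).1 2 2 * g.1 2 2 = 1 := by
  rw [← entry22_mul (Subgroup.inv_mem _ hg), inv_mul_cancel, entry22_one]

theorem entry22_conj {g x : SL3} (hg : g ∈ (Hc : Subgroup SL3)) (hx : x ∈ (Hc : Subgroup SL3)) :
    (g * x * g⁻¹).1 2 2 = x.1 2 2 := by
  rw [entry22_mul (Subgroup.mul_mem _ hg hx), entry22_mul hg]
  have h := entry22_inv_mul hg
  linear_combination (x.1 2 2) * h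

theorem entry22_ne_zero {g : SL3} (hg : g ∈ (Hc : Subgroup SL3)) : g.1 2 2 ≠ 0 := by
  intro h
  have h1 := entry22_inv_mul hg
  rw [h, mul_zero] at h1
  exact zero_ne_one h1

theorem entry22_pow {g : SL3} (hg : g ∈ (Hc : Subgroup SL3)) (n : ℕ) :
    (g ^ n).1 2 2 = (g.1 2 2) ^ n := by
  induction n with
  | zero => rw [pow_zero, pow_zero, entry22_one]
  | succ n ih => rw [pow_succ, pow_succ, entry22_mul (Subgroup.pow_mem _ hg n), ih]

variable [Fintype F]

section good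


/-- Sylow's theorem in `Hc` -/
theorem Good.conj_into {P : Sylow 2 SL3} {S2 : Sylow 2 SL2} (hG : Good P S2) (R : Subgroup SL3) (hR : IsPGroup 2 R)
    (hRH : R ≤ Hc) : ∃ g ∈ (Hc : Subgroup SL3), ∀ b ∈ R, g * b * g⁻¹ ∈ (P : Subgroup SL3) := by
  have : Fact (Nat.Prime 2) := ⟨Nat.prime_two⟩
  apply Cfsg.Agent.Lib.Helper17.exists_conj_le_of_not_dvd_relIndex Hc (P : Subgroup SL3) R
    P.isPGroup' ?_ hR hRH
  intro hd
  have h1 := Subgroup.relIndex_mul_index hG.le_Hc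
  exact P.not_dvd_index (h1 ▸ Dvd.dvd.mul_right hd _)

theorem Good.z0_mem {P : Sylow 2 SL3} {S2 : Sylow 2 SL2} (hG : Good P S2) : (z0 : SL3) ∈ (P : Subgroup SL3) := by
  have hR : IsPGroup 2 (Subgroup.zpowers (z0 : SL3)) := by
    apply isPGroup_zpowers _ 1
    rw [pow_one, pow_two]
    exact z0_sq
  obtain ⟨g, hg, hgb⟩ := hG.conj_into _ hR (by rw [Subgroup.zpowers_le]; exact z0_mem_Hc)
  have h1 := hgb z0 (Subgroup.mem_zpowers _)
  have h2 : g * z0 * g⁻¹ = z0 := by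
    rw [mem_Hc_iff'] at hg
    rw [← hg, mul_inv_cancel_right]
  rw [h2] at h1
  exact h1

theorem Good.mem_S2_iff {P : Sylow 2 SL3} {S2 : Sylow 2 SL2} (hG : Good P S2) (x : SL2) :
    x ∈ (S2 : Subgroup SL2) ↔ iota x ∈ (P : Subgroup SL3) := by
  rw [← hG.comap]
  rfl

/-- elements of `P` with `22`-entry one come from `S2` -/
theorem Good.exists_of_entry22 {P : Sylow 2 SL3} {S2 : Sylow 2 SL2} (hG : Good P S2) {s : SL3} (hs : s ∈ (P : Subgroup SL3))
    (h22 : s.1 2 2 = 1) : ∃ A ∈ (S2 : Subgroup SL2), iota A = s := by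
  obtain ⟨A, hA⟩ := exists_iota_eq (hG.le_Hc hs) h22
  refine ⟨A, ?_, hA⟩
  rw [hG.mem_S2_iff, hA]
  exact hs

/-- a central involution of `P` is `z0` -/
theorem Good.central_invol {P : Sylow 2 SL3} {S2 : Sylow 2 SL2} (hG : Good P S2) (hF : Odd (Fintype.card F)) {z : SL3} (hz1 : z ≠ 1)
    (hz2 : z * z = 1) (hzc : ∀ s ∈ (P : Subgroup SL3), s * z = z * s) : z = z0 := by
  obtain ⟨A, hA, B, hB, hAB⟩ := exists_noncomm hF S2
  exact invol_eq_z0 A B hAB (hzc _ hG.z0_mem) (hzc _ ((hG.mem_S2_iff A).1 hA)).symm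
    (hzc _ ((hG.mem_S2_iff B).1 hB)).symm hz1 hz2

/-- an element of `P` centralizing the image of `S2` has scalar shape -/
theorem Good.scalar_of_centralize {P : Sylow 2 SL3} {S2 : Sylow 2 SL2} (hG : Good P S2) (hF : Odd (Fintype.card F)) {c : SL3}
    (hc : c ∈ (Hc : Subgroup SL3))
    (hcc : ∀ A ∈ (S2 : Subgroup SL2), c * iota A = iota A * c) :
    c.1 0 1 = 0 ∧ c.1 1 0 = 0 ∧ c.1 0 0 = c.1 1 1 := by
  obtain ⟨A, hA, B, hB, hAB⟩ := exists_noncomm hF S2
  exact scalar_of_comm hc A B hAB (hcc A hA) (hcc B hB)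

end good

end Cfsg.Agent.Lib.Helper13.PSL3Fus
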