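import Cfsg.Agent.Lib.Helper13.PSL3G

/-!
A good Sylow `2`-subgroup of `SL₃(q)` has no proper nontrivial strongly closed subgroup (helper13).
-/

set_option autoImplicit false
set_option linter.unusedSimpArgs false
set_option linter.unusedSectionVars false

namespace Cfsg.Agent.Lib.Helper13.PSL3Fus

open Matrix QuaternionGroup

variable {F : Type*} [Field F]

local notation "SL3" => Matrix.SpecialLinearGroup (Fin 3) F
local notation "SL2" => Matrix.SpecialLinearGroup (Fin 2) F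

theorem dg_eq_one (a b c : F) (h : a * b * c = 1) (ha : a = 1) (hb : b = 1) (hc : c = 1) :
    dg a b c h = 1 := by
  subst ha hb hc
  exact dg_one

theorem dg_pow (a b c : F) (h : a * b * c = 1) (m : ℕ) :
    (dg a b c h) ^ m = dg (a ^ m) (b ^ m) (c ^ m) (by rw [← mul_pow, ← mul_pow, h, one_pow]) := by
  induction m with
  | zero =>
    simp only [pow_zero]
    exact dg_one.symm
  | succ m ih =>
    rw [pow_succ, ih, dg_mul]
    simp only [pow_succ]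

theorem dg_comm (a b c a' b' c' : F) (h : a * b * c = 1) (h' : a' * b' * c' = 1) :
    dg a b c h * dg a' b' c' h' = dg a' b' c' h' * dg a b c h := by
  rw [dg_mul, dg_mul]
  simp only [mul_comm]

theorem dg_entry22 (a b c : F) (h : a * b * c = 1) : (dg a b c h).1 2 2 = c := by
  simp [dg]

theorem dg_entry00 (a b c : F) (h : a * b * c = 1) : (dg a b c h).1 0 0 = a := by
  simp [dg]

variable [NeZero (2 : F)] [Fintype F]

/-- the cyclic quotient of a good Sylow subgroup: a generator -/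
theorem Good.exists_gen {P : Sylow 2 SL3} {S2 : Sylow 2 SL2} (hG : Good P S2) :
    ∃ (gu : Fˣ) (n : ℕ), gu ^ 2 ^ n = 1 ∧ (∃ s0 ∈ (P : Subgroup SL3), s0.1 2 2 = (gu : F)) ∧
      ∀ s ∈ (P : Subgroup SL3), ∃ i : ℤ, ((gu ^ i : Fˣ) : F) = s.1 2 2 := by
  obtain ⟨δ, hδ⟩ : ∃ δ : (P : Subgroup SL3) →* Fˣ,
      δ = delta.comp (Subgroup.inclusion hG.le_Hc) := ⟨_, rfl⟩
  have hδv : ∀ s : (P : Subgroup SL3), ((δ s : Fˣ) : F) = s.1.1 2 2 := by
    intro s
    rw [hδ]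
    rfl
  obtain ⟨⟨gu, hguR⟩, hgen⟩ := IsCyclic.exists_generator (α := δ.range)
  obtain ⟨s0, hs0⟩ := hguR
  obtain ⟨n, hn⟩ := P.isPGroup' s0
  refine ⟨gu, n, ?_, ⟨s0.1, s0.2, ?_⟩, ?_⟩
  · rw [← hs0, ← map_pow, hn, map_one]
  · rw [← hs0, hδv]
  · intro s hs
    have h1 := hgen ⟨δ ⟨s, hs⟩, ⟨⟨s, hs⟩, rfl⟩⟩
    obtain ⟨i, hi⟩ := Subgroup.mem_zpowers_iff.1 h1
    refine ⟨i, ?_⟩
    have h2 : gu ^ i = δ ⟨s, hs⟩ := by
      have := congrArg Subtype.val hi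
      simpa using this
    rw [h2, hδv]

/-- a good Sylow `2`-subgroup has no proper nontrivial strongly closed subgroup -/
theorem Good.hsc {P : Sylow 2 SL3} {S2 : Sylow 2 SL2} (hG : Good P S2)
    (hF : Odd (Fintype.card F)) (T : Subgroup SL3) (hTP : T ≤ (P : Subgroup SL3)) (hT : T ≠ ⊥)
    (hcl : ∀ x ∈ T, ∀ g : SL3, g * x * g⁻¹ ∈ (P : Subgroup SL3) → g * x * g⁻¹ ∈ T) :
    T = (P : Subgroup SL3) := by
  -- `z0 ∈ T`
  obtain ⟨z, hzT, hz1, hz2, hzc⟩ := exists_central_invol (P : Subgroup SL3) T P.isPGroup' hTP hT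
    (fun x hx g hg => hcl x hx g
      (Subgroup.mul_mem _ (Subgroup.mul_mem _ hg (hTP hx)) (Subgroup.inv_mem _ hg)))
  have hz0T : (z0 : SL3) ∈ T := by
    rw [← hG.central_invol hF hz1 hz2 hzc]
    exact hzT
  -- an element of order four of `T`
  obtain ⟨g, hg, hgD⟩ := hG.conj_into _ isPGroup_D D_le_Hc
  have ht1 : g * t1 * g⁻¹ ∈ T := by
    have h1 := hgD t1 t1_mem_D
    have h2 : g * t1 * g⁻¹ = (g * cyc) * z0 * (g * cyc)⁻¹ := by
      rw [t1_eq_conj]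
      group
    rw [h2] at h1 ⊢
    exact hcl z0 hz0T _ h1
  have hs1 : g * s1 * g⁻¹ ∈ T := by
    have h1 := hgD s1 s1_mem_D
    have h2 : g * s1 * g⁻¹ = (g * gs) * z0 * (g * gs)⁻¹ := by
      rw [s1_eq_conj]
      group
    rw [h2] at h1 ⊢
    exact hcl z0 hz0T _ h1
  have hv : g * iota J0 * g⁻¹ ∈ T := by
    have h1 : g * iota J0 * g⁻¹ = (g * t1 * g⁻¹) * (g * s1 * g⁻¹) := by
      rw [← t1_mul_s1]
      group
    rw [h1]
    exact T.mul_mem ht1 hs1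
  -- all elements of order four of `S2`
  have h4 : ∀ A ∈ (S2 : Subgroup SL2), A * A = negOne2 → iota A ∈ T := by
    intro A hA hAA
    obtain ⟨G, hG'⟩ := exists_conj_J0 hF A hAA
    have h0 : iota A = iota G * iota J0 * (iota G)⁻¹ := by
      rw [← map_mul, ← hG', map_mul, mul_inv_cancel_right]
    have h1 : iota A = (iota G * g⁻¹) * (g * iota J0 * g⁻¹) * (iota G * g⁻¹)⁻¹ := by
      rw [h0]
      group
    rw [h1]
    apply hcl _ hv
    rw [← h1]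
    exact (hG.mem_S2_iff A).1 hA
  -- the image of `S2`
  obtain ⟨k, hk, ⟨e⟩⟩ := Cfsg.Agent.S0261.result hF S2
  obtain ⟨ψ, hψ⟩ : ∃ ψ : QuaternionGroup (2 ^ k) →* SL3,
      ψ = iota.comp ((S2 : Subgroup SL2).subtype.comp e.symm.toMonoidHom) := ⟨_, rfl⟩
  have hψv : ∀ q, ψ q = iota ((e.symm q : (S2 : Subgroup SL2)) : SL2) := by
    intro q
    rw [hψ]
    rfl
  have hxa : ∀ i, ψ (xa i) ∈ T := by
    intro i
    rw [hψv]
    apply h4 _ (e.symm (xa i)).2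
    have hA4 : (e.symm (xa i)) ^ 4 = 1 := by
      rw [← map_pow, xa_pow_four, map_one]
    have hA2 : (e.symm (xa i)) ^ 2 ≠ 1 := by
      intro h
      rw [← map_pow, EmbeddingLike.map_eq_one_iff] at h
      have h5 := orderOf_dvd_of_pow_eq_one h
      rw [orderOf_xa] at h5
      norm_num at h5
    have hA4' : ((e.symm (xa i) : (S2 : Subgroup SL2)) : SL2) ^ 4 = 1 := by
      have := congrArg Subtype.val hA4
      simpa using this
    have hA2' : ((e.symm (xa i) : (S2 : Subgroup SL2)) : SL2) ^ 2 ≠ 1 := by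
      intro h
      apply hA2
      apply Subtype.ext
      simpa using h
    have h6 : ∀ A : SL2, A ^ 4 = (A * A) * (A * A) := by
      intro A
      rw [show (4 : ℕ) = 2 + 2 from rfl, pow_add, pow_two]
    rw [h6] at hA4'
    rcases eq_one_or_negOne2 hA4' with h | h
    · exfalso
      apply hA2'
      rw [pow_two]
      exact h
    · exact h
  have htop : T.comap ψ = ⊤ := by
    rw [eq_top_iff, ← PSL2Fus.closure_xa, Subgroup.closure_le]
    rintro _ ⟨i, rfl⟩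
    exact hxa i
  have hQT : ∀ A ∈ (S2 : Subgroup SL2), iota A ∈ T := by
    intro A hA
    have h1 : e ⟨A, hA⟩ ∈ T.comap ψ := by
      rw [htop]
      exact Subgroup.mem_top _
    rw [Subgroup.mem_comap, hψv, MulEquiv.symm_apply_apply] at h1
    exact h1
  have hQT' : ∀ s ∈ (P : Subgroup SL3), s.1 2 2 = 1 → s ∈ T := by
    intro s hs h22
    obtain ⟨A, hA, hAs⟩ := hG.exists_of_entry22 hs h22
    rw [← hAs]
    exact hQT A hA
  -- the cyclic quotient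
  obtain ⟨gu, n, hgun, -, hgen⟩ := hG.exists_gen
  have hguF : ((gu : Fˣ) : F) ^ 2 ^ n = 1 := by
    rw [← Units.val_pow_eq_pow_val, hgun, Units.val_one]
  have hguF' : ((gu⁻¹ : Fˣ) : F) ^ 2 ^ n = 1 := by
    rw [← Units.val_pow_eq_pow_val, inv_pow, hgun, inv_one, Units.val_one]
  have hd1 : ((gu⁻¹ : Fˣ) : F) * 1 * ((gu : Fˣ) : F) = 1 := by
    rw [mul_one, Units.inv_mul]
  have hd2 : ((gu⁻¹ : Fˣ) : F) * ((gu : Fˣ) : F) * 1 = 1 := by
    rw [mul_one, Units.inv_mul]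
  obtain ⟨d, hd⟩ : ∃ d : SL3, d = dg ((gu⁻¹ : Fˣ) : F) 1 ((gu : Fˣ) : F) hd1 := ⟨_, rfl⟩
  obtain ⟨d0, hd0⟩ : ∃ d0 : SL3, d0 = dg ((gu⁻¹ : Fˣ) : F) ((gu : Fˣ) : F) 1 hd2 := ⟨_, rfl⟩
  have hdn : d ^ 2 ^ n = 1 := by
    rw [hd, dg_pow]
    exact dg_eq_one _ _ _ _ hguF' (one_pow _) hguF
  have hd0n : d0 ^ 2 ^ n = 1 := by
    rw [hd0, dg_pow]
    exact dg_eq_one _ _ _ _ hguF' hguF (one_pow _)
  have hcomm : d * d0 = d0 * d := by
    rw [hd, hd0]
    exact dg_comm _ _ _ _ _ _ _ _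
  have hdH : d ∈ (Hc : Subgroup SL3) := by
    rw [hd]
    exact dg_mem_Hc _ _ _ _
  have hd0H : d0 ∈ (Hc : Subgroup SL3) := by
    rw [hd0]
    exact dg_mem_Hc _ _ _ _
  have hE2 : IsPGroup 2 (Subgroup.zpowers d ⊔ Subgroup.zpowers d0 : Subgroup SL3) :=
    isPGroup_sup_zpowers d d0 n n hdn hd0n (mem_normalizer_zpowers_of_comm d d0 hcomm)
  have hE2H : (Subgroup.zpowers d ⊔ Subgroup.zpowers d0 : Subgroup SL3) ≤ Hc := by
    rw [sup_le_iff, Subgroup.zpowers_le, Subgroup.zpowers_le]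
    exact ⟨hdH, hd0H⟩
  obtain ⟨g2, hg2, hg2E⟩ := hG.conj_into _ hE2 hE2H
  have hx0P := hg2E d0 ((le_sup_right : Subgroup.zpowers d0 ≤ _) (Subgroup.mem_zpowers _))
  have hcP := hg2E d ((le_sup_left : Subgroup.zpowers d ≤ _) (Subgroup.mem_zpowers _))
  have hx0T : g2 * d0 * g2⁻¹ ∈ T := by
    apply hQT' _ hx0P
    rw [entry22_conj hg2 hd0H, hd0, dg_entry22]
  have hdw : d = wsw * d0 * wsw⁻¹ := by
    rw [hd, hd0, ← dg_conj_wsw, mul_inv_cancel_right]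
  have hcT : g2 * d * g2⁻¹ ∈ T := by
    have h1 : g2 * d * g2⁻¹ = (g2 * wsw * g2⁻¹) * (g2 * d0 * g2⁻¹) * (g2 * wsw * g2⁻¹)⁻¹ := by
      rw [hdw]
      group
    rw [h1]
    apply hcl _ hx0T
    rw [← h1]
    exact hcP
  have hc22 : (g2 * d * g2⁻¹).1 2 2 = ((gu : Fˣ) : F) := by
    rw [entry22_conj hg2 hdH, hd, dg_entry22]
  -- conclusion
  apply le_antisymm hTP
  intro s hs
  obtain ⟨i, hi⟩ := hgen s hs
  obtain ⟨c, hc⟩ : ∃ c : SL3, c = g2 * d * g2⁻¹ := ⟨_, rfl⟩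
  rw [← hc] at hcT hc22 hcP
  have hcH : c ∈ (Hc : Subgroup SL3) := hG.le_Hc hcP
  have hczi : ∀ j : ℤ, (c ^ j).1 2 2 = ((gu ^ j : Fˣ) : F) := by
    intro j
    have h1 : delta ⟨c, hcH⟩ = gu := by
      apply Units.ext
      rw [delta_val]
      exact hc22
    have h2 : delta (⟨c, hcH⟩ ^ j) = gu ^ j := by rw [map_zpow, h1]
    rw [← h2, delta_val]
    rfl
  have hr : (s * c ^ (-i)).1 2 2 = 1 := by
    rw [entry22_mul (hG.le_Hc hs), hczi, ← hi, ← Units.val_mul, ← _root_.zpow_add, add_neg_cancel,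
      zpow_zero, Units.val_one]
  have hrT := hQT' _ (Subgroup.mul_mem _ hs (Subgroup.zpow_mem _ hcP _)) hr
  have h3 : s = (s * c ^ (-i)) * c ^ i := by
    rw [mul_assoc, ← _root_.zpow_add, neg_add_cancel, zpow_zero, mul_one]
  rw [h3]
  exact T.mul_mem hrT (T.zpow_mem hcT i)

end Cfsg.Agent.Lib.Helper13.PSL3Fus
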