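import Cfsg.Agent.Lib.Helper13.PSL3H

/-!
Elements of odd order normalizing a good Sylow `2`-subgroup of `SL₃(q)`: preparations (helper13).
-/

set_option autoImplicit false
set_option linter.unusedSimpArgs false
set_option linter.unusedSectionVars false

namespace Cfsg.Agent.Lib.Helper13.PSL3Fus

open Matrix QuaternionGroup

variable {F : Type*} [Field F] [NeZero (2 : F)] [Fintype F]

local notation "SL3" => Matrix.SpecialLinearGroup (Fin 3) F
local notation "SL2" => Matrix.SpecialLinearGroup (Fin 2) F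

theorem Good.mem_map_iff {P : Sylow 2 SL3} {S2 : Sylow 2 SL2} (hG : Good P S2) (x : SL3) :
    x ∈ (S2 : Subgroup SL2).map iota ↔ x ∈ (P : Subgroup SL3) ∧ x.1 2 2 = 1 := by
  constructor
  · rintro ⟨A, hA, rfl⟩
    exact ⟨(hG.mem_S2_iff A).1 hA, (iota_entry A).2.2.2.2.2.2.2.2⟩
  · rintro ⟨hx, h22⟩
    obtain ⟨A, hA, hAx⟩ := hG.exists_of_entry22 hx h22
    exact ⟨A, hA, hAx⟩

theorem Good.normalizer_map {P : Sylow 2 SL3} {S2 : Sylow 2 SL2} (hG : Good P S2) {w : SL3}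
    (hw : w ∈ (Hc : Subgroup SL3))
    (hwP : ∀ x, w * x * w⁻¹ ∈ (P : Subgroup SL3) ↔ x ∈ (P : Subgroup SL3)) :
    w ∈ Subgroup.normalizer ((((S2 : Subgroup SL2).map iota : Subgroup SL3)) : Set SL3) := by
  rw [Subgroup.mem_set_normalizer_iff]
  intro x
  rw [SetLike.mem_coe, SetLike.mem_coe, hG.mem_map_iff, hG.mem_map_iff, hwP]
  constructor
  · rintro ⟨hx, h22⟩
    exact ⟨hx, by rw [entry22_conj hw (hG.le_Hc hx)]; exact h22⟩
  · rintro ⟨hx, h22⟩
    exact ⟨hx, by rw [entry22_conj hw (hG.le_Hc hx)] at h22; exact h22⟩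

theorem mem_conj_iff_of_mem {G : Type*} [Group G] (H : Subgroup G) {c : G} (hc : c ∈ H) (x : G) :
    c * x * c⁻¹ ∈ H ↔ x ∈ H := by
  constructor
  · intro h
    have h1 : x = c⁻¹ * (c * x * c⁻¹) * c := by group
    rw [h1]
    exact H.mul_mem (H.mul_mem (H.inv_mem hc) h) hc
  · intro h
    exact H.mul_mem (H.mul_mem hc h) (H.inv_mem hc)

/-- the cosets of the image of `S2` in `P` have `2`-power size -/
theorem Good.coset_card {P : Sylow 2 SL3} {S2 : Sylow 2 SL2} (hG : Good P S2) {s0 : SL3}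
    (hs0 : s0 ∈ (P : Subgroup SL3)) :
    ∃ a : ℕ, Nat.card ({s : SL3 | s ∈ (P : Subgroup SL3) ∧ s.1 2 2 = s0.1 2 2} : Set SL3) =
      2 ^ a := by
  have : Fact (Nat.Prime 2) := ⟨Nat.prime_two⟩
  have hQp : IsPGroup 2 ((S2 : Subgroup SL2).map iota) := S2.isPGroup'.map iota
  obtain ⟨a, ha⟩ := IsPGroup.iff_card.1 hQp
  refine ⟨a, ?_⟩
  rw [← ha]
  apply Nat.card_congr
  apply Equiv.subtypeEquiv (Equiv.mulLeft s0⁻¹)
  intro s
  show (s ∈ (P : Subgroup SL3) ∧ s.1 2 2 = s0.1 2 2) ↔ s0⁻¹ * s ∈ (S2 : Subgroup SL2).map iota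
  rw [hG.mem_map_iff]
  have hs0H := hG.le_Hc hs0
  have hinv := entry22_inv_mul hs0H
  constructor
  · rintro ⟨hs, h22⟩
    refine ⟨Subgroup.mul_mem _ (Subgroup.inv_mem _ hs0) hs, ?_⟩
    rw [entry22_mul (Subgroup.inv_mem _ hs0H), h22]
    exact hinv
  · rintro ⟨hs, h22⟩
    have h1 : s = s0 * (s0⁻¹ * s) := by group
    have hsP : s ∈ (P : Subgroup SL3) := by
      rw [h1]
      exact Subgroup.mul_mem _ hs0 hs
    refine ⟨hsP, ?_⟩
    rw [entry22_mul (Subgroup.inv_mem _ hs0H)] at h22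
    have h2 := entry22_ne_zero (Subgroup.inv_mem _ hs0H)
    apply mul_left_cancel₀ h2
    rw [h22, hinv]

/-- `P` contains an element with `22`-entry `-1` -/
theorem Good.exists_neg_one {P : Sylow 2 SL3} {S2 : Sylow 2 SL2} (hG : Good P S2) :
    ∃ s ∈ (P : Subgroup SL3), s.1 2 2 = -1 := by
  obtain ⟨g, hg, hgD⟩ := hG.conj_into _ isPGroup_D D_le_Hc
  refine ⟨g * t1 * g⁻¹, hgD t1 t1_mem_D, ?_⟩
  rw [entry22_conj hg t1_mem_Hc, t1, dg_entry22]

/-- an element of odd order of `Hc` normalizing `P` and centralizing the image of `S2`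
centralizes `P` -/
theorem Good.case_one {P : Sylow 2 SL3} {S2 : Sylow 2 SL2} (hG : Good P S2) {y : SL3}
    (hyH : y ∈ (Hc : Subgroup SL3)) {p n : ℕ} (hp : p.Prime) (hp2 : p ≠ 2)
    (hy : orderOf y = p ^ n)
    (hyP : ∀ x, y * x * y⁻¹ ∈ (P : Subgroup SL3) ↔ x ∈ (P : Subgroup SL3))
    (hcen : ∀ A ∈ (S2 : Subgroup SL2), y * iota A * y⁻¹ = iota A) :
    ∀ s ∈ (P : Subgroup SL3), y * s * y⁻¹ = s := by
  intro s hs
  have hsH := hG.le_Hc hs
  obtain ⟨q, hq⟩ : ∃ q : SL3, q = y * s * y⁻¹ * s⁻¹ := ⟨_, rfl⟩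
  have hqP : q ∈ (P : Subgroup SL3) := by
    rw [hq]
    exact Subgroup.mul_mem _ ((hyP s).2 hs) (Subgroup.inv_mem _ hs)
  have hq22 : q.1 2 2 = 1 := by
    rw [hq, entry22_mul (hG.le_Hc ((hyP s).2 hs)), entry22_conj hyH hsH]
    have h1 := entry22_inv_mul hsH
    linear_combination h1
  obtain ⟨A, hA, hAq⟩ := hG.exists_of_entry22 hqP hq22
  have hyq : y * q * y⁻¹ = q := by
    rw [← hAq]
    exact hcen A hA
  have hys : y * s * y⁻¹ = q * s := by
    rw [hq]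
    group
  have hpow : ∀ m : ℕ, y ^ m * s * (y ^ m)⁻¹ = q ^ m * s := by
    intro m
    induction m with
    | zero => simp
    | succ m ih =>
      have h1 : y ^ (m + 1) * s * (y ^ (m + 1))⁻¹ = y * (y ^ m * s * (y ^ m)⁻¹) * y⁻¹ := by
        rw [pow_succ']
        group
      rw [h1, ih]
      have h2 : y * (q ^ m * s) * y⁻¹ = (y * q * y⁻¹) ^ m * (y * s * y⁻¹) := by
        rw [conj_pow]
        group
      rw [h2, hyq, hys, pow_succ, mul_assoc]
  have h1 := hpow (p ^ n)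
  rw [← hy, pow_orderOf_eq_one, one_mul, inv_one, mul_one] at h1
  have hq1 : q ^ orderOf y = 1 := by
    have h2 : q ^ orderOf y * s = 1 * s := by rw [one_mul, ← h1]
    exact mul_right_cancel h2
  obtain ⟨a, ha⟩ := P.isPGroup' ⟨q, hqP⟩
  have ha' : q ^ 2 ^ a = 1 := by
    have := congrArg Subtype.val ha
    simpa using this
  have hd1 := orderOf_dvd_of_pow_eq_one hq1
  have hd2 := orderOf_dvd_of_pow_eq_one ha'
  have hcop : Nat.Coprime (orderOf y) (2 ^ a) := by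
    rw [hy]
    exact Nat.Coprime.pow _ _ ((Nat.coprime_primes hp Nat.prime_two).2 hp2)
  have ho : orderOf q = 1 := Nat.Coprime.eq_one_of_dvd (Nat.Coprime.coprime_dvd_left hd1 hcop) hd2
  rw [orderOf_eq_one_iff] at ho
  rw [hys, ho, one_mul]

/-- an element of `P` whose `22`-entry generates does not centralize the image of `S2` -/
theorem Good.not_centralize {P : Sylow 2 SL3} {S2 : Sylow 2 SL2} (hG : Good P S2)
    (hF : Odd (Fintype.card F)) (gu : Fˣ) (n : ℕ) (hgun : gu ^ 2 ^ n = 1)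
    (hgen : ∀ s ∈ (P : Subgroup SL3), ∃ i : ℤ, ((gu ^ i : Fˣ) : F) = s.1 2 2)
    {c : SL3} (hcP : c ∈ (P : Subgroup SL3)) (hc22 : c.1 2 2 = ((gu : Fˣ) : F))
    (hcc : ∀ A ∈ (S2 : Subgroup SL2), c * iota A = iota A * c) : False := by
  have hcH := hG.le_Hc hcP
  obtain ⟨c01, c10, c00⟩ := hG.scalar_of_centralize hF hcH hcc
  have hdet := det_of_scalar hcH c01 c00
  obtain ⟨m1, m2, m3, m4⟩ := (mem_Hc_iff c).1 hcH
  obtain ⟨l, hl⟩ : ∃ l : F, l = c.1 0 0 := ⟨_, rfl⟩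
  rw [← hl, hc22] at hdet
  have hl0 : l ≠ 0 := by
    intro h
    rw [h, mul_zero] at hdet
    exact zero_ne_one hdet
  -- powers of `c`
  have hpow : ∀ m : ℕ, (c ^ m).1 0 0 = l ^ m := by
    intro m
    induction m with
    | zero =>
      rw [pow_zero, pow_zero, one_entry]
      simp
    | succ m ih =>
      rw [pow_succ, pow_succ, mul_entry, ih, ← hl, c10, m3, mul_zero, mul_zero, add_zero,
        add_zero]
  obtain ⟨a, ha⟩ := P.isPGroup' ⟨c, hcP⟩
  have ha' : c ^ 2 ^ a = 1 := by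
    have := congrArg Subtype.val ha
    simpa using this
  have hla : l ^ 2 ^ a = 1 := by
    rw [← hpow, ha', one_entry]
    simp
  -- an element of `P` with `22`-entry `l⁻¹`
  have hx1 : (1 : F) * l * l⁻¹ = 1 := by
    rw [one_mul, mul_inv_cancel₀ hl0]
  obtain ⟨x0, hx0⟩ : ∃ x0 : SL3, x0 = dg 1 l l⁻¹ hx1 := ⟨_, rfl⟩
  have hx0a : x0 ^ 2 ^ a = 1 := by
    rw [hx0, dg_pow]
    exact dg_eq_one _ _ _ _ (one_pow _) hla (by rw [inv_pow, hla, inv_one])
  have hx0H : x0 ∈ (Hc : Subgroup SL3) := by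
    rw [hx0]
    exact dg_mem_Hc _ _ _ _
  obtain ⟨g, hg, hgx⟩ := hG.conj_into _ (isPGroup_zpowers x0 a hx0a)
    (by rw [Subgroup.zpowers_le]; exact hx0H)
  have hxP := hgx x0 (Subgroup.mem_zpowers _)
  obtain ⟨i, hi⟩ := hgen _ hxP
  rw [entry22_conj hg hx0H, hx0, dg_entry22] at hi
  -- `gu` is a square of a power of itself
  have hsq : gu ^ (2 * i - 1) = 1 := by
    apply Units.ext
    have h1 : ((gu ^ (2 * i) : Fˣ) : F) = ((gu : Fˣ) : F) := by
      rw [mul_comm, _root_.zpow_mul, zpow_ofNat, Units.val_pow_eq_pow_val, hi]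
      field_simp
      linear_combination -hdet
    have h2 : gu ^ (2 * i - 1) = gu ^ (2 * i) * gu⁻¹ := by
      rw [_root_.zpow_sub_one]
    rw [h2, Units.val_mul, h1, Units.val_one, Units.mul_inv]
  have hgu1 : gu = 1 := by
    have hd1 := orderOf_dvd_of_pow_eq_one hgun
    obtain ⟨b, -, hb⟩ := (Nat.dvd_prime_pow Nat.prime_two).1 hd1
    have hd2 := (orderOf_dvd_iff_zpow_eq_one).2 hsq
    rcases Nat.eq_zero_or_pos b with h0 | h0
    · rw [h0, pow_zero, orderOf_eq_one_iff] at hb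
      exact hb
    · exfalso
      have h2 : (2 : ℤ) ∣ ((orderOf gu : ℕ) : ℤ) := by
        rw [hb]
        push_cast
        exact dvd_pow_self 2 h0.ne'
      have h3 := h2.trans hd2
      omega
  -- contradiction
  obtain ⟨s, hs, hs22⟩ := hG.exists_neg_one
  obtain ⟨j, hj⟩ := hgen s hs
  rw [hgu1, _root_.one_zpow, Units.val_one, hs22] at hj
  have h2 : (2 : F) = 0 := by linear_combination hj
  exact NeZero.ne 2 h2

end Cfsg.Agent.Lib.Helper13.PSL3Fus
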