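import Cfsg.Agent.Lib.Helper13.PSL3I
import Cfsg.Agent.Lib.Helper16.ThompsonAxB
import Cfsg.Agent.Lib.Helper9.QuatSylow

/-!
Elements of odd order normalizing a good Sylow `2`-subgroup of `SL₃(q)` centralize it (helper13).
-/

set_option autoImplicit false
set_option linter.unusedSimpArgs false
set_option linter.unusedSectionVars false

namespace Cfsg.Agent.Lib.Helper13.PSL3Fus

open Matrix QuaternionGroup

variable {F : Type*} [Field F] [NeZero (2 : F)] [Fintype F]

local notation "SL3" => Matrix.SpecialLinearGroup (Fin 3) F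
local notation "SL2" => Matrix.SpecialLinearGroup (Fin 2) F

/-- a nontrivial automorphism of odd order induced by conjugation -/
theorem aut_data {G : Type*} [Group G] (R : Subgroup G) (y : G)
    (hyR : y ∈ Subgroup.normalizer (R : Set G)) (m : ℕ) (hym : y ^ m = 1)
    (hnc : y ∉ Subgroup.centralizer (R : Set G)) :
    ∃ σ : MulAut R, σ ^ m = 1 ∧ σ ≠ 1 := by
  refine ⟨R.normalizerMonoidHom ⟨y, hyR⟩, ?_, ?_⟩
  · rw [← map_pow]
    have h1 : (⟨y, hyR⟩ : Subgroup.normalizer (R : Set G)) ^ m = 1 := by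
      apply Subtype.ext
      rw [Subgroup.coe_pow]
      exact hym
    rw [h1, map_one]
  · intro h
    apply hnc
    rw [Subgroup.mem_centralizer_iff]
    intro x hx
    have h1 : y * x * y⁻¹ = x := by
      have := congrArg (fun τ : MulAut R => ((τ ⟨x, hx⟩ : R) : G)) h
      exact this
    calc x * y = (y * x * y⁻¹) * y := by rw [h1]
      _ = y * x := by group

theorem Good.hcen {P : Sylow 2 SL3} {S2 : Sylow 2 SL2} (hG : Good P S2)
    (hF : Odd (Fintype.card F)) :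
    ∀ y : SL3, (orderOf y).Coprime 2 →
      y ∈ Subgroup.normalizer (((P : Subgroup SL3)) : Set SL3) →
      ∀ s ∈ (P : Subgroup SL3), y * s * y⁻¹ = s := by
  have : Fact (Nat.Prime 2) := ⟨Nat.prime_two⟩
  apply centralize_of_prime_pow
  rintro y ⟨p, n, hp, hp2, hy⟩ hyN
  have hyP : ∀ x, y * x * y⁻¹ ∈ (P : Subgroup SL3) ↔ x ∈ (P : Subgroup SL3) := fun x =>
    (Subgroup.mem_set_normalizer_iff.1 hyN x).symm
  -- `y ∈ Hc`
  have hyH : y ∈ (Hc : Subgroup SL3) := by
    have h1 : y * z0 * y⁻¹ ≠ 1 := by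
      intro h
      apply z0_ne_one (F := F)
      have h0 : (z0 : SL3) = y⁻¹ * (y * z0 * y⁻¹) * y := by group
      rw [h0, h]
      group
    have h2 : (y * z0 * y⁻¹) * (y * z0 * y⁻¹) = 1 := by
      have h0 : (y * z0 * y⁻¹) * (y * z0 * y⁻¹) = y * (z0 * z0) * y⁻¹ := by group
      rw [h0, z0_sq]
      group
    have h3 : ∀ s ∈ (P : Subgroup SL3), s * (y * z0 * y⁻¹) = (y * z0 * y⁻¹) * s := by
      intro s hs
      have hs' : y⁻¹ * s * y ∈ (P : Subgroup SL3) := by
        rw [← hyP]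
        have h0 : y * (y⁻¹ * s * y) * y⁻¹ = s := by group
        rw [h0]
        exact hs
      have h4 := (mem_Hc_iff' _).1 (hG.le_Hc hs')
      calc s * (y * z0 * y⁻¹) = y * ((y⁻¹ * s * y) * z0) * y⁻¹ := by group
        _ = y * (z0 * (y⁻¹ * s * y)) * y⁻¹ := by rw [h4]
        _ = (y * z0 * y⁻¹) * s := by group
    have h5 := hG.central_invol hF h1 h2 h3
    rw [mem_Hc_iff']
    calc z0 * y = (y * z0 * y⁻¹) * y := by rw [h5]
      _ = y * z0 := by group
  by_cases hcase : ∀ A ∈ (S2 : Subgroup SL2), y * iota A * y⁻¹ = iota A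
  · exact hG.case_one hyH hp hp2 hy hyP hcase
  exfalso
  push_neg at hcase
  obtain ⟨A0, hA0, hA0y⟩ := hcase
  obtain ⟨gu, n', hgun, ⟨s0, hs0P, hs0⟩, hgen⟩ := hG.exists_gen
  -- the fixed point
  obtain ⟨aX, haX⟩ := hG.coset_card hs0P
  have hX : ∀ x, y * x * y⁻¹ ∈ ({s : SL3 | s ∈ (P : Subgroup SL3) ∧ s.1 2 2 = s0.1 2 2} : Set SL3) ↔
      x ∈ ({s : SL3 | s ∈ (P : Subgroup SL3) ∧ s.1 2 2 = s0.1 2 2} : Set SL3) := by
    intro x
    simp only [Set.mem_setOf_eq]
    rw [hyP]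
    constructor
    · rintro ⟨hx, h22⟩
      exact ⟨hx, by rw [entry22_conj hyH (hG.le_Hc hx)] at h22; exact h22⟩
    · rintro ⟨hx, h22⟩
      exact ⟨hx, by rw [entry22_conj hyH (hG.le_Hc hx)]; exact h22⟩
  obtain ⟨c, ⟨hcP, hc22⟩, hyc⟩ := exists_fixed_of_prime_pow hp hp2 y hy _ hX ⟨aX, haX⟩
  rw [hs0] at hc22
  -- Thompson's lemma
  obtain ⟨Q, hQ⟩ : ∃ Q : Subgroup SL3, Q = (S2 : Subgroup SL2).map iota := ⟨_, rfl⟩
  have hQp : IsPGroup 2 Q := by
    rw [hQ]
    exact S2.isPGroup'.map iota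
  have hyQ : y ∈ Subgroup.normalizer (Q : Set SL3) := by
    rw [hQ]
    exact hG.normalizer_map hyH hyP
  have hcQ : c ∈ Subgroup.normalizer (Q : Set SL3) := by
    rw [hQ]
    exact hG.normalizer_map (hG.le_Hc hcP) (mem_conj_iff_of_mem _ hcP)
  have hcomm : Commute c y := by
    show c * y = y * c
    calc c * y = (y * c * y⁻¹) * y := by rw [hyc]
      _ = y * c := by group
  obtain ⟨B, hB⟩ : ∃ B : Subgroup SL3, B = Subgroup.zpowers c := ⟨_, rfl⟩
  have hBp : IsPGroup 2 B := by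
    rw [hB]
    exact P.isPGroup'.to_le (Subgroup.zpowers_le.2 hcP)
  have hyB : y ∈ Subgroup.centralizer (B : Set SL3) := by
    rw [Subgroup.mem_centralizer_iff]
    intro h hh
    rw [hB] at hh
    obtain ⟨j, rfl⟩ := Subgroup.mem_zpowers_iff.1 hh
    exact (hcomm.zpow_left j).eq
  have hBQ : B ≤ Subgroup.normalizer (Q : Set SL3) := by
    rw [hB, Subgroup.zpowers_le]
    exact hcQ
  have hcop : (orderOf y).Coprime 2 := by
    rw [hy]
    exact Nat.Coprime.pow_left n ((Nat.coprime_primes hp Nat.prime_two).2 hp2)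
  have hynQ : y ∉ Subgroup.centralizer (Q : Set SL3) := by
    intro h
    rw [Subgroup.mem_centralizer_iff] at h
    apply hA0y
    have h1 := h (iota A0) (by rw [hQ]; exact Subgroup.mem_map_of_mem _ hA0)
    rw [← h1, mul_inv_cancel_right]
  obtain ⟨R, hR⟩ : ∃ R : Subgroup SL3, R = Q ⊓ Subgroup.centralizer (B : Set SL3) := ⟨_, rfl⟩
  have hynR : y ∉ Subgroup.centralizer (R : Set SL3) := by
    intro h
    rw [hR] at h
    exact hynQ (Cfsg.Agent.Lib.Helper16.thompson_AxB B Q y hBp hQp hcop hyB hBQ hyQ h)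
  have hyR : y ∈ Subgroup.normalizer (R : Set SL3) := by
    rw [Subgroup.mem_set_normalizer_iff]
    intro x
    rw [SetLike.mem_coe, SetLike.mem_coe, hR, Subgroup.mem_inf, Subgroup.mem_inf]
    have h1 := Subgroup.mem_set_normalizer_iff.1 hyQ x
    have h2 := (mem_conj_iff_of_mem _ hyB x).symm
    exact and_congr h1 h2
  have hRQ : R ≤ Q := by
    rw [hR]
    exact inf_le_left
  -- quaternion groups
  obtain ⟨k, hk, ⟨e⟩⟩ := Cfsg.Agent.S0261.result hF S2
  obtain ⟨ιQ, hιQ⟩ : ∃ ιQ : Q →* QuaternionGroup (2 ^ k), Function.Injective ιQ := by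
    rw [hQ]
    refine ⟨e.toMonoidHom.comp
      (Subgroup.equivMapOfInjective _ iota iota_injective).symm.toMonoidHom, ?_⟩
    exact e.injective.comp (MulEquiv.injective _)
  have hmodd : Odd (p ^ n) := (hp.odd_of_ne_two hp2).pow
  have hym : y ^ (p ^ n) = 1 := by
    rw [← hy]
    exact pow_orderOf_eq_one y
  obtain ⟨σQ, hσQm, hσQ1⟩ := aut_data Q y hyQ (p ^ n) hym hynQ
  obtain ⟨σR, hσRm, hσR1⟩ := aut_data R y hyR (p ^ n) hym hynR
  obtain ⟨eQ⟩ := Cfsg.Agent.Lib.Helper9.QuatSylow.nonempty_mulEquiv_quat8 ιQ hιQ σQ hmodd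
    hσQm hσQ1
  obtain ⟨eR⟩ := Cfsg.Agent.Lib.Helper9.QuatSylow.nonempty_mulEquiv_quat8
    (ιQ.comp (Subgroup.inclusion hRQ)) (hιQ.comp (Subgroup.inclusion_injective hRQ)) σR hmodd
    hσRm hσR1
  have hcardQ : Nat.card Q = 8 := by
    rw [Nat.card_congr eQ.toEquiv, Nat.card_eq_fintype_card, QuaternionGroup.card]
  have hcardR : Nat.card R = 8 := by
    rw [Nat.card_congr eR.toEquiv, Nat.card_eq_fintype_card, QuaternionGroup.card]
  have hRQeq : R = Q := Subgroup.eq_of_le_of_card_ge hRQ (by rw [hcardQ, hcardR])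
  -- `c` centralizes the image of `S2`
  apply hG.not_centralize hF gu n' hgun hgen hcP hc22
  intro A hA
  have h1 : iota A ∈ R := by
    rw [hRQeq, hQ]
    exact Subgroup.mem_map_of_mem _ hA
  rw [hR, Subgroup.mem_inf] at h1
  exact Subgroup.mem_centralizer_iff.1 h1.2 c (by rw [hB]; exact Subgroup.mem_zpowers c)

end Cfsg.Agent.Lib.Helper13.PSL3Fus
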