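import Mathlib
import Cfsg.Agent.Lib.Helper13.SimpCrit2

/-!
Transfer of the simplicity criterion for fusion systems through a quotient by a central subgroup
of exponent three (helper13).
-/

set_option autoImplicit false
set_option linter.unusedSectionVars false

namespace Cfsg.Agent.Lib.Helper13.PSL3Fus

open Cfsg

variable {G K : Type*} [Group G] [Group K] [Finite G] [Finite K]

theorem eq_one_of_pow_three_of_two_pow {x : G} (h3 : x ^ 3 = 1) {a : ℕ} (h2 : x ^ 2 ^ a = 1) :
    x = 1 := by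
  have hd1 := orderOf_dvd_of_pow_eq_one h3
  have hd2 := orderOf_dvd_of_pow_eq_one h2
  have hcop : Nat.Coprime 3 (2 ^ a) := Nat.Coprime.pow_right a (by norm_num)
  have ho : orderOf x = 1 := Nat.Coprime.eq_one_of_dvd (Nat.Coprime.coprime_dvd_left hd1 hcop) hd2
  exact orderOf_eq_one_iff.1 ho

theorem fusion_simple_of_quotient (φ : G →* K) (hφ : Function.Surjective φ)
    (hker : ∀ x, φ x = 1 → x ∈ Subgroup.center G) (hker3 : ∀ x, φ x = 1 → x ^ 3 = 1)
    (P : Sylow 2 G) (S : Sylow 2 K) (hPS : (P : Subgroup G).map φ = (S : Subgroup K))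
    (hP1 : (P : Subgroup G) ≠ ⊥)
    (hsc : ∀ T : Subgroup G, T ≤ (P : Subgroup G) → T ≠ ⊥ →
      (∀ x ∈ T, ∀ g : G, g * x * g⁻¹ ∈ (P : Subgroup G) → g * x * g⁻¹ ∈ T) → T = (P : Subgroup G))
    (hcen : ∀ y : G, (orderOf y).Coprime 2 →
      y ∈ Subgroup.normalizer ((P : Subgroup G) : Set G) →
      ∀ s ∈ (P : Subgroup G), y * s * y⁻¹ = s) :
    (groupFusionSystem (S : Subgroup K)).IsSimple 2 := by
  have : Fact (Nat.Prime 2) := ⟨Nat.prime_two⟩
  obtain ⟨a, ha⟩ := IsPGroup.iff_card.1 P.isPGroup'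
  have hpowP : ∀ x ∈ (P : Subgroup G), x ^ 2 ^ a = 1 := by
    intro x hx
    have h1 : (⟨x, hx⟩ : (P : Subgroup G)) ^ Nat.card (P : Subgroup G) = 1 := pow_card_eq_one'
    rw [ha] at h1
    have := congrArg Subtype.val h1
    simpa using this
  have hinj : ∀ x ∈ (P : Subgroup G), φ x = 1 → x = 1 := fun x hx h =>
    eq_one_of_pow_three_of_two_pow (hker3 x h) (hpowP x hx)
  have hmemS : ∀ x ∈ (P : Subgroup G), φ x ∈ (S : Subgroup K) := by
    intro x hx
    rw [← hPS]
    exact Subgroup.mem_map_of_mem _ hx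
  have hliftS : ∀ s ∈ (S : Subgroup K), ∃ x ∈ (P : Subgroup G), φ x = s := by
    intro s hs
    rw [← hPS] at hs
    exact hs
  -- elements mapping into the normalizer of `S` normalize `P`
  have hnorm : ∀ w : G, φ w ∈ Subgroup.normalizer ((S : Subgroup K) : Set K) →
      ∀ x ∈ (P : Subgroup G), w * x * w⁻¹ ∈ (P : Subgroup G) := by
    intro w hw x hx
    have h1 : φ (w * x * w⁻¹) ∈ (S : Subgroup K) := by
      rw [map_mul, map_mul, map_inv]
      exact (Subgroup.mem_set_normalizer_iff.1 hw (φ x)).1 (hmemS x hx)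
    obtain ⟨x', hx', hxx⟩ := hliftS _ h1
    obtain ⟨k, hk⟩ : ∃ k : G, k = x'⁻¹ * (w * x * w⁻¹) := ⟨_, rfl⟩
    have hk1 : φ k = 1 := by
      rw [hk, map_mul, map_inv, hxx, inv_mul_cancel]
    have hkc := hker k hk1
    have hk3 := hker3 k hk1
    have hwx : w * x * w⁻¹ = x' * k := by
      rw [hk]
      group
    have h2 : (w * x * w⁻¹) ^ 2 ^ a = 1 := by
      rw [conj_pow, hpowP x hx]
      group
    have hcomm : Commute x' k := Subgroup.mem_center_iff.1 hkc x'
    rw [hwx, hcomm.mul_pow, hpowP x' hx', one_mul] at h2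
    have hk1' : k = 1 := eq_one_of_pow_three_of_two_pow hk3 h2
    rw [hwx, hk1', mul_one]
    exact hx'
  apply SimpCrit.isSimple_of_pPrime_centralize 2 S
  · -- nontrivial
    intro hb
    apply hP1
    rw [eq_bot_iff]
    intro x hx
    have h1 := hmemS x hx
    rw [hb, Subgroup.mem_bot] at h1
    rw [Subgroup.mem_bot]
    exact hinj x hx h1
  · -- strongly closed subgroups
    intro Tb hTbS hTb hcl
    obtain ⟨T, hT⟩ : ∃ T : Subgroup G, T = (P : Subgroup G) ⊓ Tb.comap φ := ⟨_, rfl⟩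
    have hTP : T ≤ (P : Subgroup G) := by
      rw [hT]
      exact inf_le_left
    have hTne : T ≠ ⊥ := by
      intro h
      apply hTb
      rw [eq_bot_iff]
      intro t ht
      obtain ⟨x, hx, hxt⟩ := hliftS t (hTbS ht)
      have h1 : x ∈ T := by
        rw [hT, Subgroup.mem_inf, Subgroup.mem_comap, hxt]
        exact ⟨hx, ht⟩
      rw [h, Subgroup.mem_bot] at h1
      rw [Subgroup.mem_bot, ← hxt, h1, map_one]
    have hTcl : ∀ x ∈ T, ∀ g : G, g * x * g⁻¹ ∈ (P : Subgroup G) → g * x * g⁻¹ ∈ T := by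
      intro x hx g hg
      rw [hT, Subgroup.mem_inf, Subgroup.mem_comap] at hx ⊢
      refine ⟨hg, ?_⟩
      rw [map_mul, map_mul, map_inv]
      apply hcl _ hx.2
      rw [← map_inv, ← map_mul, ← map_mul]
      exact hmemS _ hg
    have hTeq := hsc T hTP hTne hTcl
    apply le_antisymm hTbS
    intro s hs
    obtain ⟨x, hx, hxs⟩ := hliftS s hs
    rw [← hTeq, hT, Subgroup.mem_inf, Subgroup.mem_comap] at hx
    rw [← hxs]
    exact hx.2
  · -- elements of odd order
    intro yb hyb hybN s hs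
    obtain ⟨y, rfl⟩ := hφ yb
    obtain ⟨x, hx, rfl⟩ := hliftS s hs
    have hy3 : y ^ (3 * orderOf (φ y)) = 1 := by
      rw [mul_comm, pow_mul]
      apply hker3
      rw [map_pow, pow_orderOf_eq_one]
    have hycop : (orderOf y).Coprime 2 := by
      have hd := orderOf_dvd_of_pow_eq_one hy3
      apply Nat.Coprime.coprime_dvd_left hd
      exact Nat.Coprime.mul_left (by norm_num) hyb
    have hyN : y ∈ Subgroup.normalizer ((P : Subgroup G) : Set G) := by
      rw [Subgroup.mem_set_normalizer_iff]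
      intro x'
      rw [SetLike.mem_coe, SetLike.mem_coe]
      constructor
      · exact hnorm y hybN x'
      · intro h
        have hinvN : φ y⁻¹ ∈ Subgroup.normalizer ((S : Subgroup K) : Set K) := by
          rw [map_inv]
          exact Subgroup.inv_mem _ hybN
        have h1 := hnorm y⁻¹ hinvN _ h
        have h2 : y⁻¹ * (y * x' * y⁻¹) * y⁻¹⁻¹ = x' := by group
        rw [h2] at h1
        exact h1
    have h1 := hcen y hycop hyN x hx
    rw [← map_inv, ← map_mul, ← map_mul, h1]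

end Cfsg.Agent.Lib.Helper13.PSL3Fus
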