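import Cfsg.Agent.Lib.Helper13.PSL3J
import Cfsg.Agent.Lib.Helper13.PSL3K

/-!
The `2`-fusion system of `PSL₃(q)`, `q` odd, is simple (helper13).
-/

set_option autoImplicit false
set_option linter.unusedSimpArgs false
set_option linter.unusedSectionVars false

namespace Cfsg.Agent.Lib.Helper13.PSL3Fus

open Cfsg Matrix

variable {F : Type*} [Field F]

local notation "SL3" => Matrix.SpecialLinearGroup (Fin 3) F
local notation "PSL3" => Matrix.ProjectiveSpecialLinearGroup (Fin 3) F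

/-- central elements of `SL₃` have cube one -/
theorem cube_eq_one_of_mem_center {z : SL3} (hz : z ∈ Subgroup.center SL3) : z ^ 3 = 1 := by
  rw [Matrix.SpecialLinearGroup.mem_center_iff] at hz
  obtain ⟨r, hr, hrz⟩ := hz
  rw [Fintype.card_fin] at hr
  apply Subtype.ext
  rw [Matrix.SpecialLinearGroup.coe_pow, ← hrz, ← map_pow, hr, map_one]
  rfl

variable [Fintype F]

theorem fusion_simple (hF : Odd (Fintype.card F)) (S : Sylow 2 PSL3) :
    (groupFusionSystem (S : Subgroup PSL3)).IsSimple 2 := by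
  have : Fact (Nat.Prime 2) := ⟨Nat.prime_two⟩
  have : NeZero (2 : F) := ⟨Cfsg.Agent.S0261.two_ne_zero_of_odd hF⟩
  obtain ⟨π, hπ⟩ : ∃ π : SL3 →* PSL3, π = QuotientGroup.mk' (Subgroup.center SL3) := ⟨_, rfl⟩
  have hπs : Function.Surjective π := by
    rw [hπ]
    exact QuotientGroup.mk'_surjective _
  have hkerπ : ∀ x : SL3, π x = 1 ↔ x ∈ Subgroup.center SL3 := by
    intro x
    rw [hπ]
    exact QuotientGroup.eq_one_iff x
  obtain ⟨P', hP'⟩ := Sylow.mapSurjective_surjective hπs 2 S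
  have hP'S : (P' : Subgroup SL3).map π = (S : Subgroup PSL3) := by
    rw [← hP']
    rfl
  obtain ⟨P, S2, hG⟩ := exists_good (F := F) hF
  obtain ⟨g, hg⟩ := MulAction.exists_smul_eq SL3 P' P
  have hgP : ∀ x, x ∈ (P : Subgroup SL3) ↔ g⁻¹ * x * g ∈ (P' : Subgroup SL3) := by
    intro x
    rw [← hg, Sylow.coe_subgroup_smul, Subgroup.mem_pointwise_smul_iff_inv_smul_mem]
    simp [MulAut.smul_def, MulAut.conj_inv_apply]
  obtain ⟨φ, hφ⟩ : ∃ φ : SL3 →* PSL3, φ = π.comp (MulAut.conj g⁻¹).toMonoidHom := ⟨_, rfl⟩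
  have hφv : ∀ x, φ x = π (g⁻¹ * x * g) := by
    intro x
    rw [hφ]
    simp [MulAut.conj_apply]
  have hφs : Function.Surjective φ := by
    intro yb
    obtain ⟨y, rfl⟩ := hπs yb
    refine ⟨g * y * g⁻¹, ?_⟩
    rw [hφv]
    congr 1
    group
  have hker : ∀ x, φ x = 1 → x ∈ Subgroup.center SL3 := by
    intro x hx
    rw [hφv, hkerπ] at hx
    have h1 : x = g⁻¹ * x * g := by
      have h2 := Subgroup.mem_center_iff.1 hx g
      calc x = g * (g⁻¹ * x * g) * g⁻¹ := by group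
        _ = (g⁻¹ * x * g) * g * g⁻¹ := by rw [h2]
        _ = g⁻¹ * x * g := by group
    rw [h1]
    exact hx
  have hker3 : ∀ x, φ x = 1 → x ^ 3 = 1 := fun x hx => cube_eq_one_of_mem_center (hker x hx)
  have hPS : (P : Subgroup SL3).map φ = (S : Subgroup PSL3) := by
    rw [← hP'S]
    ext s
    constructor
    · rintro ⟨x, hx, rfl⟩
      rw [hφv]
      exact Subgroup.mem_map_of_mem _ ((hgP x).1 hx)
    · rintro ⟨x', hx', rfl⟩
      refine ⟨g * x' * g⁻¹, ?_, ?_⟩
      · rw [SetLike.mem_coe, hgP]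
        have h1 : g⁻¹ * (g * x' * g⁻¹) * g = x' := by group
        rw [h1]
        exact hx'
      · rw [hφv]
        congr 1
        group
  have hP1 : (P : Subgroup SL3) ≠ ⊥ := by
    intro h
    have h1 := hG.z0_mem
    rw [h, Subgroup.mem_bot] at h1
    exact z0_ne_one h1
  exact fusion_simple_of_quotient φ hφs hker hker3 P S hPS hP1 (hG.hsc hF) (hG.hcen hF)

end Cfsg.Agent.Lib.Helper13.PSL3Fus
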