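import Cfsg.Agent.Lib.Helper13.PSL3J
import Cfsg.Agent.Lib.Lead.UniqueSubgroup

/-!
A relative version of the `PSL₃` development: a subgroup `U` of `SL₃(F)` containing enough explicit
elements (helper13).  The application is `U = SU₃(q)`.
-/

set_option autoImplicit false
set_option linter.unusedSimpArgs false
set_option linter.unusedSectionVars false
set_option linter.unusedVariables false

namespace Cfsg.Agent.Lib.Helper13.PSU3Fus

open Matrix QuaternionGroup Cfsg.Agent.Lib.Helper13.PSL3Fus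

variable {F : Type*} [Field F] [NeZero (2 : F)]

local notation "SL3" => Matrix.SpecialLinearGroup (Fin 3) F
local notation "SL2" => Matrix.SpecialLinearGroup (Fin 2) F

/-- the hypotheses on the subgroup `U` -/
structure Ctx (U : Subgroup SL3) : Prop where
  t1_mem : (t1 : SL3) ∈ U
  s1_mem : (s1 : SL3) ∈ U
  cyc_mem : (cyc : SL3) ∈ U
  wsw_mem : (wsw : SL3) ∈ U
  gs_ex : ∃ g ∈ U, (s1 : SL3) * g = g * z0
  negOne_mem : (z0 : SL3) ∈ U
  conjJ0 : ∀ A : SL2, iota A ∈ U → A * A = negOne2 → ∃ G : SL2, iota G ∈ U ∧ A * G = G * J0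
  W_ex : ∃ W : SL2, iota W ∈ U ∧ W * J0 * W⁻¹ = J0⁻¹ ∧ W ^ 2 ^ 2 = 1
  dg1 : ∀ s ∈ U ⊓ Hc, ∀ (a b : F) (h : a * 1 * b = 1) (h' : a * b * 1 = 1), b = s.1 2 2 →
    dg a 1 b h ∈ U ∧ dg a b 1 h' ∈ U
  dg2 : ∀ c ∈ U ⊓ Hc, c.1 0 1 = 0 → c.1 1 0 = 0 → c.1 0 0 = c.1 1 1 →
    ∀ (l m : F) (h : 1 * l * m = 1), l = c.1 0 0 → dg 1 l m h ∈ U

theorem Ctx.J0_mem {U : Subgroup SL3} (hU : Ctx U) : iota (J0 : SL2) ∈ U := by
  rw [← t1_mul_s1]
  exact U.mul_mem hU.t1_mem hU.s1_mem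

/-- a Sylow `2`-subgroup of `U` in good position -/
structure GoodU (U : Subgroup SL3) (P : Subgroup SL3) (S2 : Subgroup SL2) : Prop where
  le_U : P ≤ U
  le_Hc : P ≤ Hc
  pgroup : IsPGroup 2 P
  index : ¬ 2 ∣ P.relIndex U
  comap : P.comap iota = S2
  quat : ∃ k : ℕ, 1 ≤ k ∧ Nonempty (S2 ≃* QuaternionGroup (2 ^ k))

theorem mem_normalizer_zpowers_of_inv' {G : Type*} [Group G] (t u : G)
    (h : t * u * t⁻¹ = u⁻¹) :
    t ∈ Subgroup.normalizer ((Subgroup.zpowers u : Subgroup G) : Set G) := by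
  have h' : t⁻¹ * u * t = u⁻¹ := by
    have h1 : u = t⁻¹ * u⁻¹ * t := by
      rw [← h]
      group
    calc t⁻¹ * u * t = (t⁻¹ * u⁻¹ * t)⁻¹ := by group
      _ = u⁻¹ := by rw [← h1]
  have key : ∀ x ∈ Subgroup.zpowers u, t * x * t⁻¹ ∈ Subgroup.zpowers u := by
    intro x hx
    obtain ⟨k, rfl⟩ := Subgroup.mem_zpowers_iff.1 hx
    rw [← conj_zpow, h]
    exact Subgroup.zpow_mem _ (Subgroup.inv_mem _ (Subgroup.mem_zpowers u)) k
  have key' : ∀ x ∈ Subgroup.zpowers u, t⁻¹ * x * t ∈ Subgroup.zpowers u := by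
    intro x hx
    obtain ⟨k, rfl⟩ := Subgroup.mem_zpowers_iff.1 hx
    have h2 : t⁻¹ * u ^ k * t = (t⁻¹ * u * t) ^ k := by
      have := conj_zpow (a := t⁻¹) (b := u) (i := k)
      rw [inv_inv] at this
      exact this.symm
    rw [h2, h']
    exact Subgroup.zpow_mem _ (Subgroup.inv_mem _ (Subgroup.mem_zpowers u)) k
  rw [Subgroup.mem_set_normalizer_iff]
  intro x
  rw [SetLike.mem_coe, SetLike.mem_coe]
  constructor
  · exact key x
  · intro hx
    have h1 := key' _ hx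
    have h2 : t⁻¹ * (t * x * t⁻¹) * t = x := by group
    rw [h2] at h1
    exact h1

variable [Fintype F]

/-- `2`-subgroups of `SL₂` have at most one subgroup of order two -/
theorem uniqueOrderP_of_le (S2 : Subgroup SL2) :
    Cfsg.Agent.Lib.Lead.UniqueOrderP.UniqueOrderP 2 S2 := by
  intro H K hH hK
  obtain ⟨g, hg1, hg2, rfl⟩ := Cfsg.Agent.S0261.exists_of_card_two H hH
  obtain ⟨k, hk1, hk2, rfl⟩ := Cfsg.Agent.S0261.exists_of_card_two K hK
  have e1 : (g : SL2) = negOne2 := by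
    rcases eq_one_or_negOne2 (M := (g : SL2)) (congrArg Subtype.val hg2) with h | h
    · exact absurd (Subtype.ext h) hg1
    · exact h
  have e2 : (k : SL2) = negOne2 := by
    rcases eq_one_or_negOne2 (M := (k : SL2)) (congrArg Subtype.val hk2) with h | h
    · exact absurd (Subtype.ext h) hk1
    · exact h
  have : g = k := Subtype.ext (e1.trans e2.symm)
  rw [this]

/-- existence of a Sylow `2`-subgroup of `U` in good position -/
theorem exists_goodU {U : Subgroup SL3} (hU : Ctx U) :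
    ∃ (P0 : Sylow 2 U) (S2 : Subgroup SL2),
      GoodU U ((P0 : Subgroup U).map U.subtype) S2 := by
  have : Fact (Nat.Prime 2) := ⟨Nat.prime_two⟩
  obtain ⟨V2, hV2⟩ : ∃ V2 : Subgroup SL2, V2 = U.comap iota := ⟨_, rfl⟩
  have hV2mem : ∀ A : SL2, A ∈ V2 ↔ iota A ∈ U := by
    intro A
    rw [hV2]
    rfl
  obtain ⟨S20⟩ : Nonempty (Sylow 2 V2) := inferInstance
  obtain ⟨S2, hS2⟩ : ∃ S2 : Subgroup SL2, S2 = (S20 : Subgroup V2).map V2.subtype := ⟨_, rfl⟩
  have hS2V : S2 ≤ V2 := by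
    rw [hS2]
    exact Subgroup.map_subtype_le _
  have hS2p : IsPGroup 2 S2 := by
    rw [hS2]
    exact S20.isPGroup'.map _
  have hS2idx : ¬ 2 ∣ S2.relIndex V2 := by
    have h1 : S2.subgroupOf V2 = (S20 : Subgroup V2) := by
      rw [hS2, Subgroup.subgroupOf, Subgroup.comap_map_eq_self_of_injective V2.subtype_injective]
    rw [Subgroup.relIndex, h1]
    exact S20.not_dvd_index
  -- Sylow's theorem in `V2`
  have hconjV : ∀ R : Subgroup SL2, IsPGroup 2 R → R ≤ V2 →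
      ∃ g ∈ V2, ∀ b ∈ R, g * b * g⁻¹ ∈ S2 := fun R hR hRV =>
    Cfsg.Agent.Lib.Helper17.exists_conj_le_of_not_dvd_relIndex V2 S2 R hS2p hS2idx hR hRV
  -- `-1 ∈ S2`
  have hneg : (negOne2 : SL2) ∈ S2 := by
    have hR : IsPGroup 2 (Subgroup.zpowers (negOne2 : SL2)) := by
      apply isPGroup_zpowers _ 1
      rw [pow_one, pow_two]
      exact negOne2_sq
    have hRV : Subgroup.zpowers (negOne2 : SL2) ≤ V2 := by
      rw [Subgroup.zpowers_le, hV2mem, iota_negOne2]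
      exact hU.negOne_mem
    obtain ⟨g, -, hg⟩ := hconjV _ hR hRV
    have h1 := hg negOne2 (Subgroup.mem_zpowers _)
    rw [← negOne2_comm g, mul_inv_cancel_right] at h1
    exact h1
  -- noncommuting elements of `S2`
  obtain ⟨W, hWU, hWJ, hW4⟩ := hU.W_ex
  have hJ4 : (J0 : SL2) ^ 2 ^ 2 = 1 := by
    have h1 : (J0 : SL2) ^ 2 ^ 2 = (J0 * J0) * (J0 * J0) := by
      norm_num [pow_succ]
      group
    rw [h1, J0_sq, negOne2_sq]
  have hQ8 : IsPGroup 2 (Subgroup.zpowers W ⊔ Subgroup.zpowers (J0 : SL2) : Subgroup SL2) :=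
    isPGroup_sup_zpowers W J0 2 2 hW4 hJ4 (mem_normalizer_zpowers_of_inv' W J0 hWJ)
  have hQ8V : (Subgroup.zpowers W ⊔ Subgroup.zpowers (J0 : SL2) : Subgroup SL2) ≤ V2 := by
    rw [sup_le_iff, Subgroup.zpowers_le, Subgroup.zpowers_le, hV2mem, hV2mem]
    exact ⟨hWU, hU.J0_mem⟩
  obtain ⟨g8, hg8V, hg8⟩ := hconjV _ hQ8 hQ8V
  have hWne : W * J0 ≠ J0 * W := by
    intro h
    have h1 : W * J0 * W⁻¹ = J0 := by rw [h, mul_inv_cancel_right]
    rw [hWJ] at h1
    have h2 : (J0 : SL2) * J0 = 1 := by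
      calc (J0 : SL2) * J0 = J0⁻¹ * J0 := by rw [h1]
        _ = 1 := inv_mul_cancel _
    rw [J0_sq] at h2
    have h3 := congrArg (fun X : SL2 => X.1 0 0) h2
    obtain ⟨n1, -⟩ := negOne2_entry (F := F)
    simp only [n1, one_entry2, if_true] at h3
    have h4 : (2 : F) = 0 := by linear_combination -h3
    exact NeZero.ne 2 h4
  obtain ⟨A, hA, B, hB, hAB⟩ : ∃ A ∈ S2, ∃ B ∈ S2, A * B ≠ B * A := by
    refine ⟨g8 * W * g8⁻¹, hg8 W ((le_sup_left : Subgroup.zpowers W ≤ _) (Subgroup.mem_zpowers _)),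
      g8 * J0 * g8⁻¹, hg8 J0 ((le_sup_right : Subgroup.zpowers (J0 : SL2) ≤ _)
        (Subgroup.mem_zpowers _)), ?_⟩
    intro h
    apply hWne
    have h1 : W * J0 = g8⁻¹ * ((g8 * W * g8⁻¹) * (g8 * J0 * g8⁻¹)) * g8 := by group
    rw [h1, h]
    group
  -- `S2` is generalized quaternion
  have hquat : ∃ k : ℕ, 1 ≤ k ∧ Nonempty (S2 ≃* QuaternionGroup (2 ^ k)) := by
    have hnc : ¬ ∀ u v : S2, u * v = v * u := by
      intro hc
      apply hAB
      exact congrArg Subtype.val (hc ⟨A, hA⟩ ⟨B, hB⟩)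
    rcases Cfsg.Agent.Lib.Lead.UniqueSubgroup.cyclic_or_quaternion hS2p
      (uniqueOrderP_of_le S2) with hcyc | ⟨-, n, ⟨e⟩⟩
    · exfalso
      apply hnc
      let _ := IsCyclic.commGroup (α := S2)
      exact fun u v => mul_comm u v
    · refine ⟨n, ?_, ⟨e⟩⟩
      by_contra hn
      have hn0 : n = 0 := by omega
      subst hn0
      apply hnc
      have := QuaternionGroup.quaternionGroup_one_isCyclic
      let _ := IsCyclic.commGroup (α := QuaternionGroup 1)
      intro u v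
      apply e.injective
      rw [map_mul, map_mul]
      exact mul_comm (G := QuaternionGroup 1) _ _
  -- the Sylow subgroup of `U`
  have hR1 : IsPGroup 2 ((S2.map iota).subgroupOf U) :=
    (hS2p.map iota).comap_subtype
  obtain ⟨P0, hP0⟩ := hR1.exists_le_sylow
  obtain ⟨P, hP⟩ : ∃ P : Subgroup SL3, P = (P0 : Subgroup U).map U.subtype := ⟨_, rfl⟩
  have hPU : P ≤ U := by
    rw [hP]
    exact Subgroup.map_subtype_le _
  have hPp : IsPGroup 2 P := by
    rw [hP]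
    exact P0.isPGroup'.map _
  have hS2P : ∀ x ∈ S2, iota x ∈ P := by
    intro x hx
    have hxU : iota x ∈ U := (hV2mem x).1 (hS2V hx)
    have h1 : (⟨iota x, hxU⟩ : U) ∈ (P0 : Subgroup U) := by
      apply hP0
      rw [Subgroup.mem_subgroupOf]
      exact Subgroup.mem_map_of_mem _ hx
    rw [hP]
    exact ⟨⟨iota x, hxU⟩, h1, rfl⟩
  have hz0P : (z0 : SL3) ∈ P := by
    rw [← iota_negOne2]
    exact hS2P _ hneg
  have hPne : P ≠ ⊥ := by
    intro h
    rw [h, Subgroup.mem_bot] at hz0P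
    exact z0_ne_one hz0P
  obtain ⟨z, hzP, hz1, hz2, hzc⟩ := exists_central_invol P P hPp le_rfl hPne
    (fun x hx g hg => Subgroup.mul_mem _ (Subgroup.mul_mem _ hg hx) (Subgroup.inv_mem _ hg))
  have hzz0 : z = z0 :=
    invol_eq_z0 A B hAB (hzc _ hz0P) (hzc _ (hS2P A hA)).symm (hzc _ (hS2P B hB)).symm hz1 hz2
  rw [hzz0] at hzc
  have hle : P ≤ Hc := by
    intro s hs
    rw [mem_Hc_iff']
    exact (hzc s hs).symm
  refine ⟨P0, S2, ?_⟩
  rw [← hP]
  refine ⟨hPU, hle, hPp, ?_, ?_, hquat⟩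
  · have h1 : P.subgroupOf U = (P0 : Subgroup U) := by
      rw [hP, Subgroup.subgroupOf, Subgroup.comap_map_eq_self_of_injective U.subtype_injective]
    rw [Subgroup.relIndex, h1]
    exact P0.not_dvd_index
  · -- the comap
    have hcp : IsPGroup 2 (P.comap iota) := hPp.comap_of_injective iota iota_injective
    have hcV : P.comap iota ≤ V2 := by
      intro x hx
      rw [hV2mem]
      exact hPU hx
    have hle2 : S2 ≤ P.comap iota := fun x hx => hS2P x hx
    have h1 : (P.comap iota).subgroupOf V2 = (S20 : Subgroup V2) := by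
      apply S20.is_maximal' hcp.comap_subtype
      intro x hx
      show (x : SL2) ∈ P.comap iota
      apply hle2
      rw [hS2]
      exact ⟨x, hx, rfl⟩
    apply le_antisymm _ hle2
    intro x hx
    have h2 : (⟨x, hcV hx⟩ : V2) ∈ (P.comap iota).subgroupOf V2 := by
      rw [Subgroup.mem_subgroupOf]
      exact hx
    rw [h1] at h2
    rw [hS2]
    exact ⟨⟨x, hcV hx⟩, h2, rfl⟩

end Cfsg.Agent.Lib.Helper13.PSU3Fus
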