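import Cfsg.Agent.Lib.Helper13.PSU3B

/-!
Relative version: elements of odd order of `U` normalizing a good Sylow `2`-subgroup centralize
it (helper13).
-/

set_option autoImplicit false
set_option linter.unusedSimpArgs false
set_option linter.unusedSectionVars false
set_option linter.unusedVariables false

namespace Cfsg.Agent.Lib.Helper13.PSU3Fus

open Matrix QuaternionGroup Cfsg.Agent.Lib.Helper13.PSL3Fus

/-- relative version of `centralize_of_prime_pow` -/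
theorem centralize_of_prime_pow' {G : Type*} [Group G] [Finite G] (U S : Subgroup G)
    (h : ∀ y ∈ U, (∃ p n : ℕ, p.Prime ∧ p ≠ 2 ∧ orderOf y = p ^ n) →
      y ∈ Subgroup.normalizer (S : Set G) → ∀ s ∈ S, y * s * y⁻¹ = s) :
    ∀ y ∈ U, (orderOf y).Coprime 2 → y ∈ Subgroup.normalizer (S : Set G) →
      ∀ s ∈ S, y * s * y⁻¹ = s := by
  have key : ∀ n : ℕ, ∀ y ∈ U, orderOf y = n → (orderOf y).Coprime 2 →
      y ∈ Subgroup.normalizer (S : Set G) → ∀ s ∈ S, y * s * y⁻¹ = s := by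
    intro n
    induction n using Nat.strong_induction_on with
    | _ n ih =>
      intro y hyU hn hcop hyN s hs
      by_cases h1 : orderOf y = 1
      · rw [orderOf_eq_one_iff] at h1
        rw [h1]
        simp
      obtain ⟨p, hp, hpd⟩ := Nat.exists_prime_and_dvd h1
      have : Fact p.Prime := ⟨hp⟩
      have hp2 : p ≠ 2 := by
        rintro rfl
        have := Nat.Coprime.eq_one_of_dvd hcop.symm hpd
        norm_num at this
      obtain ⟨i, j, hij, ⟨k, hk⟩, hj⟩ := SimpCrit.exists_pPart p y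
      have hyi : y ^ i ∈ Subgroup.normalizer (S : Set G) := Subgroup.pow_mem _ hyN i
      have hyj : y ^ j ∈ Subgroup.normalizer (S : Set G) := Subgroup.pow_mem _ hyN j
      have c1 := h (y ^ i) (U.pow_mem hyU i) ⟨p, k, hp, hp2, hk⟩ hyi
      have hjd : orderOf (y ^ j) ∣ orderOf y := orderOf_pow_dvd j
      have hjlt : orderOf (y ^ j) < n := by
        rw [← hn]
        apply lt_of_le_of_ne (Nat.le_of_dvd (orderOf_pos y) hjd)
        intro heq
        rw [heq] at hj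
        have := Nat.Coprime.eq_one_of_dvd hj.symm hpd
        exact hp.one_lt.ne' this
      have c2 := ih _ hjlt (y ^ j) (U.pow_mem hyU j) rfl
        (Nat.Coprime.coprime_dvd_left hjd hcop) hyj
      have e1 := c2 s hs
      have e2 := c1 s hs
      calc y * s * y⁻¹ = (y ^ i * y ^ j) * s * (y ^ i * y ^ j)⁻¹ := by rw [← hij]
        _ = y ^ i * (y ^ j * s * (y ^ j)⁻¹) * (y ^ i)⁻¹ := by group
        _ = s := by rw [e1, e2]
  intro y hyU
  exact key _ y hyU rfl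

variable {F : Type*} [Field F] [NeZero (2 : F)] [Fintype F]

local notation "SL3" => Matrix.SpecialLinearGroup (Fin 3) F
local notation "SL2" => Matrix.SpecialLinearGroup (Fin 2) F

theorem GoodU.mem_map_iff {U P : Subgroup SL3} {S2 : Subgroup SL2} (hG : GoodU U P S2) (x : SL3) :
    x ∈ S2.map iota ↔ x ∈ P ∧ x.1 2 2 = 1 := by
  constructor
  · rintro ⟨A, hA, rfl⟩
    exact ⟨(hG.mem_S2_iff A).1 hA, (iota_entry A).2.2.2.2.2.2.2.2⟩
  · rintro ⟨hx, h22⟩
    obtain ⟨A, hA, hAx⟩ := hG.exists_of_entry22 hx h22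
    exact ⟨A, hA, hAx⟩

theorem GoodU.normalizer_map {U P : Subgroup SL3} {S2 : Subgroup SL2} (hG : GoodU U P S2)
    {w : SL3} (hw : w ∈ (Hc : Subgroup SL3)) (hwP : ∀ x, w * x * w⁻¹ ∈ P ↔ x ∈ P) :
    w ∈ Subgroup.normalizer (((S2.map iota : Subgroup SL3)) : Set SL3) := by
  rw [Subgroup.mem_set_normalizer_iff]
  intro x
  rw [SetLike.mem_coe, SetLike.mem_coe, hG.mem_map_iff, hG.mem_map_iff, hwP]
  constructor
  · rintro ⟨hx, h22⟩
    exact ⟨hx, by rw [entry22_conj hw (hG.le_Hc hx)]; exact h22⟩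
  · rintro ⟨hx, h22⟩
    exact ⟨hx, by rw [entry22_conj hw (hG.le_Hc hx)] at h22; exact h22⟩

theorem GoodU.coset_card {U P : Subgroup SL3} {S2 : Subgroup SL2} (hG : GoodU U P S2) {s0 : SL3}
    (hs0 : s0 ∈ P) :
    ∃ a : ℕ, Nat.card ({s : SL3 | s ∈ P ∧ s.1 2 2 = s0.1 2 2} : Set SL3) = 2 ^ a := by
  have : Fact (Nat.Prime 2) := ⟨Nat.prime_two⟩
  have hQp : IsPGroup 2 (S2.map iota) := hG.pgroup.to_le (by
    intro x hx
    exact ((hG.mem_map_iff x).1 hx).1)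
  obtain ⟨a, ha⟩ := IsPGroup.iff_card.1 hQp
  refine ⟨a, ?_⟩
  rw [← ha]
  apply Nat.card_congr
  apply Equiv.subtypeEquiv (Equiv.mulLeft s0⁻¹)
  intro s
  show (s ∈ P ∧ s.1 2 2 = s0.1 2 2) ↔ s0⁻¹ * s ∈ S2.map iota
  rw [hG.mem_map_iff]
  have hs0H := hG.le_Hc hs0
  have hinv := entry22_inv_mul hs0H
  constructor
  · rintro ⟨hs, h22⟩
    refine ⟨Subgroup.mul_mem _ (Subgroup.inv_mem _ hs0) hs, ?_⟩
    rw [entry22_mul (Subgroup.inv_mem _ hs0H), h22]
    exact hinv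
  · rintro ⟨hs, h22⟩
    have h1 : s = s0 * (s0⁻¹ * s) := by group
    have hsP : s ∈ P := by
      rw [h1]
      exact Subgroup.mul_mem _ hs0 hs
    refine ⟨hsP, ?_⟩
    rw [entry22_mul (Subgroup.inv_mem _ hs0H)] at h22
    have h2 := entry22_ne_zero (Subgroup.inv_mem _ hs0H)
    apply mul_left_cancel₀ h2
    rw [h22, hinv]

theorem GoodU.exists_neg_one {U P : Subgroup SL3} {S2 : Subgroup SL2} (hU : Ctx U)
    (hG : GoodU U P S2) : ∃ s ∈ P, s.1 2 2 = -1 := by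
  have hDU : (Subgroup.zpowers (t1 : SL3) ⊔ Subgroup.zpowers (iota J0 : SL3) : Subgroup SL3) ≤
      Hc ⊓ U := by
    apply le_inf D_le_Hc
    rw [sup_le_iff, Subgroup.zpowers_le, Subgroup.zpowers_le]
    exact ⟨hU.t1_mem, hU.J0_mem⟩
  obtain ⟨g, hg, hgD⟩ := hG.conj_into _ isPGroup_D hDU
  refine ⟨g * t1 * g⁻¹, hgD t1 t1_mem_D, ?_⟩
  rw [entry22_conj hg.1 t1_mem_Hc, t1, dg_entry22]

theorem GoodU.case_one {U P : Subgroup SL3} {S2 : Subgroup SL2} (hG : GoodU U P S2) {y : SL3}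
    (hyH : y ∈ (Hc : Subgroup SL3)) {p n : ℕ} (hp : p.Prime) (hp2 : p ≠ 2)
    (hy : orderOf y = p ^ n) (hyP : ∀ x, y * x * y⁻¹ ∈ P ↔ x ∈ P)
    (hcen : ∀ A ∈ S2, y * iota A * y⁻¹ = iota A) :
    ∀ s ∈ P, y * s * y⁻¹ = s := by
  intro s hs
  have hsH := hG.le_Hc hs
  obtain ⟨q, hq⟩ : ∃ q : SL3, q = y * s * y⁻¹ * s⁻¹ := ⟨_, rfl⟩
  have hqP : q ∈ P := by
    rw [hq]
    exact Subgroup.mul_mem _ ((hyP s).2 hs) (Subgroup.inv_mem _ hs)
  have hq22 : q.1 2 2 = 1 := by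
    rw [hq, entry22_mul (hG.le_Hc ((hyP s).2 hs)), entry22_conj hyH hsH]
    have h1 := entry22_inv_mul hsH
    linear_combination h1
  obtain ⟨A, hA, hAq⟩ := hG.exists_of_entry22 hqP hq22
  have hyq : y * q * y⁻¹ = q := by
    rw [← hAq]
    exact hcen A hA
  have hys : y * s * y⁻¹ = q * s := by
    rw [hq]
    group
  have hpow : ∀ m : ℕ, y ^ m * s * (y ^ m)⁻¹ = q ^ m * s := by
    intro m
    induction m with
    | zero => simp
    | succ m ih =>
      have h1 : y ^ (m + 1) * s * (y ^ (m + 1))⁻¹ = y * (y ^ m * s * (y ^ m)⁻¹) * y⁻¹ := by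
        rw [pow_succ']
        group
      rw [h1, ih]
      have h2 : y * (q ^ m * s) * y⁻¹ = (y * q * y⁻¹) ^ m * (y * s * y⁻¹) := by
        rw [conj_pow]
        group
      rw [h2, hyq, hys, pow_succ, mul_assoc]
  have h1 := hpow (p ^ n)
  rw [← hy, pow_orderOf_eq_one, one_mul, inv_one, mul_one] at h1
  have hq1 : q ^ orderOf y = 1 := by
    have h2 : q ^ orderOf y * s = 1 * s := by rw [one_mul, ← h1]
    exact mul_right_cancel h2
  obtain ⟨a, ha⟩ := hG.pgroup ⟨q, hqP⟩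
  have ha' : q ^ 2 ^ a = 1 := by
    have := congrArg Subtype.val ha
    simpa using this
  have hd1 := orderOf_dvd_of_pow_eq_one hq1
  have hd2 := orderOf_dvd_of_pow_eq_one ha'
  have hcop : Nat.Coprime (orderOf y) (2 ^ a) := by
    rw [hy]
    exact Nat.Coprime.pow _ _ ((Nat.coprime_primes hp Nat.prime_two).2 hp2)
  have ho : orderOf q = 1 := Nat.Coprime.eq_one_of_dvd (Nat.Coprime.coprime_dvd_left hd1 hcop) hd2
  rw [orderOf_eq_one_iff] at ho
  rw [hys, ho, one_mul]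

theorem GoodU.not_centralize {U P : Subgroup SL3} {S2 : Subgroup SL2} (hU : Ctx U)
    (hG : GoodU U P S2) (gu : Fˣ) (n : ℕ) (hgun : gu ^ 2 ^ n = 1)
    (hgen : ∀ s ∈ P, ∃ i : ℤ, ((gu ^ i : Fˣ) : F) = s.1 2 2)
    {c : SL3} (hcP : c ∈ P) (hc22 : c.1 2 2 = ((gu : Fˣ) : F))
    (hcc : ∀ A ∈ S2, c * iota A = iota A * c) : False := by
  have hcH := hG.le_Hc hcP
  obtain ⟨c01, c10, c00⟩ := hG.scalar_of_centralize hcH hcc
  have hdet := det_of_scalar hcH c01 c00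
  obtain ⟨m1, m2, m3, m4⟩ := (mem_Hc_iff c).1 hcH
  obtain ⟨l, hl⟩ : ∃ l : F, l = c.1 0 0 := ⟨_, rfl⟩
  rw [← hl, hc22] at hdet
  have hl0 : l ≠ 0 := by
    intro h
    rw [h, mul_zero] at hdet
    exact zero_ne_one hdet
  have hpow : ∀ m : ℕ, (c ^ m).1 0 0 = l ^ m := by
    intro m
    induction m with
    | zero =>
      rw [pow_zero, pow_zero, one_entry]
      simp
    | succ m ih =>
      rw [pow_succ, pow_succ, mul_entry, ih, ← hl, c10, m3, mul_zero, mul_zero, add_zero,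
        add_zero]
  obtain ⟨a, ha⟩ := hG.pgroup ⟨c, hcP⟩
  have ha' : c ^ 2 ^ a = 1 := by
    have := congrArg Subtype.val ha
    simpa using this
  have hla : l ^ 2 ^ a = 1 := by
    rw [← hpow, ha', one_entry]
    simp
  have hx1 : (1 : F) * l * l⁻¹ = 1 := by
    rw [one_mul, mul_inv_cancel₀ hl0]
  have hx0U := hU.dg2 c ⟨hG.le_U hcP, hcH⟩ c01 c10 c00 l l⁻¹ hx1 hl
  obtain ⟨x0, hx0⟩ : ∃ x0 : SL3, x0 = dg 1 l l⁻¹ hx1 := ⟨_, rfl⟩
  rw [← hx0] at hx0U
  have hx0a : x0 ^ 2 ^ a = 1 := by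
    rw [hx0, dg_pow]
    exact dg_eq_one _ _ _ _ (one_pow _) hla (by rw [inv_pow, hla, inv_one])
  have hx0H : x0 ∈ (Hc : Subgroup SL3) := by
    rw [hx0]
    exact dg_mem_Hc _ _ _ _
  obtain ⟨g, hg, hgx⟩ := hG.conj_into _ (isPGroup_zpowers x0 a hx0a)
    (by rw [Subgroup.zpowers_le]; exact ⟨hx0H, hx0U⟩)
  have hxP := hgx x0 (Subgroup.mem_zpowers _)
  obtain ⟨i, hi⟩ := hgen _ hxP
  rw [entry22_conj hg.1 hx0H, hx0, dg_entry22] at hi
  have hsq : gu ^ (2 * i - 1) = 1 := by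
    apply Units.ext
    have h1 : ((gu ^ (2 * i) : Fˣ) : F) = ((gu : Fˣ) : F) := by
      rw [mul_comm, _root_.zpow_mul, zpow_ofNat, Units.val_pow_eq_pow_val, hi]
      field_simp
      linear_combination -hdet
    have h2 : gu ^ (2 * i - 1) = gu ^ (2 * i) * gu⁻¹ := by
      rw [_root_.zpow_sub_one]
    rw [h2, Units.val_mul, h1, Units.val_one, Units.mul_inv]
  have hgu1 : gu = 1 := by
    have hd1 := orderOf_dvd_of_pow_eq_one hgun
    obtain ⟨b, -, hb⟩ := (Nat.dvd_prime_pow Nat.prime_two).1 hd1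
    have hd2 := (orderOf_dvd_iff_zpow_eq_one).2 hsq
    rcases Nat.eq_zero_or_pos b with h0 | h0
    · rw [h0, pow_zero, orderOf_eq_one_iff] at hb
      exact hb
    · exfalso
      have h2 : (2 : ℤ) ∣ ((orderOf gu : ℕ) : ℤ) := by
        rw [hb]
        push_cast
        exact dvd_pow_self 2 h0.ne'
      have h3 := h2.trans hd2
      omega
  obtain ⟨s, hs, hs22⟩ := hG.exists_neg_one hU
  obtain ⟨j, hj⟩ := hgen s hs
  rw [hgu1, _root_.one_zpow, Units.val_one, hs22] at hj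
  have h2 : (2 : F) = 0 := by linear_combination hj
  exact NeZero.ne 2 h2

theorem GoodU.hcen {U P : Subgroup SL3} {S2 : Subgroup SL2} (hU : Ctx U) (hG : GoodU U P S2) :
    ∀ y ∈ U, (orderOf y).Coprime 2 → y ∈ Subgroup.normalizer ((P : Set SL3)) →
      ∀ s ∈ P, y * s * y⁻¹ = s := by
  have : Fact (Nat.Prime 2) := ⟨Nat.prime_two⟩
  apply centralize_of_prime_pow'
  rintro y hyU ⟨p, n, hp, hp2, hy⟩ hyN
  have hyP : ∀ x, y * x * y⁻¹ ∈ P ↔ x ∈ P := fun x =>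
    (Subgroup.mem_set_normalizer_iff.1 hyN x).symm
  have hyH : y ∈ (Hc : Subgroup SL3) := by
    have h1 : y * z0 * y⁻¹ ≠ 1 := by
      intro h
      apply z0_ne_one (F := F)
      have h0 : (z0 : SL3) = y⁻¹ * (y * z0 * y⁻¹) * y := by group
      rw [h0, h]
      group
    have h2 : (y * z0 * y⁻¹) * (y * z0 * y⁻¹) = 1 := by
      have h0 : (y * z0 * y⁻¹) * (y * z0 * y⁻¹) = y * (z0 * z0) * y⁻¹ := by group
      rw [h0, z0_sq]
      group
    have h3 : ∀ s ∈ P, s * (y * z0 * y⁻¹) = (y * z0 * y⁻¹) * s := by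
      intro s hs
      have hs' : y⁻¹ * s * y ∈ P := by
        rw [← hyP]
        have h0 : y * (y⁻¹ * s * y) * y⁻¹ = s := by group
        rw [h0]
        exact hs
      have h4 := (mem_Hc_iff' _).1 (hG.le_Hc hs')
      calc s * (y * z0 * y⁻¹) = y * ((y⁻¹ * s * y) * z0) * y⁻¹ := by group
        _ = y * (z0 * (y⁻¹ * s * y)) * y⁻¹ := by rw [h4]
        _ = (y * z0 * y⁻¹) * s := by group
    have h5 := hG.central_invol hU h1 h2 h3
    rw [mem_Hc_iff']
    calc z0 * y = (y * z0 * y⁻¹) * y := by rw [h5]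
      _ = y * z0 := by group
  by_cases hcase : ∀ A ∈ S2, y * iota A * y⁻¹ = iota A
  · exact hG.case_one hyH hp hp2 hy hyP hcase
  exfalso
  push Not at hcase
  obtain ⟨A0, hA0, hA0y⟩ := hcase
  obtain ⟨gu, n', hgun, ⟨s0, hs0P, hs0⟩, hgen⟩ := hG.exists_gen
  obtain ⟨aX, haX⟩ := hG.coset_card hs0P
  have hX : ∀ x, y * x * y⁻¹ ∈ ({s : SL3 | s ∈ P ∧ s.1 2 2 = s0.1 2 2} : Set SL3) ↔
      x ∈ ({s : SL3 | s ∈ P ∧ s.1 2 2 = s0.1 2 2} : Set SL3) := by
    intro x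
    show (y * x * y⁻¹ ∈ P ∧ (y * x * y⁻¹).1 2 2 = s0.1 2 2) ↔ (x ∈ P ∧ x.1 2 2 = s0.1 2 2)
    rw [hyP]
    constructor
    · rintro ⟨hx, h22⟩
      exact ⟨hx, by rw [entry22_conj hyH (hG.le_Hc hx)] at h22; exact h22⟩
    · rintro ⟨hx, h22⟩
      exact ⟨hx, by rw [entry22_conj hyH (hG.le_Hc hx)]; exact h22⟩
  obtain ⟨c, ⟨hcP, hc22⟩, hyc⟩ := exists_fixed_of_prime_pow hp hp2 y hy _ hX ⟨aX, haX⟩
  rw [hs0] at hc22
  obtain ⟨Q, hQ⟩ : ∃ Q : Subgroup SL3, Q = S2.map iota := ⟨_, rfl⟩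
  have hQp : IsPGroup 2 Q := by
    rw [hQ]
    exact hG.pgroup.to_le (fun x hx => ((hG.mem_map_iff x).1 hx).1)
  have hyQ : y ∈ Subgroup.normalizer (Q : Set SL3) := by
    rw [hQ]
    exact hG.normalizer_map hyH hyP
  have hcQ : c ∈ Subgroup.normalizer (Q : Set SL3) := by
    rw [hQ]
    exact hG.normalizer_map (hG.le_Hc hcP) (mem_conj_iff_of_mem _ hcP)
  have hcomm : Commute c y := by
    show c * y = y * c
    calc c * y = (y * c * y⁻¹) * y := by rw [hyc]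
      _ = y * c := by group
  obtain ⟨B, hB⟩ : ∃ B : Subgroup SL3, B = Subgroup.zpowers c := ⟨_, rfl⟩
  have hBp : IsPGroup 2 B := by
    rw [hB]
    exact hG.pgroup.to_le (Subgroup.zpowers_le.2 hcP)
  have hyB : y ∈ Subgroup.centralizer (B : Set SL3) := by
    rw [Subgroup.mem_centralizer_iff]
    intro h hh
    rw [hB] at hh
    obtain ⟨j, rfl⟩ := Subgroup.mem_zpowers_iff.1 hh
    exact (hcomm.zpow_left j).eq
  have hBQ : B ≤ Subgroup.normalizer (Q : Set SL3) := by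
    rw [hB, Subgroup.zpowers_le]
    exact hcQ
  have hcop : (orderOf y).Coprime 2 := by
    rw [hy]
    exact Nat.Coprime.pow_left n ((Nat.coprime_primes hp Nat.prime_two).2 hp2)
  have hynQ : y ∉ Subgroup.centralizer (Q : Set SL3) := by
    intro h
    rw [Subgroup.mem_centralizer_iff] at h
    apply hA0y
    have h1 := h (iota A0) (by rw [hQ]; exact Subgroup.mem_map_of_mem _ hA0)
    rw [← h1, mul_inv_cancel_right]
  obtain ⟨R, hR⟩ : ∃ R : Subgroup SL3, R = Q ⊓ Subgroup.centralizer (B : Set SL3) := ⟨_, rfl⟩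
  have hynR : y ∉ Subgroup.centralizer (R : Set SL3) := by
    intro h
    rw [hR] at h
    exact hynQ (Cfsg.Agent.Lib.Helper16.thompson_AxB B Q y hBp hQp hcop hyB hBQ hyQ h)
  have hyR : y ∈ Subgroup.normalizer (R : Set SL3) := by
    rw [Subgroup.mem_set_normalizer_iff]
    intro x
    rw [SetLike.mem_coe, SetLike.mem_coe, hR, Subgroup.mem_inf, Subgroup.mem_inf]
    have h1 := Subgroup.mem_set_normalizer_iff.1 hyQ x
    have h2 := (mem_conj_iff_of_mem _ hyB x).symm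
    exact and_congr h1 h2
  have hRQ : R ≤ Q := by
    rw [hR]
    exact inf_le_left
  obtain ⟨k, hk, ⟨e⟩⟩ := hG.quat
  obtain ⟨ιQ, hιQ⟩ : ∃ ιQ : Q →* QuaternionGroup (2 ^ k), Function.Injective ιQ := by
    rw [hQ]
    refine ⟨e.toMonoidHom.comp
      (Subgroup.equivMapOfInjective _ iota iota_injective).symm.toMonoidHom, ?_⟩
    exact e.injective.comp (MulEquiv.injective _)
  have hmodd : Odd (p ^ n) := (hp.odd_of_ne_two hp2).pow
  have hym : y ^ (p ^ n) = 1 := by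
    rw [← hy]
    exact pow_orderOf_eq_one y
  obtain ⟨σQ, hσQm, hσQ1⟩ := aut_data Q y hyQ (p ^ n) hym hynQ
  obtain ⟨σR, hσRm, hσR1⟩ := aut_data R y hyR (p ^ n) hym hynR
  obtain ⟨eQ⟩ := Cfsg.Agent.Lib.Helper9.QuatSylow.nonempty_mulEquiv_quat8 ιQ hιQ σQ hmodd
    hσQm hσQ1
  obtain ⟨eR⟩ := Cfsg.Agent.Lib.Helper9.QuatSylow.nonempty_mulEquiv_quat8
    (ιQ.comp (Subgroup.inclusion hRQ)) (hιQ.comp (Subgroup.inclusion_injective hRQ)) σR hmodd
    hσRm hσR1
  have hcardQ : Nat.card Q = 8 := by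
    rw [Nat.card_congr eQ.toEquiv, Nat.card_eq_fintype_card, QuaternionGroup.card]
  have hcardR : Nat.card R = 8 := by
    rw [Nat.card_congr eR.toEquiv, Nat.card_eq_fintype_card, QuaternionGroup.card]
  have hRQeq : R = Q := Subgroup.eq_of_le_of_card_ge hRQ (by rw [hcardQ, hcardR])
  apply hG.not_centralize hU gu n' hgun hgen hcP hc22
  intro A hA
  have h1 : iota A ∈ R := by
    rw [hRQeq, hQ]
    exact Subgroup.mem_map_of_mem _ hA
  rw [hR, Subgroup.mem_inf] at h1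
  exact Subgroup.mem_centralizer_iff.1 h1.2 c (by rw [hB]; exact Subgroup.mem_zpowers c)

end Cfsg.Agent.Lib.Helper13.PSU3Fus
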