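import Cfsg.Agent.Lib.Helper13.PSU3C
import Cfsg.Agent.Lib.Helper13.PSL3K

/-!
Relative version: the `2`-fusion system of `U / Z(U)` is simple (helper13).
-/

set_option autoImplicit false
set_option linter.unusedSimpArgs false
set_option linter.unusedSectionVars false
set_option linter.unusedVariables false

namespace Cfsg.Agent.Lib.Helper13.PSU3Fus

open Cfsg Matrix Cfsg.Agent.Lib.Helper13.PSL3Fus

variable {F : Type*} [Field F] [NeZero (2 : F)] [Fintype F]

local notation "SL3" => Matrix.SpecialLinearGroup (Fin 3) F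
local notation "SL2" => Matrix.SpecialLinearGroup (Fin 2) F

theorem fusion_simple_of_ctx {U : Subgroup SL3} (hU : Ctx U)
    (hc3 : ∀ z : U, z ∈ Subgroup.center U → z ^ 3 = 1)
    (S : Sylow 2 (U ⧸ Subgroup.center U)) :
    (groupFusionSystem (S : Subgroup (U ⧸ Subgroup.center U))).IsSimple 2 := by
  have : Fact (Nat.Prime 2) := ⟨Nat.prime_two⟩
  obtain ⟨π, hπ⟩ : ∃ π : U →* (U ⧸ Subgroup.center U), π = QuotientGroup.mk' (Subgroup.center U) :=
    ⟨_, rfl⟩
  have hπs : Function.Surjective π := by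
    rw [hπ]
    exact QuotientGroup.mk'_surjective _
  have hkerπ : ∀ x : U, π x = 1 ↔ x ∈ Subgroup.center U := by
    intro x
    rw [hπ]
    exact QuotientGroup.eq_one_iff x
  obtain ⟨P', hP'⟩ := Sylow.mapSurjective_surjective hπs 2 S
  have hP'S : (P' : Subgroup U).map π = (S : Subgroup (U ⧸ Subgroup.center U)) := by
    rw [← hP']
    rfl
  obtain ⟨P0, S2, hG⟩ := exists_goodU hU
  obtain ⟨g, hg⟩ := MulAction.exists_smul_eq U P' P0
  have hgP : ∀ x, x ∈ (P0 : Subgroup U) ↔ g⁻¹ * x * g ∈ (P' : Subgroup U) := by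
    intro x
    rw [← hg, Sylow.coe_subgroup_smul, Subgroup.mem_pointwise_smul_iff_inv_smul_mem]
    simp [MulAut.smul_def, MulAut.conj_inv_apply]
  obtain ⟨φ, hφ⟩ : ∃ φ : U →* (U ⧸ Subgroup.center U),
      φ = π.comp (MulAut.conj g⁻¹).toMonoidHom := ⟨_, rfl⟩
  have hφv : ∀ x, φ x = π (g⁻¹ * x * g) := by
    intro x
    rw [hφ]
    simp [MulAut.conj_apply]
  have hφs : Function.Surjective φ := by
    intro yb
    obtain ⟨y, rfl⟩ := hπs yb
    refine ⟨g * y * g⁻¹, ?_⟩
    rw [hφv]
    congr 1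
    group
  have hker : ∀ x, φ x = 1 → x ∈ Subgroup.center U := by
    intro x hx
    rw [hφv, hkerπ] at hx
    have h1 : x = g⁻¹ * x * g := by
      have h2 := Subgroup.mem_center_iff.1 hx g
      calc x = g * (g⁻¹ * x * g) * g⁻¹ := by group
        _ = (g⁻¹ * x * g) * g * g⁻¹ := by rw [h2]
        _ = g⁻¹ * x * g := by group
    rw [h1]
    exact hx
  have hker3 : ∀ x, φ x = 1 → x ^ 3 = 1 := fun x hx => hc3 x (hker x hx)
  have hPS : (P0 : Subgroup U).map φ = (S : Subgroup (U ⧸ Subgroup.center U)) := by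
    rw [← hP'S]
    ext s
    constructor
    · rintro ⟨x, hx, rfl⟩
      rw [hφv]
      exact Subgroup.mem_map_of_mem _ ((hgP x).1 hx)
    · rintro ⟨x', hx', rfl⟩
      refine ⟨g * x' * g⁻¹, ?_, ?_⟩
      · rw [SetLike.mem_coe, hgP]
        have h1 : g⁻¹ * (g * x' * g⁻¹) * g = x' := by group
        rw [h1]
        exact hx'
      · rw [hφv]
        congr 1
        group
  obtain ⟨P, hP⟩ : ∃ P : Subgroup SL3, P = (P0 : Subgroup U).map U.subtype := ⟨_, rfl⟩
  rw [← hP] at hG
  have hmemP : ∀ x : U, (x : SL3) ∈ P ↔ x ∈ (P0 : Subgroup U) := by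
    intro x
    rw [hP]
    constructor
    · rintro ⟨x', hx', hxx⟩
      have : x' = x := Subtype.ext hxx
      rw [← this]
      exact hx'
    · intro hx
      exact ⟨x, hx, rfl⟩
  have hP1 : (P0 : Subgroup U) ≠ ⊥ := by
    intro h
    have h1 := hG.z0_mem hU
    have h2 : (⟨z0, hU.negOne_mem⟩ : U) ∈ (P0 : Subgroup U) := (hmemP _).1 h1
    rw [h, Subgroup.mem_bot] at h2
    exact z0_ne_one (congrArg Subtype.val h2)
  apply fusion_simple_of_quotient φ hφs hker hker3 P0 S hPS hP1
  · -- strongly closed subgroups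
    intro T hTP hT hcl
    have hTm : T.map U.subtype = P := by
      apply hG.hsc hU
      · rw [hP]
        exact Subgroup.map_mono hTP
      · intro h
        apply hT
        rw [eq_bot_iff]
        intro x hx
        have h1 : (x : SL3) ∈ T.map U.subtype := ⟨x, hx, rfl⟩
        rw [h, Subgroup.mem_bot] at h1
        rw [Subgroup.mem_bot]
        exact Subtype.ext h1
      · rintro _ ⟨t, ht, rfl⟩ g' hg' hgx
        have h1 : ((⟨g', hg'⟩ * t * ⟨g', hg'⟩⁻¹ : U) : SL3) ∈ P := hgx
        rw [hmemP] at h1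
        have h2 := hcl t ht ⟨g', hg'⟩ h1
        exact ⟨_, h2, rfl⟩
    rw [hP] at hTm
    exact Subgroup.map_injective U.subtype_injective hTm
  · -- elements of odd order
    intro y hy hyN s hs
    have hyN' : (y : SL3) ∈ Subgroup.normalizer (P : Set SL3) := by
      rw [Subgroup.mem_set_normalizer_iff]
      intro x
      rw [SetLike.mem_coe, SetLike.mem_coe]
      constructor
      · intro hx
        have hxU : x ∈ U := hG.le_U hx
        have h1 : (⟨x, hxU⟩ : U) ∈ (P0 : Subgroup U) := (hmemP _).1 hx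
        have h2 := (Subgroup.mem_set_normalizer_iff.1 hyN ⟨x, hxU⟩).1 h1
        exact (hmemP _).2 h2
      · intro hx
        have hxU : x ∈ U := by
          have h0 := hG.le_U hx
          have h1 : x = (y : SL3)⁻¹ * ((y : SL3) * x * (y : SL3)⁻¹) * (y : SL3) := by group
          rw [h1]
          exact U.mul_mem (U.mul_mem (U.inv_mem y.2) h0) y.2
        have h1 : (y * ⟨x, hxU⟩ * y⁻¹ : U) ∈ (P0 : Subgroup U) := (hmemP _).1 hx
        have h2 := (Subgroup.mem_set_normalizer_iff.1 hyN ⟨x, hxU⟩).2 h1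
        exact (hmemP _).2 h2
    have hord : (orderOf (y : SL3)).Coprime 2 := by
      rw [Subgroup.orderOf_coe]
      exact hy
    have h1 := hG.hcen hU (y : SL3) y.2 hord hyN' (s : SL3) ((hmemP s).2 hs)
    exact Subtype.ext h1

end Cfsg.Agent.Lib.Helper13.PSU3Fus
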