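import Mathlib

/-!
Hermitian algebra over a finite field with `q²` elements (helper13).
-/

set_option autoImplicit false
set_option linter.unusedSectionVars false
set_option linter.unusedVariables false

namespace Cfsg.Agent.Lib.Helper13.PSU3Fus

/-- binary quadratic forms over finite fields of odd order are universal -/
theorem exists_sq_add_mul_sq {K : Type*} [Field K] [Fintype K] (hK : Fintype.card K % 2 = 1)
    (e c : K) (he : e ≠ 0) : ∃ x y : K, x ^ 2 + e * y ^ 2 = c := by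
  classical
  let f : Polynomial K := Polynomial.X ^ 2
  let g : Polynomial K := Polynomial.C e * Polynomial.X ^ 2 - Polynomial.C c
  have hg : g.degree = 2 := by
    have h1 : (Polynomial.C e * Polynomial.X ^ 2 : Polynomial K).degree = 2 :=
      Polynomial.degree_C_mul_X_pow 2 he
    have h2 : (Polynomial.C c : Polynomial K).degree < (Polynomial.C e * Polynomial.X ^ 2).degree := by
      rw [h1]
      exact lt_of_le_of_lt Polynomial.degree_C_le (by norm_num)
    show (Polynomial.C e * Polynomial.X ^ 2 - Polynomial.C c).degree = 2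
    rw [Polynomial.degree_sub_eq_left_of_degree_lt h2, h1]
  obtain ⟨a, b, hab⟩ :=
    @FiniteField.exists_root_sum_quadratic _ _ _ _ f g (Polynomial.degree_X_pow 2) hg hK
  refine ⟨a, b, ?_⟩
  simp only [f, g, Polynomial.eval_C, Polynomial.eval_X, Polynomial.eval_pow,
    Polynomial.eval_sub, Polynomial.eval_mul] at hab
  linear_combination hab

variable {F : Type*} [Field F] [Fintype F]

/-- the Frobenius `x ↦ x ^ q` of a field with `q²` elements -/
theorem exists_frob (q : ℕ) (hq : Fintype.card F = q ^ 2) :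
    ∃ σ : F →+* F, (∀ x, σ x = x ^ q) ∧ ∀ x, σ (σ x) = x := by
  obtain ⟨p, hchar⟩ := CharP.exists F
  have hp : p.Prime :=
    (CharP.char_is_prime_or_zero F p).resolve_right (CharP.char_ne_zero_of_finite F p)
  have : Fact p.Prime := ⟨hp⟩
  obtain ⟨n, -, hn⟩ := FiniteField.card F p
  have hd : q ∣ p ^ (n : ℕ) := by
    rw [← hn, hq]
    exact dvd_pow_self q two_ne_zero
  obtain ⟨m, -, hm⟩ := (Nat.dvd_prime_pow hp).1 hd
  refine ⟨iterateFrobenius F p m, ?_, ?_⟩
  · intro x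
    rw [iterateFrobenius_def, hm]
  · intro x
    rw [iterateFrobenius_def, iterateFrobenius_def, ← hm, ← pow_mul, ← pow_two, ← hq,
      FiniteField.pow_card]

variable (q : ℕ) (hq : Fintype.card F = q ^ 2) (hodd : q % 2 = 1)
  (σ : F →+* F) (hσ : ∀ x, σ x = x ^ q) (hσσ : ∀ x, σ (σ x) = x)

include hq hodd in
theorem two_ne_zero_of_card : (2 : F) ≠ 0 := by
  intro h
  have hc : ringChar F = 2 := by
    have : CharP F 2 := CharTwo.of_one_ne_zero_of_two_eq_zero one_ne_zero h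
    exact ringChar.eq F 2
  have h1 := FiniteField.even_card_of_char_two hc
  rw [hq] at h1
  have h2 : q ^ 2 % 2 = 1 := by
    rw [Nat.pow_mod, hodd]
  omega

include hq hodd hσ hσσ in
/-- a nonzero element with `σ ε = -ε` -/
theorem exists_imag : ∃ ε : F, ε ≠ 0 ∧ σ ε = -ε := by
  by_cases hex : ∃ η : F, σ η ≠ η
  · obtain ⟨η, hη⟩ := hex
    refine ⟨η - σ η, ?_, ?_⟩
    · intro h
      apply hη
      rw [sub_eq_zero] at h
      exact h.symm
    · rw [map_sub, hσσ]
      ring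
  · exfalso
    classical
    push Not at hex
    obtain ⟨ω, hω⟩ := IsCyclic.exists_generator (α := Fˣ)
    have ho : orderOf ω = q ^ 2 - 1 := by
      rw [orderOf_eq_card_of_forall_mem_zpowers hω, Nat.card_eq_fintype_card, Fintype.card_units,
        hq]
    have hq2 : 2 ≤ q := by
      have h1 := Fintype.one_lt_card (α := F)
      rw [hq] at h1
      by_contra h
      have h2 : q = 0 ∨ q = 1 := by omega
      rcases h2 with h2 | h2 <;> rw [h2] at h1 <;> norm_num at h1
    have h1 : (ω : F) ^ q = ω := by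
      rw [← hσ]
      exact hex ω
    have h2 : ω ^ (q - 1) = 1 := by
      apply Units.ext
      rw [Units.val_pow_eq_pow_val, Units.val_one]
      have h3 : (ω : F) ^ (q - 1) * ω = 1 * ω := by
        rw [← pow_succ, Nat.sub_add_cancel (by omega), one_mul]
        exact h1
      exact mul_right_cancel₀ ω.ne_zero h3
    have h3 := orderOf_dvd_of_pow_eq_one h2
    rw [ho] at h3
    have h4 := Nat.le_of_dvd (by omega) h3
    have h5 : q * 2 ≤ q * q := Nat.mul_le_mul_left q hq2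
    have h6 : q ^ 2 = q * q := pow_two q
    omega

include hq hodd hσ hσσ in
/-- binary quadratic forms over the fixed field are universal -/
theorem exists_fixed_sq_add_mul_sq (e c : F) (he : e ≠ 0) (hσe : σ e = e) (hσc : σ c = c) :
    ∃ x y : F, σ x = x ∧ σ y = y ∧ x ^ 2 + e * y ^ 2 = c := by
  obtain ⟨K0, hK0⟩ : ∃ K0 : Subfield F, K0 = σ.eqLocusField (RingHom.id F) := ⟨_, rfl⟩
  have hmem : ∀ x : F, x ∈ K0 ↔ σ x = x := by
    intro x
    rw [hK0]
    exact Iff.rfl
  have : Fintype K0 := Fintype.ofFinite K0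
  have h2 : (2 : F) ≠ 0 := two_ne_zero_of_card q hq hodd
  have hK0odd : Fintype.card K0 % 2 = 1 := by
    apply FiniteField.odd_card_of_char_ne_two
    intro hc
    have h3 : ((ringChar K0 : ℕ) : K0) = 0 := ringChar.Nat.cast_ringChar
    rw [hc] at h3
    apply h2
    have h4 : (((2 : ℕ) : K0) : F) = ((0 : K0) : F) := congrArg Subtype.val h3
    push_cast at h4
    exact h4
  obtain ⟨x, y, hxy⟩ := exists_sq_add_mul_sq hK0odd (⟨e, (hmem e).2 hσe⟩ : K0)
    (⟨c, (hmem c).2 hσc⟩ : K0) (by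
      intro h
      apply he
      exact congrArg Subtype.val h)
  refine ⟨x.1, y.1, (hmem _).1 x.2, (hmem _).1 y.2, ?_⟩
  have h5 := congrArg Subtype.val hxy
  simpa using h5

include hq hodd hσ hσσ in
/-- an element of norm `1/2` -/
theorem exists_norm_half : ∃ α : F, 2 * (α * σ α) = 1 := by
  have h2 : (2 : F) ≠ 0 := two_ne_zero_of_card q hq hodd
  obtain ⟨ε, hε0, hε⟩ := exists_imag q hq hodd σ hσ hσσ
  have he : -(ε ^ 2) ≠ 0 := by
    rw [neg_ne_zero]
    exact pow_ne_zero 2 hε0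
  have hσe : σ (-(ε ^ 2)) = -(ε ^ 2) := by
    rw [map_neg, map_pow, hε]
    ring
  have hσc : σ ((2 : F)⁻¹) = (2 : F)⁻¹ := by
    rw [map_inv₀, map_ofNat]
  obtain ⟨x, y, hx, hy, hxy⟩ :=
    exists_fixed_sq_add_mul_sq q hq hodd σ hσ hσσ (-(ε ^ 2)) ((2 : F)⁻¹) he hσe hσc
  refine ⟨x + ε * y, ?_⟩
  rw [map_add, map_mul, hx, hy, hε]
  have h3 : (2 : F) * (2 : F)⁻¹ = 1 := mul_inv_cancel₀ h2
  linear_combination 2 * hxy + h3

include hq hodd hσ hσσ in
/-- imaginary elements `x`, `y` with `-x² - y² = 1` -/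
theorem exists_imag_pair : ∃ x y : F, σ x = -x ∧ σ y = -y ∧ -(x ^ 2) - y ^ 2 = 1 := by
  obtain ⟨ε, hε0, hε⟩ := exists_imag q hq hodd σ hσ hσσ
  have hε2 : ε ^ 2 ≠ 0 := pow_ne_zero 2 hε0
  have hσc : σ (-(ε ^ 2)⁻¹) = -(ε ^ 2)⁻¹ := by
    rw [map_neg, map_inv₀, map_pow, hε]
    ring
  obtain ⟨l, m, hl, hm, hlm⟩ :=
    exists_fixed_sq_add_mul_sq q hq hodd σ hσ hσσ 1 (-(ε ^ 2)⁻¹) one_ne_zero (map_one σ) hσc
  refine ⟨ε * l, ε * m, ?_, ?_, ?_⟩
  · rw [map_mul, hε, hl]
    ring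
  · rw [map_mul, hε, hm]
    ring
  · have h3 : ε ^ 2 * (ε ^ 2)⁻¹ = 1 := mul_inv_cancel₀ hε2
    linear_combination (-(ε ^ 2)) * hlm + h3

include hq hodd hσ hσσ in
/-- fixed elements with prescribed sum of squares -/
theorem exists_fixed_pair (c1 : F) (hc1 : c1 ≠ 0) (hσc1 : σ c1 = c1) :
    ∃ l m : F, σ l = l ∧ σ m = m ∧ (l ^ 2 + m ^ 2) * c1 = 1 := by
  have hσc : σ (c1⁻¹) = c1⁻¹ := by
    rw [map_inv₀, hσc1]
  obtain ⟨l, m, hl, hm, hlm⟩ :=
    exists_fixed_sq_add_mul_sq q hq hodd σ hσ hσσ 1 (c1⁻¹) one_ne_zero (map_one σ) hσc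
  refine ⟨l, m, hl, hm, ?_⟩
  have h3 : c1⁻¹ * c1 = 1 := inv_mul_cancel₀ hc1
  linear_combination c1 * hlm + h3

end Cfsg.Agent.Lib.Helper13.PSU3Fus
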