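import Cfsg.Prelude.Def_Classical
import Cfsg.Agent.Lib.Helper13.PSU3D
import Cfsg.Agent.Lib.Helper13.PSU3E

/-!
Membership in `SU₃(q)` in terms of entries (helper13).
-/

set_option autoImplicit false
set_option linter.unusedSimpArgs false
set_option linter.unusedSectionVars false
set_option linter.unusedVariables false

namespace Cfsg.Agent.Lib.Helper13.PSU3Fus

open Matrix Cfsg.Agent.Lib.Helper13.PSL3Fus

variable {F : Type*} [Field F]

local notation "SL3" => Matrix.SpecialLinearGroup (Fin 3) F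
local notation "SL2" => Matrix.SpecialLinearGroup (Fin 2) F

/-- the unitary condition in entries -/
def IsUni (σ : F →+* F) (M : SL3) : Prop :=
  ∀ j k : Fin 3, M.1 0 j * σ (M.1 0 k) + M.1 1 j * σ (M.1 1 k) + M.1 2 j * σ (M.1 2 k) =
    if j = k then 1 else 0

theorem mem_SU_iff' (q : ℕ) (M : SL3) : M ∈ Cfsg.SU 3 F q ↔
    ∀ u v : Fin 3 → F, Cfsg.hermForm 3 F q (M.1 *ᵥ u) (M.1 *ᵥ v) = Cfsg.hermForm 3 F q u v :=
  Iff.rfl

theorem mem_SU_iff (q : ℕ) (hq0 : q ≠ 0) (σ : F →+* F) (hσ : ∀ x, σ x = x ^ q) (M : SL3) :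
    M ∈ Cfsg.SU 3 F q ↔ IsUni σ M := by
  rw [mem_SU_iff']
  constructor
  · intro h j k
    have h1 := h (Pi.single j 1) (Pi.single k 1)
    simp only [Cfsg.hermForm, Fin.sum_univ_three, Matrix.mulVec_single_one, ← hσ] at h1
    rw [show (M.1.col j 0) = M.1 0 j from rfl, show (M.1.col j 1) = M.1 1 j from rfl,
      show (M.1.col j 2) = M.1 2 j from rfl, show (M.1.col k 0) = M.1 0 k from rfl,
      show (M.1.col k 1) = M.1 1 k from rfl, show (M.1.col k 2) = M.1 2 k from rfl] at h1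
    rw [h1]
    fin_cases j <;> fin_cases k <;> simp [Pi.single_apply]
  · intro h u v
    have h00 := h 0 0
    have h01 := h 0 1
    have h02 := h 0 2
    have h10 := h 1 0
    have h11 := h 1 1
    have h12 := h 1 2
    have h20 := h 2 0
    have h21 := h 2 1
    have h22 := h 2 2
    simp only [Fin.isValue, if_true, Fin.reduceEq, if_false] at h00 h01 h02 h10 h11 h12 h20 h21 h22
    simp only [Cfsg.hermForm, Fin.sum_univ_three, Matrix.mulVec, dotProduct, ← hσ, map_add, map_mul]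
    linear_combination (u 0 * σ (v 0)) * h00 + (u 0 * σ (v 1)) * h01 + (u 0 * σ (v 2)) * h02 +
      (u 1 * σ (v 0)) * h10 + (u 1 * σ (v 1)) * h11 + (u 1 * σ (v 2)) * h12 +
      (u 2 * σ (v 0)) * h20 + (u 2 * σ (v 1)) * h21 + (u 2 * σ (v 2)) * h22

end Cfsg.Agent.Lib.Helper13.PSU3Fus
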