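import Cfsg.Agent.Lib.Helper13.PSU3F

/-!
Explicit elements of `SU₃(q)` (helper13).
-/

set_option autoImplicit false
set_option linter.unusedSimpArgs false
set_option linter.unusedSectionVars false
set_option linter.unusedVariables false

namespace Cfsg.Agent.Lib.Helper13.PSU3Fus

open Matrix Cfsg.Agent.Lib.Helper13.PSL3Fus

variable {F : Type*} [Field F] (σ : F →+* F)

local notation "SL3" => Matrix.SpecialLinearGroup (Fin 3) F
local notation "SL2" => Matrix.SpecialLinearGroup (Fin 2) F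

theorem isUni_z0 : IsUni σ (z0 : SL3) := by
  intro j k
  fin_cases j <;> fin_cases k <;> simp [z0]

theorem isUni_t1 : IsUni σ (t1 : SL3) := by
  intro j k
  fin_cases j <;> fin_cases k <;> simp [t1, dg]

theorem isUni_s1 : IsUni σ (s1 : SL3) := by
  intro j k
  fin_cases j <;> fin_cases k <;> simp [s1]

theorem isUni_cyc : IsUni σ (cyc : SL3) := by
  intro j k
  fin_cases j <;> fin_cases k <;> simp [cyc]

theorem isUni_wsw : IsUni σ (wsw : SL3) := by
  intro j k
  fin_cases j <;> fin_cases k <;> simp [wsw]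

theorem isUni_dg (a b c : F) (h : a * b * c = 1) (ha : a * σ a = 1) (hb : b * σ b = 1)
    (hc : c * σ c = 1) : IsUni σ (dg a b c h) := by
  intro j k
  fin_cases j <;> fin_cases k <;> simp [dg, ha, hb, hc]

/-- the unitary condition for block matrices -/
theorem isUni_iota_iff (A : SL2) : IsUni σ (iota A) ↔
    (A.1 0 0 * σ (A.1 0 0) + A.1 1 0 * σ (A.1 1 0) = 1 ∧
     A.1 0 1 * σ (A.1 0 1) + A.1 1 1 * σ (A.1 1 1) = 1 ∧
     A.1 0 0 * σ (A.1 0 1) + A.1 1 0 * σ (A.1 1 1) = 0 ∧
     A.1 0 1 * σ (A.1 0 0) + A.1 1 1 * σ (A.1 1 0) = 0) := by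
  obtain ⟨a1, a2, a3, a4, a5, a6, a7, a8, a9⟩ := iota_entry A
  constructor
  · intro h
    have h00 := h 0 0
    have h11 := h 1 1
    have h01 := h 0 1
    have h10 := h 1 0
    simp only [a1, a2, a3, a4, a5, a6, a7, a8, a9, map_zero, mul_zero, add_zero, Fin.isValue,
      if_true, Fin.reduceEq, if_false] at h00 h11 h01 h10
    exact ⟨h00, h11, h01, h10⟩
  · rintro ⟨h00, h11, h01, h10⟩ j k
    fin_cases j <;> fin_cases k <;>
      simp [a1, a2, a3, a4, a5, a6, a7, a8, a9, h00, h11, h01, h10]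

theorem norm22_of_isUni {s : SL3} (hs : IsUni σ s) (h02 : s.1 0 2 = 0) (h12 : s.1 1 2 = 0) :
    s.1 2 2 * σ (s.1 2 2) = 1 := by
  have h := hs 2 2
  simp only [h02, h12, map_zero, mul_zero, zero_add, if_true] at h
  exact h

theorem norm00_of_isUni {s : SL3} (hs : IsUni σ s) (h10 : s.1 1 0 = 0) (h20 : s.1 2 0 = 0) :
    s.1 0 0 * σ (s.1 0 0) = 1 := by
  have h := hs 0 0
  simp only [h10, h20, map_zero, mul_zero, add_zero, if_true] at h
  exact h

/-- the conjugating element for `s1` -/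
theorem exists_gs (hσσ : ∀ x, σ (σ x) = x) (α : F) (hα : 2 * (α * σ α) = 1) :
    ∃ g : SL3, IsUni σ g ∧ (s1 : SL3) * g = g * z0 := by
  refine ⟨mk3 α 0 (σ α) (-α) 0 (σ α) 0 (-1) 0 (by linear_combination hα), ?_, ?_⟩
  · intro j k
    fin_cases j <;> fin_cases k <;> simp [hσσ] <;>
      first | linear_combination hα | ring
  · apply ext3
    intro i j
    fin_cases i <;> fin_cases j <;> simp [mul_entry, s1, z0]

end Cfsg.Agent.Lib.Helper13.PSU3Fus
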