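import Cfsg.Agent.Lib.Helper13.PSU3G

/-!
The subgroup `SU₂(q)` of `SU₃(q)`: elements of order four (helper13).
-/

set_option autoImplicit false
set_option linter.unusedSimpArgs false
set_option linter.unusedSectionVars false
set_option linter.unusedVariables false

namespace Cfsg.Agent.Lib.Helper13.PSU3Fus

open Matrix Cfsg.Agent.Lib.Helper13.PSL3Fus

variable {F : Type*} [Field F] [NeZero (2 : F)] (σ : F →+* F)

local notation "SL3" => Matrix.SpecialLinearGroup (Fin 3) F
local notation "SL2" => Matrix.SpecialLinearGroup (Fin 2) F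

/-- the inverse of `J0` -/
def Jinv : SL2 := mk2 0 (-1) 1 0 (by ring)

theorem J0_inv : (J0 : SL2)⁻¹ = Jinv := by
  apply inv_eq_of_mul_eq_one_right
  apply ext2
  intro i j
  obtain ⟨j1, j2, j3, j4⟩ := J0_entry (F := F)
  obtain ⟨k1, k2, k3, k4⟩ := mk2_entry (0 : F) (-1) 1 0 (by ring)
  rw [mul_entry2, one_entry2]
  fin_cases i <;> fin_cases j <;> simp [Jinv, j1, j2, j3, j4, k1, k2, k3, k4]

/-- an element of order four of `SU₂` inverting `J0` -/
theorem exists_W (x y : F) (hx : σ x = -x) (hy : σ y = -y) (hxy : -(x ^ 2) - y ^ 2 = 1) :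
    ∃ W : SL2, IsUni σ (iota W) ∧ W * J0 * W⁻¹ = J0⁻¹ ∧ W ^ 2 ^ 2 = 1 := by
  obtain ⟨W, hW⟩ : ∃ W : SL2, W = mk2 x y y (-x) (by linear_combination hxy) := ⟨_, rfl⟩
  obtain ⟨w1, w2, w3, w4⟩ := mk2_entry x y y (-x) (by linear_combination hxy)
  rw [← hW] at w1 w2 w3 w4
  obtain ⟨j1, j2, j3, j4⟩ := J0_entry (F := F)
  obtain ⟨k1, k2, k3, k4⟩ := mk2_entry (0 : F) (-1) 1 0 (by ring)
  obtain ⟨n1, n2, n3, n4⟩ := negOne2_entry (F := F)
  refine ⟨W, ?_, ?_, ?_⟩
  · rw [isUni_iota_iff, w1, w2, w3, w4]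
    simp only [map_neg, hx, hy]
    refine ⟨?_, ?_, ?_, ?_⟩
    · linear_combination hxy
    · linear_combination hxy
    · ring
    · ring
  · have h1 : W * J0 = J0⁻¹ * W := by
      rw [J0_inv]
      apply ext2
      intro i j
      rw [mul_entry2, mul_entry2]
      fin_cases i <;> fin_cases j <;> simp [Jinv, w1, w2, w3, w4, j1, j2, j3, j4, k1, k2, k3, k4]
    rw [h1, mul_inv_cancel_right]
  · have h1 : W * W = negOne2 := by
      apply ext2
      intro i j
      rw [mul_entry2]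
      fin_cases i <;> fin_cases j <;> simp [w1, w2, w3, w4, n1, n2, n3, n4]
      · linear_combination -hxy
      · ring
      · ring
      · linear_combination -hxy
    have h2 : W ^ 2 ^ 2 = (W * W) * (W * W) := by
      norm_num [pow_succ]
      group
    rw [h2, h1, negOne2_sq]

/-- structure of elements of `SU₂` with square `-1` -/
theorem struct_of_sq (hσσ : ∀ x, σ (σ x) = x) (A : SL2) (hA : IsUni σ (iota A))
    (hAA : A * A = negOne2) :
    A.1 1 1 = -A.1 0 0 ∧ A.1 1 0 = -σ (A.1 0 1) ∧ σ (A.1 0 0) = -A.1 0 0 ∧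
      A.1 0 1 * σ (A.1 0 1) = 1 + A.1 0 0 ^ 2 := by
  obtain ⟨E00, E11, E01, E10⟩ := (isUni_iota_iff σ A).1 hA
  have hdet := det_entry2 A
  obtain ⟨n1, n2, n3, n4⟩ := negOne2_entry (F := F)
  have e := fun i j => congrArg (fun X : SL2 => X.1 i j) hAA
  simp only [mul_entry2] at e
  have e00 := e 0 0
  have e01 := e 0 1
  have e10 := e 1 0
  rw [n1] at e00
  rw [n2] at e01
  rw [n3] at e10
  obtain ⟨a, ha⟩ : ∃ a, a = A.1 0 0 := ⟨_, rfl⟩
  obtain ⟨b, hb⟩ : ∃ b, b = A.1 0 1 := ⟨_, rfl⟩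
  obtain ⟨c, hc⟩ : ∃ c, c = A.1 1 0 := ⟨_, rfl⟩
  obtain ⟨d, hd⟩ : ∃ d, d = A.1 1 1 := ⟨_, rfl⟩
  simp only [← ha, ← hb, ← hc, ← hd] at E00 E11 E01 E10 hdet e00 e01 e10 ⊢
  -- `a = σ d`
  have h1 : a = σ d := by
    linear_combination (-a) * E11 + (b) * E01 + (σ d) * hdet
  have h2 : σ b = -c := by
    linear_combination (-c) * E11 + (d) * E01 + (-(σ b)) * hdet
  have h1' : σ a = d := by
    rw [h1, hσσ]
  have htr : a + d = 0 := by
    by_contra htr
    have hb0 : b = 0 := by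
      have h3 : b * (a + d) = 0 := by linear_combination e01
      exact (mul_eq_zero.1 h3).resolve_right htr
    have hc0 : c = 0 := by
      have h3 : c * (a + d) = 0 := by linear_combination e10
      exact (mul_eq_zero.1 h3).resolve_right htr
    rw [hb0, hc0] at hdet e00
    have h4 : a * (a + d) = 0 := by linear_combination e00 + hdet
    have ha0 : a = 0 := (mul_eq_zero.1 h4).resolve_right htr
    rw [ha0] at e00
    norm_num at e00
  have hd' : d = -a := by linear_combination htr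
  refine ⟨hd', ?_, ?_, ?_⟩
  · linear_combination h2
  · rw [h1', hd']
  · have h5 : σ d = a := h1.symm
    rw [h5, hd'] at E11
    linear_combination E11

end Cfsg.Agent.Lib.Helper13.PSU3Fus
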