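import Cfsg.Agent.Lib.Helper13.PSU3H

/-!
Elements of order four of `SU₂(q)` are conjugate to `J0` (helper13).
-/

set_option autoImplicit false
set_option linter.unusedSimpArgs false
set_option linter.unusedSectionVars false
set_option linter.unusedVariables false

namespace Cfsg.Agent.Lib.Helper13.PSU3Fus

open Matrix Cfsg.Agent.Lib.Helper13.PSL3Fus

variable {F : Type*} [Field F] [NeZero (2 : F)] (σ : F →+* F)

local notation "SL3" => Matrix.SpecialLinearGroup (Fin 3) F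
local notation "SL2" => Matrix.SpecialLinearGroup (Fin 2) F

/-- the generic case -/
theorem conj_aux (hσσ : ∀ x, σ (σ x) = x) (A : SL2) (hA : IsUni σ (iota A))
    (hAA : A * A = negOne2) (l m : F) (hl : σ l = l) (hm : σ m = m)
    (hlm : (l ^ 2 + m ^ 2) * (2 + A.1 0 1 + σ (A.1 0 1)) = 1) :
    ∃ G : SL2, IsUni σ (iota G) ∧ A * G = G * J0 := by
  obtain ⟨hd, hc, hσa, hN⟩ := struct_of_sq σ hσσ A hA hAA
  obtain ⟨a, ha⟩ : ∃ a, a = A.1 0 0 := ⟨_, rfl⟩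
  obtain ⟨b, hb⟩ : ∃ b, b = A.1 0 1 := ⟨_, rfl⟩
  simp only [← ha, ← hb] at hd hc hσa hN hlm
  obtain ⟨u1, hu1⟩ : ∃ u1 : F, u1 = l * (1 + b) - m * a := ⟨_, rfl⟩
  obtain ⟨u2, hu2⟩ : ∃ u2 : F, u2 = -(l * a) + m * (1 + σ b) := ⟨_, rfl⟩
  obtain ⟨v1, hv1⟩ : ∃ v1 : F, v1 = l * (1 + σ b) + m * a := ⟨_, rfl⟩
  obtain ⟨v2, hv2⟩ : ∃ v2 : F, v2 = l * a + m * (1 + b) := ⟨_, rfl⟩
  have hσu1 : σ u1 = v1 := by
    rw [hu1, hv1]
    simp only [map_sub, map_mul, map_add, map_one, hl, hm, hσa]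
    ring
  have hσu2 : σ u2 = v2 := by
    rw [hu2, hv2]
    simp only [map_neg, map_mul, map_add, map_one, hl, hm, hσa, hσσ]
    ring
  have hσv1 : σ v1 = u1 := by rw [← hσu1, hσσ]
  have hσv2 : σ v2 = u2 := by rw [← hσu2, hσσ]
  have hdetG : u1 * v1 - (-v2) * u2 = 1 := by
    rw [hu1, hu2, hv1, hv2]
    linear_combination hlm + (l ^ 2 + m ^ 2) * hN
  obtain ⟨G, hG⟩ : ∃ G : SL2, G = mk2 u1 (-v2) u2 v1 hdetG := ⟨_, rfl⟩
  obtain ⟨g1, g2, g3, g4⟩ := mk2_entry u1 (-v2) u2 v1 hdetG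
  rw [← hG] at g1 g2 g3 g4
  obtain ⟨j1, j2, j3, j4⟩ := J0_entry (F := F)
  refine ⟨G, ?_, ?_⟩
  · rw [isUni_iota_iff, g1, g2, g3, g4]
    simp only [map_neg, hσu1, hσu2, hσv1, hσv2]
    refine ⟨?_, ?_, ?_, ?_⟩
    · linear_combination hdetG
    · linear_combination hdetG
    · ring
    · ring
  · apply ext2
    intro i j
    rw [mul_entry2, mul_entry2]
    fin_cases i <;> fin_cases j <;>
      simp only [Fin.zero_eta, Fin.isValue, Fin.mk_one, g1, g2, g3, g4, j1, j2, j3, j4, ← ha, ← hb,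
        hc, hd]
    · rw [hu1, hu2, hv2]
      linear_combination m * hN
    · rw [hu1, hv1, hv2]
      linear_combination l * hN
    · rw [hu1, hu2, hv1]
      linear_combination (-l) * hN
    · rw [hu2, hv1, hv2]
      linear_combination m * hN

end Cfsg.Agent.Lib.Helper13.PSU3Fus
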