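import Cfsg.Agent.Lib.Helper13.PSU3I

/-!
The `2`-fusion system of `PSU₃(q)`, `q` odd, is simple (helper13).
-/

set_option autoImplicit false
set_option linter.unusedSimpArgs false
set_option linter.unusedSectionVars false
set_option linter.unusedVariables false

namespace Cfsg.Agent.Lib.Helper13.PSU3Fus

open Cfsg Matrix Cfsg.Agent.Lib.Helper13.PSL3Fus

variable {F : Type*} [Field F] [Fintype F]

local notation "SL3" => Matrix.SpecialLinearGroup (Fin 3) F
local notation "SL2" => Matrix.SpecialLinearGroup (Fin 2) F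

theorem J0_inv_eq [NeZero (2 : F)] : (J0 : SL2)⁻¹ = negOne2 * J0 := by
  apply inv_eq_of_mul_eq_one_right
  rw [← mul_assoc, ← negOne2_comm J0, mul_assoc, J0_sq, negOne2_sq]

section

variable (q : ℕ) (hq : Fintype.card F = q ^ 2) (hodd : q % 2 = 1)
  (σ : F →+* F) (hσ : ∀ x, σ x = x ^ q) (hσσ : ∀ x, σ (σ x) = x)

include hq hodd hσ hσσ in
/-- elements of order four of `SU₂(q)` are conjugate to `J0` -/
theorem conjJ0_SU [NeZero (2 : F)] (A : SL2) (hA : iota A ∈ Cfsg.SU 3 F q)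
    (hAA : A * A = negOne2) : ∃ G : SL2, iota G ∈ Cfsg.SU 3 F q ∧ A * G = G * J0 := by
  have hq0 : q ≠ 0 := by
    intro h
    rw [h] at hodd
    norm_num at hodd
  have h2 : (2 : F) ≠ 0 := NeZero.ne 2
  have hmem := mem_SU_iff q hq0 σ hσ
  by_cases hc1 : 2 + A.1 0 1 + σ (A.1 0 1) = 0
  · -- the degenerate case
    obtain ⟨n1, n2, n3, n4⟩ := negOne2_entry (F := F)
    obtain ⟨A', hA'⟩ : ∃ A' : SL2, A' = negOne2 * A := ⟨_, rfl⟩
    have hA'U : iota A' ∈ Cfsg.SU 3 F q := by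
      rw [hA', map_mul, iota_negOne2]
      exact Subgroup.mul_mem _ ((hmem _).2 (isUni_z0 σ)) hA
    have hA'A' : A' * A' = negOne2 := by
      rw [hA']
      calc negOne2 * A * (negOne2 * A) = negOne2 * (A * negOne2) * A := by group
        _ = negOne2 * (negOne2 * A) * A := by rw [← negOne2_comm A]
        _ = (negOne2 * negOne2) * (A * A) := by group
        _ = negOne2 := by rw [negOne2_sq, one_mul, hAA]
    have hA'01 : A'.1 0 1 = -A.1 0 1 := by
      rw [hA', mul_entry2, n1, n2]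
      ring
    have hc1' : 2 + A'.1 0 1 + σ (A'.1 0 1) ≠ 0 := by
      rw [hA'01, map_neg]
      intro h
      apply h2
      have h4 : (2 : F) * 2 = 0 := by linear_combination h + hc1
      rcases mul_eq_zero.1 h4 with h5 | h5 <;> exact h5
    have hσc1' : σ (2 + A'.1 0 1 + σ (A'.1 0 1)) = 2 + A'.1 0 1 + σ (A'.1 0 1) := by
      rw [map_add, map_add, hσσ, map_ofNat]
      ring
    obtain ⟨l, m, hl, hm, hlm⟩ := exists_fixed_pair q hq hodd σ hσ hσσ _ hc1' hσc1'
    obtain ⟨G', hG'U, hG'⟩ := conj_aux σ hσσ A' ((hmem _).1 hA'U) hA'A' l m hl hm hlm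
    obtain ⟨x, y, hx, hy, hxy⟩ := exists_imag_pair q hq hodd σ hσ hσσ
    obtain ⟨W, hWU, hWJ, -⟩ := exists_W σ x y hx hy hxy
    refine ⟨G' * W, ?_, ?_⟩
    · rw [map_mul]
      exact Subgroup.mul_mem _ ((hmem _).2 hG'U) ((hmem _).2 hWU)
    · have hAeq : A = negOne2 * A' := by
        rw [hA', ← mul_assoc, negOne2_sq, one_mul]
      have h5 : W * J0 = J0⁻¹ * W := by
        rw [← hWJ, inv_mul_cancel_right]
      calc A * (G' * W) = negOne2 * (A' * G') * W := by rw [hAeq]; group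
        _ = negOne2 * (G' * J0) * W := by rw [hG']
        _ = (negOne2 * G') * J0 * W := by group
        _ = (G' * negOne2) * J0 * W := by rw [negOne2_comm G']
        _ = G' * (negOne2 * J0) * W := by group
        _ = G' * (J0⁻¹ * W) := by rw [← J0_inv_eq]; group
        _ = G' * (W * J0) := by rw [h5]
        _ = G' * W * J0 := by group
  · have hσc1 : σ (2 + A.1 0 1 + σ (A.1 0 1)) = 2 + A.1 0 1 + σ (A.1 0 1) := by
      rw [map_add, map_add, hσσ, map_ofNat]
      ring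
    obtain ⟨l, m, hl, hm, hlm⟩ := exists_fixed_pair q hq hodd σ hσ hσσ _ hc1 hσc1
    obtain ⟨G, hGU, hG⟩ := conj_aux σ hσσ A ((hmem _).1 hA) hAA l m hl hm hlm
    exact ⟨G, (hmem _).2 hGU, hG⟩

include hq hodd hσ hσσ in
/-- `SU₃(q)` satisfies the hypotheses of the relative development -/
theorem ctx_SU [NeZero (2 : F)] : Ctx (Cfsg.SU 3 F q) := by
  have hq0 : q ≠ 0 := by
    intro h
    rw [h] at hodd
    norm_num at hodd
  have hmem := mem_SU_iff q hq0 σ hσ
  obtain ⟨α, hα⟩ := exists_norm_half q hq hodd σ hσ hσσ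
  obtain ⟨gs', hgs'U, hgs'⟩ := exists_gs σ hσσ α hα
  obtain ⟨x, y, hx, hy, hxy⟩ := exists_imag_pair q hq hodd σ hσ hσσ
  obtain ⟨W, hWU, hWJ, hW4⟩ := exists_W σ x y hx hy hxy
  refine ⟨(hmem _).2 (isUni_t1 σ), (hmem _).2 (isUni_s1 σ), (hmem _).2 (isUni_cyc σ),
    (hmem _).2 (isUni_wsw σ), ⟨gs', (hmem _).2 hgs'U, hgs'⟩, (hmem _).2 (isUni_z0 σ),
    conjJ0_SU q hq hodd σ hσ hσσ, ⟨W, (hmem _).2 hWU, hWJ, hW4⟩, ?_, ?_⟩
  · -- dg1
    intro s hs a b h h' hb
    obtain ⟨m1, m2, m3, m4⟩ := (mem_Hc_iff s).1 hs.2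
    have hNb : b * σ b = 1 := by
      rw [hb]
      exact norm22_of_isUni σ ((hmem _).1 hs.1) m1 m2
    have hab : a * b = 1 := by linear_combination h
    have hNa : a * σ a = 1 := by
      have h1 : σ a * σ b = 1 := by rw [← map_mul, hab, map_one]
      calc a * σ a = a * σ a * (b * σ b) := by rw [hNb, mul_one]
        _ = (a * b) * (σ a * σ b) := by ring
        _ = 1 := by rw [hab, h1, mul_one]
    have hN1 : (1 : F) * σ 1 = 1 := by rw [map_one, mul_one]
    exact ⟨(hmem _).2 (isUni_dg σ a 1 b h hNa hN1 hNb),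
      (hmem _).2 (isUni_dg σ a b 1 h' hNa hNb hN1)⟩
  · -- dg2
    intro c hc c01 c10 c00 l m h hl
    obtain ⟨m1, m2, m3, m4⟩ := (mem_Hc_iff c).1 hc.2
    have hNl : l * σ l = 1 := by
      rw [hl]
      exact norm00_of_isUni σ ((hmem _).1 hc.1) c10 m3
    have hlm : l * m = 1 := by linear_combination h
    have hNm : m * σ m = 1 := by
      have h1 : σ l * σ m = 1 := by rw [← map_mul, hlm, map_one]
      calc m * σ m = (l * σ l) * (m * σ m) := by rw [hNl, one_mul]
        _ = (l * m) * (σ l * σ m) := by ring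
        _ = 1 := by rw [hlm, h1, mul_one]
    have hN1 : (1 : F) * σ 1 = 1 := by rw [map_one, mul_one]
    exact (hmem _).2 (isUni_dg σ 1 l m h hN1 hNl hNm)

include hq hodd hσ hσσ in
/-- central elements of `SU₃(q)` have cube one -/
theorem center_SU_pow_three [NeZero (2 : F)] (z : Cfsg.SU 3 F q)
    (hz : z ∈ Subgroup.center (Cfsg.SU 3 F q)) : z ^ 3 = 1 := by
  have hq0 : q ≠ 0 := by
    intro h
    rw [h] at hodd
    norm_num at hodd
  have hmem := mem_SU_iff q hq0 σ hσ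
  have hzc := Subgroup.mem_center_iff.1 hz
  obtain ⟨M, hM⟩ : ∃ M : SL3, M = z.1 := ⟨_, rfl⟩
  have c1 : z0 * M = M * z0 := by
    have := congrArg Subtype.val (hzc ⟨z0, (hmem _).2 (isUni_z0 σ)⟩)
    rw [hM]
    exact this
  have c2 : t1 * M = M * t1 := by
    have := congrArg Subtype.val (hzc ⟨t1, (hmem _).2 (isUni_t1 σ)⟩)
    rw [hM]
    exact this
  have c3 : cyc * M = M * cyc := by
    have := congrArg Subtype.val (hzc ⟨cyc, (hmem _).2 (isUni_cyc σ)⟩)
    rw [hM]
    exact this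
  have hMH : M ∈ (Hc : Subgroup SL3) := (mem_Hc_iff' M).2 c1
  obtain ⟨m1, m2, m3, m4⟩ := (mem_Hc_iff M).1 hMH
  have e2 := fun i j => congrArg (fun X : SL3 => X.1 i j) c2
  have e3 := fun i j => congrArg (fun X : SL3 => X.1 i j) c3
  simp only [mul_entry] at e2 e3
  have h01 : M.1 0 1 = 0 := by
    have h := e2 0 1
    simp [t1, dg] at h
    exact eq_zero_of_neg_eq h.symm
  have h10 : M.1 1 0 = 0 := by
    have h := e2 1 0
    simp [t1, dg] at h
    exact eq_zero_of_neg_eq h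
  have h02 : M.1 2 2 = M.1 0 0 := by
    have h := e3 0 2
    simp [cyc] at h
    exact h
  have h11 : M.1 0 0 = M.1 1 1 := by
    have h := e3 1 0
    simp [cyc] at h
    exact h
  have hdet := det_entry M
  rw [m1, m2, m3, m4, h01, h10, h02, ← h11] at hdet
  have ha3 : M.1 0 0 * M.1 0 0 * M.1 0 0 = 1 := by linear_combination hdet
  have hMdg : M = dg (M.1 0 0) (M.1 0 0) (M.1 0 0) ha3 := by
    apply ext3
    intro i j
    fin_cases i <;> fin_cases j <;> simp [dg, m1, m2, m3, m4, h01, h10, h02, ← h11]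
  have hM3 : M ^ 3 = 1 := by
    rw [hMdg, dg_pow]
    have h5 : M.1 0 0 ^ 3 = 1 := by linear_combination ha3
    exact dg_eq_one _ _ _ _ h5 h5 h5
  apply Subtype.ext
  rw [Subgroup.coe_pow, ← hM, hM3]
  rfl

end

/-- the `2`-fusion system of `PSU₃(q)`, `q` odd, is simple -/
theorem fusion_simple_PSU (q : ℕ) (hq : Fintype.card F = q ^ 2) (hodd : q % 2 = 1)
    (S : Sylow 2 (Cfsg.PSU 3 F q)) :
    (groupFusionSystem (S : Subgroup (Cfsg.PSU 3 F q))).IsSimple 2 := by
  have : NeZero (2 : F) := ⟨two_ne_zero_of_card q hq hodd⟩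
  obtain ⟨σ, hσ, hσσ⟩ := exists_frob (F := F) q hq
  exact fusion_simple_of_ctx (ctx_SU q hq hodd σ hσ hσσ)
    (center_SU_pow_three q hq hodd σ hσ hσσ) S

end Cfsg.Agent.Lib.Helper13.PSU3Fus
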