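import Mathlib

set_option autoImplicit false

universe u

namespace Cfsg.Agent.Lib.Helper13

/-- Universal property of the generalised quaternion (dicyclic) group: elements `x`, `y` of a group
with `x^(2n) = 1`, `y² = xⁿ`, `x y = y x⁻¹` define a homomorphism from `QuaternionGroup n`. -/
theorem exists_quaternionGroup_hom {Γ : Type*} [Group Γ] (n : ℕ) (x y : Γ)
    (hx : x ^ (2 * n) = 1) (hy : y * y = x ^ n) (hxy : x * y = y * x⁻¹) :
    ∃ f : QuaternionGroup n →* Γ, f (QuaternionGroup.a 1) = x ∧ f (QuaternionGroup.xa 0) = y := by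
  obtain ⟨χ, hχ⟩ : ∃ χ : ZMod (2 * n) →+ Additive Γ, ∀ k : ℤ, χ (k : ZMod (2 * n)) = Additive.ofMul (x ^ k) := by
    refine ⟨ZMod.lift (2 * n) ⟨zmultiplesHom (Additive Γ) (Additive.ofMul x), ?_⟩, ?_⟩
    · show ((2 * n : ℕ) : ℤ) • Additive.ofMul x = 0
      rw [natCast_zsmul, ← ofMul_pow, hx]; rfl
    · intro k
      rw [ZMod.lift_coe]
      show (k : ℤ) • Additive.ofMul x = _
      rw [← ofMul_zpow]
  obtain ⟨e, he⟩ : ∃ e : ZMod (2 * n) → Γ, ∀ i, e i = Additive.toMul (χ i) := ⟨_, fun i => rfl⟩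
  have he_add : ∀ i j, e (i + j) = e i * e j := by
    intro i j; rw [he, he, he, map_add]; rfl
  have he_zero : e 0 = 1 := by rw [he, map_zero]; rfl
  have he_neg : ∀ i, e (-i) = (e i)⁻¹ := by
    intro i; rw [he, he, map_neg]; rfl
  have he_int : ∀ k : ℤ, e (k : ZMod (2 * n)) = x ^ k := by
    intro k; rw [he, hχ]; rfl
  have he_n : e (n : ZMod (2 * n)) = x ^ n := by
    have := he_int (n : ℤ)
    rwa [Int.cast_natCast, zpow_natCast] at this
  have he_one : e 1 = x := by
    have := he_int 1
    rwa [Int.cast_one, zpow_one] at this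
  have hcomm : ∀ i, e i * y = y * e (-i) := by
    intro i
    obtain ⟨k, rfl⟩ := ZMod.intCast_surjective i
    rw [← Int.cast_neg, he_int, he_int]
    have h1 : y⁻¹ * x * y = x⁻¹ := by rw [mul_assoc, hxy, ← mul_assoc, inv_mul_cancel, one_mul]
    have h2 : y⁻¹ * x ^ k * y = (x⁻¹) ^ k := by
      rw [← h1]
      have := (MulAut.conj y⁻¹).toMonoidHom.map_zpow x k
      simp only [MulEquiv.coe_toMonoidHom, MulAut.conj_apply, inv_inv] at this
      exact this
    rw [zpow_neg, ← inv_zpow, ← h2, ← mul_assoc, ← mul_assoc, mul_inv_cancel, one_mul]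
  refine ⟨{ toFun := fun g => match g with
              | QuaternionGroup.a i => e i
              | QuaternionGroup.xa i => y * e i
            map_one' := ?_
            map_mul' := ?_ }, ?_, ?_⟩
  · rw [QuaternionGroup.one_def]; exact he_zero
  · rintro (i | i) (j | j)
    · rw [QuaternionGroup.a_mul_a]; exact he_add i j
    · rw [QuaternionGroup.a_mul_xa]
      show y * e (j - i) = e i * (y * e j)
      rw [← mul_assoc, hcomm, mul_assoc, ← he_add, neg_add_eq_sub]
    · rw [QuaternionGroup.xa_mul_a]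
      show y * e (i + j) = y * e i * e j
      rw [he_add, mul_assoc]
    · rw [QuaternionGroup.xa_mul_xa]
      show e ((n : ZMod (2 * n)) + j - i) = y * e i * (y * e j)
      rw [mul_assoc, ← mul_assoc (e i), hcomm, mul_assoc, ← mul_assoc y, hy, ← he_n, ← he_add,
        ← he_add]
      congr 1
      ring
  · exact he_one
  · show y * e 0 = y
    rw [he_zero, mul_one]

end Cfsg.Agent.Lib.Helper13
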