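import Mathlib

set_option autoImplicit false

universe u

namespace Cfsg.Agent.Lib.Helper13

/-- A finite elementary abelian `r`-group (`r` odd) with endomorphisms `i`, `j` satisfying the
quaternion relations `i² = j² = -1`, `ij = -ji` has square order. -/
theorem card_isSquare_of_quat_elem {M : Type*} [AddCommGroup M] [Finite M] (r : ℕ)
    [hr : Fact r.Prime] (hr2 : r ≠ 2) (hexp : ∀ x : M, r • x = 0) (i j : M →+ M)
    (hii : ∀ x, i (i x) = -x) (hjj : ∀ x, j (j x) = -x) (hij : ∀ x, i (j x) = -(j (i x))) :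
    IsSquare (Nat.card M) := by
  obtain ⟨a, b, -, -, hab⟩ := Nat.sq_add_sq_zmodEq r (-1)
  obtain ⟨m, hm⟩ : ∃ m : ℤ, (a : ℤ) ^ 2 + (b : ℤ) ^ 2 + 1 = r * m := by
    obtain ⟨m, hm⟩ := hab.symm.dvd
    exact ⟨m, by linarith⟩
  have hexpz : ∀ (c : ℤ) (x : M), ((r : ℤ) * c) • x = 0 := by
    intro c x
    rw [mul_comm, mul_smul, natCast_zsmul, hexp, smul_zero]
  obtain ⟨t, ht⟩ : ∃ t : M →+ M, ∀ x, t x = (a : ℤ) • i x + (b : ℤ) • j x :=
    ⟨(a : ℤ) • i + (b : ℤ) • j, fun x => by simp⟩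
  have htt : ∀ x, t (t x) = x := by
    intro x
    rw [ht, ht]
    simp only [map_add, map_zsmul, hii, hjj, hij]
    have h1 : (a : ℤ) • ((a : ℤ) • -x + (b : ℤ) • -j (i x)) + (b : ℤ) • ((a : ℤ) • j (i x) + (b : ℤ) • -x)
        = x - ((a : ℤ) ^ 2 + (b : ℤ) ^ 2 + 1) • x := by module
    rw [h1, hm, hexpz, sub_zero]
  have hk : ∀ x, t (i (j x)) = -(i (j (t x))) := by
    intro x
    rw [ht, ht]
    simp only [map_add, map_zsmul, hii, hjj, hij, map_neg]
    module
  have hkk : ∀ x, i (j (i (j x))) = -x := by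
    intro x
    simp only [hij, map_neg, hii, hjj, neg_neg]
  obtain ⟨k, hkdef⟩ : ∃ k : M →+ M, ∀ x, k x = i (j x) := ⟨i.comp j, fun x => rfl⟩
  have hkinj : Function.Injective k := by
    intro x y hxy
    have h1 : k (k x) = k (k y) := by rw [hxy]
    rw [hkdef, hkdef, hkdef, hkdef, hkk, hkk] at h1
    exact neg_injective h1
  obtain ⟨φ, hφ⟩ : ∃ φ : M →+ M, ∀ x, φ x = x + t x := ⟨AddMonoidHom.id M + t, fun x => rfl⟩
  have hker : ∀ x, x ∈ φ.ker ↔ t x = -x := by
    intro x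
    rw [AddMonoidHom.mem_ker, hφ]
    constructor
    · intro h; exact (neg_eq_of_add_eq_zero_right h).symm ▸ rfl
    · intro h; rw [h, add_neg_cancel]
  have hrodd : Odd r := hr.out.eq_two_or_odd'.resolve_left hr2
  obtain ⟨c', hc'⟩ := hrodd
  have hrange : ∀ x, x ∈ φ.range ↔ t x = x := by
    intro x
    rw [AddMonoidHom.mem_range]
    constructor
    · rintro ⟨y, rfl⟩
      rw [hφ, map_add, htt, add_comm]
    · intro h
      refine ⟨(c' + 1) • x, ?_⟩
      rw [hφ, map_nsmul, h, ← add_smul]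
      have : c' + 1 + (c' + 1) = r + 1 := by omega
      rw [this, add_smul, hexp, zero_add, one_smul]
  have hcard : Nat.card φ.ker * Nat.card φ.range = Nat.card M := by
    rw [← AddSubgroup.index_ker, AddSubgroup.card_mul_index]
  have hle1 : Nat.card φ.ker ≤ Nat.card φ.range := by
    rw [← AddSubgroup.card_map_of_injective (K := φ.ker) hkinj]
    apply AddSubgroup.card_le_of_le
    rintro _ ⟨x, hx, rfl⟩
    rw [hrange, hkdef, hk, (hker x).mp hx, map_neg, map_neg, neg_neg]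
  have hle2 : Nat.card φ.range ≤ Nat.card φ.ker := by
    rw [← AddSubgroup.card_map_of_injective (K := φ.range) hkinj]
    apply AddSubgroup.card_le_of_le
    rintro _ ⟨x, hx, rfl⟩
    rw [hker, hkdef, hk, (hrange x).mp hx]
  refine ⟨Nat.card φ.ker, ?_⟩
  rw [← hcard, le_antisymm hle2 hle1]

theorem card_isSquare_of_quat_aux (n : ℕ) : ∀ (M : Type u) [AddCommGroup M] [Finite M],
    Nat.card M = n → Odd n → ∀ (i j : M →+ M), (∀ x, i (i x) = -x) → (∀ x, j (j x) = -x) →
    (∀ x, i (j x) = -(j (i x))) → IsSquare n := by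
  induction n using Nat.strong_induction_on with
  | _ n ih =>
    intro M _ _ hcard hodd i j hii hjj hij
    by_cases hn1 : n = 1
    · rw [hn1]; exact ⟨1, rfl⟩
    obtain ⟨r, hrp, hrn⟩ := Nat.exists_prime_and_dvd hn1
    have hr : Fact r.Prime := ⟨hrp⟩
    have hr2 : r ≠ 2 := by
      rintro rfl
      exact (Nat.not_even_iff_odd.mpr hodd) (even_iff_two_dvd.mpr hrn)
    obtain ⟨ψ, hψ⟩ : ∃ ψ : M →+ M, ∀ x, ψ x = r • x := ⟨nsmulAddMonoidHom r, fun x => rfl⟩
    have hcardVW : Nat.card ψ.ker * Nat.card ψ.range = n := by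
      rw [← AddSubgroup.index_ker, AddSubgroup.card_mul_index, hcard]
    -- invariance
    have hiV : ∀ x ∈ ψ.ker, i x ∈ ψ.ker := by
      intro x hx
      rw [AddMonoidHom.mem_ker, hψ] at hx ⊢
      rw [← map_nsmul, hx, map_zero]
    have hjV : ∀ x ∈ ψ.ker, j x ∈ ψ.ker := by
      intro x hx
      rw [AddMonoidHom.mem_ker, hψ] at hx ⊢
      rw [← map_nsmul, hx, map_zero]
    have hiW : ∀ x ∈ ψ.range, i x ∈ ψ.range := by
      rintro _ ⟨y, rfl⟩
      exact ⟨i y, by rw [hψ, hψ, map_nsmul]⟩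
    have hjW : ∀ x ∈ ψ.range, j x ∈ ψ.range := by
      rintro _ ⟨y, rfl⟩
      exact ⟨j y, by rw [hψ, hψ, map_nsmul]⟩
    obtain ⟨iV, hiV'⟩ : ∃ iV : ψ.ker →+ ψ.ker, ∀ x : ψ.ker, (iV x : M) = i x :=
      ⟨(i.comp ψ.ker.subtype).codRestrict ψ.ker (fun x => hiV x x.2), fun x => rfl⟩
    obtain ⟨jV, hjV'⟩ : ∃ jV : ψ.ker →+ ψ.ker, ∀ x : ψ.ker, (jV x : M) = j x :=
      ⟨(j.comp ψ.ker.subtype).codRestrict ψ.ker (fun x => hjV x x.2), fun x => rfl⟩
    obtain ⟨iW, hiW'⟩ : ∃ iW : ψ.range →+ ψ.range, ∀ x : ψ.range, (iW x : M) = i x :=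
      ⟨(i.comp ψ.range.subtype).codRestrict ψ.range (fun x => hiW x x.2), fun x => rfl⟩
    obtain ⟨jW, hjW'⟩ : ∃ jW : ψ.range →+ ψ.range, ∀ x : ψ.range, (jW x : M) = j x :=
      ⟨(j.comp ψ.range.subtype).codRestrict ψ.range (fun x => hjW x x.2), fun x => rfl⟩
    -- V is nontrivial
    obtain ⟨x₀, hx₀⟩ := exists_prime_addOrderOf_dvd_card' (G := M) r (hcard ▸ hrn)
    have hx₀V : x₀ ∈ ψ.ker := by
      rw [AddMonoidHom.mem_ker, hψ, ← hx₀, addOrderOf_nsmul_eq_zero]
    have hx₀0 : x₀ ≠ 0 := by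
      intro h
      rw [h, addOrderOf_zero] at hx₀
      exact hrp.one_lt.ne hx₀
    have hVgt : 1 < Nat.card ψ.ker := by
      rw [AddSubgroup.one_lt_card_iff_ne_bot]
      intro h
      rw [h, AddSubgroup.mem_bot] at hx₀V
      exact hx₀0 hx₀V
    have hnpos : 0 < n := hodd.pos
    have hWpos : 0 < Nat.card ψ.range := Nat.card_pos
    have hWlt : Nat.card ψ.range < n := by
      rw [← hcardVW]
      exact lt_mul_of_one_lt_left hWpos hVgt
    have hWodd : Odd (Nat.card ψ.range) := by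
      rw [← hcardVW] at hodd
      exact (Nat.odd_mul.mp hodd).2
    have hsqW : IsSquare (Nat.card ψ.range) := by
      apply ih _ hWlt ψ.range rfl hWodd iW jW
      · intro x; apply Subtype.ext; rw [hiW', hiW', hii]; rfl
      · intro x; apply Subtype.ext; rw [hjW', hjW', hjj]; rfl
      · intro x; apply Subtype.ext; rw [hiW', hjW', hij, AddSubgroup.coe_neg, hjW', hiW']
    have hsqV : IsSquare (Nat.card ψ.ker) := by
      apply card_isSquare_of_quat_elem r hr2 _ iV jV
      · intro x; apply Subtype.ext; rw [hiV', hiV', hii]; rfl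
      · intro x; apply Subtype.ext; rw [hjV', hjV', hjj]; rfl
      · intro x; apply Subtype.ext; rw [hiV', hjV', hij, AddSubgroup.coe_neg, hjV', hiV']
      · intro x
        apply Subtype.ext
        have := x.2
        rw [AddMonoidHom.mem_ker, hψ] at this
        rw [AddSubgroup.coe_nsmul, this]; rfl
    rw [← hcardVW]
    exact hsqV.mul hsqW

/-- A finite abelian group of odd order with endomorphisms `i`, `j` satisfying the
quaternion relations `i² = j² = -1`, `ij = -ji` has square order. -/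
theorem card_isSquare_of_quat {M : Type u} [AddCommGroup M] [Finite M] (hodd : Odd (Nat.card M))
    (i j : M →+ M) (hii : ∀ x, i (i x) = -x) (hjj : ∀ x, j (j x) = -x)
    (hij : ∀ x, i (j x) = -(j (i x))) : IsSquare (Nat.card M) :=
  card_isSquare_of_quat_aux (Nat.card M) M rfl hodd i j hii hjj hij

/-- multiplicative version. -/
theorem card_isSquare_of_quat_mul {A : Type u} [CommGroup A] [Finite A] (hodd : Odd (Nat.card A))
    (i j : A →* A) (hii : ∀ x, i (i x) = x⁻¹) (hjj : ∀ x, j (j x) = x⁻¹)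
    (hij : ∀ x, i (j x) = (j (i x))⁻¹) : IsSquare (Nat.card A) := by
  have hc : Nat.card (Additive A) = Nat.card A := Nat.card_congr Additive.toMul
  rw [← hc]
  apply card_isSquare_of_quat (M := Additive A) (hc.symm ▸ hodd) (MonoidHom.toAdditive i)
    (MonoidHom.toAdditive j)
  · exact hii
  · exact hjj
  · exact hij

end Cfsg.Agent.Lib.Helper13
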