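import Mathlib
import Cfsg.Prelude.Def_OddOrderLocal
import Cfsg.Agent.Lib.Helper13.DerivedFitting

/-!
# Solvable groups of odd order whose Fitting subgroup has rank at most 2: `G' ≤ F(G)` (helper13)
-/

set_option autoImplicit false
set_option maxHeartbeats 1000000
set_option linter.style.haveILetI false

namespace Cfsg.Agent.Lib.Helper13.RankTwoDerived

open Cfsg Subgroup Cfsg.Agent.Lib.Helper20
open scoped commutatorElement

theorem prankLE_of_injective {A B : Type*} [Group A] [Group B] {p k : ℕ} (f : A →* B)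
    (hf : Function.Injective f) (h : Cfsg.PRankLE p k B) : Cfsg.PRankLE p k A := by
  intro S hS hSe
  have hSm : IsMulCommutative (S.map f) := by
    refine ⟨⟨?_⟩⟩
    rintro ⟨_, ⟨u, hu, rfl⟩⟩ ⟨_, ⟨v, hv, rfl⟩⟩
    apply Subtype.ext
    have := hS.is_comm.comm ⟨u, hu⟩ ⟨v, hv⟩
    have h' : u * v = v * u := congrArg Subtype.val this
    show f u * f v = f v * f u
    rw [← map_mul, ← map_mul, h']
  have := h (S.map f) hSm (by
    rintro _ ⟨b, hb, rfl⟩
    rw [← map_pow, hSe b hb, map_one])
  rwa [Subgroup.card_map_of_injective hf] at this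

theorem rankLE_of_injective {A B : Type*} [Group A] [Group B] {k : ℕ} (f : A →* B)
    (hf : Function.Injective f) (h : Cfsg.RankLE k B) : Cfsg.RankLE k A :=
  fun p hp => prankLE_of_injective f hf (h p hp)

theorem rankLE_of_le {G : Type*} [Group G] {k : ℕ} {H K : Subgroup G} (hHK : H ≤ K)
    (h : Cfsg.RankLE k K) : Cfsg.RankLE k H :=
  rankLE_of_injective (Subgroup.inclusion hHK) (Subgroup.inclusion_injective hHK) h

variable {G : Type*} [Group G] [Finite G]

/-- In a solvable group of odd order, the `q'`-elements of `G'` centralize `O_q(G)` whenever `O_q(G)`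
has rank at most `2`. -/
theorem mem_centralizer_pCore_of_prankLE (hs : Group.IsSolvable G) (hodd : Odd (Nat.card G))
    (q : ℕ) (hq : q.Prime) (hr : Cfsg.PRankLE q 2 ↥(pCore q G)) (y : G) (hy : y ∈ commutator G)
    (hyo : (orderOf y).Coprime q) : y ∈ centralizer (pCore q G : Set G) := by
  haveI : Fact q.Prime := ⟨hq⟩
  haveI : (pCore q G).Normal := pCore_normal q G
  by_cases hq2 : q = 2
  · have hbot : pCore q G = ⊥ := by
      rw [← Subgroup.card_eq_one]
      obtain ⟨n, hn⟩ := IsPGroup.iff_card.mp (pCore_isPGroup' (G := G) q)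
      have hodd' : Odd (Nat.card (pCore q G)) := Odd.of_dvd_nat hodd (Subgroup.card_dvd_of_le le_top |>.trans (by rw [Subgroup.card_top]))
      rw [hn, hq2] at hodd' ⊢
      rcases Nat.eq_zero_or_pos n with h0 | hpos
      · rw [h0, pow_zero]
      · exfalso
        have : Even (2 ^ n) := (Nat.even_pow' hpos.ne').mpr even_two
        exact (Nat.not_odd_iff_even.mpr this) hodd'
    rw [hbot, mem_centralizer_iff]
    intro h hh
    rw [SetLike.mem_coe, Subgroup.mem_bot] at hh
    rw [hh, one_mul, mul_one]
  · have h1 := Cfsg.Agent.Lib.Helper13.RankTwoAct.act_trivial hq2 (pCore_isPGroup' (G := G) q) hr hodd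
      hs (MulAut.conjNormal (H := pCore q G)) y hy hyo
    rw [mem_centralizer_iff]
    intro h hh
    have h2 := congrArg (fun f : MulAut ↥(pCore q G) => ((f ⟨h, hh⟩ : ↥(pCore q G)) : G)) h1
    have h3 : y * h * y⁻¹ = h := h2
    calc h * y = (y * h * y⁻¹) * y := by rw [h3]
      _ = y * h := by group

/-- `G' ≤ F(G)` for a solvable group of odd order whose Fitting subgroup has rank at most `2`. -/
theorem commutator_le_fitting_of_rankLE_two (hs : Group.IsSolvable G) (hodd : Odd (Nat.card G))
    (hr : Cfsg.RankLE 2 ↥(fittingSubgroup G)) : commutator G ≤ fittingSubgroup G := by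
  apply Cfsg.Agent.Lib.Helper13.DerivedFitting.commutator_le_fitting hs
  intro q hq y hy hyo
  haveI : Fact q.Prime := ⟨hq⟩
  apply mem_centralizer_pCore_of_prankLE hs hodd q hq _ y hy hyo
  have hle : pCore q G ≤ fittingSubgroup G :=
    le_fittingSubgroup' (pCore_normal q G) (pCore_isPGroup' (G := G) q).isNilpotent
  exact (rankLE_of_le hle hr) q hq

/-- The same for a subgroup `H` of an ambient group. -/
theorem commutator_le_fittingOf_of_rankLE_two (H : Subgroup G) (hs : Group.IsSolvable ↥H)
    (hodd : Odd (Nat.card H)) (hr : Cfsg.RankLE 2 ↥(Cfsg.fittingOf H)) :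
    ⁅H, H⁆ ≤ Cfsg.fittingOf H := by
  have h1 : Cfsg.RankLE 2 ↥(fittingSubgroup ↥H) := by
    apply rankLE_of_injective
      (Subgroup.equivMapOfInjective (fittingSubgroup ↥H) H.subtype H.subtype_injective).toMonoidHom
      (MulEquiv.injective _)
    exact hr
  have h2 := commutator_le_fitting_of_rankLE_two hs hodd h1
  rw [← Subgroup.map_subtype_commutator]
  exact Subgroup.map_mono h2

end Cfsg.Agent.Lib.Helper13.RankTwoDerived
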