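import Mathlib
import Cfsg.Prelude.Def_OddOrderLocal
import Cfsg.Agent.Lib.Helper13.RankTwoDerived
import Cfsg.Agent.Lib.Helper13.TransHyp
import Cfsg.Agent.Lib.Helper14.LinRep
import Cfsg.Agent.Lib.Helper16.PCore
import Cfsg.Agent.S0640

/-!
# Solvable groups of odd order whose Fitting subgroup has rank at most 2: Sylow tower (helper13)
-/

set_option autoImplicit false
set_option maxHeartbeats 1000000
set_option linter.style.haveILetI false

namespace Cfsg.Agent.Lib.Helper13.RankTwoTower

open Cfsg Subgroup Cfsg.Agent.Lib.Helper20 Cfsg.Agent.Lib.Helper13.BenderA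
  Cfsg.Agent.Lib.Helper13.BenderC Cfsg.Agent.Lib.Helper13.RankTwoDerived
  Cfsg.Agent.Lib.Helper13.DerivedFitting
open scoped commutatorElement Pointwise

variable {G : Type*} [Group G] [Finite G]

/-- a `p`-subgroup of `F(G)` lies in `O_p(G)`. -/
theorem le_pCore_of_le_fitting {p : ℕ} [hp : Fact p.Prime] (K : Subgroup G)
    (hK : K ≤ fittingSubgroup G) (hKp : IsPGroup p K) : K ≤ pCore p G := by
  haveI hnil : Group.IsNilpotent (fittingSubgroup G) := fittingSubgroup_isNilpotent'
  haveI hFn : (fittingSubgroup G).Normal := fittingSubgroup_normal'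
  have hK'p : IsPGroup p (K.subgroupOf (fittingSubgroup G)) := hKp.comap_subtype
  obtain ⟨P, hP⟩ := hK'p.exists_le_sylow
  have hPn : (P : Subgroup (fittingSubgroup G)).Normal := inferInstance
  haveI : (P : Subgroup (fittingSubgroup G)).Characteristic := P.characteristic_of_normal hPn
  have hle : (P : Subgroup (fittingSubgroup G)).map (fittingSubgroup G).subtype ≤ pCore p G := by
    apply le_pCore'
    · exact ConjAct.normal_of_characteristic_of_normal
    · exact P.isPGroup'.map _
  intro k hk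
  have h2 : (⟨k, hK hk⟩ : ↥(fittingSubgroup G)) ∈ K.subgroupOf (fittingSubgroup G) :=
    Subgroup.mem_subgroupOf.mpr hk
  exact hle ⟨_, hP h2, rfl⟩

/-- the normalizer of `K` normalizes the characteristic subgroups of `K`. -/
theorem normalizer_le_normalizer_map_of_characteristic (K : Subgroup G) (H : Subgroup K)
    (hH : H.Characteristic) :
    normalizer (K : Set G) ≤ normalizer ((H.map K.subtype : Subgroup G) : Set G) := by
  intro g hg
  apply mem_normalizer_of_conj_mem'
  rintro _ ⟨h, hh, rfl⟩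
  have h1 := Subgroup.characteristic_iff_le_comap.mp hH
    (Cfsg.Agent.Lib.Helper14.LinRep.conjAut K ⟨g, hg⟩) hh
  rw [Subgroup.mem_comap] at h1
  exact ⟨_, h1, rfl⟩

theorem normal_of_commutator_le (M : Subgroup G) (h : commutator G ≤ M) : M.Normal := by
  constructor
  intro m hm g
  have h1 : g * m * g⁻¹ = ⁅g, m⁆ * m := by rw [commutatorElement_def]; group
  rw [h1]
  apply M.mul_mem _ hm
  apply h
  rw [commutator_def]
  exact Subgroup.commutator_mem_commutator (Subgroup.mem_top g) (Subgroup.mem_top m)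

theorem pCore_two_eq_bot (hodd : Odd (Nat.card G)) : pCore 2 G = ⊥ := by
  haveI : Fact (Nat.Prime 2) := ⟨Nat.prime_two⟩
  rw [← Subgroup.card_eq_one]
  obtain ⟨n, hn⟩ := IsPGroup.iff_card.mp (pCore_isPGroup' (G := G) 2)
  have hodd' : Odd (Nat.card (pCore 2 G)) :=
    Odd.of_dvd_nat hodd (Subgroup.card_subgroup_dvd_card _)
  rw [hn] at hodd' ⊢
  rcases Nat.eq_zero_or_pos n with h0 | hpos
  · rw [h0, pow_zero]
  · exfalso
    have : Even (2 ^ n) := (Nat.even_pow' hpos.ne').mpr even_two
    exact (Nat.not_odd_iff_even.mpr this) hodd'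

/-- (K1) a `q`-element centralizes `O_s(G)` if `s < q` and `O_s(G)` has rank at most `2`. -/
theorem mem_centralizer_pCore_of_lt (hodd : Odd (Nat.card G)) (s q : ℕ) (hs : s.Prime)
    (hq : q.Prime) (hsq : s < q) (hr : Cfsg.PRankLE s 2 ↥(pCore s G)) (y : G) (k : ℕ)
    (hy : y ^ (q ^ k) = 1) : y ∈ centralizer (pCore s G : Set G) := by
  haveI : Fact s.Prime := ⟨hs⟩
  haveI : (pCore s G).Normal := pCore_normal s G
  by_cases hs2 : s = 2
  · rw [hs2, pCore_two_eq_bot hodd, mem_centralizer_iff]
    intro h hh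
    rw [SetLike.mem_coe, Subgroup.mem_bot] at hh
    rw [hh, one_mul, mul_one]
  · obtain ⟨φ, hφ⟩ : ∃ φ : G →* MulAut ↥(pCore s G), φ = MulAut.conjNormal := ⟨_, rfl⟩
    have h1 : φ y = 1 := by
      by_contra hne
      have h2 : orderOf (φ y) ∣ q ^ k := orderOf_dvd_of_pow_eq_one (by rw [← map_pow, hy, map_one])
      have h3 : orderOf (φ y) ≠ 1 := fun h => hne (orderOf_eq_one_iff.mp h)
      have h4 : q ∣ orderOf (φ y) := by
        obtain ⟨j, hj, hj'⟩ := (Nat.dvd_prime_pow hq).mp h2
        rw [hj']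
        rcases Nat.eq_zero_or_pos j with h0 | hpos
        · rw [h0, pow_zero] at hj'; exact absurd hj' h3
        · exact dvd_pow_self q hpos.ne'
      have h5 : q ∣ Nat.card (MulAut ↥(pCore s G)) := h4.trans (orderOf_dvd_natCard _)
      have := (Cfsg.Agent.S0640.result hs2 (pCore_isPGroup' (G := G) s) hr q hq (by omega) h5).2
      omega
    rw [mem_centralizer_iff]
    intro h hh
    have h2 := congrArg (fun f : MulAut ↥(pCore s G) => ((f ⟨h, hh⟩ : ↥(pCore s G)) : G)) h1
    have h3 : y * h * y⁻¹ = h := by rw [hφ] at h2; exact h2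
    calc h * y = (y * h * y⁻¹) * y := by rw [h3]
      _ = y * h := by group

section Main

variable (hs : Group.IsSolvable G) (hodd : Odd (Nat.card G))
  (hr : Cfsg.RankLE 2 ↥(fittingSubgroup G))

include hs hodd hr

/-- characteristic subgroups of a Sylow subgroup `S` inside `S'` are normal in `G`. -/
theorem char_le_derived_normal (q : ℕ) [hq : Fact q.Prime] (S : Sylow q G)
    (T : Subgroup ↥(S : Subgroup G)) (hT : T.Characteristic)
    (hTS : T.map (S : Subgroup G).subtype ≤ ⁅(S : Subgroup G), (S : Subgroup G)⁆) :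
    (T.map (S : Subgroup G).subtype).Normal := by
  have hGF := commutator_le_fitting_of_rankLE_two hs hodd hr
  haveI hFn : (fittingSubgroup G).Normal := fittingSubgroup_normal'
  have hFsup := fittingSubgroup_eq_iSup_pCore' (G := G)
  obtain ⟨T', hT'def⟩ : ∃ T' : Subgroup G, T' = T.map (S : Subgroup G).subtype := ⟨_, rfl⟩
  rw [← hT'def] at hTS ⊢
  have hT'S : T' ≤ (S : Subgroup G) := hT'def ▸ Subgroup.map_subtype_le _
  have hT'F : T' ≤ fittingSubgroup G := by
    refine hTS.trans (le_trans ?_ hGF)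
    rw [commutator_def]
    exact Subgroup.commutator_mono le_top le_top
  have hT'p : IsPGroup q T' := S.isPGroup'.to_le hT'S
  have hT'Q : T' ≤ pCore q G := le_pCore_of_le_fitting T' hT'F hT'p
  have hNS : normalizer ((S : Subgroup G) : Set G) ≤ normalizer (T' : Set G) :=
    hT'def ▸ normalizer_le_normalizer_map_of_characteristic (S : Subgroup G) T hT
  have hFN : fittingSubgroup G ≤ normalizer (T' : Set G) := by
    rw [hFsup]
    apply iSup_le
    intro r
    haveI : Fact (r : ℕ).Prime := ⟨r.2⟩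
    by_cases hrq : (r : ℕ) = q
    · rw [hrq]
      exact (Cfsg.Agent.Lib.Helper16.pCore_le_sylow S).trans (le_normalizer.trans hNS)
    · refine le_trans ?_ (Subgroup.centralizer_le_normalizer (T' : Set G))
      refine le_trans (pCore_le_centralizer_pCore (G := G) (q := q) (r := r) (Ne.symm hrq)) ?_
      exact Subgroup.centralizer_le hT'Q
  haveI hMn : ((S : Subgroup G) ⊔ fittingSubgroup G).Normal :=
    normal_of_commutator_le _ (hGF.trans le_sup_right)
  have hfr := Sylow.normalizer_sup_eq_top' S (le_sup_left : (S : Subgroup G) ≤ (S : Subgroup G) ⊔ fittingSubgroup G)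
  rw [← Subgroup.normalizer_eq_top_iff, eq_top_iff, ← hfr]
  apply sup_le hNS
  exact sup_le (le_normalizer.trans hNS) hFN

/-- Sylow tower: a characteristic Hall subgroup for the primes above `p`. -/
theorem exists_char_hall (p : ℕ) :
    ∃ N : Subgroup G, N.Characteristic ∧ Cfsg.IsPiHall {q | q.Prime ∧ p < q} N := by
  classical
  have hGF := commutator_le_fitting_of_rankLE_two hs hodd hr
  haveI hFn : (fittingSubgroup G).Normal := fittingSubgroup_normal'
  have hFsup := fittingSubgroup_eq_iSup_pCore' (G := G)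
  obtain ⟨π, hπ⟩ : ∃ π : Set ℕ, π = {q | q.Prime ∧ p < q} := ⟨_, rfl⟩
  rw [← hπ]
  have hmem := Cfsg.Agent.Lib.Helper13.piCore_mem' (H := G) π
  refine ⟨Cfsg.piCore π G, ?_, hmem.2, ?_⟩
  · apply characteristic_sSup_of_invariant
    rintro N ⟨hNn, hNc⟩ φ
    refine ⟨?_, ?_⟩
    · exact hNn.map φ.toMonoidHom φ.surjective
    · rw [Subgroup.card_map_of_injective φ.injective]
      exact hNc
  · intro q hq hqπ
    haveI : Fact q.Prime := ⟨hq⟩
    obtain ⟨S⟩ : Nonempty (Sylow q G) := inferInstance
    -- the normal π-subgroup containing S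
    obtain ⟨Oπ, hOπ⟩ : ∃ Oπ : Subgroup G, Oπ = ⨆ r : {r : Nat.Primes // (r : ℕ) ∈ π}, pCore (r : ℕ) G :=
      ⟨_, rfl⟩
    haveI hOπn : Oπ.Normal := by
      rw [hOπ]
      haveI : ∀ r : {r : Nat.Primes // (r : ℕ) ∈ π}, (pCore (r : ℕ) G).Normal :=
        fun r => pCore_normal _ _
      exact Subgroup.iSup_normal _
    have hOπF : Oπ ≤ fittingSubgroup G := by
      rw [hOπ, hFsup]
      apply iSup_le
      intro r
      exact le_iSup (fun r : Nat.Primes => pCore (r : ℕ) G) r.1
    have hOπcard : ∀ t : ℕ, t.Prime → t ∣ Nat.card Oπ → t ∈ π := by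
      have h1 : Oπ ≤ Cfsg.piCore π G := by
        rw [hOπ]
        apply iSup_le
        intro r
        haveI : Fact (r.1 : ℕ).Prime := ⟨r.1.2⟩
        apply le_sSup
        refine ⟨pCore_normal _ _, ?_⟩
        intro t ht htd
        obtain ⟨n, hn⟩ := IsPGroup.iff_card.mp (pCore_isPGroup' (G := G) (r.1 : ℕ))
        rw [hn] at htd
        have := (Nat.prime_dvd_prime_iff_eq ht r.1.2).mp (ht.dvd_of_dvd_pow htd)
        rw [this]; exact r.2
      intro t ht htd
      exact hmem.2 t ht (htd.trans (Subgroup.card_dvd_of_le h1))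
    obtain ⟨Y, hY⟩ : ∃ Y : Subgroup G, Y = (S : Subgroup G) ⊔ Oπ := ⟨_, rfl⟩
    have hSY : (S : Subgroup G) ≤ Y := hY ▸ le_sup_left
    have hOY : Oπ ≤ Y := hY ▸ le_sup_right
    have hYcard : ∀ t : ℕ, t.Prime → t ∣ Nat.card Y → t ∈ π := by
      intro t ht htd
      have h1 : Nat.card Y ∣ Nat.card (S : Subgroup G) * Nat.card Oπ := by
        rw [hY]
        exact Cfsg.Agent.Lib.Helper20.card_sup_dvd_mul _ _
      rcases (Nat.Prime.dvd_mul ht).mp (htd.trans h1) with h | h
      · obtain ⟨n, hn⟩ := IsPGroup.iff_card.mp S.isPGroup'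
        rw [hn] at h
        have := (Nat.prime_dvd_prime_iff_eq ht hq).mp (ht.dvd_of_dvd_pow h)
        rw [this]; exact hqπ
      · exact hOπcard t ht h
    -- S centralizes O_s for s ∉ π
    have hScent : ∀ s : Nat.Primes, (s : ℕ) ∉ π → (S : Subgroup G) ≤ centralizer (pCore (s : ℕ) G : Set G) := by
      intro s hsπ y hy
      haveI : Fact (s : ℕ).Prime := ⟨s.2⟩
      have hsq : (s : ℕ) < q := by
        rw [hπ] at hsπ hqπ
        have h1 : ¬ p < (s : ℕ) := fun h => hsπ ⟨s.2, h⟩
        have h2 : p < q := hqπ.2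
        omega
      obtain ⟨k, hk⟩ := S.isPGroup' ⟨y, hy⟩
      have hk' : y ^ (q ^ k) = 1 := by
        have := congrArg Subtype.val hk
        simpa using this
      apply mem_centralizer_pCore_of_lt hodd (s : ℕ) q s.2 hq hsq _ y k hk'
      have hle : pCore (s : ℕ) G ≤ fittingSubgroup G :=
        le_fittingSubgroup' (pCore_normal _ G) (pCore_isPGroup' (G := G) (s : ℕ)).isNilpotent
      exact (rankLE_of_le hle hr) (s : ℕ) s.2
    -- Y is normal
    have hYN : fittingSubgroup G ≤ normalizer (Y : Set G) := by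
      rw [hFsup]
      apply iSup_le
      intro s
      haveI : Fact (s : ℕ).Prime := ⟨s.2⟩
      by_cases hsπ : (s : ℕ) ∈ π
      · refine le_trans ?_ (hOY.trans le_normalizer)
        rw [hOπ]
        exact le_iSup (fun r : {r : Nat.Primes // (r : ℕ) ∈ π} => pCore (r : ℕ) G) ⟨s, hsπ⟩
      · refine le_trans ?_ (Subgroup.centralizer_le_normalizer (Y : Set G))
        rw [Subgroup.le_centralizer_iff, hY]
        apply sup_le (hScent s hsπ)
        rw [hOπ]
        apply iSup_le
        intro r
        haveI : Fact (r.1 : ℕ).Prime := ⟨r.1.2⟩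
        apply pCore_le_centralizer_pCore
        intro h
        apply hsπ
        rw [h]; exact r.2
    have hNSY : normalizer ((S : Subgroup G) : Set G) ≤ normalizer (Y : Set G) := by
      intro g hg
      apply mem_normalizer_of_conj_mem'
      intro v hv
      rw [hY, ← SetLike.mem_coe, Subgroup.mul_normal] at hv
      obtain ⟨a, ha, b, hb, rfl⟩ := hv
      have h1 : g * (a * b) * g⁻¹ = (g * a * g⁻¹) * (g * b * g⁻¹) := by group
      rw [h1]
      apply Y.mul_mem
      · exact hSY ((Subgroup.mem_normalizer_iff.mp hg a).mp ha)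
      · exact hOY (hOπn.conj_mem b hb g)
    haveI hMn : ((S : Subgroup G) ⊔ fittingSubgroup G).Normal :=
      normal_of_commutator_le _ (hGF.trans le_sup_right)
    have hfr := Sylow.normalizer_sup_eq_top' S
      (le_sup_left : (S : Subgroup G) ≤ (S : Subgroup G) ⊔ fittingSubgroup G)
    have hYnormal : Y.Normal := by
      rw [← Subgroup.normalizer_eq_top_iff, eq_top_iff, ← hfr]
      apply sup_le hNSY
      exact sup_le (hSY.trans le_normalizer) hYN
    have hYle : Y ≤ Cfsg.piCore π G := le_sSup ⟨hYnormal, hYcard⟩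
    have hSle : (S : Subgroup G) ≤ Cfsg.piCore π G := hSY.trans hYle
    intro hdvd
    have h1 : (Cfsg.piCore π G).index ∣ (S : Subgroup G).index := Subgroup.index_dvd_of_le hSle
    exact S.not_dvd_index (hdvd.trans h1)

end Main

end Cfsg.Agent.Lib.Helper13.RankTwoTower
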