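import Mathlib
import Cfsg.Agent.Lib.Helper13.Zipper
import Cfsg.Agent.Lib.Helper16.SubnormalPGroup

set_option autoImplicit false
open Cfsg
open scoped Pointwise

universe u

namespace Cfsg.Agent.Lib.Helper13

/-- a subgroup normalizes the join of a family it permutes by conjugation -/
theorem le_normalizer_sSup_of_conj {G : Type*} [Group G] {𝒮 : Set (Subgroup G)} {V : Subgroup G}
    (h : ∀ B ∈ 𝒮, ∀ v ∈ V, MulAut.conj v • B ∈ 𝒮) :
    V ≤ Subgroup.normalizer ((sSup 𝒮 : Subgroup G) : Set G) := by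
  have key : ∀ v ∈ V, MulAut.conj v • sSup 𝒮 ≤ sSup 𝒮 := by
    intro v hv
    rw [Subgroup.pointwise_smul_subset_iff]
    apply sSup_le
    intro B hB
    rw [← Subgroup.pointwise_smul_subset_iff]
    exact le_sSup (h B hB v hv)
  intro v hv
  rw [← cj_eq_self_iff_mem_normalizer]
  apply le_antisymm (key v hv)
  have := key v⁻¹ (V.inv_mem hv)
  rw [Subgroup.pointwise_smul_subset_iff, map_inv, inv_inv] at this
  exact this

/-- relative form of S0539: in a family of subnormal subgroups of `V` closed under `V`-conjugation,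
some member outside a proper subfamily normalizes the join of that subfamily. -/
theorem rel_exists_mem_normalizing_sSup {G : Type*} [Group G] [Finite G] (V : Subgroup G)
    (𝒮 𝒮₀ : Set (Subgroup G)) (hle : ∀ B ∈ 𝒮, B ≤ V)
    (hsn : ∀ B ∈ 𝒮, (B.subgroupOf V).IsSubnormal)
    (hconj : ∀ B ∈ 𝒮, ∀ v ∈ V, MulAut.conj v • B ∈ 𝒮) (h₀ : 𝒮₀ ⊂ 𝒮) :
    ∃ X ∈ 𝒮, X ∉ 𝒮₀ ∧ X ≤ Subgroup.normalizer ((sSup 𝒮₀ : Subgroup G) : Set G) := by
  obtain ⟨B₀, hB₀, hB₀'⟩ := Set.exists_of_ssubset h₀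
  obtain ⟨𝒯, h𝒯⟩ : ∃ 𝒯 : Set (Subgroup V), 𝒯 = {T | T.map V.subtype ∈ 𝒮} := ⟨_, rfl⟩
  obtain ⟨𝒯₀, h𝒯₀⟩ : ∃ 𝒯₀ : Set (Subgroup V), 𝒯₀ = {T | T.map V.subtype ∈ 𝒮₀} := ⟨_, rfl⟩
  have hmem : ∀ B ∈ 𝒮, (B.subgroupOf V).map V.subtype = B :=
    fun B hB => Subgroup.map_subgroupOf_eq_of_le (hle B hB)
  have h𝒯sn : ∀ T ∈ 𝒯, T.IsSubnormal := by
    intro T hT
    rw [h𝒯] at hT
    have := hsn _ hT
    rwa [← Subgroup.comap_subtype,
      Subgroup.comap_map_eq_self_of_injective V.subtype_injective] at this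
  have h𝒯conj : ∀ T ∈ 𝒯, ∀ v : V, MulAut.conj v • T ∈ 𝒯 := by
    intro T hT v
    rw [h𝒯] at hT ⊢
    show (MulAut.conj v • T).map V.subtype ∈ 𝒮
    rw [map_cj]
    exact hconj _ hT v v.2
  have hss : 𝒯₀ ⊂ 𝒯 := by
    rw [Set.ssubset_iff_exists]
    refine ⟨?_, B₀.subgroupOf V, ?_, ?_⟩
    · intro T hT
      rw [h𝒯₀] at hT
      rw [h𝒯]
      exact h₀.subset hT
    · rw [h𝒯]
      show (B₀.subgroupOf V).map V.subtype ∈ 𝒮
      rw [hmem B₀ hB₀]; exact hB₀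
    · rw [h𝒯₀]
      show ¬ (B₀.subgroupOf V).map V.subtype ∈ 𝒮₀
      rw [hmem B₀ hB₀]
      exact hB₀'
  obtain ⟨T, hT𝒯, hT𝒯₀, hTN⟩ :=
    Cfsg.Agent.Lib.Helper20.exists_mem_normalizing_sSup 𝒯 𝒯₀ h𝒯sn h𝒯conj hss
  have hmapD : (sSup 𝒯₀ : Subgroup V).map V.subtype = sSup 𝒮₀ := by
    apply le_antisymm
    · rw [Subgroup.map_le_iff_le_comap]
      apply sSup_le
      intro T' hT'
      rw [← Subgroup.map_le_iff_le_comap]
      rw [h𝒯₀] at hT'
      exact le_sSup hT'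
    · apply sSup_le
      intro B hB
      rw [← hmem B (h₀.subset hB)]
      apply Subgroup.map_mono
      apply le_sSup
      rw [h𝒯₀]
      show (B.subgroupOf V).map V.subtype ∈ 𝒮₀
      rw [hmem B (h₀.subset hB)]
      exact hB
  refine ⟨T.map V.subtype, ?_, ?_, ?_⟩
  · rw [h𝒯] at hT𝒯; exact hT𝒯
  · intro h
    apply hT𝒯₀
    rw [h𝒯₀]
    exact h
  · rw [← hmapD]
    exact (Subgroup.map_mono hTN).trans (Subgroup.le_normalizer_map _)

/-- every subgroup of a `p`-subgroup is subnormal in it -/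
theorem relSubn_of_isPGroup {G : Type*} [Group G] [Finite G] {p : ℕ} [Fact p.Prime]
    {V : Subgroup G} (hV : IsPGroup p V) (B : Subgroup G) : (B.subgroupOf V).IsSubnormal :=
  Cfsg.Agent.Lib.Helper16.isSubnormal_of_isPGroup hV _

end Cfsg.Agent.Lib.Helper13
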