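import Cfsg.Agent.S5076
import Cfsg.Agent.Lib.Helper29.PrimeToPIndex
import Cfsg.Agent.Lib.Helper29.FusionSub

/-!
A criterion for the simplicity of the fusion system of a finite group: no proper nontrivial
strongly closed subgroup, and the automorphisms of the Sylow subgroup induced by the group are
generated by those induced by the `p`-elements of the normalizers of centric subgroups
(helper13, on top of Helper29's library on subsystems of index prime to `p`).
-/

set_option autoImplicit false

namespace Cfsg.Agent.Lib.Helper13.SimpCrit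

open Cfsg Cfsg.Agent.Lib.Helper29

variable {G : Type*} [Group G]

/-- the subgroup generated by the `p`-elements of the normalizer -/
def pNorm (p : ℕ) (R : Subgroup G) : Subgroup G :=
  Subgroup.closure {g : G | g ∈ Subgroup.normalizer (R : Set G) ∧ ∃ k : ℕ, orderOf g = p ^ k}

theorem pNorm_le (p : ℕ) (R : Subgroup G) : pNorm p R ≤ Subgroup.normalizer (R : Set G) :=
  (Subgroup.closure_le _).2 fun _ hg => hg.1

/-- the elements of `pNorm` induce automorphisms in `O^{p'}(Aut_F(R))` -/
theorem normalizerMonoidHom_mem_opP [Finite G] {p : ℕ} [Fact p.Prime] {S R : Subgroup G}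
    (hRS : R ≤ S) {g : G} (hg : g ∈ pNorm p R) :
    R.normalizerMonoidHom ⟨g, pNorm_le p R hg⟩ ∈ OpP (groupFusionSystem S) p R := by
  have hle : pNorm p R ≤
      ((OpP (groupFusionSystem S) p R).comap R.normalizerMonoidHom).map
        (Subgroup.normalizer (R : Set G)).subtype := by
    unfold pNorm
    rw [Subgroup.closure_le]
    rintro x ⟨hxN, k, hk⟩
    refine ⟨⟨x, hxN⟩, ?_, rfl⟩
    show R.normalizerMonoidHom ⟨x, hxN⟩ ∈ OpP (groupFusionSystem S) p R
    rw [opP_eq_closure]
    apply Subgroup.subset_closure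
    constructor
    · rw [mem_autGroup_iff _ hRS]
      exact ⟨hRS, fun y => hRS (R.normalizerMonoidHom ⟨x, hxN⟩ y).2, x, fun y => rfl⟩
    · have h1 : orderOf (R.normalizerMonoidHom ⟨x, hxN⟩) ∣ orderOf (⟨x, hxN⟩ :
          Subgroup.normalizer (R : Set G)) := orderOf_map_dvd _ _
      rw [Subgroup.orderOf_mk, hk] at h1
      obtain ⟨j, -, hj⟩ := (Nat.dvd_prime_pow (Fact.out : p.Prime)).1 h1
      exact ⟨j, hj⟩
  obtain ⟨n, hn, hng⟩ := hle hg
  have : n = ⟨g, pNorm_le p R hg⟩ := Subtype.ext hng
  rw [← this]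
  exact hn

theorem isSimple_of_centric_gen [Finite G] (p : ℕ) [Fact p.Prime] (S : Sylow p G)
    (hS1 : (S : Subgroup G) ≠ ⊥)
    (ha : ∀ T : Subgroup G, (groupFusionSystem (S : Subgroup G)).StronglyClosed T →
      T = ⊥ ∨ T = (S : Subgroup G))
    (hb : autInducedBy ⊤ (S : Subgroup G) ≤
      ⨆ (R : Subgroup G) (_ : (groupFusionSystem (S : Subgroup G)).IsCentric R),
        autInducedBy (pNorm p R) (S : Subgroup G)) :
    (groupFusionSystem (S : Subgroup G)).IsSimple p := by
  have hS : IsPGroup p (S : Subgroup G) := S.isPGroup'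
  have hF : (groupFusionSystem (S : Subgroup G)).IsSaturated p := Cfsg.Agent.S5076.result p S
  refine ⟨hF, hS1, ?_⟩
  intro T E hE
  obtain ⟨⟨hEsat, -, hsub, hstr, -, hfrat⟩, -⟩ := hE
  rcases ha T hstr with hT | hT
  · left
    exact hT
  right
  subst hT
  refine ⟨rfl, fun P => Set.Subset.antisymm (hsub P) ?_⟩
  have hfr : ∀ (P : Subgroup G), P ≤ (S : Subgroup G) → ∀ (φ : P →* G),
      φ ∈ (groupFusionSystem (S : Subgroup G)).Hom P →
      Good E (groupFusionSystem (S : Subgroup G)) P φ := hfrat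
  -- the key: `Aut_F(S) ≤ Aut_E(S)`
  have hkey : (groupFusionSystem (S : Subgroup G)).autGroup (S : Subgroup G) ≤
      E.autGroup (S : Subgroup G) := by
    rw [Cfsg.Agent.S5076.groupFusionSystem_autGroup le_rfl]
    refine hb.trans (iSup₂_le ?_)
    intro R hRc
    have hRS : R ≤ (S : Subgroup G) := hRc.1
    unfold autInducedBy
    rw [Subgroup.closure_le]
    rintro α ⟨g, hg, hαg⟩
    rw [SetLike.mem_coe, mem_autGroup_iff E le_rfl]
    have hψF : (S : Subgroup G).subtype.comp α.toMonoidHom ∈
        (groupFusionSystem (S : Subgroup G)).Hom (S : Subgroup G) :=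
      ⟨le_rfl, fun x => (α x).2, g, fun x => hαg x⟩
    apply mem_sub_of_restrict_centric p hS (groupFusionSystem (S : Subgroup G)) hF E hEsat hsub _
      hRS hRc hψF ?_ rfl
    have h1 := opP_le_of_frattini hS (groupFusionSystem (S : Subgroup G)) hF E hfr hRS
      (normalizerMonoidHom_mem_opP hRS hg)
    rw [mem_autGroup_iff E hRS] at h1
    have e : ((S : Subgroup G).subtype.comp α.toMonoidHom).comp (Subgroup.inclusion hRS) =
        R.subtype.comp (R.normalizerMonoidHom ⟨g, pNorm_le p R hg⟩).toMonoidHom := by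
      ext x
      exact hαg (Subgroup.inclusion hRS x)
    rw [e]
    exact h1
  intro φ hφ
  obtain ⟨α, hα, φ₀, hφ₀, h⟩ := hfrat P hφ.1 φ hφ
  have hαE := (mem_autGroup_iff E le_rfl).1 (hkey hα)
  have h0 : ∀ x : P, φ₀ x ∈ (S : Subgroup G) := (E.le_of_mem hφ₀).2
  have hc := E.comp_mem hφ₀ hαE h0
  have : φ = ((S : Subgroup G).subtype.comp α.toMonoidHom).comp
      (φ₀.codRestrict (S : Subgroup G) h0) := by
    ext x
    rw [h x (h0 x)]
    rfl
  rw [this]
  exact hc

end Cfsg.Agent.Lib.Helper13.SimpCrit
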