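import Mathlib
import Cfsg.Prelude.Def_OddOrder
import Cfsg.Prelude.Def_OddOrderLocal
import Cfsg.Prelude.Def_Transfer
import Cfsg.Agent.Lib.Helper13.Fit81b
import Cfsg.Agent.Lib.Helper13.RankTwoTower

/-!
# Bender–Glauberman Lemma 9.1, part A (helper13): invariant `p'`-subgroups and Sylow normalizers
-/

set_option autoImplicit false
set_option maxHeartbeats 1000000
set_option linter.style.haveILetI false

namespace Cfsg.Agent.Lib.Helper13.Uniq91a

open Subgroup Cfsg.Agent.Lib.Helper20 Cfsg.Agent.Lib.Helper13.BenderA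
  Cfsg.Agent.Lib.Helper13.BenderB Cfsg.Agent.Lib.Helper13.BenderC
  Cfsg.Agent.Lib.Helper13.FitBasics Cfsg.Agent.Lib.Helper13 Cfsg.Agent.Lib.Helper13.Fit81a
  Cfsg.Agent.Lib.Helper13.Fit81b
  Cfsg.Agent.Lib.Helper13.OddZJ Cfsg.Agent.Lib.Helper15
  Cfsg.Agent.Lib.Lead.GlaubermanRepl Cfsg.Agent.Lib.Lead.PLocalZJ
open scoped commutatorElement Pointwise

universe u

/-- In a solvable group, a `p'`-subgroup normalized by a Sylow `p`-subgroup lies in `O_{p'}`. -/
theorem sylow_invariant_le_pPrimeCore {X : Type u} [Group X] [Finite X] [Group.IsSolvable X]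
    (p : ℕ) [hp : Fact p.Prime] (P : Sylow p X) (K : Subgroup X) (hK : (Nat.card K).Coprime p)
    (hPK : (P : Subgroup X) ≤ normalizer (K : Set X)) : K ≤ Cfsg.pPrimeCore p X := by
  obtain ⟨N, hNdef⟩ : ∃ N : Subgroup X, N = Cfsg.pPrimeCore p X := ⟨_, rfl⟩
  haveI hNn : N.Normal := hNdef ▸ Cfsg.pPrimeCore_normal p X
  rw [← hNdef]
  have hcore : Cfsg.pPrimeCore p (X ⧸ N) = ⊥ := by
    subst hNdef; exact pPrimeCore_quotient_eq_bot p
  obtain ⟨π, hπdef⟩ : ∃ π : X →* X ⧸ N, π = QuotientGroup.mk' N := ⟨_, rfl⟩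
  have hπsurj : Function.Surjective π := hπdef ▸ QuotientGroup.mk'_surjective N
  have hπker : π.ker = N := by rw [hπdef]; exact QuotientGroup.ker_mk' N
  obtain ⟨Q, hQdef⟩ : ∃ Q : Subgroup (X ⧸ N), Q = Cfsg.pCore p (X ⧸ N) := ⟨_, rfl⟩
  haveI hQn : Q.Normal := hQdef ▸ Cfsg.pCore_normal p _
  have hQp : IsPGroup p Q := hQdef ▸ pCore_isPGroup' (G := X ⧸ N) p
  have hCQ : centralizer (Q : Set (X ⧸ N)) ≤ Q := by
    rw [hQdef]; exact solvable_centralizer_pCore_le p hcore
  have hQP : Q ≤ (P : Subgroup X).map π := by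
    have := Cfsg.Agent.Lib.Helper16.pCore_le_sylow (P.mapSurjective hπsurj)
    rw [Sylow.coe_mapSurjective] at this
    rw [hQdef]; exact this
  have hKbar : (Nat.card (K.map π)).Coprime p :=
    Nat.Coprime.coprime_dvd_left (Subgroup.card_map_dvd K π) hK
  have hPKbar : (P : Subgroup X).map π ≤ normalizer ((K.map π : Subgroup (X ⧸ N)) : Set (X ⧸ N)) :=
    (Subgroup.map_mono hPK).trans (Subgroup.le_normalizer_map π)
  have hdisj : K.map π ⊓ Q = ⊥ := by
    rw [inf_comm]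
    exact inf_eq_bot_of_isPGroup_of_coprime p _ _ hQp hKbar
  have h1 : K.map π ≤ centralizer (Q : Set (X ⧸ N)) := by
    apply le_centralizer_of_mutually_normalizing
    · rw [Subgroup.normalizer_eq_top_iff.mpr hQn]; exact le_top
    · exact hQP.trans hPKbar
    · exact hdisj
  have h2 : K.map π ≤ K.map π ⊓ Q := le_inf le_rfl (h1.trans hCQ)
  rw [hdisj, le_bot_iff, Subgroup.map_eq_bot_iff] at h2
  rwa [hπker] at h2

variable {G : Type u} [Group G] [Finite G]

/-- ambient form -/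
theorem sylow_invariant_le_ppOf (X : Subgroup G) [Group.IsSolvable ↥X] (p : ℕ) [hp : Fact p.Prime]
    (P : Subgroup G) (hP : IsSylowOf p X P) (K : Subgroup G) (hKX : K ≤ X)
    (hK : (Nat.card K).Coprime p) (hPK : P ≤ normalizer (K : Set G)) : K ≤ ppOf p X := by
  obtain ⟨S, rfl⟩ := hP
  have h1 : K.subgroupOf X ≤ Cfsg.pPrimeCore p ↥X := by
    apply sylow_invariant_le_pPrimeCore p S
    · rw [card_subgroupOf_of_le hKX]; exact hK
    · intro s hs
      have h2 : (s : G) ∈ normalizer (K : Set G) := hPK ⟨s, hs, rfl⟩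
      rw [Subgroup.mem_normalizer_iff] at h2 ⊢
      intro y
      rw [Subgroup.mem_subgroupOf, Subgroup.mem_subgroupOf]
      exact h2 y
  intro k hk
  exact ⟨⟨k, hKX hk⟩, h1 (Subgroup.mem_subgroupOf.mpr hk), rfl⟩

theorem p_ne_two_of_dvd (hG : Cfsg.IsMinSimpleOddOrder G) (p : ℕ) (X : Subgroup G)
    (h : p ∣ Nat.card X) : p ≠ 2 := by
  rintro rfl
  have h1 : 2 ∣ Nat.card G := h.trans (Subgroup.card_subgroup_dvd_card _)
  exact (Nat.not_even_iff_odd.mpr hG.1) (even_iff_two_dvd.mpr h1)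

theorem p_dvd_card_of_ne_bot {p : ℕ} [hp : Fact p.Prime] (X : Subgroup G) (hXp : IsPGroup p X)
    (hX1 : X ≠ ⊥) : p ∣ Nat.card X := (prime_dvd_card_iff X hXp hX1 p hp.out).mpr rfl

/-- Step 2 of Lemma 9.1: if every `P`-invariant `p'`-subgroup of `G` lies in `M`, where `P` is a
nontrivial Sylow `p`-subgroup of the maximal subgroup `M`, then `N_G(P) ≤ M`. -/
theorem normalizer_sylow_le (hG : Cfsg.IsMinSimpleOddOrder G) (M : Subgroup G) (hM : IsCoatom M)
    (p : ℕ) [hp : Fact p.Prime] (P : Subgroup G) (hP : IsSylowOf p M P) (hP1 : P ≠ ⊥)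
    (hinv : ∀ K : Subgroup G, (Nat.card K).Coprime p → P ≤ normalizer (K : Set G) → K ≤ M) :
    normalizer (P : Set G) ≤ M := by
  haveI hsimple : IsSimpleGroup G := hG.2.1
  haveI hMs : Group.IsSolvable ↥M := hG.2.2.2 M hM.1
  have hp2 : p ≠ 2 := p_ne_two_of_dvd hG p P (p_dvd_card_of_ne_bot P hP.isPGroup hP1)
  by_cases hO : ppOf p M = ⊥
  · have h1 : normalizer ((ZJ P : Subgroup G) : Set G) = M :=
      normalizer_eq_of_isCoatom M hM (ZJ P) (ZJ_ne_bot hP.isPGroup hP1)
        ((ZJ_le P).trans hP.le) (le_normalizer_ZJ M (odd_subgroup hG.1 M) p hp2 hO P hP)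
    exact (normalizer_le_normalizer_ZJ P).trans h1.le
  · have h1 : normalizer ((ppOf p M : Subgroup G) : Set G) = M :=
      normalizer_eq_of_isCoatom M hM (ppOf p M) hO (ppOf_le p M) (le_normalizer_ppOf p M)
    intro g hg
    rw [← h1]
    apply mem_normalizer_of_conj_mem'
    intro t ht
    obtain ⟨K, hKdef⟩ : ∃ K : Subgroup G, K = (ppOf p M).map (MulAut.conj g).toMonoidHom := ⟨_, rfl⟩
    have hKcard : (Nat.card K).Coprime p := by
      rw [hKdef, Subgroup.card_map_of_injective (MulAut.conj g).injective]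
      exact ppOf_coprime p M
    have hPK : P ≤ normalizer (K : Set G) := by
      intro x hx
      apply mem_normalizer_of_conj_mem'
      intro k hk
      rw [hKdef] at hk ⊢
      obtain ⟨t', ht', rfl⟩ := hk
      have hx' : g⁻¹ * x * g ∈ P := by
        have := (Subgroup.mem_normalizer_iff.mp (Subgroup.inv_mem _ hg) x).mp hx
        simpa using this
      have h2 : (g⁻¹ * x * g) * t' * (g⁻¹ * x * g)⁻¹ ∈ ppOf p M :=
        (Subgroup.mem_normalizer_iff.mp (le_normalizer_ppOf p M (hP.le hx')) t').mp ht'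
      refine ⟨_, h2, ?_⟩
      simp only [MulEquiv.coe_toMonoidHom, MulAut.conj_apply]
      group
    have hKM : K ≤ M := hinv K hKcard hPK
    have hKpp : K ≤ ppOf p M := sylow_invariant_le_ppOf M p P hP K hKM hKcard hPK
    apply hKpp
    rw [hKdef]
    exact ⟨t, ht, rfl⟩

/-- a Sylow `p`-subgroup `P` of `M` with `N_G(P) ≤ M` is a maximal `p`-subgroup of `G`. -/
theorem sylow_max_of_normalizer_le (M : Subgroup G) (p : ℕ) [hp : Fact p.Prime] (P : Subgroup G)
    (hP : IsSylowOf p M P) (hNP : normalizer (P : Set G) ≤ M)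
    (S : Subgroup G) (hS : IsPGroup p S) (hPS : P ≤ S) : S = P := by
  by_contra hne
  have hlt : P < S := lt_of_le_of_ne hPS (fun e => hne e.symm)
  have h1 := lt_inf_normalizer_of_lt S P hS hlt
  have h2 : S ⊓ normalizer (P : Set G) ≤ M := inf_le_right.trans hNP
  have h3 := IsSylowOf.eq_of_le hP (hS.to_le inf_le_left) h2 h1.le
  exact absurd h3 (ne_of_gt h1)

end Cfsg.Agent.Lib.Helper13.Uniq91a
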