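import Mathlib
import Cfsg.Agent.Lib.Helper13.Uniq91a
import Cfsg.Agent.S0126
import Cfsg.Agent.S1452

/-!
# Bender–Glauberman Lemma 9.1, part B (helper13): auxiliary existence results
-/

set_option autoImplicit false
set_option maxHeartbeats 1000000
set_option linter.style.haveILetI false

namespace Cfsg.Agent.Lib.Helper13.Uniq91b

open Subgroup Cfsg.Agent.Lib.Helper20 Cfsg.Agent.Lib.Helper13.BenderA
  Cfsg.Agent.Lib.Helper13.BenderB Cfsg.Agent.Lib.Helper13.BenderC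
  Cfsg.Agent.Lib.Helper13.FitBasics Cfsg.Agent.Lib.Helper13 Cfsg.Agent.Lib.Helper13.Fit81a
  Cfsg.Agent.Lib.Helper13.Fit81b Cfsg.Agent.Lib.Helper13.Uniq91a
  Cfsg.Agent.Lib.Helper13.OddZJ Cfsg.Agent.Lib.Helper15
  Cfsg.Agent.Lib.Helper13.RankTwoDerived
open scoped commutatorElement Pointwise

universe u

/-- a cyclic group has `p`-rank at most `1`. -/
theorem prankLE_one_of_isCyclic {R : Type*} [Group R] [Finite R] (p : ℕ) [hp : Fact p.Prime]
    (hc : IsCyclic R) : Cfsg.PRankLE p 1 R := by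
  intro A _ hAe
  haveI : IsCyclic A := inferInstance
  obtain ⟨g, hg⟩ := IsCyclic.exists_generator (α := A)
  have h1 : orderOf g = Nat.card A := orderOf_eq_card_of_forall_mem_zpowers hg
  have h2 : g ^ p = 1 := by
    apply Subtype.ext
    rw [Subgroup.coe_pow, Subgroup.coe_one]
    exact hAe g g.2
  have h3 : orderOf g ∣ p := orderOf_dvd_of_pow_eq_one h2
  rw [← h1, pow_one]
  exact Nat.le_of_dvd hp.out.pos h3

theorem prankLE_mono {R : Type*} [Group R] {p j k : ℕ} (hp : 0 < p) (hjk : j ≤ k)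
    (h : Cfsg.PRankLE p j R) : Cfsg.PRankLE p k R :=
  fun A hA hAe => (h A hA hAe).trans (Nat.pow_le_pow_right hp hjk)

variable {G : Type u} [Group G] [Finite G]

/-- `SCN_3(Q)` is nonempty for a `q`-group `Q` of rank at least `3` (`q` odd). -/
theorem exists_scn_three (q : ℕ) [hq : Fact q.Prime] (hq2 : q ≠ 2) (Q : Subgroup G)
    (hQ : IsPGroup q Q) (hr : ¬ Cfsg.PRankLE q 2 ↥Q) :
    ∃ A : Subgroup G, Cfsg.IsSCN Q A ∧ ¬ Cfsg.PRankLE q 2 ↥A := by
  have hnc : ¬ IsCyclic ↥Q := fun hc =>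
    hr (prankLE_mono hq.out.pos (by norm_num) (prankLE_one_of_isCyclic q hc))
  obtain ⟨E, hEn, hEe, hE2⟩ := Cfsg.Agent.S0126.result hq2 hQ hnc
  haveI := hEn
  obtain ⟨A, -, hAn, hAC, hA3⟩ := Cfsg.Agent.S1452.result q hq2 hQ hr E hEe hE2
  refine ⟨A.map Q.subtype, ⟨Subgroup.map_subtype_le _, ?_, ?_⟩, ?_⟩
  · have h1 := Subgroup.le_normalizer_map (H := A) Q.subtype
    rw [Subgroup.normalizer_eq_top, ← MonoidHom.range_eq_map, Subgroup.range_subtype] at h1
    exact h1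
  · apply le_antisymm
    · intro x hx
      obtain ⟨hxQ, hxC⟩ := Subgroup.mem_inf.mp hx
      have h1 : (⟨x, hxQ⟩ : ↥Q) ∈ centralizer (A : Set ↥Q) := by
        rw [Subgroup.mem_centralizer_iff]
        intro a ha
        apply Subtype.ext
        exact Subgroup.mem_centralizer_iff.mp hxC (a : G) ⟨a, ha, rfl⟩
      rw [hAC] at h1
      exact ⟨_, h1, rfl⟩
    · rintro _ ⟨a, ha, rfl⟩
      refine Subgroup.mem_inf.mpr ⟨a.2, ?_⟩
      rw [Subgroup.mem_centralizer_iff]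
      rintro _ ⟨b, hb, rfl⟩
      have h1 : a ∈ centralizer (A : Set ↥Q) := by rw [hAC]; exact ha
      have h2 := Subgroup.mem_centralizer_iff.mp h1 b hb
      exact congrArg Subtype.val h2
  · intro h
    apply hA3
    exact prankLE_of_injective
      (Subgroup.equivMapOfInjective A Q.subtype Q.subtype_injective).toMonoidHom
      (MulEquiv.injective _) h

/-- a maximal elementary abelian subgroup of order at least `q³` in a subgroup of rank at least 3. -/
theorem exists_max_elementary (q : ℕ) [hq : Fact q.Prime] (F : Subgroup G)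
    (hr : ¬ Cfsg.PRankLE q 2 ↥F) :
    ∃ A₀ : Subgroup G, A₀ ≤ F ∧ Cfsg.IsElementaryAbelian q A₀ ∧ q ^ 3 ≤ Nat.card A₀ ∧
      ∀ B : Subgroup G, B ≤ F → Cfsg.IsElementaryAbelian q B → A₀ ≤ B → B = A₀ := by
  unfold Cfsg.PRankLE at hr
  push Not at hr
  obtain ⟨A₁, hA₁c, hA₁e, hA₁card⟩ := hr
  obtain ⟨S, hSdef⟩ : ∃ S : Set (Subgroup G), S = {A | A ≤ F ∧ Cfsg.IsElementaryAbelian q A ∧
      q ^ 3 ≤ Nat.card A} := ⟨_, rfl⟩
  have hne : S.Nonempty := by
    refine ⟨A₁.map F.subtype, ?_⟩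
    rw [hSdef]
    refine ⟨Subgroup.map_subtype_le _, ⟨?_, ?_⟩, ?_⟩
    · refine ⟨⟨?_⟩⟩
      rintro ⟨_, ⟨u, hu, rfl⟩⟩ ⟨_, ⟨v, hv, rfl⟩⟩
      apply Subtype.ext
      have := hA₁c.is_comm.comm ⟨u, hu⟩ ⟨v, hv⟩
      exact congrArg (fun w : A₁ => ((w : F) : G)) this
    · rintro _ ⟨b, hb, rfl⟩
      have := hA₁e b hb
      have h' := congrArg Subtype.val this
      simpa using h'
    · rw [Subgroup.card_map_of_injective F.subtype_injective]
      have hp : IsPGroup q A₁ := by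
        intro a
        refine ⟨1, ?_⟩
        rw [pow_one]
        apply Subtype.ext
        rw [Subgroup.coe_pow, Subgroup.coe_one]
        exact hA₁e a a.2
      obtain ⟨n, hn⟩ := IsPGroup.iff_card.mp hp
      rw [hn] at hA₁card ⊢
      apply Nat.pow_le_pow_right hq.out.pos
      have := (Nat.pow_lt_pow_iff_right hq.out.one_lt).mp hA₁card
      omega
  obtain ⟨A₀, hA₀S, hA₀max⟩ := WellFounded.has_min (wellFounded_gt (α := Subgroup G)) S hne
  rw [hSdef] at hA₀S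
  obtain ⟨h1, h2, h3⟩ := hA₀S
  refine ⟨A₀, h1, h2, h3, ?_⟩
  intro B hBF hBe hAB
  by_contra hne'
  have hlt : A₀ < B := lt_of_le_of_ne hAB (fun e => hne' e.symm)
  apply hA₀max B _ hlt
  rw [hSdef]
  exact ⟨hBF, hBe, h3.trans (Nat.le_of_dvd Nat.card_pos (Subgroup.card_dvd_of_le hAB))⟩

/-- Frattini argument inside a subgroup. -/
theorem frattini_ambient (H : Subgroup G) (p : ℕ) [hp : Fact p.Prime] (P : Subgroup G)
    (hP : IsSylowOf p H P) (V : Subgroup G) (hPV : P ≤ V) (hVH : V ≤ H)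
    (hHV : H ≤ normalizer (V : Set G)) : H ≤ normalizer (P : Set G) ⊔ V := by
  obtain ⟨S, rfl⟩ := hP
  haveI hn : (V.subgroupOf H).Normal := (Subgroup.normal_subgroupOf_iff_le_normalizer hVH).mpr hHV
  have hle : (S : Subgroup ↥H) ≤ V.subgroupOf H := by
    intro s hs
    rw [Subgroup.mem_subgroupOf]
    exact hPV ⟨s, hs, rfl⟩
  have hfr := Sylow.normalizer_sup_eq_top' S hle
  intro x hx
  have h1 : (⟨x, hx⟩ : ↥H) ∈ (⊤ : Subgroup ↥H) := Subgroup.mem_top _
  rw [← hfr] at h1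
  have h2 : x ∈ (normalizer ((S : Sylow p ↥H) : Set ↥H) ⊔ V.subgroupOf H).map H.subtype :=
    ⟨_, h1, rfl⟩
  rw [Subgroup.map_sup] at h2
  have h3 : (normalizer ((S : Sylow p ↥H) : Set ↥H)).map H.subtype ⊔ (V.subgroupOf H).map H.subtype ≤
      normalizer (((S : Subgroup ↥H).map H.subtype : Subgroup G) : Set G) ⊔ V := by
    apply sup_le_sup
    · exact Subgroup.le_normalizer_map H.subtype
    · rw [Subgroup.subgroupOf_map_subtype]; exact inf_le_left
  exact h3 h2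

end Cfsg.Agent.Lib.Helper13.Uniq91b
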