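import Mathlib
import Cfsg.Agent.Lib.Helper13.Uniq91b
import Cfsg.Agent.Lib.Helper20.CoprimeGenK
import Cfsg.Agent.S1397

/-!
# Bender–Glauberman Lemma 9.1 (helper13)
-/

set_option autoImplicit false
set_option maxHeartbeats 2000000
set_option linter.style.haveILetI false

namespace Cfsg.Agent.Lib.Helper13.Uniq91c

open Subgroup Cfsg.Agent.Lib.Helper20 Cfsg.Agent.Lib.Helper13.BenderA
  Cfsg.Agent.Lib.Helper13.BenderB Cfsg.Agent.Lib.Helper13.BenderC
  Cfsg.Agent.Lib.Helper13.FitBasics Cfsg.Agent.Lib.Helper13 Cfsg.Agent.Lib.Helper13.Fit81a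
  Cfsg.Agent.Lib.Helper13.Fit81b Cfsg.Agent.Lib.Helper13.Uniq91a Cfsg.Agent.Lib.Helper13.Uniq91b
  Cfsg.Agent.Lib.Helper13.OddZJ Cfsg.Agent.Lib.Helper15
  Cfsg.Agent.Lib.Helper13.RankTwoDerived
  Cfsg.Agent.Lib.Lead.GlaubermanRepl Cfsg.Agent.Lib.Lead.PLocalZJ
open scoped commutatorElement Pointwise

universe u

variable {G : Type u} [Group G] [Finite G]

theorem coatom_eq_of_le {H M : Subgroup G} (hH : IsCoatom H) (hM : IsCoatom M) (h : H ≤ M) :
    H = M := ((hH.le_iff_eq hM.1).mp h).symm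

/-- **BG Lemma 9.1**, case (b), for an arbitrary nontrivial `p`-subgroup `B` of `M`. -/
theorem uniq_of_invariant (hG : Cfsg.IsMinSimpleOddOrder G) (M : Subgroup G) (hM : IsCoatom M)
    (p : ℕ) [hp : Fact p.Prime] (B : Subgroup G) (hBM : B ≤ M) (hBp : IsPGroup p B) (hB1 : B ≠ ⊥)
    (hinv : ∀ Y : Subgroup G, (Nat.card Y).Coprime p → B ≤ normalizer (Y : Set G) → Y ≤ M) :
    ∀ H : Subgroup G, IsCoatom H → B ≤ H → H = M := by
  classical
  haveI hsimple : IsSimpleGroup G := hG.2.1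
  have hp2 : p ≠ 2 := p_ne_two_of_dvd hG p B (p_dvd_card_of_ne_bot B hBp hB1)
  by_contra hcon
  push Not at hcon
  obtain ⟨H₀, hH₀, hBH₀, hH₀M⟩ := hcon
  obtain ⟨Q, hQdef⟩ : ∃ Q : ℕ → Prop, Q = fun n => ∃ H R : Subgroup G, IsCoatom H ∧ H ≠ M ∧ R ≤ H ∧
      R ≤ M ∧ IsPGroup p R ∧ B ≤ R ∧ Nat.card R = n := ⟨_, rfl⟩
  have hQB : Q (Nat.card B) := by
    rw [hQdef]; exact ⟨H₀, B, hH₀, hH₀M, hBH₀, hBM, hBp, le_rfl, rfl⟩
  have hspec : Q (Nat.findGreatest Q (Nat.card G)) :=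
    Nat.findGreatest_spec (Nat.le_of_dvd Nat.card_pos (Subgroup.card_subgroup_dvd_card B)) hQB
  have hle : ∀ n, n ≤ Nat.card G → Q n → n ≤ Nat.findGreatest Q (Nat.card G) :=
    fun n hn hQn => Nat.le_findGreatest hn hQn
  have hspec' : ∃ H R : Subgroup G, IsCoatom H ∧ H ≠ M ∧ R ≤ H ∧
      R ≤ M ∧ IsPGroup p R ∧ B ≤ R ∧ Nat.card R = Nat.findGreatest Q (Nat.card G) := by
    revert hspec
    generalize Nat.findGreatest Q (Nat.card G) = n
    intro h
    rw [hQdef] at h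
    exact h
  obtain ⟨H, R, hH, hHM, hRH, hRM, hRp, hBR, hRcard⟩ := hspec'
  have hmax : ∀ H' R' : Subgroup G, IsCoatom H' → H' ≠ M → R' ≤ H' → R' ≤ M → IsPGroup p R' →
      B ≤ R' → Nat.card R' ≤ Nat.card R := by
    intro H' R' h1 h2 h3 h4 h5 h6
    rw [hRcard]
    apply hle _ (Nat.le_of_dvd Nat.card_pos (Subgroup.card_subgroup_dvd_card R'))
    rw [hQdef]
    exact ⟨H', R', h1, h2, h3, h4, h5, h6, rfl⟩
  haveI hHs : Group.IsSolvable ↥H := hG.2.2.2 H hH.1
  haveI hMs : Group.IsSolvable ↥M := hG.2.2.2 M hM.1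
  have hBH : B ≤ H := hBR.trans hRH
  have hR1 : R ≠ ⊥ := fun h => hB1 (le_bot_iff.mp (h ▸ hBR))
  obtain ⟨P, hP, hRP⟩ := exists_isSylowOf_ge M R hRp hRM
  have hBP : B ≤ P := hBR.trans hRP
  have hP1 : P ≠ ⊥ := fun h => hB1 (le_bot_iff.mp (h ▸ hBP))
  have hinvP : ∀ K : Subgroup G, (Nat.card K).Coprime p → P ≤ normalizer (K : Set G) → K ≤ M :=
    fun K hK hPK => hinv K hK (hBP.trans hPK)
  have hNP : normalizer (P : Set G) ≤ M := normalizer_sylow_le hG M hM p P hP hP1 hinvP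
  -- Step 3: R = P
  have hRP' : R = P := by
    by_contra hne
    have hlt : R < P := lt_of_le_of_ne hRP hne
    have h1 := lt_inf_normalizer_of_lt P R hP.isPGroup hlt
    have claim : ∀ X : Subgroup G, X ≠ ⊥ → IsPGroup p X →
        normalizer (R : Set G) ≤ normalizer (X : Set G) → normalizer (X : Set G) ≤ M := by
      intro X hX1 hXp hRX
      obtain ⟨H', hH', hXH'⟩ := exists_coatom_ge (normalizer (X : Set G))
        (normalizer_ne_top_of_isPGroup hG p X hXp hX1)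
      by_cases hH'M : H' = M
      · rw [← hH'M]; exact hXH'
      · exfalso
        have h2 := hmax H' (P ⊓ normalizer (R : Set G)) hH' hH'M
          (inf_le_right.trans (hRX.trans hXH')) (inf_le_left.trans hP.le)
          (hP.isPGroup.to_le inf_le_left) (hBR.trans h1.le)
        exact absurd (card_lt_of_lt h1) (not_lt.mpr h2)
    have hNR := claim R hR1 hRp le_rfl
    have hNZ := claim (ZJ R) (ZJ_ne_bot hRp hR1) (hRp.to_le (ZJ_le R)) (normalizer_le_normalizer_ZJ R)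
    obtain ⟨R₂, hR₂, hRR₂⟩ := exists_isSylowOf_ge H R hRp hRH
    have hR₂R : R₂ = R := by
      by_contra hne2
      have hlt2 : R < R₂ := lt_of_le_of_ne hRR₂ (fun e => hne2 e.symm)
      have h2 := lt_inf_normalizer_of_lt R₂ R hR₂.isPGroup hlt2
      have h3 := hmax H (R₂ ⊓ normalizer (R : Set G)) hH hHM (inf_le_left.trans hR₂.le)
        (inf_le_right.trans hNR) (hR₂.isPGroup.to_le inf_le_left) (hBR.trans h2.le)
      exact absurd (card_lt_of_lt h2) (not_lt.mpr h3)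
    have hRsyl : IsSylowOf p H R := hR₂R ▸ hR₂
    have hppH : ppOf p H ≤ M := hinv _ (ppOf_coprime p H) (hBH.trans (le_normalizer_ppOf p H))
    have hHM' : H ≤ M := by
      intro x hx
      obtain ⟨k, hk, n, hn, rfl⟩ :=
        exists_mul_normalizer_ZJ H (odd_subgroup hG.1 H) p hp2 R hRsyl x hx
      exact M.mul_mem (hppH hk) (hNZ (Subgroup.mem_inf.mp hn).2)
    exact hHM (coatom_eq_of_le hH hM hHM')
  -- Step 4
  subst hRP'
  have hPmax := sylow_max_of_normalizer_le M p R hP hNP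
  have hPsylH : IsSylowOf p H R := by
    obtain ⟨P₂, hP₂, hPP₂⟩ := exists_isSylowOf_ge H R hRp hRH
    have := hPmax P₂ hP₂.isPGroup hPP₂
    rw [this] at hP₂; exact hP₂
  have hFM : Cfsg.fittingOf H ≤ M := by
    rw [fittingOf_eq_iSup]
    apply iSup_le
    intro q
    by_cases hqp : (q : ℕ) = p
    · rw [hqp]
      obtain ⟨S, hS⟩ := hPsylH
      refine le_trans ?_ hRM
      rw [← hS]
      unfold Cfsg.pCoreOf
      exact Subgroup.map_mono (Cfsg.Agent.Lib.Helper16.pCore_le_sylow S)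
    · apply hinv
      · haveI : Fact (q : ℕ).Prime := ⟨q.2⟩
        obtain ⟨n, hn⟩ := IsPGroup.iff_card.mp (pCoreOf_isPGroup (q : ℕ) H)
        rw [hn]
        exact Nat.Coprime.pow_left n ((Nat.coprime_primes q.2 hp.out).mpr hqp)
      · exact hBH.trans (le_normalizer_pCoreOf (q : ℕ) H)
  by_cases hrank : Cfsg.RankLE 2 ↥(Cfsg.fittingOf H)
  · have hder := commutator_le_fittingOf_of_rankLE_two H hHs (odd_subgroup hG.1 H) hrank
    obtain ⟨V, hVdef⟩ : ∃ V : Subgroup G, V = R ⊔ Cfsg.fittingOf H := ⟨_, rfl⟩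
    have hRV : R ≤ V := hVdef ▸ le_sup_left
    have hFV : Cfsg.fittingOf H ≤ V := hVdef ▸ le_sup_right
    have hVH : V ≤ H := hVdef ▸ sup_le hRH (fittingOf_le H)
    have hVM : V ≤ M := hVdef ▸ sup_le hRM hFM
    have hHV : H ≤ normalizer (V : Set G) := by
      intro h hh
      apply mem_normalizer_of_conj_mem'
      intro v hv
      have h1 : h * v * h⁻¹ = ⁅h, v⁆ * v := by rw [commutatorElement_def]; group
      rw [h1]
      exact V.mul_mem (hFV (hder (Subgroup.commutator_mem_commutator hh (hVH hv)))) hv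
    have hfr := frattini_ambient H p R hPsylH V hRV hVH hHV
    have hHM' : H ≤ M := hfr.trans (sup_le hNP hVM)
    exact hHM (coatom_eq_of_le hH hM hHM')
  · unfold Cfsg.RankLE at hrank
    push Not at hrank
    obtain ⟨q, hq, hqr⟩ := hrank
    haveI : Fact q.Prime := ⟨hq⟩
    obtain ⟨A₀, hA₀F, hA₀e, hA₀3, hA₀max⟩ := exists_max_elementary q (Cfsg.fittingOf H) hqr
    have h81 := Cfsg.Agent.S1397.result hG H hH q A₀ hA₀F hA₀e hA₀3 hA₀max
    by_cases hFq : IsPGroup q ↥(Cfsg.fittingOf H)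
    · obtain ⟨Sq⟩ : Nonempty (Sylow q ↥H) := inferInstance
      obtain ⟨Q', hQ'def⟩ : ∃ Q' : Subgroup G, Q' = (Sq : Subgroup ↥H).map H.subtype := ⟨_, rfl⟩
      have hQ'p : IsPGroup q Q' := hQ'def ▸ Sq.isPGroup'.map _
      have hFQ' : Cfsg.fittingOf H ≤ Q' := by
        have h1 : Cfsg.fittingOf H ≤ Cfsg.pCoreOf q H :=
          le_pCoreOf q H _ (fittingOf_le H) (le_normalizer_fittingOf H) hFq
        refine h1.trans ?_
        rw [hQ'def]
        unfold Cfsg.pCoreOf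
        exact Subgroup.map_mono (Cfsg.Agent.Lib.Helper16.pCore_le_sylow Sq)
      have hQ'r : ¬ Cfsg.PRankLE q 2 ↥Q' := by
        intro h
        apply hqr
        exact prankLE_of_injective (Subgroup.inclusion hFQ') (Subgroup.inclusion_injective hFQ') h
      have hA₀p : IsPGroup q A₀ := by
        intro a
        refine ⟨1, ?_⟩
        rw [pow_one]
        apply Subtype.ext
        rw [Subgroup.coe_pow, Subgroup.coe_one]
        exact hA₀e.2 a a.2
      have hA₀1 : A₀ ≠ ⊥ := by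
        intro h
        rw [h, Subgroup.card_bot] at hA₀3
        have := Nat.one_lt_pow (n := 3) (by norm_num) hq.one_lt
        omega
      have hq2 : q ≠ 2 := p_ne_two_of_dvd hG q A₀ (p_dvd_card_of_ne_bot A₀ hA₀p hA₀1)
      obtain ⟨A, hAscn, hA3⟩ := exists_scn_three q hq2 Q' hQ'p hQ'r
      rw [hQ'def] at hAscn
      obtain ⟨hAF, hAU⟩ := (h81.2 hFq Sq).2 A hAscn hA3
      have := hAU.unique ⟨hH, hAF.trans (fittingOf_le H)⟩ ⟨hM, hAF.trans hFM⟩
      exact hHM this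
    · have hU := h81.1 hFq
      have := hU.unique ⟨hH, inf_le_left.trans (fittingOf_le H)⟩ ⟨hM, inf_le_left.trans hFM⟩
      exact hHM this

end Cfsg.Agent.Lib.Helper13.Uniq91c
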