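import Mathlib
import Cfsg.Agent.Lib.Helper13.Uniq91c
import Cfsg.Agent.S1398

/-!
# Bender–Glauberman Corollary 9.2 and basic facts on uniqueness subgroups (helper13)
-/

set_option autoImplicit false
set_option maxHeartbeats 1000000
set_option linter.style.haveILetI false

namespace Cfsg.Agent.Lib.Helper13.Uniq92

open Subgroup Cfsg.Agent.Lib.Helper13.Fit81b Cfsg.Agent.Lib.Helper13.Uniq91b
  Cfsg.Agent.Lib.Helper13.Uniq91c
open scoped commutatorElement Pointwise

universe u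

variable {G : Type u} [Group G] [Finite G]

theorem center_eq_bot (hG : Cfsg.IsMinSimpleOddOrder G) : center G = ⊥ := by
  haveI hsimple : IsSimpleGroup G := hG.2.1
  rcases (inferInstance : (center G).Normal).eq_bot_or_eq_top with h | h
  · exact h
  · exfalso
    apply hG.2.2.1
    refine ⟨⟨fun a b => ?_⟩⟩
    have : a ∈ center G := h ▸ Subgroup.mem_top a
    exact ((Subgroup.mem_center_iff.mp this) b).symm

theorem centralizer_ne_top (hG : Cfsg.IsMinSimpleOddOrder G) (X : Subgroup G) (hX : X ≠ ⊥) :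
    centralizer (X : Set G) ≠ ⊤ := by
  intro h
  apply hX
  rw [eq_bot_iff, ← center_eq_bot hG]
  intro x hx
  rw [Subgroup.mem_center_iff]
  intro g
  have hg : g ∈ centralizer (X : Set G) := h ▸ Subgroup.mem_top g
  exact (Subgroup.mem_centralizer_iff.mp hg x hx).symm

theorem centralizer_singleton_ne_top' (hG : Cfsg.IsMinSimpleOddOrder G) (b : G) (hb : b ≠ 1) :
    centralizer ({b} : Set G) ≠ ⊤ := by
  intro h
  apply hb
  have : b ∈ center G := by
    rw [Subgroup.mem_center_iff]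
    intro g
    have hg : g ∈ centralizer ({b} : Set G) := h ▸ Subgroup.mem_top g
    exact (Subgroup.mem_centralizer_iff.mp hg b rfl).symm
  rw [center_eq_bot hG, Subgroup.mem_bot] at this
  exact this

theorem ne_bot_of_inUniqueMaximal (hG : Cfsg.IsMinSimpleOddOrder G) (L : Subgroup G)
    (hL : Cfsg.InUniqueMaximal L) : L ≠ ⊥ := by
  rintro rfl
  obtain ⟨M, ⟨hM, -⟩, huniq⟩ := hL
  -- some element outside M
  obtain ⟨g, hg⟩ : ∃ g : G, g ∉ M := by
    by_contra h
    push Not at h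
    exact hM.1 (eq_top_iff.mpr (fun g _ => h g))
  have htop : zpowers g = ⊤ := by
    by_contra hne
    obtain ⟨H, hH, hgH⟩ := exists_coatom_ge (zpowers g) hne
    have := huniq H ⟨hH, bot_le⟩
    rw [this] at hgH
    exact hg (hgH (Subgroup.mem_zpowers g))
  apply hG.2.2.1
  refine ⟨⟨fun a b => ?_⟩⟩
  have ha : a ∈ zpowers g := htop ▸ Subgroup.mem_top a
  have hb : b ∈ zpowers g := htop ▸ Subgroup.mem_top b
  obtain ⟨i, rfl⟩ := Subgroup.mem_zpowers_iff.mp ha
  obtain ⟨j, rfl⟩ := Subgroup.mem_zpowers_iff.mp hb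
  rw [← zpow_add, ← zpow_add, add_comm]

theorem inUniqueMaximal_of_le {B K : Subgroup G} (hB : Cfsg.InUniqueMaximal B) (hBK : B ≤ K)
    (hK : K ≠ ⊤) : Cfsg.InUniqueMaximal K := by
  obtain ⟨M, ⟨hM, hBM⟩, huniq⟩ := hB
  obtain ⟨H, hH, hKH⟩ := exists_coatom_ge K hK
  have hHM : H = M := huniq H ⟨hH, hBK.trans hKH⟩
  refine ⟨M, ⟨hM, hHM ▸ hKH⟩, ?_⟩
  rintro H' ⟨hH', hKH'⟩
  exact huniq H' ⟨hH', hBK.trans hKH'⟩

/-- the unique maximal subgroup containing a uniqueness subgroup contains every proper overgroup. -/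
theorem le_of_inUniqueMaximal {L X M : Subgroup G} (hM : IsCoatom M) (hLM : L ≤ M)
    (hL : Cfsg.InUniqueMaximal L) (hLX : L ≤ X) (hX : X ≠ ⊤) : X ≤ M := by
  obtain ⟨H, hH, hXH⟩ := exists_coatom_ge X hX
  have := hL.unique ⟨hH, hLX.trans hXH⟩ ⟨hM, hLM⟩
  rw [← this]; exact hXH

/-- **BG Corollary 9.2**. -/
theorem uniq_of_centralizes (hG : Cfsg.IsMinSimpleOddOrder G) (L K : Subgroup G)
    (hL : Cfsg.InUniqueMaximal L) (hK : K ≤ centralizer (L : Set G)) (hKr : ¬ Cfsg.RankLE 1 K) :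
    Cfsg.InUniqueMaximal K := by
  classical
  have hL1 := ne_bot_of_inUniqueMaximal hG L hL
  obtain ⟨M, ⟨hM, hLM⟩, huniq⟩ := id hL
  unfold Cfsg.RankLE at hKr
  push Not at hKr
  obtain ⟨p, hp, hKp⟩ := hKr
  haveI : Fact p.Prime := ⟨hp⟩
  unfold Cfsg.PRankLE at hKp
  push Not at hKp
  obtain ⟨B₀, hB₀c, hB₀e, hB₀card⟩ := hKp
  obtain ⟨B, hBdef⟩ : ∃ B : Subgroup G, B = B₀.map K.subtype := ⟨_, rfl⟩
  have hBK : B ≤ K := hBdef ▸ Subgroup.map_subtype_le _
  have hBe : Cfsg.IsElementaryAbelian p B := by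
    rw [hBdef]
    refine ⟨⟨⟨?_⟩⟩, ?_⟩
    · rintro ⟨_, ⟨u, hu, rfl⟩⟩ ⟨_, ⟨v, hv, rfl⟩⟩
      apply Subtype.ext
      have := hB₀c.is_comm.comm ⟨u, hu⟩ ⟨v, hv⟩
      exact congrArg (fun w : B₀ => ((w : K) : G)) this
    · rintro _ ⟨b, hb, rfl⟩
      have := hB₀e b hb
      have h' := congrArg Subtype.val this
      simpa using h'
  have hBcard : p ^ 1 < Nat.card B := by
    rw [hBdef, Subgroup.card_map_of_injective K.subtype_injective]; exact hB₀card
  have hBnc : ¬ IsCyclic B := by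
    intro hc
    have h1 := prankLE_one_of_isCyclic p hc ⊤ ⟨⟨fun a b => Subtype.ext (hBe.1.is_comm.comm a.1 b.1)⟩⟩
      (fun a _ => by
        apply Subtype.ext
        rw [Subgroup.coe_pow, Subgroup.coe_one]
        exact hBe.2 a a.2)
    rw [Subgroup.card_top] at h1
    omega
  have hcent : ∀ b ∈ B, b ≠ 1 → centralizer ({b} : Set G) ≤ M := by
    intro b hb hb1
    apply le_of_inUniqueMaximal hM hLM hL _ (centralizer_singleton_ne_top' hG b hb1)
    intro l hl
    rw [Subgroup.mem_centralizer_iff]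
    intro x hx
    rw [Set.mem_singleton_iff] at hx
    rw [hx]
    exact (Subgroup.mem_centralizer_iff.mp (hK (hBK hb)) l hl).symm
  have hB1 : B ≠ ⊥ := by
    rintro rfl
    exact hBnc inferInstance
  have hBM : B ≤ M := by
    obtain ⟨b, hbB, hb1⟩ := (B.bot_or_exists_ne_one).resolve_left hB1
    refine le_trans ?_ (hcent b hbB hb1)
    intro x hx
    rw [Subgroup.mem_centralizer_iff]
    intro y hy
    rw [Set.mem_singleton_iff] at hy
    rw [hy]
    have := hBe.1.is_comm.comm ⟨b, hbB⟩ ⟨x, hx⟩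
    exact congrArg Subtype.val this
  have hBU := Cfsg.Agent.S1398.result hG M hM p B hBM hBe hBnc (Or.inl hcent)
  apply inUniqueMaximal_of_le hBU hBK
  intro hKtop
  apply centralizer_ne_top hG L hL1
  rw [eq_top_iff, ← hKtop]; exact hK

end Cfsg.Agent.Lib.Helper13.Uniq92
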