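import Mathlib
import Cfsg.Prelude.Def_OddOrderLocal
import Cfsg.Agent.Lib.Helper14.LinRep
import Cfsg.Agent.Lib.Helper13.SZConjA

/-!
# A `p`-group acting on an elementary abelian group of order `p²` (helper13)
-/

set_option autoImplicit false
set_option maxHeartbeats 1000000
set_option linter.style.haveILetI false

namespace Cfsg.Agent.Lib.Helper13.Uniq93a

open Subgroup
open scoped Pointwise

universe u

variable {G : Type u} [Group G] [Finite G]

/-- A `p`-subgroup `X` normalizing a subgroup `T` of order `p²`: `|X : C_X(T)| ≤ p`. -/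
theorem card_le_mul_card_inf_centralizer (p : ℕ) [hp : Fact p.Prime] (T X : Subgroup G)
    (hT : Nat.card T = p ^ 2) (hX : IsPGroup p X) (hXT : X ≤ normalizer (T : Set G)) :
    Nat.card X ≤ p * Nat.card (X ⊓ centralizer (T : Set G) : Subgroup G) := by
  classical
  have hpp := hp.out
  obtain ⟨φ, hφ⟩ : ∃ φ : ↥X →* MulAut ↥T, ∀ (x : ↥X) (t : ↥T), ((φ x t : ↥T) : G) = x * t * (x : G)⁻¹ :=
    ⟨(Cfsg.Agent.Lib.Helper14.LinRep.conjAut T).comp (Subgroup.inclusion hXT), fun _ _ => rfl⟩
  letI act : MulAction ↥X ↥T := MulAction.compHom ↥T φ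
  have hsmul : ∀ (x : ↥X) (t : ↥T), ((x • t : ↥T) : G) = x * t * (x : G)⁻¹ := fun x t => hφ x t
  -- fixed points
  obtain ⟨Z₀, hZ₀def⟩ : ∃ Z₀ : Subgroup G, Z₀ = T ⊓ centralizer (X : Set G) := ⟨_, rfl⟩
  have hZ₀T : Z₀ ≤ T := hZ₀def ▸ inf_le_left
  have hfix : ∀ t : ↥T, t ∈ MulAction.fixedPoints ↥X ↥T ↔ (t : G) ∈ Z₀ := by
    intro t
    rw [MulAction.mem_fixedPoints, hZ₀def, Subgroup.mem_inf, Subgroup.mem_centralizer_iff]
    constructor
    · intro h
      refine ⟨t.2, ?_⟩
      intro x hx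
      have := congrArg Subtype.val (h ⟨x, hx⟩)
      rw [hsmul] at this
      simp only at this
      calc x * (t : G) = (x * t * x⁻¹) * x := by group
        _ = t * x := by rw [this]
    · rintro ⟨-, h⟩ x
      apply Subtype.ext
      rw [hsmul, h x x.2]
      group
  have hcardfix : Nat.card (MulAction.fixedPoints ↥X ↥T) = Nat.card Z₀ := by
    apply Nat.card_congr
    refine ⟨fun t => ⟨(t.1 : G), (hfix t.1).mp t.2⟩, fun z => ⟨⟨z.1, hZ₀T z.2⟩, (hfix _).mpr z.2⟩, ?_, ?_⟩
    · intro t; rfl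
    · intro z; rfl
  have hmod := hX.card_modEq_card_fixedPoints ↥T
  rw [hcardfix, hT] at hmod
  have hpZ₀ : p ∣ Nat.card Z₀ := by
    have h1 : p ∣ p ^ 2 := dvd_pow_self p (by norm_num)
    exact (Nat.modEq_zero_iff_dvd.mp ((hmod.symm).trans (Nat.modEq_zero_iff_dvd.mpr h1)))
  by_cases hall : Z₀ = T
  · -- X centralizes T
    have hXC : X ≤ centralizer (T : Set G) := by
      rw [Subgroup.le_centralizer_iff, ← hall, hZ₀def]
      exact inf_le_right
    rw [inf_eq_left.mpr hXC]
    exact Nat.le_mul_of_pos_left _ hpp.pos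
  · have hlt : Z₀ < T := lt_of_le_of_ne hZ₀T hall
    obtain ⟨t, htT, htZ⟩ := SetLike.exists_of_lt hlt
    -- the orbit of t
    have hidx := MulAction.index_stabilizer (G := ↥X) (x := (⟨t, htT⟩ : ↥T))
    have hdvd : (MulAction.stabilizer ↥X (⟨t, htT⟩ : ↥T)).index ∣ Nat.card ↥X :=
      Subgroup.index_dvd_card _
    obtain ⟨n, hn⟩ := IsPGroup.iff_card.mp hX
    obtain ⟨k, hk, hk'⟩ := (Nat.dvd_prime_pow hpp).mp (hn ▸ hdvd)
    -- the orbit avoids the fixed points
    have horb : (MulAction.orbit ↥X (⟨t, htT⟩ : ↥T)).ncard < p ^ 2 := by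
      have hsub : MulAction.orbit ↥X (⟨t, htT⟩ : ↥T) ⊆ (Set.univ : Set ↥T) \ {1} := by
        rintro s ⟨x, rfl⟩
        refine ⟨Set.mem_univ _, ?_⟩
        intro h1
        rw [Set.mem_singleton_iff] at h1
        apply htZ
        have h2 : (⟨t, htT⟩ : ↥T) = x⁻¹ • (1 : ↥T) := by
          rw [← h1, inv_smul_smul]
        have h3 : x⁻¹ • (1 : ↥T) = 1 := by
          apply Subtype.ext
          rw [hsmul]; simp
        rw [h3] at h2
        have h4 : t = 1 := congrArg Subtype.val h2
        rw [h4]; exact Z₀.one_mem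
      have h1 := Set.ncard_le_ncard hsub (Set.toFinite _)
      have h2 : ((Set.univ : Set ↥T) \ {1}).ncard = p ^ 2 - 1 := by
        rw [Set.ncard_sdiff (by simp), Set.ncard_univ, hT, Set.ncard_singleton]
      have : 0 < p ^ 2 := pow_pos hpp.pos 2
      omega
    rw [← hidx, hk'] at horb
    have hk1 : k ≤ 1 := by
      have := (Nat.pow_lt_pow_iff_right hpp.one_lt).mp horb
      omega
    have hidxle : (MulAction.stabilizer ↥X (⟨t, htT⟩ : ↥T)).index ≤ p := by
      rw [hk']
      calc p ^ k ≤ p ^ 1 := Nat.pow_le_pow_right hpp.pos hk1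
        _ = p := pow_one p
    -- the stabilizer centralizes T
    have hstab : ∀ x : ↥X, x ∈ MulAction.stabilizer ↥X (⟨t, htT⟩ : ↥T) →
        (x : G) ∈ X ⊓ centralizer (T : Set G) := by
      intro x hx
      refine Subgroup.mem_inf.mpr ⟨x.2, ?_⟩
      rw [MulAction.mem_stabilizer_iff] at hx
      have hxt : (x : G) * t * (x : G)⁻¹ = t := by
        have := congrArg Subtype.val hx
        rw [hsmul] at this
        exact this
      -- the subgroup of T centralized by x
      obtain ⟨D, hDdef⟩ : ∃ D : Subgroup G, D = T ⊓ centralizer ({(x : G)} : Set G) := ⟨_, rfl⟩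
      have hZD : Z₀ ≤ D := by
        rw [hZ₀def, hDdef]
        apply inf_le_inf_left
        apply Subgroup.centralizer_le
        intro y hy
        rw [Set.mem_singleton_iff] at hy
        rw [hy]; exact x.2
      have htD : t ∈ D := by
        rw [hDdef]
        refine Subgroup.mem_inf.mpr ⟨htT, ?_⟩
        rw [Subgroup.mem_centralizer_iff]
        intro y hy
        rw [Set.mem_singleton_iff] at hy
        rw [hy]
        calc (x : G) * t = ((x : G) * t * (x : G)⁻¹) * x := by group
          _ = t * x := by rw [hxt]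
      have hDT : D ≤ T := hDdef ▸ inf_le_left
      have hZDlt : Z₀ < D := lt_of_le_of_ne hZD (fun h => htZ (h ▸ htD))
      have hDcard : Nat.card D = p ^ 2 := by
        have h1 : Nat.card D ∣ p ^ 2 := hT ▸ Subgroup.card_dvd_of_le hDT
        obtain ⟨j, hj, hj'⟩ := (Nat.dvd_prime_pow hpp).mp h1
        have h2 : Nat.card Z₀ < Nat.card D := card_lt_of_lt hZDlt
        have h3 : p ≤ Nat.card Z₀ := Nat.le_of_dvd Nat.card_pos hpZ₀
        rw [hj'] at h2 ⊢
        have h4 : p ^ 1 < p ^ j := by rw [pow_one]; omega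
        have h5 := (Nat.pow_lt_pow_iff_right hpp.one_lt).mp h4
        have : j = 2 := by omega
        rw [this]
      have hDeq : D = T := Subgroup.eq_of_le_of_card_ge hDT (by rw [hDcard, hT])
      rw [Subgroup.mem_centralizer_iff]
      intro s hs
      have hsD : s ∈ D := hDeq ▸ hs
      rw [hDdef] at hsD
      exact (Subgroup.mem_centralizer_iff.mp (Subgroup.mem_inf.mp hsD).2 (x : G) rfl).symm
    have hcardstab : Nat.card (MulAction.stabilizer ↥X (⟨t, htT⟩ : ↥T)) ≤
        Nat.card (X ⊓ centralizer (T : Set G) : Subgroup G) := by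
      apply Nat.card_le_card_of_injective
        (fun x : MulAction.stabilizer ↥X (⟨t, htT⟩ : ↥T) =>
          (⟨(x.1 : G), hstab x.1 x.2⟩ : (X ⊓ centralizer (T : Set G) : Subgroup G)))
      intro a b hab
      apply Subtype.ext
      apply Subtype.ext
      have h' : ((⟨(a.1 : G), hstab a.1 a.2⟩ : (X ⊓ centralizer (T : Set G) : Subgroup G)) : G) =
        ((⟨(b.1 : G), hstab b.1 b.2⟩ : (X ⊓ centralizer (T : Set G) : Subgroup G)) : G) :=
        congrArg Subtype.val hab
      exact h'
    calc Nat.card X = (MulAction.stabilizer ↥X (⟨t, htT⟩ : ↥T)).index *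
          Nat.card (MulAction.stabilizer ↥X (⟨t, htT⟩ : ↥T)) := (Subgroup.index_mul_card _).symm
      _ ≤ p * Nat.card (X ⊓ centralizer (T : Set G) : Subgroup G) :=
          Nat.mul_le_mul hidxle hcardstab

end Cfsg.Agent.Lib.Helper13.Uniq93a
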