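import Mathlib
import Cfsg.Agent.Lib.Helper13.Uniq92
import Cfsg.Agent.Lib.Helper13.Uniq93a

/-!
# Bender–Glauberman Lemma 9.3 (helper13)
-/

set_option autoImplicit false
set_option maxHeartbeats 1000000
set_option linter.style.haveILetI false

namespace Cfsg.Agent.Lib.Helper13.Uniq93

open Subgroup Cfsg.Agent.Lib.Helper13.Fit81b Cfsg.Agent.Lib.Helper13.Uniq91a
  Cfsg.Agent.Lib.Helper13.Uniq91b
  Cfsg.Agent.Lib.Helper13.Uniq91c Cfsg.Agent.Lib.Helper13.Uniq92 Cfsg.Agent.Lib.Helper13.Uniq93a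
  Cfsg.Agent.Lib.Helper13.RankTwoDerived
open scoped commutatorElement Pointwise

universe u

variable {G : Type u} [Group G] [Finite G]

theorem isCoatom_map_conj (g : G) (M : Subgroup G) (hM : IsCoatom M) :
    IsCoatom (M.map (MulAut.conj g).toMonoidHom) :=
  ((MulAut.conj g).mapSubgroup.isCoatom_iff (a := M)).mpr hM

theorem map_conj_inv_map_conj (g : G) (H : Subgroup G) :
    (H.map (MulAut.conj g).toMonoidHom).map (MulAut.conj g⁻¹).toMonoidHom = H := by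
  ext x
  constructor
  · rintro ⟨_, ⟨y, hy, rfl⟩, rfl⟩
    simp only [MulEquiv.coe_toMonoidHom, MulAut.conj_apply]
    have : g⁻¹ * (g * y * g⁻¹) * g⁻¹⁻¹ = y := by group
    rw [this]; exact hy
  · intro hx
    refine ⟨g * x * g⁻¹, ⟨x, hx, rfl⟩, ?_⟩
    simp only [MulEquiv.coe_toMonoidHom, MulAut.conj_apply]
    group

theorem inUniqueMaximal_map_conj (g : G) (B : Subgroup G) (h : Cfsg.InUniqueMaximal B) :
    Cfsg.InUniqueMaximal (B.map (MulAut.conj g).toMonoidHom) := by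
  obtain ⟨M, ⟨hM, hBM⟩, huniq⟩ := h
  refine ⟨M.map (MulAut.conj g).toMonoidHom, ⟨isCoatom_map_conj g M hM, Subgroup.map_mono hBM⟩, ?_⟩
  rintro H ⟨hH, hBH⟩
  have h1 : IsCoatom (H.map (MulAut.conj g⁻¹).toMonoidHom) := isCoatom_map_conj g⁻¹ H hH
  have h2 : B ≤ H.map (MulAut.conj g⁻¹).toMonoidHom := by
    have := Subgroup.map_mono (f := (MulAut.conj g⁻¹).toMonoidHom) hBH
    rwa [map_conj_inv_map_conj] at this
  have h3 := huniq _ ⟨h1, h2⟩
  have h4 := map_conj_inv_map_conj g⁻¹ H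
  rw [inv_inv] at h4
  rw [← h4, h3]

theorem isElementaryAbelian_map {H : Type*} [Group H] {p : ℕ} (f : G →* H) (E : Subgroup G)
    (hE : Cfsg.IsElementaryAbelian p E) : Cfsg.IsElementaryAbelian p (E.map f) := by
  refine ⟨⟨⟨?_⟩⟩, ?_⟩
  · rintro ⟨_, ⟨u, hu, rfl⟩⟩ ⟨_, ⟨v, hv, rfl⟩⟩
    apply Subtype.ext
    have := hE.1.is_comm.comm ⟨u, hu⟩ ⟨v, hv⟩
    have h' : u * v = v * u := congrArg Subtype.val this
    show f u * f v = f v * f u
    rw [← map_mul, ← map_mul, h']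
  · rintro _ ⟨b, hb, rfl⟩
    rw [← map_pow, hE.2 b hb, map_one]

theorem isElementaryAbelian_of_le {p : ℕ} {E F : Subgroup G} (hFE : F ≤ E)
    (hE : Cfsg.IsElementaryAbelian p E) : Cfsg.IsElementaryAbelian p F := by
  refine ⟨⟨⟨?_⟩⟩, fun a ha => hE.2 a (hFE ha)⟩
  rintro ⟨u, hu⟩ ⟨v, hv⟩
  apply Subtype.ext
  have := hE.1.is_comm.comm ⟨u, hFE hu⟩ ⟨v, hFE hv⟩
  have h' : u * v = v * u := congrArg Subtype.val this
  exact h'

theorem isPGroup_of_isElementaryAbelian {p : ℕ} {E : Subgroup G}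
    (hE : Cfsg.IsElementaryAbelian p E) : IsPGroup p E := by
  intro a
  refine ⟨1, ?_⟩
  rw [pow_one]
  apply Subtype.ext
  rw [Subgroup.coe_pow, Subgroup.coe_one]
  exact hE.2 a a.2

theorem not_rankLE_one_of_elementary (p : ℕ) [hp : Fact p.Prime] (K : Subgroup G)
    (hK : Cfsg.IsElementaryAbelian p K) (hcard : p ^ 2 ≤ Nat.card K) : ¬ Cfsg.RankLE 1 K := by
  intro h
  have h1 := h p hp.out ⊤ ⟨⟨fun a b => Subtype.ext (hK.1.is_comm.comm a.1 b.1)⟩⟩
    (fun a _ => by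
      apply Subtype.ext
      rw [Subgroup.coe_pow, Subgroup.coe_one]
      exact hK.2 a a.2)
  rw [Subgroup.card_top, pow_one] at h1
  have : p < p ^ 2 := by
    have := hp.out.one_lt
    nlinarith
  omega

theorem le_centralizer_of_isElementaryAbelian {p : ℕ} {E F : Subgroup G} (hFE : F ≤ E)
    (hE : Cfsg.IsElementaryAbelian p E) : E ≤ centralizer (F : Set G) := by
  intro x hx
  rw [Subgroup.mem_centralizer_iff]
  intro y hy
  have := hE.1.is_comm.comm ⟨y, hFE hy⟩ ⟨x, hx⟩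
  exact congrArg Subtype.val this

/-- `|C_E(T)| ≥ p²` for `E` elementary abelian of order at least `p³` normalizing `T` of order `p²`. -/
theorem sq_le_card_inf_centralizer (p : ℕ) [hp : Fact p.Prime] (T E : Subgroup G)
    (hT : Nat.card T = p ^ 2) (hE : Cfsg.IsElementaryAbelian p E) (hE3 : p ^ 3 ≤ Nat.card E)
    (hET : E ≤ normalizer (T : Set G)) :
    p ^ 2 ≤ Nat.card (E ⊓ centralizer (T : Set G) : Subgroup G) := by
  have h1 := card_le_mul_card_inf_centralizer p T E hT (isPGroup_of_isElementaryAbelian hE) hET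
  have h2 : p ^ 3 ≤ p * Nat.card (E ⊓ centralizer (T : Set G) : Subgroup G) := hE3.trans h1
  have h3 : p * p ^ 2 ≤ p * Nat.card (E ⊓ centralizer (T : Set G) : Subgroup G) := by
    have : p * p ^ 2 = p ^ 3 := by ring
    rw [this]; exact h2
  exact Nat.le_of_mul_le_mul_left h3 hp.out.pos

/-- **BG Lemma 9.3**. -/
theorem uniq_93 (hG : Cfsg.IsMinSimpleOddOrder G) (p : ℕ) [hp : Fact p.Prime] (A B : Subgroup G)
    (hAp : IsPGroup p A) (hAc : IsMulCommutative A) (hA3 : ¬ Cfsg.PRankLE p 2 ↥A)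
    (hAU : Cfsg.InUniqueMaximal A) (hBp : IsPGroup p B) (hBnc : ¬ IsCyclic B)
    (hB3 : ¬ Cfsg.PRankLE p 2 ↥(centralizer (B : Set G))) : Cfsg.InUniqueMaximal B := by
  classical
  have hpp := hp.out
  -- elementary abelian subgroups
  obtain ⟨A₁, hA₁A, hA₁e, hA₁3, -⟩ := exists_max_elementary p A hA3
  obtain ⟨E₁, hE₁C, hE₁e, hE₁3, -⟩ := exists_max_elementary p (centralizer (B : Set G)) hB3
  have hA1 : A ≠ ⊥ := ne_bot_of_inUniqueMaximal hG A hAU
  have hp2 : p ≠ 2 := p_ne_two_of_dvd hG p A (p_dvd_card_of_ne_bot A hAp hA1)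
  -- a Sylow subgroup containing B E₁
  have hBE : IsPGroup p (E₁ ⊔ B : Subgroup G) :=
    (isPGroup_of_isElementaryAbelian hE₁e).to_sup_of_normal_right' hBp
      (hE₁C.trans (Subgroup.centralizer_le_normalizer (B : Set G)))
  obtain ⟨S, hS⟩ := hBE.exists_le_sylow
  have hE₁S : E₁ ≤ (S : Subgroup G) := le_sup_left.trans hS
  have hBS : B ≤ (S : Subgroup G) := le_sup_right.trans hS
  -- conjugate A into S
  obtain ⟨S', hS'⟩ := hAp.exists_le_sylow
  obtain ⟨g, hg⟩ := MulAction.exists_smul_eq G S' S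
  obtain ⟨A', hA'def⟩ : ∃ A' : Subgroup G, A' = A.map (MulAut.conj g).toMonoidHom := ⟨_, rfl⟩
  have hA'S : A' ≤ (S : Subgroup G) := by
    rw [hA'def, ← hg, Sylow.coe_subgroup_smul]
    rintro _ ⟨a, ha, rfl⟩
    exact Subgroup.smul_mem_pointwise_smul _ _ _ (hS' ha)
  have hA'U : Cfsg.InUniqueMaximal A' := hA'def ▸ inUniqueMaximal_map_conj g A hAU
  obtain ⟨A₁', hA₁'def⟩ : ∃ A₁' : Subgroup G, A₁' = A₁.map (MulAut.conj g).toMonoidHom := ⟨_, rfl⟩
  have hA₁'A' : A₁' ≤ A' := by rw [hA₁'def, hA'def]; exact Subgroup.map_mono hA₁A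
  have hA₁'e : Cfsg.IsElementaryAbelian p A₁' := hA₁'def ▸ isElementaryAbelian_map _ A₁ hA₁e
  have hA₁'3 : p ^ 3 ≤ Nat.card A₁' := by
    rw [hA₁'def, Subgroup.card_map_of_injective (MulAut.conj g).injective]; exact hA₁3
  have hA'comm : A' ≤ centralizer (A' : Set G) := by
    rw [hA'def]
    rintro _ ⟨a, ha, rfl⟩
    rw [Subgroup.mem_centralizer_iff]
    rintro _ ⟨b, hb, rfl⟩
    have := hAc.is_comm.comm ⟨b, hb⟩ ⟨a, ha⟩
    have h' : b * a = a * b := congrArg Subtype.val this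
    simp only [MulEquiv.coe_toMonoidHom, MulAut.conj_apply]
    calc g * b * g⁻¹ * (g * a * g⁻¹) = g * (b * a) * g⁻¹ := by group
      _ = g * (a * b) * g⁻¹ := by rw [h']
      _ = g * a * g⁻¹ * (g * b * g⁻¹) := by group
  -- S is not cyclic, so has a normal elementary abelian subgroup of order p²
  have hSr : ¬ Cfsg.PRankLE p 2 ↥(S : Subgroup G) := by
    intro h
    have h1 := prankLE_of_injective (Subgroup.inclusion hE₁S) (Subgroup.inclusion_injective hE₁S) h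
    have h2 := h1 ⊤ ⟨⟨fun a b => Subtype.ext (hE₁e.1.is_comm.comm a.1 b.1)⟩⟩
      (fun a _ => by
        apply Subtype.ext
        rw [Subgroup.coe_pow, Subgroup.coe_one]
        exact hE₁e.2 a a.2)
    rw [Subgroup.card_top] at h2
    have : p ^ 2 < p ^ 3 := Nat.pow_lt_pow_right hpp.one_lt (by norm_num)
    omega
  have hSnc : ¬ IsCyclic ↥(S : Subgroup G) := fun hc =>
    hSr (prankLE_mono hpp.pos (by norm_num) (prankLE_one_of_isCyclic p hc))
  obtain ⟨T₀, hT₀n, hT₀e, hT₀2⟩ := Cfsg.Agent.S0126.result hp2 S.isPGroup' hSnc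
  obtain ⟨T, hTdef⟩ : ∃ T : Subgroup G, T = T₀.map (S : Subgroup G).subtype := ⟨_, rfl⟩
  have hTe : Cfsg.IsElementaryAbelian p T := by
    rw [hTdef]
    refine ⟨⟨⟨?_⟩⟩, ?_⟩
    · rintro ⟨_, ⟨u, hu, rfl⟩⟩ ⟨_, ⟨v, hv, rfl⟩⟩
      apply Subtype.ext
      have := hT₀e.1.is_comm.comm ⟨u, hu⟩ ⟨v, hv⟩
      exact congrArg (fun w : T₀ => ((w : (S : Subgroup G)) : G)) this
    · rintro _ ⟨b, hb, rfl⟩
      have := hT₀e.2 b hb
      have h' := congrArg Subtype.val this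
      simpa using h'
  have hT2 : Nat.card T = p ^ 2 := by
    rw [hTdef, Subgroup.card_map_of_injective (Subgroup.subtype_injective _)]; exact hT₀2
  have hST : (S : Subgroup G) ≤ normalizer (T : Set G) := by
    haveI := hT₀n
    have h1 := Subgroup.le_normalizer_map (H := T₀) (S : Subgroup G).subtype
    rw [Subgroup.normalizer_eq_top, ← MonoidHom.range_eq_map, Subgroup.range_subtype] at h1
    rw [hTdef]; exact h1
  -- the chain
  obtain ⟨K₁, hK₁def⟩ : ∃ K₁ : Subgroup G, K₁ = A₁' ⊓ centralizer (T : Set G) := ⟨_, rfl⟩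
  have hK₁card : p ^ 2 ≤ Nat.card K₁ := hK₁def ▸
    sq_le_card_inf_centralizer p T A₁' hT2 hA₁'e hA₁'3 ((hA₁'A'.trans hA'S).trans hST)
  have hK₁e : Cfsg.IsElementaryAbelian p K₁ :=
    isElementaryAbelian_of_le (hK₁def ▸ inf_le_left) hA₁'e
  have hK₁U : Cfsg.InUniqueMaximal K₁ :=
    uniq_of_centralizes hG A' K₁ hA'U ((hK₁def ▸ inf_le_left : K₁ ≤ A₁').trans (hA₁'A'.trans hA'comm))
      (not_rankLE_one_of_elementary p K₁ hK₁e hK₁card)
  have hTU : Cfsg.InUniqueMaximal T := by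
    apply uniq_of_centralizes hG K₁ T hK₁U _ (not_rankLE_one_of_elementary p T hTe hT2.ge)
    rw [Subgroup.le_centralizer_iff, hK₁def]
    exact inf_le_right
  obtain ⟨K₃, hK₃def⟩ : ∃ K₃ : Subgroup G, K₃ = E₁ ⊓ centralizer (T : Set G) := ⟨_, rfl⟩
  have hK₃card : p ^ 2 ≤ Nat.card K₃ := hK₃def ▸
    sq_le_card_inf_centralizer p T E₁ hT2 hE₁e hE₁3 (hE₁S.trans hST)
  have hK₃e : Cfsg.IsElementaryAbelian p K₃ :=
    isElementaryAbelian_of_le (hK₃def ▸ inf_le_left) hE₁e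
  have hK₃U : Cfsg.InUniqueMaximal K₃ :=
    uniq_of_centralizes hG T K₃ hTU (hK₃def ▸ inf_le_right)
      (not_rankLE_one_of_elementary p K₃ hK₃e hK₃card)
  have hE₁U : Cfsg.InUniqueMaximal E₁ := by
    apply uniq_of_centralizes hG K₃ E₁ hK₃U
      (le_centralizer_of_isElementaryAbelian (hK₃def ▸ inf_le_left) hE₁e)
    apply not_rankLE_one_of_elementary p E₁ hE₁e
    exact (Nat.pow_le_pow_right hpp.pos (by norm_num)).trans hE₁3
  -- finally B
  apply uniq_of_centralizes hG E₁ B hE₁U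
  · rw [Subgroup.le_centralizer_iff]; exact hE₁C
  · intro h
    obtain ⟨B₀, hB₀n, hB₀e, hB₀2⟩ := Cfsg.Agent.S0126.result hp2 hBp hBnc
    have h1 := h p hpp B₀ hB₀e.1 hB₀e.2
    rw [hB₀2, pow_one] at h1
    have : p < p ^ 2 := by
      have := hpp.one_lt
      nlinarith
    omega

end Cfsg.Agent.Lib.Helper13.Uniq93
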