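import Mathlib
import Cfsg.Agent.Lib.Helper13.Uniq93

/-!
# Bender–Glauberman Lemma 9.4 (helper13)
-/

set_option autoImplicit false
set_option maxHeartbeats 1000000
set_option linter.style.haveILetI false

namespace Cfsg.Agent.Lib.Helper13.Uniq94

open Subgroup Cfsg.Agent.Lib.Helper13.Fit81b Cfsg.Agent.Lib.Helper13.Uniq91a
  Cfsg.Agent.Lib.Helper13.Uniq91b Cfsg.Agent.Lib.Helper13.BenderB Cfsg.Agent.Lib.Helper13.FitBasics
  Cfsg.Agent.Lib.Helper13.Uniq91c Cfsg.Agent.Lib.Helper13.Uniq92 Cfsg.Agent.Lib.Helper13.Uniq93a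
  Cfsg.Agent.Lib.Helper13.Uniq93
  Cfsg.Agent.Lib.Helper13.RankTwoDerived
open scoped commutatorElement Pointwise

universe u

variable {G : Type u} [Group G] [Finite G]

theorem not_prankLE_two_of_elementary (p : ℕ) [hp : Fact p.Prime] (E : Subgroup G)
    (hE : Cfsg.IsElementaryAbelian p E) (hcard : p ^ 3 ≤ Nat.card E) : ¬ Cfsg.PRankLE p 2 ↥E := by
  intro h
  have h1 := h ⊤ ⟨⟨fun a b => Subtype.ext (hE.1.is_comm.comm a.1 b.1)⟩⟩
    (fun a _ => by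
      apply Subtype.ext
      rw [Subgroup.coe_pow, Subgroup.coe_one]
      exact hE.2 a a.2)
  rw [Subgroup.card_top] at h1
  have : p ^ 2 < p ^ 3 := Nat.pow_lt_pow_right hp.out.one_lt (by norm_num)
  omega

theorem not_prankLE_of_le {p k : ℕ} {H K : Subgroup G} (hHK : H ≤ K)
    (h : ¬ Cfsg.PRankLE p k ↥H) : ¬ Cfsg.PRankLE p k ↥K :=
  fun hK => h (prankLE_of_injective (Subgroup.inclusion hHK) (Subgroup.inclusion_injective hHK) hK)

/-- If `r_p(F(M)) ≥ 3` then some abelian `p`-subgroup of rank at least `3` is a uniqueness subgroup. -/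
theorem exists_abelian_uniq (hG : Cfsg.IsMinSimpleOddOrder G) (M : Subgroup G) (hM : IsCoatom M)
    (p : ℕ) [hp : Fact p.Prime] (hF : ¬ Cfsg.PRankLE p 2 ↥(Cfsg.fittingOf M)) :
    ∃ A : Subgroup G, IsPGroup p A ∧ IsMulCommutative A ∧ ¬ Cfsg.PRankLE p 2 ↥A ∧
      Cfsg.InUniqueMaximal A ∧ A ≤ M := by
  classical
  have hpp := hp.out
  obtain ⟨A₀, hA₀F, hA₀e, hA₀3, hA₀max⟩ := exists_max_elementary p (Cfsg.fittingOf M) hF
  have h81 := Cfsg.Agent.S1397.result hG M hM p A₀ hA₀F hA₀e hA₀3 hA₀max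
  have hA₀p : IsPGroup p A₀ := isPGroup_of_isElementaryAbelian hA₀e
  have hA₀1 : A₀ ≠ ⊥ := by
    intro h
    rw [h, Subgroup.card_bot] at hA₀3
    have := Nat.one_lt_pow (n := 3) (by norm_num) hpp.one_lt
    omega
  have hp2 : p ≠ 2 := p_ne_two_of_dvd hG p A₀ (p_dvd_card_of_ne_bot A₀ hA₀p hA₀1)
  by_cases hFp : IsPGroup p ↥(Cfsg.fittingOf M)
  · obtain ⟨Sp⟩ : Nonempty (Sylow p ↥M) := inferInstance
    obtain ⟨Q', hQ'def⟩ : ∃ Q' : Subgroup G, Q' = (Sp : Subgroup ↥M).map M.subtype := ⟨_, rfl⟩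
    have hQ'p : IsPGroup p Q' := hQ'def ▸ Sp.isPGroup'.map _
    have hFQ' : Cfsg.fittingOf M ≤ Q' := by
      have h1 : Cfsg.fittingOf M ≤ Cfsg.pCoreOf p M :=
        le_pCoreOf p M _ (fittingOf_le M) (le_normalizer_fittingOf M) hFp
      refine h1.trans ?_
      rw [hQ'def]
      unfold Cfsg.pCoreOf
      exact Subgroup.map_mono (Cfsg.Agent.Lib.Helper16.pCore_le_sylow Sp)
    have hQ'r : ¬ Cfsg.PRankLE p 2 ↥Q' := not_prankLE_of_le hFQ' hF
    obtain ⟨A, hAscn, hA3⟩ := exists_scn_three p hp2 Q' hQ'p hQ'r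
    have hAQ' : A ≤ Q' := hAscn.1
    have hAcomm : IsMulCommutative A := by
      refine ⟨⟨?_⟩⟩
      rintro ⟨a, ha⟩ ⟨b, hb⟩
      apply Subtype.ext
      have hb' : b ∈ Q' ⊓ centralizer (A : Set G) := by rw [hAscn.2.2]; exact hb
      exact (Subgroup.mem_centralizer_iff.mp (Subgroup.mem_inf.mp hb').2 a ha)
    rw [hQ'def] at hAscn
    obtain ⟨hAF, hAU⟩ := (h81.2 hFp Sp).2 A hAscn hA3
    exact ⟨A, hQ'p.to_le hAQ', hAcomm, hA3, hAU, hAF.trans (fittingOf_le M)⟩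
  · have hXU := h81.1 hFp
    refine ⟨A₀, hA₀p, hA₀e.1, not_prankLE_two_of_elementary p A₀ hA₀e hA₀3, ?_,
      hA₀F.trans (fittingOf_le M)⟩
    apply uniq_of_centralizes hG _ A₀ hXU
    · rw [Subgroup.le_centralizer_iff]; exact inf_le_right
    · apply not_rankLE_one_of_elementary p A₀ hA₀e
      exact (Nat.pow_le_pow_right hpp.pos (by norm_num)).trans hA₀3

/-- **BG Lemma 9.4**. -/
theorem uniq_94 (hG : Cfsg.IsMinSimpleOddOrder G) (M : Subgroup G) (hM : IsCoatom M)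
    (p : ℕ) [hp : Fact p.Prime] (hF : ¬ Cfsg.PRankLE p 2 ↥(Cfsg.fittingOf M))
    (A : Subgroup G) (hAp : IsPGroup p A) (hAc : IsMulCommutative A)
    (hA3 : ¬ Cfsg.PRankLE p 2 ↥A) : Cfsg.InUniqueMaximal A := by
  obtain ⟨A', hA'p, hA'c, hA'3, hA'U, -⟩ := exists_abelian_uniq hG M hM p hF
  apply uniq_93 hG p A' A hA'p hA'c hA'3 hA'U hAp
  · intro hc
    exact hA3 (prankLE_mono hp.out.pos (by norm_num) (prankLE_one_of_isCyclic p hc))
  · apply not_prankLE_of_le _ hA3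
    intro a ha
    rw [Subgroup.mem_centralizer_iff]
    intro b hb
    have := hAc.is_comm.comm ⟨b, hb⟩ ⟨a, ha⟩
    exact congrArg Subtype.val this

end Cfsg.Agent.Lib.Helper13.Uniq94
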