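import Mathlib
import Cfsg.Agent.Lib.Helper13.ZStarIsoD
import Cfsg.Agent.Lib.Helper13.Coprime

/-!
# Elements of an abelian Sylow 2-subgroup central modulo the core (helper13)

Conditional on the Z*-theorem for involutions (`ZStarAt`): if `S` is an abelian Sylow 2-subgroup of
`G` and `M` is a normal subgroup with `G / M` abelian, then every coset `k (M ∩ S)` of `S` contains
an element `c` which is central modulo `O(G)`.
-/

set_option autoImplicit false
set_option maxHeartbeats 1000000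

namespace Cfsg.Agent.Lib.Helper13.ZInner

open Subgroup Cfsg.Agent.Lib.Helper13.ZStarIso

universe u

variable {G : Type u} [Group G] [Finite G]

/-- a complement of odd order to an abelian Sylow 2-subgroup in its normalizer -/
theorem exists_odd_complement (S : Sylow 2 G) :
    ∃ K : Subgroup G, K ≤ normalizer ((S : Subgroup G) : Set G) ∧
      (Nat.card K).Coprime (Nat.card (S : Subgroup G)) ∧
      ∀ n ∈ normalizer ((S : Subgroup G) : Set G), ∃ a ∈ K, ∃ s ∈ (S : Subgroup G), n = a * s := by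
  haveI : Fact (Nat.Prime 2) := ⟨Nat.prime_two⟩
  obtain ⟨N, hNdef⟩ : ∃ N : Subgroup G, N = normalizer ((S : Subgroup G) : Set G) := ⟨_, rfl⟩
  have hSN : (S : Subgroup G) ≤ N := by rw [hNdef]; exact Subgroup.le_normalizer
  haveI hnorm : ((S : Subgroup G).subgroupOf N).Normal := by
    rw [hNdef]; exact Subgroup.normal_in_normalizer
  obtain ⟨k, hk⟩ := (IsPGroup.iff_card.mp S.isPGroup')
  have hodd : ¬ 2 ∣ ((S : Subgroup G).subgroupOf N).index := by
    intro h
    have h1 : (S : Subgroup G).relIndex N ∣ (S : Subgroup G).index :=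
      Subgroup.relIndex_dvd_index_of_le hSN
    exact S.not_dvd_index (h.trans h1)
  have hcardS : Nat.card ((S : Subgroup G).subgroupOf N) = 2 ^ k := by
    rw [← hk]
    exact Nat.card_congr (Subgroup.subgroupOfEquivOfLe hSN).toEquiv
  have hcop : Nat.Coprime (Nat.card ((S : Subgroup G).subgroupOf N))
      ((S : Subgroup G).subgroupOf N).index := by
    rw [hcardS]
    exact Nat.Coprime.pow_left _ ((Nat.Prime.coprime_iff_not_dvd Nat.prime_two).mpr hodd)
  obtain ⟨K', hK'⟩ := Subgroup.exists_left_complement'_of_coprime hcop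
  refine ⟨K'.map N.subtype, ?_, ?_, ?_⟩
  · rw [← hNdef]; exact Subgroup.map_subtype_le _
  · rw [Subgroup.card_map_of_injective N.subtype_injective, ← hK'.index_eq_card, hk]
    exact (Nat.Coprime.pow_left _ ((Nat.Prime.coprime_iff_not_dvd Nat.prime_two).mpr hodd)).symm
  · intro n hn
    rw [← hNdef] at hn
    obtain ⟨x, hx, -⟩ := (Subgroup.isComplement'_def.mp hK').existsUnique ⟨n, hn⟩
    refine ⟨(x.1 : N), ⟨x.1, x.1.2, rfl⟩, ((x.2 : N) : G), ?_, ?_⟩
    · have := x.2.2
      rwa [SetLike.mem_coe, Subgroup.mem_subgroupOf] at this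
    · have := congrArg Subtype.val hx
      simpa using this.symm

/-- in an abelian Sylow 2-subgroup `S`, every coset of `M ⊓ S` (`M` normal with abelian quotient)
contains an element centralized by `N_G(S)` -/
theorem exists_normalizer_central (S : Sylow 2 G) (hab : IsMulCommutative (S : Subgroup G))
    (M : Subgroup G) [hM : M.Normal] (hcomm : ∀ a b : G, a * b * a⁻¹ * b⁻¹ ∈ M) (k : G)
    (hk : k ∈ (S : Subgroup G)) :
    ∃ c ∈ (S : Subgroup G), k⁻¹ * c ∈ M ∧
      ∀ n ∈ normalizer ((S : Subgroup G) : Set G), n * c * n⁻¹ = c := by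
  obtain ⟨K, hKN, hKcop, hKdec⟩ := exists_odd_complement S
  have hSc : ∀ a ∈ (S : Subgroup G), ∀ b ∈ (S : Subgroup G), a * b = b * a := by
    intro a ha b hb
    have := mul_comm' (⟨a, ha⟩ : (S : Subgroup G)) ⟨b, hb⟩
    exact congrArg Subtype.val this
  have hsolv : Group.IsSolvable (S : Subgroup G) := by
    apply Group.isSolvable_of_comm
    intro a b
    exact mul_comm' a b
  have hN1 : (M ⊓ (S : Subgroup G)) ≤ (S : Subgroup G) := inf_le_right
  have hN2 : (S : Subgroup G) ≤ normalizer ((M ⊓ (S : Subgroup G) : Subgroup G) : Set G) := by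
    intro s hs
    rw [Subgroup.mem_normalizer_iff]
    intro x
    constructor
    · intro hx
      exact ⟨hM.conj_mem x hx.1 s, (S : Subgroup G).mul_mem ((S : Subgroup G).mul_mem hs hx.2)
        ((S : Subgroup G).inv_mem hs)⟩
    · intro hx
      have h1 : x = s⁻¹ * (s * x * s⁻¹) * s⁻¹⁻¹ := by group
      rw [h1]
      exact ⟨hM.conj_mem _ hx.1 s⁻¹, (S : Subgroup G).mul_mem ((S : Subgroup G).mul_mem
        ((S : Subgroup G).inv_mem hs) hx.2) ((S : Subgroup G).inv_mem ((S : Subgroup G).inv_mem hs))⟩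
  have hN3 : K ≤ normalizer ((M ⊓ (S : Subgroup G) : Subgroup G) : Set G) := by
    intro a ha
    have haN := hKN ha
    rw [Subgroup.mem_normalizer_iff]
    intro x
    constructor
    · intro hx
      exact ⟨hM.conj_mem x hx.1 a, (Subgroup.mem_normalizer_iff.mp haN x).mp hx.2⟩
    · intro hx
      have h1 : x = a⁻¹ * (a * x * a⁻¹) * a⁻¹⁻¹ := by group
      refine ⟨?_, (Subgroup.mem_normalizer_iff.mp haN x).mpr hx.2⟩
      rw [h1]
      exact hM.conj_mem _ hx.1 a⁻¹
  obtain ⟨c, hc, hkc⟩ := coprime_fixed_point_in_coset K (S : Subgroup G) hKN hKcop (Or.inr hsolv)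
    (M ⊓ (S : Subgroup G)) hN1 hN2 hN3 k hk (by
      intro a ha
      refine ⟨hcomm a k, ?_⟩
      have h1 : a * k * a⁻¹ ∈ (S : Subgroup G) :=
        (Subgroup.mem_normalizer_iff.mp (hKN ha) k).mp hk
      exact (S : Subgroup G).mul_mem h1 ((S : Subgroup G).inv_mem hk))
  refine ⟨c, hc.1, hkc.1, ?_⟩
  intro n hn
  obtain ⟨a, ha, s, hs, rfl⟩ := hKdec n hn
  have h1 : s * c * s⁻¹ = c := by
    rw [hSc s hs c hc.1, mul_inv_cancel_right]
  have h2 : a * c * a⁻¹ = c := by
    have := (Subgroup.mem_centralizer_iff.mp hc.2) a ha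
    rw [this, mul_inv_cancel_right]
  have h3 : a * s * c * (a * s)⁻¹ = a * (s * c * s⁻¹) * a⁻¹ := by group
  rw [h3, h1, h2]

/-- conditional on the Z*-theorem: in an abelian Sylow 2-subgroup `S`, every coset of `M ⊓ S`
(`M` normal with abelian quotient) contains an element central modulo `O(G)` -/
theorem exists_central_mod_core (hZ : ZStarAt.{u}) (S : Sylow 2 G)
    (hab : IsMulCommutative (S : Subgroup G))
    (M : Subgroup G) [hM : M.Normal] (hcomm : ∀ a b : G, a * b * a⁻¹ * b⁻¹ ∈ M) (k : G)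
    (hk : k ∈ (S : Subgroup G)) :
    ∃ c ∈ (S : Subgroup G), k⁻¹ * c ∈ M ∧
      ∀ g : G, c * g * c⁻¹ * g⁻¹ ∈ Cfsg.pPrimeCore 2 G := by
  haveI : Fact (Nat.Prime 2) := ⟨Nat.prime_two⟩
  obtain ⟨c, hcS, hkc, hcN⟩ := exists_normalizer_central S hab M hcomm k hk
  refine ⟨c, hcS, hkc, ?_⟩
  have hiso : AllIso S (Subgroup.zpowers c) := by
    refine ⟨by rw [Subgroup.zpowers_le]; exact hcS, ?_⟩
    intro x hx g hg
    have hxS : x ∈ (S : Subgroup G) := by
      have : Subgroup.zpowers c ≤ (S : Subgroup G) := by rw [Subgroup.zpowers_le]; exact hcS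
      exact this hx
    haveI : IsMulCommutative (S : Subgroup G) := hab
    have hg' : g⁻¹⁻¹ * x * g⁻¹ ∈ S := by
      rw [inv_inv]; exact hg
    obtain ⟨n, hn, hn'⟩ := S.conj_eq_normalizer_conj_of_mem x g⁻¹ hxS hg'
    rw [inv_inv] at hn'
    rw [hn']
    obtain ⟨i, rfl⟩ := Subgroup.mem_zpowers_iff.mp hx
    have h1 : n⁻¹ * c * n⁻¹⁻¹ = c := hcN n⁻¹ (Subgroup.inv_mem _ hn)
    rw [inv_inv] at h1
    have h2 : n⁻¹ * c ^ i * n = (n⁻¹ * c * n) ^ i := by
      have := map_zpow (MulAut.conj n⁻¹) c i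
      simpa [MulAut.conj_apply] using this
    rw [h2, h1]
  intro g
  exact comm_mem_oddCore hZ S _ hiso c (Subgroup.mem_zpowers c) g

end Cfsg.Agent.Lib.Helper13.ZInner
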