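import Mathlib
import Cfsg.Agent.Lib.Helper13.ZInnerA

/-!
# 2-automorphisms centralizing an abelian Sylow 2-subgroup are inner (helper13)

Conditional on the Z*-theorem for involutions (`ZStarAt`): if `O(G) = 1`, `P` is an abelian Sylow
2-subgroup of `G` and `α` is an automorphism of 2-power order fixing `P` elementwise, then `α` is
conjugation by an element of `P`.  The proof works in the semidirect product of `G` with `⟨α⟩`.
-/

set_option autoImplicit false
set_option maxHeartbeats 1000000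

namespace Cfsg.Agent.Lib.Helper13.ZInner

open Subgroup Cfsg.Agent.Lib.Helper13.ZStarIso

universe u

variable {G : Type u} [Group G] [Finite G]

/-- the automorphisms fixing a subgroup elementwise -/
def fixer (P : Subgroup G) : Subgroup (MulAut G) where
  carrier := {β | ∀ p ∈ P, β p = p}
  one_mem' := fun _ _ => rfl
  mul_mem' := by
    intro a b ha hb p hp
    show a (b p) = p
    rw [hb p hp, ha p hp]
  inv_mem' := by
    intro a ha p hp
    have h1 : a⁻¹ (a p) = p := MulAut.inv_apply_self G a p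
    rw [ha p hp] at h1
    exact h1

theorem inner_of_fix_sylow (hZ : ZStarAt.{u}) (hcore : Cfsg.pPrimeCore 2 G = ⊥) (P : Sylow 2 G)
    (hab : IsMulCommutative (P : Subgroup G)) (α : MulAut G) (h2 : ∃ j : ℕ, orderOf α = 2 ^ j)
    (hfix : ∀ x ∈ (P : Subgroup G), α x = x) : ∃ g : G, ∀ x : G, α x = g * x * g⁻¹ := by
  haveI : Fact (Nat.Prime 2) := ⟨Nat.prime_two⟩
  obtain ⟨A, hAdef⟩ : ∃ A : Subgroup (MulAut G), A = Subgroup.zpowers α := ⟨_, rfl⟩
  have hαA : α ∈ A := by rw [hAdef]; exact Subgroup.mem_zpowers α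
  have hAfix : ∀ a : A, ∀ p ∈ (P : Subgroup G), (a : MulAut G) p = p := by
    intro a p hp
    have h1 : A ≤ fixer (P : Subgroup G) := by
      rw [hAdef, Subgroup.zpowers_le]; exact hfix
    exact h1 a.2 p hp
  have hAcomm : ∀ a b : A, a * b = b * a := by
    intro a b
    subst hAdef
    exact mul_comm' a b
  have hAp : IsPGroup 2 A := by
    obtain ⟨j, hj⟩ := h2
    apply IsPGroup.of_card (n := j)
    rw [hAdef, Nat.card_zpowers, hj]
  obtain ⟨φ, hφ⟩ : ∃ φ : A →* MulAut G, φ = A.subtype := ⟨_, rfl⟩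
  have hφa : ∀ a : A, ∀ x : G, φ a x = (a : MulAut G) x := by
    intro a x; rw [hφ]; rfl
  haveI : Finite (G ⋊[φ] A) := Finite.of_equiv _ SemidirectProduct.equivProd.symm
  -- basic commutation rules
  have hF2 : ∀ (a : A) (x : G), (SemidirectProduct.inr a : G ⋊[φ] A) * SemidirectProduct.inl x =
      SemidirectProduct.inl (φ a x) * SemidirectProduct.inr a := by
    intro a x
    rw [SemidirectProduct.inl_aut, map_inv, inv_mul_cancel_right]
  have hF4 : ∀ (a : A) (p : G), p ∈ (P : Subgroup G) →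
      (SemidirectProduct.inr a : G ⋊[φ] A) * SemidirectProduct.inl p =
      SemidirectProduct.inl p * SemidirectProduct.inr a := by
    intro a p hp
    rw [hF2, hφa, hAfix a p hp]
  -- a 2-subgroup containing `P` and `A`
  obtain ⟨T, hTdef⟩ : ∃ T : Subgroup (G ⋊[φ] A), T = (P : Subgroup G).map SemidirectProduct.inl ⊔
      (SemidirectProduct.inr : A →* G ⋊[φ] A).range := ⟨_, rfl⟩
  have hTp : IsPGroup 2 T := by
    rw [hTdef]
    apply IsPGroup.to_sup_of_normal_right' (P.isPGroup'.map _)
    · have : (SemidirectProduct.inr : A →* G ⋊[φ] A).range = (⊤ : Subgroup A).map _ :=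
        MonoidHom.range_eq_map _
      rw [this]
      have htop : IsPGroup 2 (⊤ : Subgroup A) := by
        intro x
        obtain ⟨k, hk⟩ := hAp x.1
        exact ⟨k, Subtype.ext hk⟩
      exact htop.map _
    · rintro _ ⟨p, hp, rfl⟩
      rw [Subgroup.mem_normalizer_iff]
      intro y
      constructor
      · rintro ⟨a, rfl⟩
        refine ⟨a, ?_⟩
        rw [← hF4 a p hp, mul_inv_cancel_right]
      · rintro ⟨a, ha⟩
        refine ⟨a, ?_⟩
        have h1 : y = (SemidirectProduct.inl p)⁻¹ * (SemidirectProduct.inr a) *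
            (SemidirectProduct.inl p : G ⋊[φ] A) := by rw [ha]; group
        rw [h1, mul_assoc, hF4 a p hp, inv_mul_cancel_left]
  obtain ⟨S, hTS⟩ := hTp.exists_le_sylow
  have hPS : ∀ p ∈ (P : Subgroup G), (SemidirectProduct.inl p : G ⋊[φ] A) ∈ (S : Subgroup _) := by
    intro p hp
    apply hTS
    rw [hTdef]
    exact Subgroup.mem_sup_left ⟨p, hp, rfl⟩
  have hAS : ∀ a : A, (SemidirectProduct.inr a : G ⋊[φ] A) ∈ (S : Subgroup _) := by
    intro a
    apply hTS
    rw [hTdef]
    exact Subgroup.mem_sup_right ⟨a, rfl⟩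
  -- elements of `S`
  have hcomap : (S : Subgroup (G ⋊[φ] A)).comap SemidirectProduct.inl = (P : Subgroup G) := by
    apply P.is_maximal' (S.isPGroup'.comap_of_injective _ SemidirectProduct.inl_injective)
    intro p hp
    exact hPS p hp
  have hF5 : ∀ s ∈ (S : Subgroup (G ⋊[φ] A)), ∃ p ∈ (P : Subgroup G),
      s = SemidirectProduct.inl p * SemidirectProduct.inr (SemidirectProduct.rightHom s) := by
    intro s hs
    obtain ⟨s', hs'def⟩ : ∃ s' : G ⋊[φ] A,
      s' = s * (SemidirectProduct.inr (SemidirectProduct.rightHom s))⁻¹ := ⟨_, rfl⟩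
    have hs'S : s' ∈ (S : Subgroup _) := by
      rw [hs'def]
      exact Subgroup.mul_mem _ hs (Subgroup.inv_mem _ (hAS _))
    have hs'ker : s' ∈ (SemidirectProduct.rightHom : G ⋊[φ] A →* A).ker := by
      rw [MonoidHom.mem_ker, hs'def, map_mul, map_inv, SemidirectProduct.rightHom_inr,
        mul_inv_cancel]
    rw [← SemidirectProduct.range_inl_eq_ker_rightHom] at hs'ker
    obtain ⟨g, hg⟩ := hs'ker
    have hgP : g ∈ (P : Subgroup G) := by
      rw [← hcomap, Subgroup.mem_comap, hg]
      exact hs'S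
    refine ⟨g, hgP, ?_⟩
    rw [hg, hs'def, inv_mul_cancel_right]
  have hPc : ∀ p ∈ (P : Subgroup G), ∀ q ∈ (P : Subgroup G), p * q = q * p := by
    intro p hp q hq
    have := mul_comm' (⟨p, hp⟩ : (P : Subgroup G)) ⟨q, hq⟩
    exact congrArg Subtype.val this
  have hSab : IsMulCommutative (S : Subgroup (G ⋊[φ] A)) := by
    refine ⟨⟨?_⟩⟩
    rintro ⟨s₁, hs₁⟩ ⟨s₂, hs₂⟩
    apply Subtype.ext
    obtain ⟨p₁, hp₁, h₁⟩ := hF5 s₁ hs₁
    obtain ⟨p₂, hp₂, h₂⟩ := hF5 s₂ hs₂
    show s₁ * s₂ = s₂ * s₁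
    rw [h₁, h₂]
    generalize SemidirectProduct.rightHom s₁ = a₁
    generalize SemidirectProduct.rightHom s₂ = a₂
    calc SemidirectProduct.inl p₁ * SemidirectProduct.inr a₁ *
          (SemidirectProduct.inl p₂ * SemidirectProduct.inr a₂)
        = SemidirectProduct.inl p₁ * (SemidirectProduct.inr a₁ * SemidirectProduct.inl p₂) *
          SemidirectProduct.inr a₂ := by group
      _ = SemidirectProduct.inl p₁ * (SemidirectProduct.inl p₂ * SemidirectProduct.inr a₁) *
          SemidirectProduct.inr a₂ := by rw [hF4 a₁ p₂ hp₂]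
      _ = SemidirectProduct.inl (p₁ * p₂) * SemidirectProduct.inr (a₁ * a₂) := by
          rw [map_mul, map_mul]; group
      _ = SemidirectProduct.inl (p₂ * p₁) * SemidirectProduct.inr (a₂ * a₁) := by
          rw [hPc p₁ hp₁ p₂ hp₂, hAcomm a₁ a₂]
      _ = SemidirectProduct.inl p₂ * (SemidirectProduct.inl p₁ * SemidirectProduct.inr a₂) *
          SemidirectProduct.inr a₁ := by rw [map_mul, map_mul]; group
      _ = SemidirectProduct.inl p₂ * (SemidirectProduct.inr a₂ * SemidirectProduct.inl p₁) *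
          SemidirectProduct.inr a₁ := by rw [hF4 a₂ p₁ hp₁]
      _ = SemidirectProduct.inl p₂ * SemidirectProduct.inr a₂ *
          (SemidirectProduct.inl p₁ * SemidirectProduct.inr a₁) := by group
  -- the normal subgroup `M = G`
  obtain ⟨M, hMdef⟩ : ∃ M : Subgroup (G ⋊[φ] A),
      M = (SemidirectProduct.rightHom : G ⋊[φ] A →* A).ker := ⟨_, rfl⟩
  haveI hMn : M.Normal := by rw [hMdef]; exact MonoidHom.normal_ker _
  have hcomm : ∀ a b : G ⋊[φ] A, a * b * a⁻¹ * b⁻¹ ∈ M := by
    intro a b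
    rw [hMdef, MonoidHom.mem_ker, map_mul, map_mul, map_mul, map_inv, map_inv,
      hAcomm (SemidirectProduct.rightHom a) (SemidirectProduct.rightHom b)]
    group
  obtain ⟨c, hcS, hkc, hcent⟩ := exists_central_mod_core hZ S hSab M hcomm
    (SemidirectProduct.inr ⟨α, hαA⟩) (hAS _)
  -- the odd core of the semidirect product is trivial
  have hO : Cfsg.pPrimeCore 2 (G ⋊[φ] A) = ⊥ := by
    obtain ⟨O, hOdef⟩ : ∃ O : Subgroup (G ⋊[φ] A), O = Cfsg.pPrimeCore 2 (G ⋊[φ] A) := ⟨_, rfl⟩
    rw [← hOdef]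
    have hOodd : Odd (Nat.card O) := by rw [hOdef]; exact odd_card_pPrimeCore
    haveI hOn : O.Normal := by rw [hOdef]; infer_instance
    have hOM : O ≤ M := by
      intro x hx
      rw [hMdef, MonoidHom.mem_ker]
      have h1 : orderOf (SemidirectProduct.rightHom x) ∣ Nat.card O := by
        have h3 : orderOf x ∣ Nat.card O := by
          have := orderOf_dvd_natCard (⟨x, hx⟩ : O)
          rwa [Subgroup.orderOf_mk] at this
        exact (orderOf_map_dvd _ x).trans h3
      obtain ⟨k, hk⟩ := hAp (SemidirectProduct.rightHom x)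
      obtain ⟨i, -, hi⟩ := (Nat.dvd_prime_pow Nat.prime_two).mp (orderOf_dvd_of_pow_eq_one hk)
      rw [hi] at h1
      have hi0 : i = 0 := by
        by_contra hne
        have h4 : 2 ∣ 2 ^ i := dvd_pow_self 2 hne
        have h5 : 2 ∣ Nat.card O := h4.trans h1
        rcases hOodd with ⟨r, hr⟩
        omega
      rw [hi0, pow_zero, orderOf_eq_one_iff] at hi
      exact hi
    have hcomap_le : O.comap SemidirectProduct.inl ≤ Cfsg.pPrimeCore 2 G := by
      apply le_pPrimeCore_of_odd _ (hOn.comap _)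
      exact Odd.of_dvd_nat hOodd
        (Subgroup.card_comap_dvd_of_injective O _ SemidirectProduct.inl_injective)
    rw [hcore] at hcomap_le
    rw [eq_bot_iff]
    intro x hx
    have hxM := hOM hx
    rw [hMdef, ← SemidirectProduct.range_inl_eq_ker_rightHom] at hxM
    obtain ⟨g, rfl⟩ := hxM
    have hg : g ∈ O.comap SemidirectProduct.inl := hx
    have := hcomap_le hg
    rw [Subgroup.mem_bot] at this ⊢
    rw [this, map_one]
  -- `c` is central
  have hccent : ∀ g : G ⋊[φ] A, c * g = g * c := by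
    intro g
    have h1 := hcent g
    rw [hO, Subgroup.mem_bot] at h1
    have h2 : c * g = (c * g * c⁻¹ * g⁻¹) * (g * c) := by group
    rw [h2, h1, one_mul]
  obtain ⟨p, hpP, hcp⟩ := hF5 c hcS
  have hrc : SemidirectProduct.rightHom c = ⟨α, hαA⟩ := by
    rw [hMdef, MonoidHom.mem_ker, map_mul, map_inv, SemidirectProduct.rightHom_inr,
      inv_mul_eq_one] at hkc
    exact hkc.symm
  rw [hrc] at hcp
  refine ⟨p⁻¹, ?_⟩
  intro x
  have h1 := hccent (SemidirectProduct.inl x)
  rw [hcp, mul_assoc, hF2, hφa] at h1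
  have h2 : (SemidirectProduct.inl (p * α x) : G ⋊[φ] A) * SemidirectProduct.inr ⟨α, hαA⟩ =
      SemidirectProduct.inl (x * p) * SemidirectProduct.inr ⟨α, hαA⟩ := by
    rw [map_mul, map_mul, mul_assoc, h1]; group
  have h3 := SemidirectProduct.inl_injective (mul_right_cancel h2)
  rw [inv_inv]
  have : α x = p⁻¹ * (p * α x) := by group
  rw [this, h3]; group

end Cfsg.Agent.Lib.Helper13.ZInner
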