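import Mathlib
import Cfsg.Prelude.Def_FusionSystem
import Cfsg.Prelude.Def_CaseTheorems
import Cfsg.Agent.Lib.Helper13.ZStarIsoD

/-!
# The centre of the 2-fusion system of a finite group (helper13), conditional on Z*

`center_eq`: assuming the Z*-theorem for involutions (`ZStarAt`), `Z(F_S(G)) = S ∩ Z*(G)`.
-/

set_option autoImplicit false

namespace Cfsg.Agent.Lib.Helper13.ZStarIso

open Subgroup
open scoped Pointwise

universe u

variable {G : Type u} [Group G] [Finite G]

/-- an element whose image in `G / O(G)` is central: commutators with it lie in `O(G)`. -/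
theorem comm_mem_of_central (q : G)
    (hq : QuotientGroup.mk' (Cfsg.oddCore G) q ∈ Subgroup.center (G ⧸ Cfsg.oddCore G)) (h : G) :
    h * q * h⁻¹ * q⁻¹ ∈ Cfsg.oddCore G := by
  rw [← QuotientGroup.eq_one_iff, ← QuotientGroup.mk'_apply]
  rw [Subgroup.mem_center_iff] at hq
  have h1 := hq (QuotientGroup.mk' (Cfsg.oddCore G) h)
  simp only [map_mul, map_inv]
  rw [h1, mul_assoc, mul_assoc, mul_inv_cancel_left, mul_inv_cancel]

theorem center_eq (hZ : ZStarAt.{u}) (S : Sylow 2 G) :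
    (Cfsg.groupFusionSystem (S : Subgroup G)).center =
      (S : Subgroup G) ⊓ (Subgroup.center (G ⧸ Cfsg.oddCore G)).comap
        (QuotientGroup.mk' (Cfsg.oddCore G)) := by
  classical
  have hOodd : Odd (Nat.card (Cfsg.oddCore G)) := odd_card_pPrimeCore
  apply le_antisymm
  · -- central subgroups consist of isolated elements
    unfold Cfsg.FusionSystem.center
    apply sSup_le
    rintro Q ⟨hQS, hext⟩
    have hiso : AllIso S Q := by
      refine ⟨hQS, fun x hx g hg => ?_⟩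
      have hxS : Subgroup.zpowers x ≤ (S : Subgroup G) := by
        rw [Subgroup.zpowers_le]; exact hQS hx
      have hφ : Cfsg.conjHom (Subgroup.zpowers x) g ∈
          (Cfsg.groupFusionSystem (S : Subgroup G)).Hom (Subgroup.zpowers x) := by
        refine ⟨hxS, fun y => ?_, g, fun y => rfl⟩
        obtain ⟨k, hk⟩ := Subgroup.mem_zpowers_iff.mp y.2
        show g * (y : G) * g⁻¹ ∈ (S : Subgroup G)
        rw [← hk]
        have : g * x ^ k * g⁻¹ = (g * x * g⁻¹) ^ k := by
          rw [conj_zpow]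
        rw [this]
        exact Subgroup.zpow_mem _ hg k
      obtain ⟨ψ, -, hψ1, hψ2⟩ := hext _ _ hφ
      have h1 := hψ1 ⟨x, Subgroup.mem_zpowers x⟩
      have h2 := hψ2 ⟨x, hx⟩
      have h3 : (Subgroup.inclusion le_sup_left (⟨x, Subgroup.mem_zpowers x⟩ : Subgroup.zpowers x) :
          ↥(Subgroup.zpowers x ⊔ Q)) = Subgroup.inclusion le_sup_right (⟨x, hx⟩ : Q) := rfl
      rw [h3, h2] at h1
      exact h1.symm
    intro x hx
    refine Subgroup.mem_inf.mpr ⟨hQS hx, ?_⟩
    rw [Subgroup.mem_comap, Subgroup.mem_center_iff]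
    intro gb
    obtain ⟨g, rfl⟩ := QuotientGroup.mk'_surjective _ gb
    have h1 := comm_mem_oddCore hZ S Q hiso x hx g
    have h2 : QuotientGroup.mk' (Cfsg.oddCore G) (x * g * x⁻¹ * g⁻¹) = 1 := by
      rw [QuotientGroup.mk'_apply, QuotientGroup.eq_one_iff]; exact h1
    simp only [map_mul, map_inv] at h2
    have h3 : QuotientGroup.mk' (Cfsg.oddCore G) x * QuotientGroup.mk' (Cfsg.oddCore G) g =
        QuotientGroup.mk' (Cfsg.oddCore G) g * QuotientGroup.mk' (Cfsg.oddCore G) x := by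
      rw [mul_inv_eq_one, mul_inv_eq_iff_eq_mul] at h2
      exact h2
    exact h3.symm
  · -- `S ∩ Z*(G)` is central in the fusion system
    unfold Cfsg.FusionSystem.center
    apply le_sSup
    obtain ⟨Q, hQdef⟩ : ∃ Q : Subgroup G, Q = (S : Subgroup G) ⊓
      (Subgroup.center (G ⧸ Cfsg.oddCore G)).comap (QuotientGroup.mk' (Cfsg.oddCore G)) := ⟨_, rfl⟩
    rw [← hQdef]
    have hQS : Q ≤ (S : Subgroup G) := by rw [hQdef]; exact inf_le_left
    have hQc : ∀ q ∈ Q, QuotientGroup.mk' (Cfsg.oddCore G) q ∈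
        Subgroup.center (G ⧸ Cfsg.oddCore G) := by
      intro q hq
      rw [hQdef] at hq
      exact (Subgroup.mem_inf.mp hq).2
    -- (b): conjugates of elements of `Q` inside `S` are trivial
    have hb : ∀ q ∈ Q, ∀ h : G, h * q * h⁻¹ ∈ (S : Subgroup G) → h * q * h⁻¹ = q := by
      intro q hq h hh
      have h1 : h * q * h⁻¹ * q⁻¹ ∈ Cfsg.oddCore G := comm_mem_of_central q (hQc q hq) h
      have h2 : h * q * h⁻¹ * q⁻¹ ∈ (S : Subgroup G) :=
        Subgroup.mul_mem _ hh (Subgroup.inv_mem _ (hQS hq))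
      have h3 := eq_one_of_mem_sylow_of_mem_odd S _ hOodd _ h2 h1
      exact mul_inv_eq_one.mp h3
    -- (a): elements of `O(G)` conjugating an element of `S` into `S` centralize it
    have ha : ∀ y ∈ (S : Subgroup G), ∀ m ∈ Cfsg.oddCore G, m * y * m⁻¹ ∈ (S : Subgroup G) →
        m * y * m⁻¹ = y := by
      intro y hy m hm hmy
      have h1 : m * y * m⁻¹ * y⁻¹ ∈ Cfsg.oddCore G := by
        have : m * y * m⁻¹ * y⁻¹ = m * (y * m⁻¹ * y⁻¹) := by group
        rw [this]
        exact Subgroup.mul_mem _ hm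
          ((Cfsg.pPrimeCore_normal 2 G).conj_mem _ (Subgroup.inv_mem _ hm) y)
      have h2 : m * y * m⁻¹ * y⁻¹ ∈ (S : Subgroup G) :=
        Subgroup.mul_mem _ hmy (Subgroup.inv_mem _ hy)
      have h3 := eq_one_of_mem_sylow_of_mem_odd S _ hOodd _ h2 h1
      exact mul_inv_eq_one.mp h3
    refine ⟨hQS, ?_⟩
    rintro P φ ⟨hPS, hφS, g, hg⟩
    have hPQS : P ⊔ Q ≤ (S : Subgroup G) := sup_le hPS hQS
    obtain ⟨R, hRdef⟩ : ∃ R : Subgroup G, R = (P ⊔ Q).map (MulAut.conj g).toMonoidHom := ⟨_, rfl⟩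
    have hR : IsPGroup 2 R := by
      rw [hRdef]; exact (S.isPGroup'.to_le hPQS).map _
    have hRL : R ≤ (S : Subgroup G) ⊔ Cfsg.oddCore G := by
      rw [hRdef, Subgroup.map_sup]
      apply sup_le
      · rintro _ ⟨x, hx, rfl⟩
        apply Subgroup.mem_sup_left
        have := hφS ⟨x, hx⟩
        rw [hg] at this
        exact this
      · rintro _ ⟨q, hq, rfl⟩
        have h1 : g * q * g⁻¹ * q⁻¹ ∈ Cfsg.oddCore G := comm_mem_of_central q (hQc q hq) g
        have h2 : (MulAut.conj g).toMonoidHom q = (g * q * g⁻¹ * q⁻¹) * q := by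
          simp [MulAut.conj_apply]
        rw [h2]
        exact Subgroup.mul_mem _ (Subgroup.mem_sup_right h1) (Subgroup.mem_sup_left (hQS hq))
    obtain ⟨m, hm, hmR⟩ := exists_conj_le_sylow S (Cfsg.oddCore G) R hR hRL
    have hval : ∀ y ∈ P ⊔ Q, (m * g) * y * (m * g)⁻¹ ∈ (S : Subgroup G) := by
      intro y hy
      have h1 : g * y * g⁻¹ ∈ R := by
        rw [hRdef]; exact ⟨y, hy, by simp [MulAut.conj_apply]⟩
      have h2 := hmR _ h1
      have h3 : (m * g) * y * (m * g)⁻¹ = m * (g * y * g⁻¹) * m⁻¹ := by group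
      rw [h3]; exact h2
    refine ⟨Cfsg.conjHom (P ⊔ Q) (m * g), ⟨hPQS, fun y => hval y y.2, m * g, fun y => rfl⟩,
      fun x => ?_, fun q => ?_⟩
    · show (m * g) * (x : G) * (m * g)⁻¹ = φ x
      have h1 := hval (x : G) (Subgroup.mem_sup_left x.2)
      have h3 : (m * g) * (x : G) * (m * g)⁻¹ = m * (g * (x : G) * g⁻¹) * m⁻¹ := by group
      rw [h3] at h1 ⊢
      rw [← hg] at h1 ⊢
      exact ha _ (hφS x) m hm h1
    · show (m * g) * (q : G) * (m * g)⁻¹ = (q : G)
      exact hb (q : G) q.2 (m * g) (hval (q : G) (Subgroup.mem_sup_right q.2))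

end Cfsg.Agent.Lib.Helper13.ZStarIso
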